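import Cfsg.Agent.Lib.Helper43.OmegaNonsingGeo

set_option autoImplicit false
set_option linter.unusedSimpArgs false
set_option linter.unusedVariables false
set_option linter.unusedSectionVars false

/-! Maximality of the stabiliser in `Ω` of a totally singular subspace (maximal parabolic
subgroups), via: two Siegel groups centred at non-orthogonal singular vectors generate `Ω`. -/

namespace Cfsg.Agent.Lib.Helper43

open Module Matrix Cfsg.Agent.Lib.Helper19

variable {F : Type*} [Field F] {ι : Type} [Fintype ι] [DecidableEq ι]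
variable (Q : QuadraticForm F (ι → F))

section finite

variable [Fintype F]

/-- the Siegel transformation as an element of `Ω` -/
noncomputable def sO (hQ : (QuadraticMap.polarBilin Q).Nondegenerate) (hn : 7 ≤ Fintype.card ι)
    (u v : ι → F) (hu : Q u = 0) (huv : QuadraticMap.polarBilin Q u v = 0) :
    ↥(Cfsg.Omega F ⇑Q) :=
  ⟨siegelO Q hQ u v, siegelO_mem_Omega Q hQ hn u v hu huv⟩

theorem lo_sO (hQ : (QuadraticMap.polarBilin Q).Nondegenerate) (hn : 7 ≤ Fintype.card ι)
    (u v : ι → F) (hu : Q u = 0) (huv : QuadraticMap.polarBilin Q u v = 0) :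
    lo Q (sO Q hQ hn u v hu huv) = siegelLin Q u v :=
  linOf_siegelO Q hQ u v hu huv

/-- all Siegel transformations centred at `u` lie in `K` -/
def SiegIn (hQ : (QuadraticMap.polarBilin Q).Nondegenerate) (hn : 7 ≤ Fintype.card ι)
    (K : Subgroup ↥(Cfsg.Omega F ⇑Q)) (u : ι → F) : Prop :=
  ∃ hu : Q u = 0, ∀ (v : ι → F) (huv : QuadraticMap.polarBilin Q u v = 0),
    sO Q hQ hn u v hu huv ∈ K

variable {Q}

theorem SiegIn.conj {hQ : (QuadraticMap.polarBilin Q).Nondegenerate} {hn : 7 ≤ Fintype.card ι}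
    {K : Subgroup ↥(Cfsg.Omega F ⇑Q)} {u : ι → F} (h : SiegIn Q hQ hn K u)
    (k : ↥(Cfsg.Omega F ⇑Q)) (hk : k ∈ K) : SiegIn Q hQ hn K (lo Q k u) := by
  obtain ⟨hu, h⟩ := h
  refine ⟨by rw [lo_isometry]; exact hu, fun v' hv' => ?_⟩
  set v := lo Q k⁻¹ v' with hv
  have hkv : lo Q k v = v' := lo_apply_inv Q k v'
  have huv : QuadraticMap.polarBilin Q u v = 0 := by
    rw [← lo_polar Q k, hkv]; exact hv'
  have h1 : k * sO Q hQ hn u v hu huv * k⁻¹ ∈ K := K.mul_mem (K.mul_mem hk (h v huv)) (K.inv_mem hk)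
  have h2 : k * sO Q hQ hn u v hu huv * k⁻¹ = sO Q hQ hn (lo Q k u) v' (by rw [lo_isometry]; exact hu) hv' := by
    apply Subtype.ext
    rw [Subgroup.coe_mul, Subgroup.coe_mul, Subgroup.coe_inv]
    unfold sO
    simp only
    rw [siegelO_conj Q hQ _ u v hu huv]
    have e : linOf Q (k : ↥(Cfsg.isometryGroup F ⇑Q)) v = v' := hkv
    rw [e]
    rfl
  rw [h2] at h1
  exact h1

theorem SiegIn.smul {hQ : (QuadraticMap.polarBilin Q).Nondegenerate} {hn : 7 ≤ Fintype.card ι}
    {K : Subgroup ↥(Cfsg.Omega F ⇑Q)} {u : ι → F} (h : SiegIn Q hQ hn K u)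
    (c : F) (hc : c ≠ 0) : SiegIn Q hQ hn K (c • u) := by
  obtain ⟨hu, h⟩ := h
  refine ⟨by rw [Q_smul, hu, mul_zero], fun v hv => ?_⟩
  have huv : QuadraticMap.polarBilin Q u v = 0 := by
    rw [map_smul, LinearMap.smul_apply, smul_eq_mul] at hv
    rcases mul_eq_zero.1 hv with h1 | h1
    · exact absurd h1 hc
    · exact h1
  have huv' : QuadraticMap.polarBilin Q u (c • v) = 0 := by
    rw [map_smul, huv, smul_zero]
  have h1 := h (c • v) huv'
  have h2 : sO Q hQ hn (c • u) v (by rw [Q_smul, hu, mul_zero]) hv = sO Q hQ hn u (c • v) hu huv' := by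
    apply Subtype.ext
    unfold sO
    simp only
    exact siegelO_smul_left Q hQ c u v hu huv
  rw [h2]
  exact h1

theorem SiegIn.move {hQ : (QuadraticMap.polarBilin Q).Nondegenerate} {hn : 7 ≤ Fintype.card ι}
    {K : Subgroup ↥(Cfsg.Omega F ⇑Q)} {u a : ι → F} (hu : SiegIn Q hQ hn K u)
    (ha : SiegIn Q hQ hn K a) (b : ι → F) (hb : Q b = 0)
    (hau : QuadraticMap.polarBilin Q a u ≠ 0) (hbu : QuadraticMap.polarBilin Q b u ≠ 0) :
    SiegIn Q hQ hn K b := by
  obtain ⟨hu0, hu'⟩ := hu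
  have ha0 : Q a = 0 := ha.1
  set c := QuadraticMap.polarBilin Q a u / QuadraticMap.polarBilin Q b u with hc
  have hc0 : c ≠ 0 := div_ne_zero hau hbu
  have hb' : Q (c • b) = 0 := by rw [Q_smul, hb, mul_zero]
  have hβ : QuadraticMap.polarBilin Q a u = QuadraticMap.polarBilin Q (c • b) u := by
    rw [map_smul, LinearMap.smul_apply, smul_eq_mul, hc, div_mul_cancel₀ _ hbu]
  have horth := siegelLin_key_orth Q a (c • b) u hu0 hβ
  have hkey := siegelLin_key Q a (c • b) u (by rw [ha0, hb']) hβ hau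
  have hg := hu' _ horth
  have h1 := ha.conj _ hg
  rw [lo_sO, hkey] at h1
  have h2 := h1.smul c⁻¹ (inv_ne_zero hc0)
  rw [smul_smul, inv_mul_cancel₀ hc0, one_smul] at h2
  exact h2

theorem SiegIn.zero {hQ : (QuadraticMap.polarBilin Q).Nondegenerate} {hn : 7 ≤ Fintype.card ι}
    (K : Subgroup ↥(Cfsg.Omega F ⇑Q)) : SiegIn Q hQ hn K 0 := by
  refine ⟨map_zero Q, fun v hv => ?_⟩
  have : sO Q hQ hn 0 v (map_zero Q) hv = 1 := by
    apply lo_injective Q
    rw [lo_sO]
    apply LinearMap.ext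
    intro y
    rw [siegelLin_apply, lo_one_apply]
    simp
  rw [this]
  exact K.one_mem

/-- if every Siegel transformation lies in `K` then `K = ⊤` -/
theorem eq_top_of_forall_SiegIn {hQ : (QuadraticMap.polarBilin Q).Nondegenerate}
    {hn : 7 ≤ Fintype.card ι} (K : Subgroup ↥(Cfsg.Omega F ⇑Q))
    (hall : ∀ b : ι → F, Q b = 0 → SiegIn Q hQ hn K b) : K = ⊤ := by
  have hle : Cfsg.Omega F ⇑Q ≤ K.map (Cfsg.Omega F ⇑Q).subtype := by
    conv_lhs => rw [Omega_eq_siegelSub Q hQ hn]
    unfold siegelSub Subgroup.normalClosure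
    rw [Subgroup.closure_le]
    intro x hx
    rw [Group.mem_conjugatesOfSet_iff] at hx
    obtain ⟨ρ, ⟨p, v, hp, hpv, hρ⟩, hconj⟩ := hx
    obtain ⟨k, rfl⟩ := isConj_iff.1 hconj
    have hρ' : ρ = siegelO Q hQ p v := by
      apply linOf_injective Q
      rw [hρ, linOf_siegelO Q hQ p v hp hpv]
    rw [hρ', siegelO_conj Q hQ k p v hp hpv]
    set p' := linOf Q k p with hp'
    set v' := linOf Q k v with hv'
    have hp'0 : Q p' = 0 := by rw [hp', linOf_isometry, hp]
    have hpv' : QuadraticMap.polarBilin Q p' v' = 0 := by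
      rw [hp', hv', polar_of_isometry Q (linOf Q k) (linOf_isometry Q k), hpv]
    obtain ⟨hp'', h⟩ := hall p' hp'0
    exact ⟨_, h v' hpv', rfl⟩
  rw [eq_top_iff]
  intro g _
  obtain ⟨c, hc, hcg⟩ := hle g.2
  have : g = c := Subtype.ext hcg.symm
  rw [this]
  exact hc

/-- **two opposite Siegel groups generate `Ω`** -/
theorem eq_top_of_SiegIn_pair {hQ : (QuadraticMap.polarBilin Q).Nondegenerate}
    {hn : 7 ≤ Fintype.card ι} (K : Subgroup ↥(Cfsg.Omega F ⇑Q)) (x y : ι → F)
    (hx : SiegIn Q hQ hn K x) (hy : SiegIn Q hQ hn K y)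
    (hxy : QuadraticMap.polarBilin Q x y ≠ 0) : K = ⊤ := by
  have hx0 : Q x = 0 := hx.1
  have hxne : x ≠ 0 := by
    rintro rfl
    apply hxy
    simp
  have hyx : QuadraticMap.polarBilin Q y x ≠ 0 := by rw [polar_symm]; exact hxy
  -- every singular vector not perpendicular to `x`
  have step1 : ∀ b : ι → F, Q b = 0 → QuadraticMap.polarBilin Q b x ≠ 0 → SiegIn Q hQ hn K b :=
    fun b hb hbx => hx.move hy b hb hyx hbx
  apply eq_top_of_forall_SiegIn K
  intro b hb
  by_cases hbx : QuadraticMap.polarBilin Q b x = 0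
  · by_cases hb0 : b = 0
    · rw [hb0]; exact SiegIn.zero (hQ := hQ) (hn := hn) K
    by_cases h1 : ∃ c : F, b = c • x
    · obtain ⟨c, rfl⟩ := h1
      have hc : c ≠ 0 := by
        rintro rfl
        exact hb0 (zero_smul _ _)
      exact hx.smul c hc
    have hindb := indep_of_not_smul x b hxne h1
    have hx_span : x ∉ Submodule.span F {b} := by
      intro h
      obtain ⟨t, ht⟩ := Submodule.mem_span_singleton.1 h
      have := (hindb 1 (-t) (by rw [one_smul, neg_smul, ht, add_neg_cancel])).1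
      exact one_ne_zero this
    have hb_span : b ∉ Submodule.span F {x} := by
      intro h
      obtain ⟨t, ht⟩ := Submodule.mem_span_singleton.1 h
      exact h1 ⟨t, ht.symm⟩
    obtain ⟨z1, hz1, hz1'⟩ := exists_polar_repr Q hQ _ x hx_span
    obtain ⟨z2, hz2, hz2'⟩ := exists_polar_repr Q hQ _ b hb_span
    have hz1b : QuadraticMap.polarBilin Q z1 b = 0 := hz1' b (Submodule.mem_span_singleton_self b)
    have hz2x : QuadraticMap.polarBilin Q z2 x = 0 := hz2' x (Submodule.mem_span_singleton_self x)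
    set x1 := z1 + z2 with hx1
    have hx1x : QuadraticMap.polarBilin Q x1 x = 1 := by
      rw [hx1, map_add, LinearMap.add_apply, hz1, hz2x, add_zero]
    have hx1b : QuadraticMap.polarBilin Q x1 b = 1 := by
      rw [hx1, map_add, LinearMap.add_apply, hz1b, hz2, zero_add]
    set r := x1 - Q x1 • x with hr
    have hQr : Q r = 0 := by
      rw [hr, Q_sub, Q_smul, hx0, map_smul, hx1x]
      simp
    have hrx : QuadraticMap.polarBilin Q r x = 1 := by
      rw [hr, map_sub, LinearMap.sub_apply, map_smul, LinearMap.smul_apply, polar_self', hx0, hx1x]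
      simp
    have hrb : QuadraticMap.polarBilin Q r b = 1 := by
      rw [hr, map_sub, LinearMap.sub_apply, map_smul, LinearMap.smul_apply,
        polar_symm Q x b, hbx, hx1b]
      simp
    have hr' := step1 r hQr (by rw [hrx]; exact one_ne_zero)
    have hxr : QuadraticMap.polarBilin Q x r ≠ 0 := by
      rw [polar_symm, hrx]; exact one_ne_zero
    have hbr : QuadraticMap.polarBilin Q b r ≠ 0 := by
      rw [polar_symm, hrb]; exact one_ne_zero
    exact hr'.move hx b hb hxr hbr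
  · exact step1 b hb hbx

variable (Q)

/-- the stabiliser in `Ω` of a subspace -/
def subStab (W : Submodule F (ι → F)) : Subgroup ↥(Cfsg.Omega F ⇑Q) :=
  (Cfsg.Geo.subspaceStabilizer W).comap
    ((Cfsg.isometryGroup F ⇑Q).subtype.comp (Cfsg.Omega F ⇑Q).subtype)

theorem mem_subStab (W : Submodule F (ι → F)) (g : ↥(Cfsg.Omega F ⇑Q)) :
    g ∈ subStab Q W ↔ ∀ v, v ∈ W ↔ lo Q g v ∈ W := by
  have hact : ∀ (x : ι → F),
      (((g : ↥(Cfsg.isometryGroup F ⇑Q)) : GL ι F) : Matrix ι ι F) *ᵥ x = lo Q g x := by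
    intro x
    unfold lo
    rw [linOf_apply]
  constructor
  · intro h v
    have := h v
    change v ∈ W ↔ (((g : ↥(Cfsg.isometryGroup F ⇑Q)) : GL ι F) : Matrix ι ι F) *ᵥ v ∈ W at this
    rw [hact] at this
    exact this
  · intro h v
    change v ∈ W ↔ (((g : ↥(Cfsg.isometryGroup F ⇑Q)) : GL ι F) : Matrix ι ι F) *ᵥ v ∈ W
    rw [hact]
    exact h v

theorem siegelLin_zero_right (p x : ι → F) : siegelLin Q p 0 x = x := by
  rw [siegelLin_apply]
  simp

theorem sO_mem_subStab (hQ : (QuadraticMap.polarBilin Q).Nondegenerate) (hn : 7 ≤ Fintype.card ι)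
    (W : Submodule F (ι → F)) (p v : ι → F) (hp : Q p = 0)
    (hpv : QuadraticMap.polarBilin Q p v = 0)
    (h1 : ∀ x ∈ W, siegelLin Q p v x ∈ W) (h2 : ∀ x ∈ W, siegelLin Q p (-v) x ∈ W) :
    sO Q hQ hn p v hp hpv ∈ subStab Q W := by
  rw [mem_subStab]
  intro x
  rw [lo_sO]
  constructor
  · exact h1 x
  · intro hx
    have h3 := h2 _ hx
    have hpv' : QuadraticMap.polarBilin Q p (-v) = 0 := by rw [map_neg, hpv, neg_zero]
    have h4 := siegelLin_comp Q p (-v) v hp hpv' hpv
    have h5 : siegelLin Q p (-v) (siegelLin Q p v x) = x := by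
      rw [← LinearMap.comp_apply, h4, neg_add_cancel, siegelLin_zero_right]
    rw [h5] at h3
    exact h3

theorem polar_eq_zero_of_ts (W : Submodule F (ι → F)) (hW : ∀ w ∈ W, Q w = 0)
    (w w' : ι → F) (hw : w ∈ W) (hw' : w' ∈ W) : QuadraticMap.polarBilin Q w w' = 0 := by
  rw [QuadraticMap.polarBilin_apply_apply, QuadraticMap.polar, hW _ (W.add_mem hw hw'), hW w hw,
    hW w' hw']
  simp

/-- in the orthogonal complement of `W + ⟨y, z⟩` (`W` totally singular, `y, z` a hyperbolic pair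
perpendicular to `W`) there is a non-singular vector, provided `2 dim W + 3 ≤ n` -/
theorem exists_nonsingular_orth (hQ : (QuadraticMap.polarBilin Q).Nondegenerate)
    (W : Submodule F (ι → F)) (hW : ∀ w ∈ W, Q w = 0) (y z : ι → F) (hy : Q y = 0) (hz : Q z = 0)
    (hyW : ∀ w ∈ W, QuadraticMap.polarBilin Q w y = 0)
    (hzW : ∀ w ∈ W, QuadraticMap.polarBilin Q w z = 0)
    (hzy : QuadraticMap.polarBilin Q z y = 1)
    (hdim : 2 * finrank F W + 3 ≤ Fintype.card ι) :
    ∃ v : ι → F, (∀ w ∈ W, QuadraticMap.polarBilin Q w v = 0) ∧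
      QuadraticMap.polarBilin Q y v = 0 ∧ QuadraticMap.polarBilin Q z v = 0 ∧ Q v ≠ 0 := by
  classical
  set U : Submodule F (ι → F) := W ⊔ Submodule.span F {y, z} with hU
  set M := LinearMap.BilinForm.orthogonal (QuadraticMap.polarBilin Q) U with hM
  have hMmem : ∀ m ∈ M, (∀ w ∈ W, QuadraticMap.polarBilin Q w m = 0) ∧
      QuadraticMap.polarBilin Q y m = 0 ∧ QuadraticMap.polarBilin Q z m = 0 := by
    intro m hm
    have h := LinearMap.BilinForm.mem_orthogonal_iff.1 hm
    refine ⟨fun w hw => h w (Submodule.mem_sup_left hw), ?_, ?_⟩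
    · exact h y (Submodule.mem_sup_right (Submodule.subset_span (by simp)))
    · exact h z (Submodule.mem_sup_right (Submodule.subset_span (by simp)))
  by_contra hcon
  push Not at hcon
  have hMQ : ∀ m ∈ M, Q m = 0 := by
    intro m hm
    obtain ⟨h1, h2, h3⟩ := hMmem m hm
    exact hcon m h1 h2 h3
  have hfinM : finrank F M = finrank F (ι → F) - finrank F U :=
    LinearMap.BilinForm.finrank_orthogonal hQ U
  have hfinU : finrank F U ≤ finrank F W + 2 := by
    have h1 : finrank F U ≤ finrank F W + finrank F (Submodule.span F ({y, z} : Set (ι → F))) :=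
      Submodule.finrank_add_le_finrank_add_finrank _ _
    have h2 : finrank F (Submodule.span F ({y, z} : Set (ι → F))) ≤ 2 := by
      have h3 : ({y, z} : Set (ι → F)) = ((({y, z} : Finset (ι → F)) : Set (ι → F))) := by simp
      rw [h3]
      refine le_trans (finrank_span_finset_le_card _) ?_
      exact Finset.card_le_two
    omega
  have hcard : finrank F (ι → F) = Fintype.card ι := Module.finrank_fintype_fun_eq_card F
  have hnle : ¬ M ≤ W := by
    intro hle
    have := Submodule.finrank_mono hle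
    omega
  obtain ⟨m, hmM, hmW⟩ := SetLike.not_le_iff_exists.1 hnle
  obtain ⟨hm1, hm2, hm3⟩ := hMmem m hmM
  have hmU : m ∉ U := by
    intro hmU
    obtain ⟨w, hw, t, ht, hwt⟩ := Submodule.mem_sup.1 hmU
    obtain ⟨α, β, rfl⟩ := Submodule.mem_span_pair.1 ht
    have hyy : QuadraticMap.polarBilin Q y y = 0 := by rw [polar_self', hy, mul_zero]
    have hzz : QuadraticMap.polarBilin Q z z = 0 := by rw [polar_self', hz, mul_zero]
    have hyz : QuadraticMap.polarBilin Q y z = 1 := by rw [polar_symm, hzy]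
    have e2 := hm2
    rw [← hwt] at e2
    simp only [map_add, map_smul, smul_eq_mul, hyy, hyz, polar_symm Q y w, hyW w hw] at e2
    have e3 := hm3
    rw [← hwt] at e3
    simp only [map_add, map_smul, smul_eq_mul, hzz, hzy, polar_symm Q z w, hzW w hw] at e3
    have hβ : β = 0 := by simpa using e2
    have hα : α = 0 := by simpa using e3
    apply hmW
    rw [← hwt, hα, hβ]
    simpa using hw
  obtain ⟨m', hm'1, hm'2⟩ := exists_polar_repr Q hQ U m hmU
  have hm'M : m' ∈ M := by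
    rw [hM, LinearMap.BilinForm.mem_orthogonal_iff]
    intro u hu
    change QuadraticMap.polarBilin Q u m' = 0
    rw [polar_symm]
    exact hm'2 u hu
  have h0 : QuadraticMap.polarBilin Q m' m = 0 := by
    rw [QuadraticMap.polarBilin_apply_apply, QuadraticMap.polar, hMQ _ (M.add_mem hm'M hmM),
      hMQ _ hm'M, hMQ _ hmM]
    simp
  rw [h0] at hm'1
  exact zero_ne_one hm'1

/-- **maximality of the stabiliser of a totally singular subspace** -/
theorem subStab_maximal (hQ : (QuadraticMap.polarBilin Q).Nondegenerate)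
    (hn : 7 ≤ Fintype.card ι) (W : Submodule F (ι → F)) (hW : ∀ w ∈ W, Q w = 0)
    (hdim : ∀ y : ι → F, y ∉ W → Q y = 0 → (∀ w ∈ W, QuadraticMap.polarBilin Q w y = 0) →
      2 * finrank F W + 3 ≤ Fintype.card ι)
    (K : Subgroup ↥(Cfsg.Omega F ⇑Q)) (hHK : subStab Q W ≤ K) :
    K = subStab Q W ∨ K = ⊤ := by
  by_cases hK : K ≤ subStab Q W
  · exact Or.inl (le_antisymm hK hHK)
  right
  have hWW := polar_eq_zero_of_ts Q W hW
  -- Siegel groups centred in `W` lie in `K`
  have hSW : ∀ w ∈ W, SiegIn Q hQ hn K w := by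
    intro w hw
    refine ⟨hW w hw, fun v hv => hHK ?_⟩
    apply sO_mem_subStab
    · intro x hx
      rw [siegelLin_apply, hWW x w hx hw]
      simp only [mul_zero, sub_zero, neg_zero, zero_smul, add_zero]
      exact W.add_mem hx (W.smul_mem _ hw)
    · intro x hx
      rw [siegelLin_apply, hWW x w hx hw]
      simp only [mul_zero, sub_zero, neg_zero, zero_smul, add_zero]
      exact W.add_mem hx (W.smul_mem _ hw)
  -- an element of `K` moving some vector of `W` out of `W`
  obtain ⟨k, hkK, w, hwW, hkw⟩ : ∃ k ∈ K, ∃ w ∈ W, lo Q k w ∉ W := by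
    obtain ⟨k, hkK, hkH⟩ := SetLike.not_le_iff_exists.1 hK
    rw [mem_subStab] at hkH
    push Not at hkH
    obtain ⟨v, hv⟩ := hkH
    rcases hv with ⟨h1, h2⟩ | ⟨h1, h2⟩
    · exact ⟨k, hkK, v, h1, h2⟩
    · refine ⟨k⁻¹, K.inv_mem hkK, lo Q k v, h2, ?_⟩
      rw [lo_inv_apply]
      exact h1
  set y := lo Q k w with hy
  have hyS : SiegIn Q hQ hn K y := (hSW w hwW).conj k hkK
  have hyQ : Q y = 0 := hyS.1
  by_cases hB : ∀ w' ∈ W, QuadraticMap.polarBilin Q w' y = 0
  · have hd := hdim y hkw hyQ hB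
    obtain ⟨z0, hz0y, hz0W⟩ := exists_polar_repr Q hQ W y hkw
    set z := z0 - Q z0 • y with hz
    have hyy : QuadraticMap.polarBilin Q y y = 0 := by rw [polar_self', hyQ, mul_zero]
    have hzQ : Q z = 0 := by
      rw [hz, Q_sub, Q_smul, hyQ, map_smul, hz0y]
      simp
    have hzy : QuadraticMap.polarBilin Q z y = 1 := by
      rw [hz, map_sub, LinearMap.sub_apply, map_smul, LinearMap.smul_apply, hyy, hz0y]
      simp
    have hzW : ∀ x ∈ W, QuadraticMap.polarBilin Q x z = 0 := by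
      intro x hx
      rw [hz, map_sub, map_smul, hB x hx, polar_symm Q x z0, hz0W x hx]
      simp
    obtain ⟨v, hvW, hyv, hzv, hvQ⟩ := exists_nonsingular_orth Q hQ W hW y z hyQ hzQ hB hzW hzy hd
    have hmem : sO Q hQ hn z v hzQ hzv ∈ K := by
      apply hHK
      apply sO_mem_subStab
      · intro x hx
        rw [siegelLin_apply, hvW x hx, hzW x hx]
        simpa using hx
      · intro x hx
        rw [siegelLin_apply, map_neg, hvW x hx, hzW x hx]
        simpa using hx
    have hy' := hyS.conj _ hmem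
    rw [lo_sO] at hy'
    apply eq_top_of_SiegIn_pair K y _ hyS hy'
    rw [siegelLin_apply, hyv, polar_symm Q y z, hzy]
    simp only [map_add, map_smul, smul_eq_mul, hyy, hyv, polar_symm Q y z, hzy]
    simpa using hvQ
  · push Not at hB
    obtain ⟨w', hw'W, hw'y⟩ := hB
    exact eq_top_of_SiegIn_pair K w' y (hSW w' hw'W) hyS hw'y

/-- the stabiliser of a non-zero totally singular subspace is a proper subgroup of `Ω` -/
theorem subStab_ne_top (hQ : (QuadraticMap.polarBilin Q).Nondegenerate)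
    (hn : 7 ≤ Fintype.card ι) (W : Submodule F (ι → F)) (hW0 : W ≠ ⊥) (hW : ∀ w ∈ W, Q w = 0) :
    ∃ g : ↥(Cfsg.Omega F ⇑Q), g ∉ subStab Q W := by
  obtain ⟨w, hwW, hw0⟩ := (Submodule.ne_bot_iff W).1 hW0
  have hwQ := hW w hwW
  obtain ⟨x, hx⟩ : ∃ x, QuadraticMap.polarBilin Q w x ≠ 0 := by
    by_contra hcon
    push Not at hcon
    exact hw0 (hQ.1 w hcon)
  set y := x - (Q x / QuadraticMap.polarBilin Q w x) • w with hy
  have hyQ : Q y = 0 := by
    rw [hy, Q_sub, Q_smul, hwQ, map_smul, polar_symm Q x w, mul_zero, add_zero, smul_eq_mul,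
      div_mul_cancel₀ _ hx, sub_self]
  have hwy : QuadraticMap.polarBilin Q w y ≠ 0 := by
    rw [hy, map_sub, map_smul, polar_self', hwQ]
    simpa using hx
  have hy0 : y ≠ 0 := by
    intro h
    apply hwy
    rw [h]
    simp
  obtain ⟨g, hg, hgw⟩ := exists_Omega_map Q hQ hn w y hw0 hy0 (by rw [hwQ, hyQ])
  refine ⟨⟨g, hg⟩, ?_⟩
  intro hmem
  rw [mem_subStab] at hmem
  have h1 := (hmem w).1 hwW
  have h2 : lo Q ⟨g, hg⟩ w = y := hgw
  rw [h2] at h1
  exact hwy (polar_eq_zero_of_ts Q W hW w y hwW h1)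

/-- a totally singular subspace has dimension at most `n / 2` -/
theorem ts_finrank_le (hQ : (QuadraticMap.polarBilin Q).Nondegenerate)
    (T : Submodule F (ι → F)) (hT : ∀ t ∈ T, Q t = 0) : 2 * finrank F T ≤ Fintype.card ι := by
  have h1 : finrank F (LinearMap.BilinForm.orthogonal (QuadraticMap.polarBilin Q) T) =
      finrank F (ι → F) - finrank F T := LinearMap.BilinForm.finrank_orthogonal hQ T
  have h2 : T ≤ LinearMap.BilinForm.orthogonal (QuadraticMap.polarBilin Q) T := by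
    intro t ht
    rw [LinearMap.BilinForm.mem_orthogonal_iff]
    intro u hu
    exact polar_eq_zero_of_ts Q T hT u t hu ht
  have h3 := Submodule.finrank_mono h2
  have h4 : finrank F T ≤ finrank F (ι → F) := Submodule.finrank_le T
  have hcard : finrank F (ι → F) = Fintype.card ι := Module.finrank_fintype_fun_eq_card F
  omega

/-- extending a totally singular subspace by a perpendicular singular vector -/
theorem ts_extend (W : Submodule F (ι → F)) (hW : ∀ w ∈ W, Q w = 0) (y : ι → F) (hyW : y ∉ W)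
    (hy : Q y = 0) (hB : ∀ w ∈ W, QuadraticMap.polarBilin Q w y = 0) :
    (∀ t ∈ W ⊔ Submodule.span F {y}, Q t = 0) ∧
      finrank F ↥(W ⊔ Submodule.span F {y}) = finrank F W + 1 := by
  constructor
  · intro t ht
    obtain ⟨w, hw, u, hu, rfl⟩ := Submodule.mem_sup.1 ht
    obtain ⟨c, rfl⟩ := Submodule.mem_span_singleton.1 hu
    rw [Q_add, Q_smul, hW w hw, hy, map_smul, hB w hw]
    simp
  · have hy0 : y ≠ 0 := by
      rintro rfl
      exact hyW W.zero_mem
    have hinf : W ⊓ Submodule.span F {y} = ⊥ := by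
      rw [eq_bot_iff]
      rintro t ⟨ht1, ht2⟩
      obtain ⟨c, rfl⟩ := Submodule.mem_span_singleton.1 ht2
      by_cases hc : c = 0
      · rw [hc, zero_smul]; exact Submodule.zero_mem _
      · exfalso
        apply hyW
        have := W.smul_mem c⁻¹ ht1
        rw [smul_smul, inv_mul_cancel₀ hc, one_smul] at this
        exact this
    have h1 := Submodule.finrank_sup_add_finrank_inf_eq W (Submodule.span F {y})
    rw [hinf, finrank_bot, add_zero, finrank_span_singleton hy0] at h1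
    exact h1

/-- maximality of the stabiliser of a totally singular subspace in `Ω`, in the vocabulary of
`Cfsg.Geo` -/
theorem parabolic_maximal_geo (hQ : (QuadraticMap.polarBilin Q).Nondegenerate)
    (hn : 7 ≤ Fintype.card ι) (W : Submodule F (ι → F)) (hW0 : W ≠ ⊥)
    (hW : Cfsg.Geo.IsTotallySingularQuad ⇑Q W)
    (hdim : ∀ T : Submodule F (ι → F), (∀ t ∈ T, Q t = 0) → finrank F T = finrank F W + 1 →
      2 * finrank F W + 3 ≤ Fintype.card ι) :
    Cfsg.Geo.IsMaximalIn (Cfsg.Geo.omegaGL ⇑Q)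
      (Cfsg.Geo.subspaceStabilizer W ⊓ Cfsg.Geo.omegaGL ⇑Q) := by
  have hW' : ∀ w ∈ W, Q w = 0 := hW
  have hdim' : ∀ y : ι → F, y ∉ W → Q y = 0 → (∀ w ∈ W, QuadraticMap.polarBilin Q w y = 0) →
      2 * finrank F W + 3 ≤ Fintype.card ι := by
    intro y hyW hy hB
    obtain ⟨h1, h2⟩ := ts_extend Q W hW' y hyW hy hB
    exact hdim _ h1 h2
  have hmemS : ∀ g : ↥(Cfsg.Omega F ⇑Q), g ∈ subStab Q W ↔
      ((g : ↥(Cfsg.isometryGroup F ⇑Q)) : GL ι F) ∈ Cfsg.Geo.subspaceStabilizer W :=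
    fun g => Iff.rfl
  refine ⟨?_, ?_⟩
  · rw [SetLike.lt_iff_le_and_exists]
    refine ⟨inf_le_right, ?_⟩
    obtain ⟨g, hg⟩ := subStab_ne_top Q hQ hn W hW0 hW'
    refine ⟨((g : ↥(Cfsg.isometryGroup F ⇑Q)) : GL ι F),
      (mem_omegaGL_iff43 _ _).2 ⟨g.1.2, g.2⟩, ?_⟩
    rintro ⟨h1, -⟩
    exact hg ((hmemS g).2 h1)
  · intro M hHM hMΩ
    set K : Subgroup ↥(Cfsg.Omega F ⇑Q) :=
      M.comap ((Cfsg.isometryGroup F ⇑Q).subtype.comp (Cfsg.Omega F ⇑Q).subtype) with hK
    have hmemK : ∀ g : ↥(Cfsg.Omega F ⇑Q),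
        g ∈ K ↔ ((g : ↥(Cfsg.isometryGroup F ⇑Q)) : GL ι F) ∈ M := fun g => Iff.rfl
    have hle : subStab Q W ≤ K := by
      intro g hg
      rw [hmemK]
      apply hHM
      exact ⟨(hmemS g).1 hg, (mem_omegaGL_iff43 _ _).2 ⟨g.1.2, g.2⟩⟩
    rcases subStab_maximal Q hQ hn W hW' hdim' K hle with h | h
    · left
      apply le_antisymm
      · intro x hx
        have hxΩ := hMΩ hx
        obtain ⟨hiso, hΩ⟩ := (mem_omegaGL_iff43 _ _).1 hxΩ
        refine ⟨?_, hxΩ⟩
        have hmem : (⟨⟨x, hiso⟩, hΩ⟩ : ↥(Cfsg.Omega F ⇑Q)) ∈ K := (hmemK _).2 hx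
        rw [h] at hmem
        exact (hmemS ⟨⟨x, hiso⟩, hΩ⟩).1 hmem
      · exact hHM
    · right
      apply le_antisymm hMΩ
      intro x hx
      obtain ⟨hiso, hΩ⟩ := (mem_omegaGL_iff43 _ _).1 hx
      have hmem : (⟨⟨x, hiso⟩, hΩ⟩ : ↥(Cfsg.Omega F ⇑Q)) ∈ K := by
        rw [h]; exact Subgroup.mem_top _
      exact (hmemK _).1 hmem

end finite

end Cfsg.Agent.Lib.Helper43
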