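import Mathlib

set_option autoImplicit false

/-! Witt's extension lemma for quadratic forms with non-degenerate polar form (any field, any
characteristic), via explicit isometries: reflections, Siegel transformations, hyperbolic
scalings. -/

namespace Cfsg.Agent.Lib.Helper43

open Module

variable {F V : Type*} [Field F] [AddCommGroup V] [Module F V]
variable (Q : QuadraticForm F V)

theorem Q_add (x y : V) : Q (x + y) = Q x + Q y + QuadraticMap.polarBilin Q x y := by
  rw [QuadraticMap.polarBilin_apply_apply, QuadraticMap.polar]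
  ring

theorem Q_smul (c : F) (x : V) : Q (c • x) = c * c * Q x := by
  rw [QuadraticMap.map_smul, smul_eq_mul]

theorem polar_symm (x y : V) : QuadraticMap.polarBilin Q x y = QuadraticMap.polarBilin Q y x := by
  rw [QuadraticMap.polarBilin_apply_apply, QuadraticMap.polarBilin_apply_apply,
    QuadraticMap.polar_comm]

theorem polar_self' (x : V) : QuadraticMap.polarBilin Q x x = 2 * Q x := by
  rw [QuadraticMap.polarBilin_apply_apply, QuadraticMap.polar_self]
  simp [two_mul]

/-- a linear `Q`-isometry preserves the polar form -/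
theorem polar_of_isometry (g : V →ₗ[F] V) (hg : ∀ v, Q (g v) = Q v) (x y : V) :
    QuadraticMap.polarBilin Q (g x) (g y) = QuadraticMap.polarBilin Q x y := by
  have h1 := Q_add Q (g x) (g y)
  have h2 := Q_add Q x y
  rw [← map_add, hg, hg, hg] at h1
  rw [h2] at h1
  linear_combination -h1

/-- a linear `Q`-isometry is injective if the polar form is non-degenerate -/
theorem isometry_injective (hQ : (QuadraticMap.polarBilin Q).Nondegenerate)
    (g : V →ₗ[F] V) (hg : ∀ v, Q (g v) = Q v) : Function.Injective g := by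
  rw [← LinearMap.ker_eq_bot, LinearMap.ker_eq_bot']
  intro x hx
  apply hQ.1
  intro y
  rw [← polar_of_isometry Q g hg, hx, map_zero, LinearMap.zero_apply]

/-- reflection in a non-singular vector -/
theorem exists_reflection (p : V) (hp : Q p ≠ 0) :
    ∃ g : V →ₗ[F] V, (∀ v, Q (g v) = Q v) ∧
      ∀ v, g v = v - ((Q p)⁻¹ * QuadraticMap.polarBilin Q v p) • p := by
  refine ⟨LinearMap.id - ((Q p)⁻¹ • (LinearMap.flip (QuadraticMap.polarBilin Q) p)).smulRight p,
    ?_, ?_⟩
  · intro v
    simp only [LinearMap.sub_apply, LinearMap.id_apply, LinearMap.smulRight_apply,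
      LinearMap.smul_apply, LinearMap.flip_apply, smul_eq_mul]
    rw [sub_eq_add_neg, ← neg_smul, Q_add, Q_smul, map_smul, smul_eq_mul]
    field_simp
    ring
  · intro v
    simp only [LinearMap.sub_apply, LinearMap.id_apply, LinearMap.smulRight_apply,
      LinearMap.smul_apply, LinearMap.flip_apply, smul_eq_mul]

/-- Siegel (Eichler) transformation -/
theorem exists_siegel (p z : V) (hp : Q p = 0) (hpz : QuadraticMap.polarBilin Q p z = 0) :
    ∃ g : V →ₗ[F] V, (∀ v, Q (g v) = Q v) ∧
      ∀ v, g v = v + (QuadraticMap.polarBilin Q v z - Q z * QuadraticMap.polarBilin Q v p) • p +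
        (-QuadraticMap.polarBilin Q v p) • z := by
  refine ⟨LinearMap.id +
    ((LinearMap.flip (QuadraticMap.polarBilin Q) z) -
      (Q z) • (LinearMap.flip (QuadraticMap.polarBilin Q) p)).smulRight p +
    (-(LinearMap.flip (QuadraticMap.polarBilin Q) p)).smulRight z, ?_, ?_⟩
  · intro v
    simp only [LinearMap.add_apply, LinearMap.sub_apply, LinearMap.id_apply,
      LinearMap.smulRight_apply, LinearMap.smul_apply, LinearMap.flip_apply, smul_eq_mul,
      LinearMap.neg_apply]
    rw [add_assoc, Q_add, Q_add, Q_smul, Q_smul, hp]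
    simp only [map_add, map_smul, LinearMap.smul_apply, smul_eq_mul, hpz]
    ring
  · intro v
    simp only [LinearMap.add_apply, LinearMap.sub_apply, LinearMap.id_apply,
      LinearMap.smulRight_apply, LinearMap.smul_apply, LinearMap.flip_apply, smul_eq_mul,
      LinearMap.neg_apply]

/-- hyperbolic scaling -/
theorem exists_hyp_scaling (p q : V) (hp : Q p = 0) (hq : Q q = 0)
    (hpq : QuadraticMap.polarBilin Q p q = 1) (l : F) (hl : l ≠ 0) :
    ∃ g : V →ₗ[F] V, (∀ v, Q (g v) = Q v) ∧
      ∀ v, g v = v + ((l - 1) * QuadraticMap.polarBilin Q v q) • p +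
        ((l⁻¹ - 1) * QuadraticMap.polarBilin Q v p) • q := by
  refine ⟨LinearMap.id +
    ((l - 1) • (LinearMap.flip (QuadraticMap.polarBilin Q) q)).smulRight p +
    ((l⁻¹ - 1) • (LinearMap.flip (QuadraticMap.polarBilin Q) p)).smulRight q, ?_, ?_⟩
  · intro v
    simp only [LinearMap.add_apply, LinearMap.id_apply,
      LinearMap.smulRight_apply, LinearMap.smul_apply, LinearMap.flip_apply, smul_eq_mul]
    rw [add_assoc, Q_add, Q_add, Q_smul, Q_smul, hp, hq]
    simp only [map_add, map_smul, LinearMap.smul_apply, smul_eq_mul, hpq]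
    field_simp
    ring
  · intro v
    simp only [LinearMap.add_apply, LinearMap.id_apply,
      LinearMap.smulRight_apply, LinearMap.smul_apply, LinearMap.flip_apply, smul_eq_mul]


/-- vectors representing a functional through the polar form -/
theorem exists_polar_repr [FiniteDimensional F V] (hQ : (QuadraticMap.polarBilin Q).Nondegenerate)
    (X : Submodule F V) (v : V) (hv : v ∉ X) :
    ∃ z : V, QuadraticMap.polarBilin Q z v = 1 ∧ ∀ x ∈ X, QuadraticMap.polarBilin Q z x = 0 := by
  obtain ⟨π0, hπ0v, hπ0X⟩ := Submodule.exists_dual_map_eq_bot_of_notMem hv inferInstance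
  refine ⟨(LinearMap.BilinForm.toDual (QuadraticMap.polarBilin Q) hQ).symm ((π0 v)⁻¹ • π0), ?_, ?_⟩
  · rw [LinearMap.BilinForm.apply_toDual_symm_apply]
    simp [inv_mul_cancel₀ hπ0v]
  · intro x hx
    rw [LinearMap.BilinForm.apply_toDual_symm_apply]
    have : π0 x ∈ X.map π0 := Submodule.mem_map_of_mem hx
    rw [hπ0X, Submodule.mem_bot] at this
    simp [this]

/-- one-step extension: an isometry fixing `H` pointwise and moving `u0` to `u1` -/
theorem exists_isometry_fix_hyperplane [FiniteDimensional F V]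
    (hQ : (QuadraticMap.polarBilin Q).Nondegenerate)
    (H : Submodule F V) (u0 u1 : V) (hu0 : u0 ∉ H) (hu1 : u1 ∉ H) (hQu : Q u1 = Q u0)
    (hperp : ∀ h ∈ H, QuadraticMap.polarBilin Q h (u1 - u0) = 0) :
    ∃ g : V →ₗ[F] V, (∀ v, Q (g v) = Q v) ∧ (∀ h ∈ H, g h = h) ∧ g u0 = u1 := by
  set p := u1 - u0 with hp
  have hu1p : u1 = u0 + p := by rw [hp]; abel
  have hQp0 : Q p = -QuadraticMap.polarBilin Q u0 p := by
    have h1 := Q_add Q u0 p
    rw [← hu1p, hQu] at h1
    linear_combination -h1
  by_cases hp0 : p = 0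
  · refine ⟨LinearMap.id, fun v => rfl, fun h _ => rfl, ?_⟩
    rw [hu1p, hp0, add_zero]; rfl
  by_cases hQp : Q p ≠ 0
  · obtain ⟨g, hg1, hg2⟩ := exists_reflection Q p hQp
    refine ⟨g, hg1, ?_, ?_⟩
    · intro h hh
      rw [hg2, hperp h hh, mul_zero, zero_smul, sub_zero]
    · rw [hg2, hu1p]
      have hb : QuadraticMap.polarBilin Q u0 p ≠ 0 := by
        intro h0
        apply hQp
        rw [hQp0, h0, neg_zero]
      have : (Q p)⁻¹ * QuadraticMap.polarBilin Q u0 p = -1 := by
        rw [hQp0]
        field_simp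
      rw [this, neg_one_smul, sub_neg_eq_add]
  push Not at hQp
  have hu0p : QuadraticMap.polarBilin Q u0 p = 0 := by
    rw [hQp] at hQp0
    linear_combination hQp0
  have hpp : QuadraticMap.polarBilin Q p p = 0 := by rw [polar_self', hQp, mul_zero]
  by_cases hmem : u0 ∈ H ⊔ Submodule.span F {p}
  · -- hyperbolic scaling
    obtain ⟨h, hh, y, hy, hsum⟩ := Submodule.mem_sup.mp hmem
    obtain ⟨c, rfl⟩ := Submodule.mem_span_singleton.mp hy
    have hc : c ≠ 0 := by
      rintro rfl
      apply hu0
      rw [← hsum, zero_smul, add_zero]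
      exact hh
    have hc1 : c + 1 ≠ 0 := by
      intro hc1
      apply hu1
      have : u1 = h := by
        have h5 : c • p + p = (c + 1) • p := by rw [add_smul, one_smul]
        rw [hu1p, ← hsum, add_assoc, h5, hc1, zero_smul, add_zero]
      rw [this]; exact hh
    have hpH : p ∉ H := by
      intro hpH
      apply hu0
      rw [← hsum]
      exact H.add_mem hh (H.smul_mem c hpH)
    obtain ⟨q0, hq0p, hq0H⟩ := exists_polar_repr Q hQ H p hpH
    have hpq0 : QuadraticMap.polarBilin Q p q0 = 1 := by rw [polar_symm, hq0p]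
    set q := q0 - Q q0 • p with hq
    have hQq : Q q = 0 := by
      rw [hq, sub_eq_add_neg, ← neg_smul, Q_add, Q_smul, hQp, map_smul, smul_eq_mul, hq0p]
      ring
    have hpq : QuadraticMap.polarBilin Q p q = 1 := by
      rw [hq, map_sub, map_smul, smul_eq_mul, hpp, hpq0]
      ring
    have hHq : ∀ x ∈ H, QuadraticMap.polarBilin Q x q = 0 := by
      intro x hx
      rw [hq, map_sub, map_smul, smul_eq_mul, polar_symm Q x q0, hq0H x hx, hperp x hx]
      ring
    have hl : (1 + c⁻¹ : F) ≠ 0 := by
      intro h0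
      apply hc1
      have : c * (1 + c⁻¹) = 0 := by rw [h0, mul_zero]
      rw [mul_add, mul_one, mul_inv_cancel₀ hc] at this
      exact this
    obtain ⟨g, hg1, hg2⟩ := exists_hyp_scaling Q p q hQp hQq hpq (1 + c⁻¹) hl
    refine ⟨g, hg1, ?_, ?_⟩
    · intro x hx
      rw [hg2, hHq x hx, hperp x hx, mul_zero, mul_zero, zero_smul, zero_smul, add_zero, add_zero]
    · rw [hg2, hu0p, mul_zero, zero_smul, add_zero]
      have h3 : QuadraticMap.polarBilin Q u0 q = c := by
        rw [← hsum, map_add, LinearMap.add_apply, map_smul, LinearMap.smul_apply, hHq h hh, hpq]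
        simp
      rw [h3, hu1p]
      congr 1
      have : (1 + c⁻¹ - 1) * c = 1 := by
        field_simp
        ring
      rw [this, one_smul]
  · -- Siegel transformation
    obtain ⟨z, hzu0, hzX⟩ := exists_polar_repr Q hQ _ u0 hmem
    have hzH : ∀ x ∈ H, QuadraticMap.polarBilin Q x z = 0 := by
      intro x hx
      rw [polar_symm]
      exact hzX x (Submodule.mem_sup_left hx)
    have hpz : QuadraticMap.polarBilin Q p z = 0 := by
      rw [polar_symm]
      exact hzX p (Submodule.mem_sup_right (Submodule.mem_span_singleton_self p))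
    have hu0z : QuadraticMap.polarBilin Q u0 z = 1 := by rw [polar_symm, hzu0]
    obtain ⟨g, hg1, hg2⟩ := exists_siegel Q p z hQp hpz
    refine ⟨g, hg1, ?_, ?_⟩
    · intro x hx
      rw [hg2, hzH x hx, hperp x hx]
      simp
    · rw [hg2, hu0z, hu0p, hu1p]
      simp

/-- Witt's lemma for quadratic forms with non-degenerate polar form, global-map version -/
theorem witt_quad_aux [FiniteDimensional F V] (hQ : (QuadraticMap.polarBilin Q).Nondegenerate) :
    ∀ n : ℕ, ∀ U : Submodule F V, finrank F U = n → ∀ f : V →ₗ[F] V,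
      (∀ u ∈ U, Q (f u) = Q u) → (∀ u ∈ U, f u = 0 → u = 0) →
      ∃ g : V ≃ₗ[F] V, (∀ v, Q (g v) = Q v) ∧ ∀ u ∈ U, g u = f u := by
  intro n
  induction n using Nat.strong_induction_on with
  | _ n ih =>
  intro U hn f hiso hinj
  by_cases hU : U = ⊥
  · subst hU
    refine ⟨LinearEquiv.refl F V, fun v => rfl, ?_⟩
    intro u hu
    rw [Submodule.mem_bot] at hu
    subst hu
    simp
  · obtain ⟨u0, hu0U, hu0ne⟩ := Submodule.exists_mem_ne_zero_of_ne_bot hU
    have hu0bot : u0 ∉ (⊥ : Submodule F V) := by rwa [Submodule.mem_bot]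
    obtain ⟨π0, hπ0v, -⟩ := Submodule.exists_dual_map_eq_bot_of_notMem hu0bot inferInstance
    set π : Module.Dual F V := (π0 u0)⁻¹ • π0 with hπ
    have hπu0 : π u0 = 1 := by simp [hπ, inv_mul_cancel₀ hπ0v]
    set H : Submodule F V := U ⊓ LinearMap.ker π with hH
    have hmemH : ∀ x, x ∈ H ↔ x ∈ U ∧ π x = 0 := by
      intro x; rw [hH, Submodule.mem_inf, LinearMap.mem_ker]
    have hu0H : u0 ∉ H := by
      intro h
      have := ((hmemH u0).1 h).2
      rw [hπu0] at this
      exact one_ne_zero this
    have hlt : H < U := by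
      refine lt_of_le_of_ne inf_le_left ?_
      intro heq
      exact hu0H (heq ▸ hu0U)
    have hfr : finrank F H < n := by
      rw [← hn]; exact Submodule.finrank_lt_finrank_of_lt hlt
    obtain ⟨g1, hg1iso, hg1H⟩ := ih _ hfr H rfl f
      (fun u hu => hiso u ((hmemH u).1 hu).1) (fun u hu => hinj u ((hmemH u).1 hu).1)
    -- f preserves the polar form on U
    have hfpol : ∀ x ∈ U, ∀ y ∈ U, QuadraticMap.polarBilin Q (f x) (f y) =
        QuadraticMap.polarBilin Q x y := by
      intro x hx y hy
      have h1 := Q_add Q (f x) (f y)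
      have h2 := Q_add Q x y
      rw [← map_add, hiso _ (U.add_mem hx hy), hiso x hx, hiso y hy] at h1
      rw [h2] at h1
      linear_combination -h1
    set u1 := g1.symm (f u0) with hu1
    have hg1u1 : g1 u1 = f u0 := by rw [hu1, LinearEquiv.apply_symm_apply]
    have hu1H : u1 ∉ H := by
      intro h
      have h1 := hg1H u1 h
      rw [hg1u1] at h1
      have h2 : f (u0 - u1) = 0 := by rw [map_sub, h1, sub_self]
      have h3 := hinj _ (U.sub_mem hu0U ((hmemH u1).1 h).1) h2
      have h4 : u0 = u1 := sub_eq_zero.1 h3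
      exact hu0H (h4 ▸ h)
    have hQu1 : Q u1 = Q u0 := by
      rw [← hg1iso u1, hg1u1, hiso u0 hu0U]
    have hperp : ∀ h ∈ H, QuadraticMap.polarBilin Q h (u1 - u0) = 0 := by
      intro h hh
      have hhU := ((hmemH h).1 hh).1
      rw [map_sub, sub_eq_zero, ← polar_of_isometry Q g1.toLinearMap hg1iso h u1]
      show QuadraticMap.polarBilin Q (g1 h) (g1 u1) = _
      rw [hg1u1, hg1H h hh, hfpol h hhU u0 hu0U]
    obtain ⟨g2, hg2iso, hg2H, hg2u0⟩ :=
      exists_isometry_fix_hyperplane Q hQ H u0 u1 hu0H hu1H hQu1 hperp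
    have hg2inj := isometry_injective Q hQ g2 hg2iso
    refine ⟨(LinearEquiv.ofInjectiveEndo g2 hg2inj).trans g1, ?_, ?_⟩
    · intro v
      simp only [LinearEquiv.trans_apply, LinearEquiv.coe_ofInjectiveEndo, hg1iso, hg2iso]
    · intro u hu
      simp only [LinearEquiv.trans_apply, LinearEquiv.coe_ofInjectiveEndo]
      have hhH : u - π u • u0 ∈ H := by
        rw [hmemH]
        refine ⟨U.sub_mem hu (U.smul_mem _ hu0U), ?_⟩
        rw [map_sub, map_smul, hπu0, smul_eq_mul, mul_one, sub_self]
      have hdecomp : u = (u - π u • u0) + π u • u0 := by abel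
      conv_lhs => rw [hdecomp]
      rw [map_add, map_smul, hg2H _ hhH, hg2u0, map_add, map_smul, hg1H _ hhH, hg1u1,
        ← map_smul, ← map_add, ← hdecomp]

/-- Witt's lemma for quadratic forms with non-degenerate polar form. -/
theorem witt_quad [FiniteDimensional F V] (hQ : (QuadraticMap.polarBilin Q).Nondegenerate)
    (X Y : Submodule F V) (φ : X ≃ₗ[F] Y) (hφ : ∀ x : X, Q (φ x : V) = Q (x : V)) :
    ∃ g : V ≃ₗ[F] V, (∀ v : V, Q (g v) = Q v) ∧ ∀ x : X, g (x : V) = (φ x : V) := by
  obtain ⟨f, hf⟩ := LinearMap.exists_extend (Y.subtype.comp (φ : X →ₗ[F] Y))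
  have hfX : ∀ x : X, f x = (φ x : V) := by
    intro x
    have := congrArg (fun l => l x) hf
    simpa using this
  obtain ⟨g, hg1, hg2⟩ := witt_quad_aux Q hQ _ X rfl f
    (by
      intro x hx
      have h1 := hfX ⟨x, hx⟩
      simp only at h1
      rw [h1]
      exact hφ ⟨x, hx⟩)
    (by
      intro x hx h0
      have h1 := hfX ⟨x, hx⟩
      simp only at h1
      rw [h1] at h0
      have : φ ⟨x, hx⟩ = 0 := Subtype.ext h0
      have := φ.map_eq_zero_iff.mp this
      exact congrArg Subtype.val this)
  refine ⟨g, hg1, ?_⟩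
  intro x
  rw [hg2 x x.2, hfX x]

end Cfsg.Agent.Lib.Helper43
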