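import Cfsg.Agent.Lib.Helper43.WittQuad
import Cfsg.Agent.Lib.Helper50.GramMinus

set_option autoImplicit false

/-! Involutions of an orthogonal group that are conjugate under the isometry group of the polar
form are conjugate under the orthogonal group (via Witt's lemma). -/

namespace Cfsg.Agent.Lib.Helper43

open Matrix Module

variable {F : Type*} [Field F] {ι : Type} [Fintype ι] [DecidableEq ι]

/-- A function whose polar is given by a matrix is a quadratic form. -/
def qfOfPolar' (R : (ι → F) → F) (M : Matrix ι ι F) (hsm : ∀ (a : F) x, R (a • x) = a * a * R x)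
    (hM : ∀ u v, QuadraticMap.polar R u v = Matrix.toBilin' M u v) : QuadraticForm F (ι → F) where
  toFun := R
  toFun_smul := fun a x => by rw [hsm]; rfl
  exists_companion' := ⟨Matrix.toBilin' M, fun x y => by
    have := hM x y
    unfold QuadraticMap.polar at this
    linear_combination this⟩

theorem qfOfPolar'_coe (R : (ι → F) → F) (M : Matrix ι ι F)
    (hsm : ∀ (a : F) x, R (a • x) = a * a * R x)
    (hM : ∀ u v, QuadraticMap.polar R u v = Matrix.toBilin' M u v) :
    ⇑(qfOfPolar' R M hsm hM) = R := rfl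

theorem qfOfPolar'_nondegenerate (R : (ι → F) → F) (M : Matrix ι ι F)
    (hsm : ∀ (a : F) x, R (a • x) = a * a * R x)
    (hM : ∀ u v, QuadraticMap.polar R u v = Matrix.toBilin' M u v) (hdet : M.det ≠ 0) :
    (QuadraticMap.polarBilin (qfOfPolar' R M hsm hM)).Nondegenerate := by
  have : QuadraticMap.polarBilin (qfOfPolar' R M hsm hM) = Matrix.toBilin' M := by
    apply LinearMap.ext₂
    intro u v
    rw [QuadraticMap.polarBilin_apply_apply, qfOfPolar'_coe, hM]
  rw [this]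
  exact Matrix.nondegenerate_toBilin'_iff.mpr (Matrix.nondegenerate_of_det_ne_zero hdet)

set_option maxHeartbeats 800000 in
theorem exists_isometry_conj_of_polar_conj
    (Qf : QuadraticForm F (ι → F)) (hQ : (QuadraticMap.polarBilin Qf).Nondegenerate)
    (T S G Gi : Matrix ι ι F) (hG1 : G * Gi = 1) (hG2 : Gi * G = 1)
    (_hT2 : T * T = 1) (hS2 : S * S = 1)
    (hT : ∀ v, Qf (T *ᵥ v) = Qf v) (hS : ∀ v, Qf (S *ᵥ v) = Qf v)
    (hGpol : ∀ u v, QuadraticMap.polarBilin Qf (G *ᵥ u) (G *ᵥ v) = QuadraticMap.polarBilin Qf u v)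
    (hGTS : G * T = S * G) :
    ∃ C : Matrix ι ι F, IsUnit C.det ∧ (∀ v, Qf (C *ᵥ v) = Qf v) ∧ C * T = S * C := by
  have hSpol : ∀ u v, QuadraticMap.polarBilin Qf (S *ᵥ u) (S *ᵥ v) =
      QuadraticMap.polarBilin Qf u v := by
    intro u v
    have := polar_of_isometry Qf S.mulVecLin (fun v => by rw [Matrix.mulVecLin_apply]; exact hS v) u v
    simpa only [Matrix.mulVecLin_apply] using this
  have hSadj : ∀ u v, QuadraticMap.polarBilin Qf (S *ᵥ u) v =
      QuadraticMap.polarBilin Qf u (S *ᵥ v) := by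
    intro u v
    have := hSpol u (S *ᵥ v)
    rw [Matrix.mulVec_mulVec, hS2, Matrix.one_mulVec] at this
    exact this
  have hNsadj : ∀ u v, QuadraticMap.polarBilin Qf ((S - 1) *ᵥ u) v =
      QuadraticMap.polarBilin Qf u ((S - 1) *ᵥ v) := by
    intro u v
    simp only [Matrix.sub_mulVec, Matrix.one_mulVec, map_sub, LinearMap.sub_apply, hSadj]
  have hQN : ∀ (M : Matrix ι ι F), (∀ v, Qf (M *ᵥ v) = Qf v) → ∀ v,
      Qf ((M - 1) *ᵥ v) = -QuadraticMap.polarBilin Qf v ((M - 1) *ᵥ v) := by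
    intro M hM v
    have h1 := Q_add Qf v ((M - 1) *ᵥ v)
    have h2 : v + (M - 1) *ᵥ v = M *ᵥ v := by
      rw [Matrix.sub_mulVec, Matrix.one_mulVec]; abel
    rw [h2, hM] at h1
    linear_combination -h1
  have hGN : ∀ v, G *ᵥ ((T - 1) *ᵥ v) = (S - 1) *ᵥ (G *ᵥ v) := by
    intro v
    rw [Matrix.mulVec_mulVec, Matrix.mulVec_mulVec, mul_sub, sub_mul, hGTS, mul_one, one_mul]
  set U : Submodule F (ι → F) := LinearMap.range (T - 1).mulVecLin with hU
  have hisoU : ∀ u ∈ U, Qf (G.mulVecLin u) = Qf u := by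
    rintro _ ⟨v, rfl⟩
    simp only [Matrix.mulVecLin_apply]
    rw [hGN, hQN S hS, ← hGN, hGpol, hQN T hT]
  have hinjU : ∀ u ∈ U, G.mulVecLin u = 0 → u = 0 := by
    intro u _ h0
    have := congrArg (fun x => Gi *ᵥ x) h0
    simpa only [Matrix.mulVecLin_apply, Matrix.mulVec_mulVec, hG2, Matrix.one_mulVec,
      Matrix.mulVec_zero] using this
  obtain ⟨g', hg'iso, hg'U⟩ := witt_quad_aux Qf hQ _ U rfl G.mulVecLin hisoU hinjU
  have hg'pol : ∀ u v, QuadraticMap.polarBilin Qf (g' u) (g' v) = QuadraticMap.polarBilin Qf u v :=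
    polar_of_isometry Qf g'.toLinearMap hg'iso
  have hg'N : ∀ v, g' ((T - 1) *ᵥ v) = G *ᵥ ((T - 1) *ᵥ v) := by
    intro v
    have := hg'U ((T - 1) *ᵥ v) ⟨v, rfl⟩
    simpa only [Matrix.mulVecLin_apply] using this
  have hint : ∀ v, g' ((T - 1) *ᵥ v) = (S - 1) *ᵥ (g' v) := by
    intro v
    rw [hg'N, hGN, ← sub_eq_zero, ← Matrix.mulVec_sub]
    apply hQ.1
    intro y
    have hy : y = G *ᵥ (Gi *ᵥ y) := by rw [Matrix.mulVec_mulVec, hG1, Matrix.one_mulVec]
    rw [hNsadj]
    have h3 : (S - 1) *ᵥ y = g' ((T - 1) *ᵥ (Gi *ᵥ y)) := by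
      rw [hg'N, hGN, ← hy]
    have h4 : (S - 1) *ᵥ y = G *ᵥ ((T - 1) *ᵥ (Gi *ᵥ y)) := by
      rw [hGN, ← hy]
    rw [map_sub, LinearMap.sub_apply, sub_eq_zero]
    conv_lhs => rw [h4]
    conv_rhs => rw [h3]
    rw [hGpol, hg'pol]
  set C : Matrix ι ι F := LinearMap.toMatrix' g'.toLinearMap with hC
  have hCv : ∀ v, C *ᵥ v = g' v := by
    intro v
    rw [hC, LinearMap.toMatrix'_mulVec]; rfl
  refine ⟨C, ?_, ?_, ?_⟩
  · rw [hC, LinearMap.det_toMatrix']
    exact LinearEquiv.isUnit_det' g'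
  · intro v; rw [hCv, hg'iso]
  · have hCint : C * (T - 1) = (S - 1) * C := by
      apply Matrix.toLin'.injective
      apply LinearMap.ext
      intro v
      simp only [Matrix.toLin'_apply, ← Matrix.mulVec_mulVec, hCv, hint]
    rw [mul_sub, sub_mul, mul_one, one_mul] at hCint
    exact sub_left_injective hCint

end Cfsg.Agent.Lib.Helper43
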