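import Cfsg.Agent.Lib.Helper43.Dickson
import Cfsg.Agent.Lib.Helper43.OrthInvol
import Cfsg.Agent.Lib.Helper50.Gram
import Cfsg.Agent.Lib.Helper50.GramMinus

set_option autoImplicit false

/-! `QuadraticForm` models of `Cfsg.quadFormPlus` and `Cfsg.quadFormMinus`, with nondegenerate
polar forms (minus type: characteristic two). -/

namespace Cfsg.Agent.Lib.Helper43

open Matrix Module

theorem plus_smul' {F : Type*} [Field F] (m : ℕ) (a : F) (x : Fin m ⊕ Fin m → F) :
    Cfsg.quadFormPlus m F (a • x) = a * a * Cfsg.quadFormPlus m F x := by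
  simp only [Cfsg.quadFormPlus, Pi.smul_apply, smul_eq_mul, Finset.mul_sum]
  refine Finset.sum_congr rfl fun i _ => ?_
  ring

theorem minus_smul' {F : Type*} [Field F] (m : ℕ) (a' b' : F) (a : F)
    (x : (Fin m ⊕ Fin m) ⊕ Fin 2 → F) :
    Cfsg.quadFormMinus m F a' b' (a • x) = a * a * Cfsg.quadFormMinus m F a' b' x := by
  simp only [Cfsg.quadFormMinus, Pi.smul_apply, smul_eq_mul, mul_add, Finset.mul_sum]
  congr 1
  · refine Finset.sum_congr rfl fun i _ => ?_
    ring
  · ring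

/-- the plus-type form as a `QuadraticForm` -/
def qfPlus (m : ℕ) (F : Type*) [Field F] : QuadraticForm F (Fin m ⊕ Fin m → F) :=
  qfOfPolar' (Cfsg.quadFormPlus m F) _ (plus_smul' m) (Cfsg.Agent.Lib.Helper50.polar_quadFormPlus m)

theorem qfPlus_coe (m : ℕ) (F : Type*) [Field F] : ⇑(qfPlus m F) = Cfsg.quadFormPlus m F := rfl

theorem qfPlus_nondegenerate (m : ℕ) (F : Type*) [Field F] :
    (QuadraticMap.polarBilin (qfPlus m F)).Nondegenerate := by
  apply qfOfPolar'_nondegenerate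
  rw [Cfsg.Agent.Lib.Helper50.det_hyp]
  exact pow_ne_zero _ (neg_ne_zero.mpr one_ne_zero)

/-- the minus-type form as a `QuadraticForm` -/
def qfMinus (m : ℕ) (F : Type*) [Field F] (c d : F) :
    QuadraticForm F ((Fin m ⊕ Fin m) ⊕ Fin 2 → F) :=
  qfOfPolar' (Cfsg.quadFormMinus m F c d) _ (minus_smul' m c d)
    (Cfsg.Agent.Lib.Helper50.polar_quadFormMinus m c d)

theorem qfMinus_coe (m : ℕ) (F : Type*) [Field F] (c d : F) :
    ⇑(qfMinus m F c d) = Cfsg.quadFormMinus m F c d := rfl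

/-- in characteristic two over a finite field, an anisotropic binary form has non-zero middle
coefficient -/
theorem middle_ne_zero' {F : Type*} [Field F] [Fintype F] [CharP F 2] (c d : F)
    (hcd : ∀ z₁ z₂ : F, z₁ ^ 2 + c * z₁ * z₂ + d * z₂ ^ 2 = 0 → z₁ = 0 ∧ z₂ = 0) : c ≠ 0 := by
  intro hc
  obtain ⟨e, he⟩ := FiniteField.isSquare_of_char_two (ringChar.eq F 2) d
  have h := hcd e 1 (by
    rw [hc, he]
    have : e * e + e * e = 0 := CharTwo.add_self_eq_zero _
    linear_combination this)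
  exact one_ne_zero h.2

theorem qfMinus_nondegenerate (m : ℕ) (F : Type*) [Field F] [CharP F 2] (c d : F) (hc : c ≠ 0) :
    (QuadraticMap.polarBilin (qfMinus m F c d)).Nondegenerate := by
  apply qfOfPolar'_nondegenerate
  rw [Cfsg.Agent.Lib.Helper50.det_minus_gram]
  have h2 : (2 : F) = 0 := CharTwo.two_eq_zero
  have h4 : (4 : F) = 0 := by
    have : (4 : F) = 2 * 2 := by norm_num
    rw [this, h2, mul_zero]
  rw [h4, zero_mul, sub_zero]
  exact mul_ne_zero (pow_ne_zero _ (neg_ne_zero.mpr one_ne_zero)) (pow_ne_zero _ hc)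

end Cfsg.Agent.Lib.Helper43
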