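import Cfsg.Agent.Lib.Helper43.OmegaSimple6
import Cfsg.Agent.Lib.Helper43.OrthModels
import Cfsg.Agent.Lib.Helper08.GOCard

set_option autoImplicit false
set_option linter.unusedSimpArgs false
set_option linter.unusedVariables false

/-! Simplicity of `PΩ` for the three standard forms (dimension at least 7). The `QData` for the
elliptic and odd-dimensional forms follow `Lib.Helper08.GOMinus` / `Lib.Helper08.GOOdd`. -/

namespace Cfsg.Agent.Lib.Helper43

open Matrix Cfsg.Agent.Lib.Helper08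

section models

variable {F : Type*} [Field F]

theorem disc_ne_zero43 [Finite F] (a b : F)
    (hab : ∀ z₁ z₂ : F, z₁ ^ 2 + a * z₁ * z₂ + b * z₂ ^ 2 = 0 → z₁ = 0 ∧ z₂ = 0) :
    a ^ 2 - 4 * b ≠ 0 := by
  intro h
  have h1 := hab (-a) 2 (by linear_combination (-1 : F) * h)
  have ha : a = 0 := neg_eq_zero.mp h1.1
  have h2 : (2 : F) = 0 := h1.2
  have hchar : CharP F 2 := CharTwo.of_one_ne_zero_of_two_eq_zero one_ne_zero h2
  have hperf : PerfectRing F 2 := PerfectRing.ofFiniteOfIsReduced 2 F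
  set s := (frobeniusEquiv F 2).symm b with hs
  have hsb : s ^ 2 = b := frobeniusEquiv_symm_pow_p F 2 b
  have h3 := hab s 1 (by rw [ha, hsb]; linear_combination b * h2)
  exact one_ne_zero h3.2

/-- `QData` for the elliptic form -/
def qdataMinus43 [Finite F] (k : ℕ) (a b : F)
    (hab : ∀ z₁ z₂ : F, z₁ ^ 2 + a * z₁ * z₂ + b * z₂ ^ 2 = 0 → z₁ = 0 ∧ z₂ = 0) :
    QData (Cfsg.quadFormMinus k F a b) where
  M := Matrix.fromBlocks
        (Matrix.fromBlocks (0 : Matrix (Fin k) (Fin k) F) (1 : Matrix (Fin k) (Fin k) F)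
        (1 : Matrix (Fin k) (Fin k) F) (0 : Matrix (Fin k) (Fin k) F))
        (0 : Matrix (Fin k ⊕ Fin k) (Fin 2) F) (0 : Matrix (Fin 2) (Fin k ⊕ Fin k) F)
        (!![2, a; a, 2 * b] : Matrix (Fin 2) (Fin 2) F)
  hsm c x := by
    simp only [Cfsg.quadFormMinus, Pi.smul_apply, smul_eq_mul, mul_add, Finset.mul_sum]
    congr 1
    · refine Finset.sum_congr rfl fun i _ => ?_
      ring
    · ring
  hM := Cfsg.Agent.Lib.Helper50.polar_quadFormMinus k a b
  hdet := by
    rw [Cfsg.Agent.Lib.Helper50.det_minus_gram]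
    exact mul_ne_zero (pow_ne_zero _ (neg_ne_zero.mpr one_ne_zero)) (disc_ne_zero43 a b hab)

theorem quadFormOdd_eq43 (m : ℕ) (v : Unit ⊕ (Fin m ⊕ Fin m) → F) :
    Cfsg.quadFormOdd m F v = v (Sum.inl ()) ^ 2 + Cfsg.quadFormPlus m F (v ∘ Sum.inr) := rfl

theorem polar_quadFormOdd43 (m : ℕ) (u v : Unit ⊕ (Fin m ⊕ Fin m) → F) :
    QuadraticMap.polar (Cfsg.quadFormOdd m F) u v =
      Matrix.toBilin' (Matrix.fromBlocks ((2 : F) • (1 : Matrix Unit Unit F)) 0 0
        (Matrix.fromBlocks (0 : Matrix (Fin m) (Fin m) F) 1 1 0)) u v := by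
  rw [toBilin_fromBlocks, ← Cfsg.Agent.Lib.Helper50.polar_quadFormPlus]
  unfold QuadraticMap.polar
  rw [quadFormOdd_eq43, quadFormOdd_eq43, quadFormOdd_eq43]
  have : (u + v) ∘ Sum.inr = u ∘ Sum.inr + v ∘ Sum.inr := rfl
  rw [this]
  simp [Matrix.toBilin'_apply', dotProduct, Matrix.mulVec]
  ring

/-- `QData` for the odd-dimensional form in odd characteristic -/
def qdataOdd43 (m : ℕ) (h2 : (2 : F) ≠ 0) : QData (Cfsg.quadFormOdd m F) where
  M := Matrix.fromBlocks ((2 : F) • (1 : Matrix Unit Unit F)) 0 0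
        (Matrix.fromBlocks (0 : Matrix (Fin m) (Fin m) F) 1 1 0)
  hsm c x := by
    simp only [Cfsg.quadFormOdd, Pi.smul_apply, smul_eq_mul, mul_add, Finset.mul_sum]
    congr 1
    · ring
    · refine Finset.sum_congr rfl fun i _ => ?_
      ring
  hM := polar_quadFormOdd43 m
  hdet := by
    rw [Matrix.det_fromBlocks_zero₂₁, Cfsg.Agent.Lib.Helper50.det_hyp]
    simp only [Matrix.det_smul, Fintype.card_unit, pow_one, Matrix.det_one, mul_one]
    exact mul_ne_zero h2 (pow_ne_zero _ (neg_ne_zero.mpr one_ne_zero))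

end models

section simple

variable {F : Type*} [Field F] [Fintype F]

/-- `PΩ⁺_{2m}(q)` is simple for `m ≥ 4` -/
theorem isSimpleGroup_POmega_plus (m : ℕ) (hm : 4 ≤ m) :
    IsSimpleGroup (Cfsg.POmega F (Cfsg.quadFormPlus m F)) := by
  have h := isSimpleGroup_POmega (qfPlus m F) (qfPlus_nondegenerate m F)
    (by rw [Fintype.card_sum, Fintype.card_fin]; omega)
  exact h

/-- `PΩ⁻_{2m+2}(q)` is simple for `m ≥ 3` -/
theorem isSimpleGroup_POmega_minus (m : ℕ) (hm : 3 ≤ m) (a b : F)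
    (hab : ∀ z₁ z₂ : F, z₁ ^ 2 + a * z₁ * z₂ + b * z₂ ^ 2 = 0 → z₁ = 0 ∧ z₂ = 0) :
    IsSimpleGroup (Cfsg.POmega F (Cfsg.quadFormMinus m F a b)) := by
  have h := isSimpleGroup_POmega (qdataMinus43 m a b hab).qf (qdataMinus43 m a b hab).qf_nondeg
    (by rw [Fintype.card_sum, Fintype.card_sum, Fintype.card_fin, Fintype.card_fin]; omega)
  exact h

/-- `PΩ_{2m+1}(q)` is simple for `m ≥ 3`, `q` odd -/
theorem isSimpleGroup_POmega_odd (h2 : (2 : F) ≠ 0) (m : ℕ) (hm : 3 ≤ m) :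
    IsSimpleGroup (Cfsg.POmega F (Cfsg.quadFormOdd m F)) := by
  have h := isSimpleGroup_POmega (qdataOdd43 m h2).qf (qdataOdd43 m h2).qf_nondeg
    (by rw [Fintype.card_sum, Fintype.card_sum, Fintype.card_fin, Fintype.card_unit]; omega)
  exact h

theorem two_ne_zero_of_odd_card43 (hodd : Odd (Fintype.card F)) : (2 : F) ≠ 0 := by
  intro h2
  have hchar : CharP F 2 := CharTwo.of_one_ne_zero_of_two_eq_zero one_ne_zero h2
  obtain ⟨n, _, hn⟩ := FiniteField.card F 2
  rw [hn] at hodd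
  have heven : Even (2 ^ (n : ℕ)) := by
    rw [Nat.even_pow]
    exact ⟨even_two, n.pos.ne'⟩
  exact (Nat.not_even_iff_odd.2 hodd) heven

end simple

end Cfsg.Agent.Lib.Helper43
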