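import Cfsg.Agent.Lib.Helper43.WittQuad

set_option autoImplicit false

/-! Maximal totally singular subspaces have the same dimension (via Witt's lemma): a totally
singular subspace `E` whose perpendicular has no singular vectors outside `E` has the maximal
dimension among all totally singular subspaces. -/

namespace Cfsg.Agent.Lib.Helper43

open Module

variable {F V : Type*} [Field F] [AddCommGroup V] [Module F V]
variable (Q : QuadraticForm F V)

/-- the polar form vanishes on a totally singular subspace -/
theorem polar_eq_zero_of_totallySingular (W : Submodule F V) (hW : ∀ w ∈ W, Q w = 0)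
    (x y : V) (hx : x ∈ W) (hy : y ∈ W) : QuadraticMap.polarBilin Q x y = 0 := by
  have h := Q_add Q x y
  rw [hW _ (W.add_mem hx hy), hW x hx, hW y hy] at h
  linear_combination -h

theorem finrank_le_of_totallySingular [FiniteDimensional F V]
    (hQ : (QuadraticMap.polarBilin Q).Nondegenerate) (E W : Submodule F V)
    (hW : ∀ w ∈ W, Q w = 0)
    (hEmax : ∀ v, (∀ e ∈ E, QuadraticMap.polarBilin Q v e = 0) → Q v = 0 → v ∈ E)
    (hE : ∀ e ∈ E, Q e = 0) :
    finrank F W ≤ finrank F E := by
  by_contra hcon
  push Not at hcon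
  have hrk : Module.rank F E ≤ Module.rank F W := by
    rw [← finrank_eq_rank, ← finrank_eq_rank]
    exact_mod_cast hcon.le
  obtain ⟨j, hj⟩ := rank_le_iff_exists_linearMap.1 hrk
  obtain ⟨f, hf⟩ := LinearMap.exists_extend (W.subtype.comp j)
  have hfE : ∀ e : E, f e = (j e : V) := by
    intro e
    have := congrArg (fun l => l e) hf
    simpa using this
  obtain ⟨g, hg, hgE⟩ := witt_quad_aux Q hQ _ E rfl f
    (by
      intro u hu
      rw [hfE ⟨u, hu⟩, hW _ (j ⟨u, hu⟩).2, hE u hu])
    (by
      intro u hu h0
      rw [hfE ⟨u, hu⟩] at h0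
      have h1 : j ⟨u, hu⟩ = 0 := Subtype.ext h0
      have h2 : (⟨u, hu⟩ : E) = 0 := hj (by rw [h1, map_zero])
      exact congrArg Subtype.val h2)
  -- `g E ≤ W`
  have hgEW : ∀ e ∈ E, g e ∈ W := by
    intro e he
    rw [hgE e he, hfE ⟨e, he⟩]
    exact (j ⟨e, he⟩).2
  -- the preimage of `W` under `g` lies in `E`
  have hsub : W.comap (g : V →ₗ[F] V) ≤ E := by
    intro v hv
    rw [Submodule.mem_comap] at hv
    apply hEmax
    · intro e he
      rw [← polar_of_isometry Q (g : V →ₗ[F] V) hg]
      exact polar_eq_zero_of_totallySingular Q W hW _ _ hv (hgEW e he)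
    · have := hg v
      rw [← this]
      exact hW _ hv
  have hdim : finrank F (W.comap (g : V →ₗ[F] V)) = finrank F W := by
    have : W.comap (g : V →ₗ[F] V) = W.map (g.symm : V →ₗ[F] V) := by
      ext v
      rw [Submodule.mem_comap, Submodule.mem_map]
      constructor
      · intro hv
        exact ⟨g v, hv, by simp⟩
      · rintro ⟨w, hw, rfl⟩
        simpa using hw
    rw [this]
    exact LinearEquiv.finrank_map_eq g.symm W
  have := Submodule.finrank_mono hsub
  omega

end Cfsg.Agent.Lib.Helper43
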