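import Cfsg.Agent.Lib.Helper43.OrthModels
import Cfsg.Agent.Lib.Helper43.WittIndex

set_option autoImplicit false
set_option linter.unusedSimpArgs false

/-! Witt indices of the standard plus/minus forms, nonsingular vectors in big subspaces, and
adjusting a conjugating element into `Ω` by a reflection centralizing `t`. -/

namespace Cfsg.Agent.Lib.Helper43

open Matrix Module Cfsg.Agent.Lib.Helper19

section plus

variable {F : Type*} [Field F] (m : ℕ)

/-- embedding of the `x`-coordinates (plus type) -/
def embXp : (Fin m → F) →ₗ[F] (Fin m ⊕ Fin m → F) where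
  toFun a := Sum.elim a (fun _ => 0)
  map_add' a b := by
    ext k; rcases k with k | k <;> simp
  map_smul' c a := by
    ext k; rcases k with k | k <;> simp

theorem plus_add_embXp (v : Fin m ⊕ Fin m → F) (a : Fin m → F) :
    Cfsg.quadFormPlus m F (v + embXp m a) =
      Cfsg.quadFormPlus m F v + ∑ j, a j * v (Sum.inr j) := by
  simp only [Cfsg.quadFormPlus, embXp, LinearMap.coe_mk, AddHom.coe_mk, Pi.add_apply,
    Sum.elim_inl, Sum.elim_inr, add_zero, ← Finset.sum_add_distrib]
  refine Finset.sum_congr rfl fun i _ => ?_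
  ring

theorem plus_embXp (a : Fin m → F) : Cfsg.quadFormPlus m F (embXp m a) = 0 := by
  simp [Cfsg.quadFormPlus, embXp]

theorem exists_nonsingular_plus (W : Submodule F (Fin m ⊕ Fin m → F))
    (hW : m < finrank F W) : ∃ w ∈ W, Cfsg.quadFormPlus m F w ≠ 0 := by
  by_contra hcon
  push Not at hcon
  have hle := finrank_le_of_totallySingular (qfPlus m F) (qfPlus_nondegenerate m F)
    (LinearMap.range (embXp (F := F) m)) W hcon
    (by
      intro v hv _
      have hvy : ∀ i, v (Sum.inr i) = 0 := by
        intro i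
        have h1 := hv (embXp m (Pi.single i 1)) ⟨_, rfl⟩
        rw [QuadraticMap.polarBilin_apply_apply, QuadraticMap.polar] at h1
        change Cfsg.quadFormPlus m F (v + embXp m (Pi.single i 1)) - Cfsg.quadFormPlus m F v
          - Cfsg.quadFormPlus m F (embXp m (Pi.single i 1)) = 0 at h1
        rw [plus_add_embXp, plus_embXp] at h1
        simp only [Pi.single_apply, ite_mul, one_mul, zero_mul, Finset.sum_ite_eq',
          Finset.mem_univ, if_true] at h1
        linear_combination h1
      refine ⟨fun i => v (Sum.inl i), ?_⟩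
      ext k
      rcases k with k | k
      · simp [embXp]
      · simp [embXp, hvy k])
    (by
      rintro e ⟨a, rfl⟩
      exact plus_embXp m a)
  have h2 : finrank F (LinearMap.range (embXp (F := F) m)) ≤ m := by
    have := LinearMap.finrank_range_le (embXp (F := F) m)
    rwa [Module.finrank_fintype_fun_eq_card, Fintype.card_fin] at this
  omega

end plus

section minus

variable {F : Type*} [Field F] (m : ℕ) (c d : F)

/-- embedding of the `x`-coordinates (minus type) -/
def embXm : (Fin m → F) →ₗ[F] ((Fin m ⊕ Fin m) ⊕ Fin 2 → F) where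
  toFun a := Sum.elim (Sum.elim a (fun _ => 0)) (fun _ => 0)
  map_add' a b := by
    ext k; rcases k with (k | k) | k <;> simp
  map_smul' c a := by
    ext k; rcases k with (k | k) | k <;> simp

theorem minus_add_embXm (v : (Fin m ⊕ Fin m) ⊕ Fin 2 → F) (a : Fin m → F) :
    Cfsg.quadFormMinus m F c d (v + embXm m a) =
      Cfsg.quadFormMinus m F c d v + ∑ j, a j * v (Sum.inl (Sum.inr j)) := by
  simp only [Cfsg.quadFormMinus, embXm, LinearMap.coe_mk, AddHom.coe_mk, Pi.add_apply,
    Sum.elim_inl, Sum.elim_inr, add_zero]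
  have : ∑ i, (v (Sum.inl (Sum.inl i)) + a i) * v (Sum.inl (Sum.inr i)) =
      ∑ i, v (Sum.inl (Sum.inl i)) * v (Sum.inl (Sum.inr i)) + ∑ j, a j * v (Sum.inl (Sum.inr j)) := by
    rw [← Finset.sum_add_distrib]
    refine Finset.sum_congr rfl fun i _ => ?_
    ring
  rw [this]
  ring

theorem minus_embXm (a : Fin m → F) : Cfsg.quadFormMinus m F c d (embXm m a) = 0 := by
  simp [Cfsg.quadFormMinus, embXm]

theorem exists_nonsingular_minus [CharP F 2] (hc : c ≠ 0)
    (hcd : ∀ z₁ z₂ : F, z₁ ^ 2 + c * z₁ * z₂ + d * z₂ ^ 2 = 0 → z₁ = 0 ∧ z₂ = 0)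
    (W : Submodule F ((Fin m ⊕ Fin m) ⊕ Fin 2 → F))
    (hW : m < finrank F W) : ∃ w ∈ W, Cfsg.quadFormMinus m F c d w ≠ 0 := by
  by_contra hcon
  push Not at hcon
  have hle := finrank_le_of_totallySingular (qfMinus m F c d) (qfMinus_nondegenerate m F c d hc)
    (LinearMap.range (embXm (F := F) m)) W hcon
    (by
      intro v hv hQv
      have hvy : ∀ i, v (Sum.inl (Sum.inr i)) = 0 := by
        intro i
        have h1 := hv (embXm m (Pi.single i 1)) ⟨_, rfl⟩
        rw [QuadraticMap.polarBilin_apply_apply, QuadraticMap.polar] at h1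
        change Cfsg.quadFormMinus m F c d (v + embXm m (Pi.single i 1))
          - Cfsg.quadFormMinus m F c d v
          - Cfsg.quadFormMinus m F c d (embXm m (Pi.single i 1)) = 0 at h1
        rw [minus_add_embXm, minus_embXm] at h1
        simp only [Pi.single_apply, ite_mul, one_mul, zero_mul, Finset.sum_ite_eq',
          Finset.mem_univ, if_true] at h1
        linear_combination h1
      have hz : v (Sum.inr 0) = 0 ∧ v (Sum.inr 1) = 0 := by
        apply hcd
        change Cfsg.quadFormMinus m F c d v = 0 at hQv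
        unfold Cfsg.quadFormMinus at hQv
        rw [← hQv]
        have : ∑ i, v (Sum.inl (Sum.inl i)) * v (Sum.inl (Sum.inr i)) = 0 := by
          apply Finset.sum_eq_zero
          intro i _
          rw [hvy i, mul_zero]
        rw [this, zero_add]
      refine ⟨fun i => v (Sum.inl (Sum.inl i)), ?_⟩
      ext k
      rcases k with (k | k) | k
      · simp [embXm]
      · simp [embXm, hvy k]
      · fin_cases k
        · simp [embXm, hz.1]
        · simp [embXm, hz.2])
    (by
      rintro e ⟨a, rfl⟩
      exact minus_embXm m c d a)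
  have h2 : finrank F (LinearMap.range (embXm (F := F) m)) ≤ m := by
    have := LinearMap.finrank_range_le (embXm (F := F) m)
    rwa [Module.finrank_fintype_fun_eq_card, Fintype.card_fin] at this
  omega

end minus

section adjust

variable {F : Type*} [Field F] {ι : Type} [Fintype ι] [DecidableEq ι]
variable (Q : QuadraticForm F (ι → F))

/-- in characteristic two the fixed space of an involution has at least half the dimension -/
theorem card_le_two_mul_finrank_fixSpace [CharP F 2] (t : ↥(Cfsg.isometryGroup F ⇑Q))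
    (ht : t * t = 1) : Fintype.card ι ≤ 2 * finrank F (fixSpace (linOf Q t)) := by
  have hsq : (linOf Q t - LinearMap.id) ∘ₗ (linOf Q t - LinearMap.id) = 0 := by
    have h1 : linOf Q t ∘ₗ linOf Q t = LinearMap.id := by
      rw [← linOf_mul, ht, linOf_one]
    apply LinearMap.ext
    intro v
    have h2 := congrArg (fun l => l v) h1
    simp only [LinearMap.comp_apply, LinearMap.id_apply] at h2
    simp only [LinearMap.comp_apply, LinearMap.sub_apply, LinearMap.id_apply, map_sub, h2,
      LinearMap.zero_apply]
    have : linOf Q t v + linOf Q t v = 0 := by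
      rw [← two_smul F, CharTwo.two_eq_zero, zero_smul]
    have e : v + v = 0 := by
      rw [← two_smul F, CharTwo.two_eq_zero, zero_smul]
    have h3 : v - linOf Q t v - (linOf Q t v - v) = (v + v) - (linOf Q t v + linOf Q t v) := by
      abel
    rw [h3, e, this, sub_zero]
  have hle : LinearMap.range (linOf Q t - LinearMap.id) ≤ fixSpace (linOf Q t) := by
    rintro x ⟨y, rfl⟩
    unfold fixSpace
    rw [LinearMap.mem_ker]
    exact congrArg (fun l => l y) hsq
  have h1 := LinearMap.finrank_range_add_finrank_ker (linOf Q t - LinearMap.id)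
  rw [Module.finrank_fintype_fun_eq_card] at h1
  have h2 := Submodule.finrank_mono hle
  unfold fixSpace at h2 ⊢
  omega

theorem reflO_comm_of_fixed (t : ↥(Cfsg.isometryGroup F ⇑Q)) (w : ι → F) (hw : Q w ≠ 0)
    (htw : linOf Q t w = w) : t * reflO Q w = reflO Q w * t := by
  apply linOf_injective
  rw [linOf_mul, linOf_mul, linOf_reflO Q w hw, conj_reflLin Q (linOf Q t) (linOf_isometry Q t),
    htw]

/-- if `t` fixes a nonsingular vector, any conjugating element can be moved into `Ω`
(characteristic two) -/
theorem exists_conj_mem_Omega [Fintype F] [CharP F 2]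
    (hQ : (QuadraticMap.polarBilin Q).Nondegenerate) (hgen : ReflGenerated Q)
    (t s : ↥(Cfsg.isometryGroup F ⇑Q)) (hconj : IsConj t s)
    (w : ι → F) (hw : Q w ≠ 0) (htw : linOf Q t w = w) :
    ∃ g ∈ Cfsg.Omega F ⇑Q, g * t * g⁻¹ = s := by
  obtain ⟨c, hc⟩ := isConj_iff.1 hconj
  by_cases hcO : c ∈ Cfsg.Omega F ⇑Q
  · exact ⟨c, hcO, hc⟩
  · refine ⟨c * reflO Q w, ?_, ?_⟩
    · rw [Omega_eq_ker_dickson Q hQ hgen, MonoidHom.mem_ker] at hcO ⊢
      rw [map_mul, dickson_reflO Q hQ hgen w hw]
      obtain ⟨y, hy⟩ := Multiplicative.ofAdd.surjective (dickson Q hQ hgen c)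
      have h01 : ∀ y : ZMod 2, y = 0 ∨ y = 1 := by decide
      rw [← hy] at hcO ⊢
      rcases h01 y with rfl | rfl
      · exact absurd rfl hcO
      · rfl
    · have hcomm := reflO_comm_of_fixed Q t w hw htw
      have hinv : (reflO Q w)⁻¹ = reflO Q w := inv_eq_of_mul_eq_one_right (reflO_mul_self Q w hw)
      rw [_root_.mul_inv_rev, hinv, ← hc]
      have : c * reflO Q w * t * (reflO Q w * c⁻¹) = c * (reflO Q w * t * reflO Q w) * c⁻¹ := by
        group
      rw [this, ← hcomm, mul_assoc t, reflO_mul_self Q w hw, mul_one]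

end adjust

end Cfsg.Agent.Lib.Helper43
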