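import Mathlib

set_option autoImplicit false

namespace Cfsg.Agent.Lib.Helper43

open Module LinearMap

universe u v

/-- A finite-dimensional space with a nondegenerate alternating form has even dimension
(auxiliary form for the induction). -/
theorem even_finrank_of_isAlt_nondegenerate_aux (F : Type u) [Field F] :
    ∀ (n : ℕ) (V : Type v) [AddCommGroup V] [Module F V] [FiniteDimensional F V]
      (B : LinearMap.BilinForm F V), B.IsAlt → B.Nondegenerate → finrank F V = n → Even n := by
  intro n
  induction n using Nat.strong_induction_on with
  | _ n ih =>
    intro V _ _ _ B hA hN hn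
    by_cases h0 : n = 0
    · subst h0; exact Even.zero
    have hpos : 0 < finrank F V := by omega
    have : Nontrivial V := Module.finrank_pos_iff.1 hpos
    obtain ⟨x, hx⟩ := exists_ne (0 : V)
    have hex : ∃ y, B x y ≠ 0 := by
      by_contra hcon
      push Not at hcon
      exact hx (hN.1 x hcon)
    obtain ⟨y, hy⟩ := hex
    have hyx : B y x = - B x y := by rw [← hA.neg_eq x y]
    set W : Submodule F V := Submodule.span F {x, y} with hW
    have hxW : x ∈ W := Submodule.subset_span (by simp)
    have hyW : y ∈ W := Submodule.subset_span (by simp)
    have hrefl : B.IsRefl := hA.isRefl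
    -- `W` meets its orthogonal trivially
    have hdisj : Disjoint W (B.orthogonal W) := by
      rw [Submodule.disjoint_def]
      intro z hzW hzO
      rw [LinearMap.BilinForm.mem_orthogonal_iff] at hzO
      obtain ⟨a, b, rfl⟩ := Submodule.mem_span_pair.1 hzW
      have h1 : B x (a • x + b • y) = 0 := hzO x hxW
      have h2 : B y (a • x + b • y) = 0 := hzO y hyW
      simp only [map_add, map_smul, smul_eq_mul, hA.self_eq_zero, mul_zero, zero_add, add_zero]
        at h1 h2
      have hb : b = 0 := by
        rcases mul_eq_zero.1 h1 with h | h
        · exact h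
        · exact absurd h hy
      have ha : a = 0 := by
        rw [hyx] at h2
        rcases mul_eq_zero.1 h2 with h | h
        · exact h
        · exact absurd (neg_eq_zero.1 h) hy
      simp [ha, hb]
    have hnd : (B.restrict W).Nondegenerate :=
      B.nondegenerate_restrict_of_disjoint_orthogonal hrefl hdisj
    have hcompl : IsCompl W (B.orthogonal W) :=
      LinearMap.BilinForm.isCompl_orthogonal_of_restrict_nondegenerate hrefl hnd
    have hsum : finrank F W + finrank F (B.orthogonal W) = finrank F V :=
      Submodule.finrank_add_eq_of_isCompl hcompl
    -- `W` has dimension two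
    have hli : LinearIndependent F ![x, y] := by
      rw [LinearIndependent.pair_iff' hx]
      intro a ha
      apply hy
      rw [← ha, map_smul, smul_eq_mul, hA.self_eq_zero, mul_zero]
    have hW2 : finrank F W = 2 := by
      have h2 := finrank_span_eq_card hli
      rw [Fintype.card_fin] at h2
      have hrange : Set.range ![x, y] = {x, y} := by
        ext z
        simp only [Matrix.range_cons, Matrix.range_empty, Set.union_empty, Set.mem_union,
          Set.mem_singleton_iff, Set.mem_insert_iff]
      rw [hrange] at h2
      exact h2
    -- the orthogonal complement carries a nondegenerate alternating form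
    have hdisj' : Disjoint (B.orthogonal W) (B.orthogonal (B.orthogonal W)) := by
      rw [LinearMap.BilinForm.orthogonal_orthogonal hN hrefl]
      exact hcompl.symm.disjoint
    have hnd' : (B.restrict (B.orthogonal W)).Nondegenerate :=
      B.nondegenerate_restrict_of_disjoint_orthogonal hrefl hdisj'
    have hA' : (B.restrict (B.orthogonal W)).IsAlt := fun z => hA.self_eq_zero (z : V)
    have hlt : finrank F (B.orthogonal W) < n := by omega
    have hev := ih _ hlt (B.orthogonal W) (B.restrict (B.orthogonal W)) hA' hnd' rfl
    have : n = finrank F (B.orthogonal W) + 2 := by omega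
    rw [this]
    exact hev.add even_two

/-- A finite-dimensional space with a nondegenerate alternating form has even dimension. -/
theorem even_finrank_of_isAlt_nondegenerate {F : Type u} [Field F] {V : Type v} [AddCommGroup V]
    [Module F V] [FiniteDimensional F V] (B : LinearMap.BilinForm F V) (hA : B.IsAlt)
    (hN : B.Nondegenerate) : Even (finrank F V) :=
  even_finrank_of_isAlt_nondegenerate_aux F _ V B hA hN rfl

/-- The rank of an alternating form (codimension of its kernel) is even. -/
theorem even_finrank_sub_finrank_ker_of_isAlt {F : Type u} [Field F] {V : Type v} [AddCommGroup V]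
    [Module F V] [FiniteDimensional F V] (B : LinearMap.BilinForm F V) (hA : B.IsAlt) :
    Even (finrank F V - finrank F (LinearMap.ker B)) := by
  obtain ⟨U, hU⟩ := Submodule.exists_isCompl (LinearMap.ker B)
  have hrefl : B.IsRefl := hA.isRefl
  have hdisj : Disjoint U (B.orthogonal U) := by
    rw [Submodule.disjoint_def]
    intro z hzU hzO
    rw [LinearMap.BilinForm.mem_orthogonal_iff] at hzO
    have hzk : z ∈ LinearMap.ker B := by
      rw [LinearMap.mem_ker]
      apply LinearMap.ext
      intro w
      have hw : w ∈ LinearMap.ker B ⊔ U := by rw [hU.sup_eq_top]; trivial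
      obtain ⟨k, hk, u, hu, rfl⟩ := Submodule.mem_sup.1 hw
      have h1 : B k z = 0 := by rw [LinearMap.mem_ker.1 hk]; rfl
      have h2 : B u z = 0 := hzO u hu
      have h3 : B z k = 0 := (hA.eq_iff).1 h1
      have h4 : B z u = 0 := (hA.eq_iff).1 h2
      simp [h3, h4]
    have : z ∈ LinearMap.ker B ⊓ U := ⟨hzk, hzU⟩
    rw [hU.inf_eq_bot] at this
    exact (Submodule.mem_bot F).1 this
  have hnd : (B.restrict U).Nondegenerate :=
    B.nondegenerate_restrict_of_disjoint_orthogonal hrefl hdisj
  have hA' : (B.restrict U).IsAlt := fun z => hA.self_eq_zero (z : V)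
  have hev := even_finrank_of_isAlt_nondegenerate (B.restrict U) hA' hnd
  have hsum : finrank F (LinearMap.ker B) + finrank F U = finrank F V :=
    Submodule.finrank_add_eq_of_isCompl hU
  have : finrank F V - finrank F (LinearMap.ker B) = finrank F U := by omega
  rw [this]
  exact hev

end Cfsg.Agent.Lib.Helper43
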