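import Cfsg.Agent.Lib.Helper43.OmegaNonsing

set_option autoImplicit false
set_option linter.unusedSimpArgs false
set_option linter.unusedVariables false
set_option linter.unusedSectionVars false

/-! Bridge to the vocabulary of `Cfsg.Geo`, and maximality of the stabiliser of a non-singular
point in `Ω` (characteristic two) in that vocabulary. -/

namespace Cfsg.Agent.Lib.Helper43

open Module Matrix Cfsg.Agent.Lib.Helper19

variable {F : Type*} [Field F] {ι : Type} [Fintype ι] [DecidableEq ι]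

/-- the bundled quadratic form of a function satisfying `Cfsg.Geo.IsNondegenerateQuadraticForm` -/
def geoQF (Q : (ι → F) → F) (hQ : Cfsg.Geo.IsNondegenerateQuadraticForm Q) :
    QuadraticForm F (ι → F) where
  toFun := Q
  toFun_smul a x := by rw [hQ.smul, pow_two, smul_eq_mul]
  exists_companion' := ⟨LinearMap.mk₂ F (QuadraticMap.polar Q) hQ.polar_bilinear.add_left
      hQ.polar_bilinear.smul_left hQ.polar_bilinear.add_right hQ.polar_bilinear.smul_right,
    fun x y => by rw [LinearMap.mk₂_apply]; unfold QuadraticMap.polar; ring⟩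

theorem geoQF_coe (Q : (ι → F) → F) (hQ : Cfsg.Geo.IsNondegenerateQuadraticForm Q) :
    (⇑(geoQF Q hQ) : (ι → F) → F) = Q := rfl

theorem geoQF_nondegenerate (Q : (ι → F) → F) (hQ : Cfsg.Geo.IsNondegenerateQuadraticForm Q) :
    (QuadraticMap.polarBilin (geoQF Q hQ)).Nondegenerate := by
  constructor
  · intro x hx
    by_contra h0
    obtain ⟨-, ⟨y, hy⟩⟩ := hQ.nondegenerate x h0
    exact hy (hx y)
  · intro x hx
    by_contra h0
    obtain ⟨⟨y, hy⟩, -⟩ := hQ.nondegenerate x h0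
    exact hy (hx y)

theorem mem_omegaGL_iff43 (Q : (ι → F) → F) (g : GL ι F) :
    g ∈ Cfsg.Geo.omegaGL Q ↔
      ∃ h : g ∈ Cfsg.isometryGroup F Q, (⟨g, h⟩ : ↥(Cfsg.isometryGroup F Q)) ∈ Cfsg.Omega F Q := by
  unfold Cfsg.Geo.omegaGL
  rw [Subgroup.mem_map]
  constructor
  · rintro ⟨x, hx, rfl⟩
    exact ⟨x.2, hx⟩
  · rintro ⟨h, hx⟩
    exact ⟨⟨g, h⟩, hx, rfl⟩

variable (Q : QuadraticForm F (ι → F))

/-- the line stabiliser in `Ω` versus `Cfsg.Geo.subspaceStabilizer` -/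
theorem mem_subspaceStabilizer_span_iff (v : ι → F) (hv0 : v ≠ 0) (g : ↥(Cfsg.Omega F ⇑Q)) :
    ((g : ↥(Cfsg.isometryGroup F ⇑Q)) : GL ι F) ∈
      Cfsg.Geo.subspaceStabilizer (Submodule.span F {v}) ↔ g ∈ lineStab Q v hv0 := by
  have hact : ∀ (k : ↥(Cfsg.Omega F ⇑Q)) (x : ι → F),
      (((k : ↥(Cfsg.isometryGroup F ⇑Q)) : GL ι F) : Matrix ι ι F) *ᵥ x = lo Q k x := by
    intro k x
    unfold lo
    rw [linOf_apply]
  constructor
  · intro h
    have h1 := (h v).1 (Submodule.mem_span_singleton_self v)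
    change (((g : ↥(Cfsg.isometryGroup F ⇑Q)) : GL ι F) : Matrix ι ι F) *ᵥ v ∈
      Submodule.span F {v} at h1
    rw [hact, Submodule.mem_span_singleton] at h1
    obtain ⟨c, hc⟩ := h1
    exact ⟨c, hc.symm⟩
  · intro hg
    obtain ⟨c, hc⟩ := hg
    obtain ⟨c', hc'⟩ := (lineStab Q v hv0).inv_mem ⟨c, hc⟩
    intro x
    change x ∈ Submodule.span F {v} ↔
      (((g : ↥(Cfsg.isometryGroup F ⇑Q)) : GL ι F) : Matrix ι ι F) *ᵥ x ∈ Submodule.span F {v}
    rw [hact, Submodule.mem_span_singleton, Submodule.mem_span_singleton]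
    constructor
    · rintro ⟨t, rfl⟩
      exact ⟨t * c, by rw [map_smul, hc, smul_smul]⟩
    · rintro ⟨t, ht⟩
      refine ⟨t * c', ?_⟩
      have h1 := lo_inv_apply Q g x
      rw [← ht, map_smul, hc', smul_smul] at h1
      exact h1

section finite

variable [Fintype F]

/-- maximality of the stabiliser of a non-singular point in `Ω`, characteristic two, in the
vocabulary of `Cfsg.Geo` -/
theorem nonsing_stab_maximal_geo (h2 : (2 : F) = 0)
    (hQ : (QuadraticMap.polarBilin Q).Nondegenerate) (hn : 9 ≤ Fintype.card ι) (v : ι → F)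
    (hv : Q v ≠ 0) :
    Cfsg.Geo.IsMaximalIn (Cfsg.Geo.omegaGL ⇑Q)
      (Cfsg.Geo.subspaceStabilizer (Submodule.span F {v}) ⊓ Cfsg.Geo.omegaGL ⇑Q) := by
  have hv0 : v ≠ 0 := by
    rintro rfl
    exact hv (map_zero Q)
  have hn7 : 7 ≤ Fintype.card ι := by omega
  refine ⟨?_, ?_⟩
  · rw [SetLike.lt_iff_le_and_exists]
    refine ⟨inf_le_right, ?_⟩
    obtain ⟨g, hg, hgv⟩ := exists_Omega_move Q hQ hn7 v hv0
    refine ⟨(g : GL ι F), (mem_omegaGL_iff43 _ _).2 ⟨g.2, hg⟩, ?_⟩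
    rintro ⟨h1, -⟩
    have h3 := (mem_subspaceStabilizer_span_iff Q v hv0 ⟨g, hg⟩).1 h1
    obtain ⟨c, hc⟩ := h3
    exact hgv c hc
  · intro M hHM hMΩ
    set K : Subgroup ↥(Cfsg.Omega F ⇑Q) :=
      M.comap ((Cfsg.isometryGroup F ⇑Q).subtype.comp (Cfsg.Omega F ⇑Q).subtype) with hK
    have hmemK : ∀ g : ↥(Cfsg.Omega F ⇑Q),
        g ∈ K ↔ ((g : ↥(Cfsg.isometryGroup F ⇑Q)) : GL ι F) ∈ M := fun g => Iff.rfl
    have hle : lineStab Q v hv0 ≤ K := by
      intro g hg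
      rw [hmemK]
      apply hHM
      refine ⟨(mem_subspaceStabilizer_span_iff Q v hv0 g).2 hg, ?_⟩
      exact (mem_omegaGL_iff43 _ _).2 ⟨g.1.2, g.2⟩
    rcases nonsingStab_maximal Q h2 hQ hn v hv0 hv K hle with h | h
    · left
      apply le_antisymm
      · intro x hx
        have hxΩ := hMΩ hx
        obtain ⟨hiso, hΩ⟩ := (mem_omegaGL_iff43 _ _).1 hxΩ
        refine ⟨?_, hxΩ⟩
        have hmem : (⟨⟨x, hiso⟩, hΩ⟩ : ↥(Cfsg.Omega F ⇑Q)) ∈ K := (hmemK _).2 hx
        rw [h] at hmem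
        exact (mem_subspaceStabilizer_span_iff Q v hv0 ⟨⟨x, hiso⟩, hΩ⟩).2 hmem
      · exact hHM
    · right
      apply le_antisymm hMΩ
      intro x hx
      obtain ⟨hiso, hΩ⟩ := (mem_omegaGL_iff43 _ _).1 hx
      have hmem : (⟨⟨x, hiso⟩, hΩ⟩ : ↥(Cfsg.Omega F ⇑Q)) ∈ K := by
        rw [h]; exact Subgroup.mem_top _
      exact (hmemK _).1 hmem

theorem two_eq_zero_of_not_odd_card43 (h : ¬ Odd (Fintype.card F)) : (2 : F) = 0 := by
  obtain ⟨p, hp⟩ := CharP.exists F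
  obtain ⟨n, hprime, hn⟩ := FiniteField.card F p
  by_cases hp2 : p = 2
  · subst hp2
    have := CharP.cast_eq_zero F 2
    exact_mod_cast this
  · exfalso
    apply h
    rw [hn]
    apply Odd.pow
    exact hprime.odd_of_ne_two hp2

end finite

end Cfsg.Agent.Lib.Helper43
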