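import Mathlib
import Cfsg.Prelude.Def_GeometricClasses
import Cfsg.Agent.Lib.Helper61.AschDefs

/-!
# Shared vocabulary for S5662 (Aschbacher's theorem for subgroups of `Sp_{2m}(q)`), architect helper43.

Everything is about subgroups of `GL ι F` acting on column vectors `ι → F`, and a two-argument form
`f : (ι → F) → (ι → F) → F` with `IsSymplecticForm f`.  `SGeom f K` says: `K` lies in the GL-level stabiliser
underlying a member of one of the eight symplectic classes of `Cfsg.Geo.InSymplecticClass` (read for the form `f`).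
-/

set_option autoImplicit false

namespace Cfsg.Agent.Lib.Helper43.SpAsch

open Cfsg Cfsg.Geo
open scoped Matrix Kronecker MatrixGroups

variable {ι : Type} [Fintype ι] [DecidableEq ι] {F : Type*} [Field F]

/-- The isometry group of a two-argument form inside `GL ι F` (for `sympForm m F` this is `spGL m F`, by `rfl`). -/
def isoGL (f : (ι → F) → (ι → F) → F) : Subgroup (GL ι F) := preserving (glToMat ι F) f

theorem mem_isoGL_iff (f : (ι → F) → (ι → F) → F) (g : GL ι F) :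
    g ∈ isoGL f ↔ ∀ u v, f ((g : Matrix ι ι F) *ᵥ u) ((g : Matrix ι ι F) *ᵥ v) = f u v := Iff.rfl

theorem isoGL_sympForm (m : ℕ) : isoGL (sympForm m F) = spGL m F := rfl

/-- `K` lies in the GL-level stabiliser of a member of one of the eight symplectic classes for the form `f`. -/
inductive SGeom [Fintype F] (f : (ι → F) → (ι → F) → F) (K : Subgroup (GL ι F)) : Prop
  | ts (W : Submodule F (ι → F)) (h0 : W ≠ ⊥) (hts : IsTotallySingularFor f W)
      (hK : K ≤ subspaceStabilizer W) : SGeom f K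
  | nd (W : Submodule F (ι → F)) (h0 : W ≠ ⊥) (hnd : IsNondegenerateOn f W)
      (hdim : 2 * Module.finrank F W < Fintype.card ι) (hK : K ≤ subspaceStabilizer W) : SGeom f K
  | dec {t : ℕ} (k : ℕ) (D : Fin t → Submodule F (ι → F)) (hD : IsNondegenerateMDecomposition f k D)
      (hK : K ≤ decompositionStabilizer D) : SGeom f K
  | tsPair (hq : Odd (Fintype.card F)) (k : ℕ) (hk : 2 * k = Fintype.card ι)
      (D : Fin 2 → Submodule F (ι → F)) (hD : IsMDecomposition k D)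
      (hts : ∀ i, IsTotallySingularFor f (D i)) (hK : K ≤ decompositionStabilizer D) : SGeom f K
  | fieldSelf (r : ℕ) (hr : r.Prime) (E : Subalgebra F (Matrix ι ι F)) (hE : IsFieldSubalgebra r E)
      (hsa : IsSelfAdjointFor f E) (hv : ∀ k ∈ E, ∀ v : ι → F, f (k *ᵥ v) v = 0)
      (hK : K ≤ subalgebraNormalizer E) : SGeom f K
  | fieldUnit (hq : Odd (Fintype.card F)) (E : Subalgebra F (Matrix ι ι F)) (hE : IsFieldSubalgebra 2 E)
      (hac : IsAdjointClosedFor f E) (hns : ¬ IsSelfAdjointFor f E)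
      (hK : K ≤ subalgebraNormalizer E) : SGeom f K
  | tensor (hq : Odd (Fintype.card F)) (n₁ n₂ : ℕ) (e : ι ≃ Fin n₁ × Fin n₂) (P : GL ι F)
      (f₁ : (Fin n₁ → F) → (Fin n₁ → F) → F) (f₂ : (Fin n₂ → F) → (Fin n₂ → F) → F) (h3 : 3 ≤ n₂)
      (hf₁ : IsSymplecticForm f₁) (hf₂ : IsSymmetricForm f₂) (hT : IsTensorFormStructure id f f₁ f₂ e P)
      (hK : K ≤ tensorProductSubgroup n₁ n₂ e P) : SGeom f K
  | subfield (F₀ : Subfield F) (r : ℕ) (P : GL ι F) (ζ : F) (hr : r.Prime)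
      (hc : Fintype.card F = Nat.card F₀ ^ r) (hζ : ζ ≠ 0) (hrat : IsFormRationalStructure f F₀ ζ P)
      (hK : K ≤ subfieldSubgroup F₀ P) : SGeom f K
  | extraspecial (R : Subgroup (GL ι F)) (p k : ℕ) (hR : IsSymplecticTypeGroup 2 R)
      (hirr : ActsAbsolutelyIrreducibly (matrixSet R)) (hRΔ : R ≤ similarityGroup f) (hp : p.Prime) (hpo : Odd p)
      (hc : Fintype.card F = p) (hcard : Nat.card R = 2 ^ (1 + 2 * k)) (hcen : Nat.card (Subgroup.center R) = 2)
      (hminus : IsOfMinusType k R) (hK : K ≤ subgroupNormalizer R) : SGeom f K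
  | wreath (hq : Odd (Fintype.card F)) (k t : ℕ) (e : ι ≃ (Fin t → Fin k)) (P : GL ι F)
      (f₁ : (Fin k → F) → (Fin k → F) → F) (ht : Odd t) (ht3 : 3 ≤ t) (hex : ¬ (Fintype.card F = 3 ∧ k = 2))
      (hf₁ : IsSymplecticForm f₁) (hT : IsTensorPowerFormStructure id f f₁ e P)
      (hK : K ≤ tensorWreathSubgroup k t e P) : SGeom f K
  | quad (hq : ¬ Odd (Fintype.card F)) (Q : (ι → F) → F) (hQ : IsNondegenerateQuadraticForm Q)
      (hpol : ∀ u v, QuadraticMap.polar Q u v = f u v) (hK : K ≤ quadSimilarityGroup Q) : SGeom f K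

theorem SGeom.mono [Fintype F] {f : (ι → F) → (ι → F) → F} {K K' : Subgroup (GL ι F)} (h : SGeom f K)
    (hK : K' ≤ K) : SGeom f K' := by
  cases h with
  | ts W h0 hts h => exact .ts W h0 hts (hK.trans h)
  | nd W h0 hnd hdim h => exact .nd W h0 hnd hdim (hK.trans h)
  | dec k D hD h => exact .dec k D hD (hK.trans h)
  | tsPair hq k hk D hD hts h => exact .tsPair hq k hk D hD hts (hK.trans h)
  | fieldSelf r hr E hE hsa hv h => exact .fieldSelf r hr E hE hsa hv (hK.trans h)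
  | fieldUnit hq E hE hac hns h => exact .fieldUnit hq E hE hac hns (hK.trans h)
  | tensor hq n₁ n₂ e P f₁ f₂ h3 hf₁ hf₂ hT h => exact .tensor hq n₁ n₂ e P f₁ f₂ h3 hf₁ hf₂ hT (hK.trans h)
  | subfield F₀ r P ζ hr hc hζ hrat h => exact .subfield F₀ r P ζ hr hc hζ hrat (hK.trans h)
  | extraspecial R p k hR hirr hRΔ hp hpo hc hcard hcen hminus h =>
    exact .extraspecial R p k hR hirr hRΔ hp hpo hc hcard hcen hminus (hK.trans h)
  | wreath hq k t e P f₁ ht ht3 hex hf₁ hT h => exact .wreath hq k t e P f₁ ht ht3 hex hf₁ hT (hK.trans h)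
  | quad hq Q hQ hpol h => exact .quad hq Q hQ hpol (hK.trans h)

/-- From `SGeom` for the standard symplectic form to membership in a class member. -/
theorem SGeom.inSymplecticClass [Fintype F] {m : ℕ} {K H : Subgroup (GL (Fin m ⊕ Fin m) F)}
    (h : SGeom (sympForm m F) K) (hHK : H ≤ K) (hH : H ≤ spGL m F) :
    ∃ M : Subgroup (GL (Fin m ⊕ Fin m) F), InSymplecticClass m F M ∧ H ≤ M := by
  have hcard : Fintype.card (Fin m ⊕ Fin m) = 2 * m := by
    rw [Fintype.card_sum, Fintype.card_fin]; ring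
  cases h with
  | ts W h0 hts h =>
    exact ⟨_, Or.inl (Or.inl ⟨W, h0, hts, rfl⟩), le_inf (hHK.trans h) hH⟩
  | nd W h0 hnd hdim h =>
    refine ⟨_, Or.inl (Or.inr (Or.inl ⟨W, h0, hnd, ?_, rfl⟩)), le_inf (hHK.trans h) hH⟩
    rw [hcard] at hdim; omega
  | dec k D hD h =>
    exact ⟨_, Or.inl (Or.inr (Or.inr (Or.inl ⟨_, k, D, hD, rfl⟩))), le_inf (hHK.trans h) hH⟩
  | tsPair hq k hk D hD hts h =>
    have hkm : k = m := by rw [hcard] at hk; omega
    subst hkm
    exact ⟨_, Or.inl (Or.inr (Or.inr (Or.inr (Or.inl ⟨D, hq, hD, hts, rfl⟩)))), le_inf (hHK.trans h) hH⟩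
  | fieldSelf r hr E hE hsa hv h =>
    exact ⟨_, Or.inr (Or.inl ⟨r, E, hr, hE, hsa, hv, rfl⟩), le_inf (hHK.trans h) hH⟩
  | fieldUnit hq E hE hac hns h =>
    exact ⟨_, Or.inr (Or.inr (Or.inl ⟨E, hq, hE, hac, hns, rfl⟩)), le_inf (hHK.trans h) hH⟩
  | tensor hq n₁ n₂ e P f₁ f₂ h3 hf₁ hf₂ hT h =>
    exact ⟨_, Or.inr (Or.inr (Or.inr (Or.inl ⟨n₁, n₂, e, P, f₁, f₂, hq, h3, hf₁, hf₂, hT, rfl⟩))),
      le_inf (hHK.trans h) hH⟩
  | subfield F₀ r P ζ hr hc hζ hrat h =>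
    exact ⟨_, Or.inl (Or.inr (Or.inr (Or.inr (Or.inr (Or.inl ⟨F₀, r, P, ζ, hr, hc, hζ, hrat, rfl⟩))))),
      le_inf (hHK.trans h) hH⟩
  | extraspecial R p k hR hirr hRΔ hp hpo hc hcard' hcen hminus h =>
    exact ⟨_, Or.inl (Or.inr (Or.inr (Or.inr (Or.inr (Or.inr (Or.inl
      ⟨R, p, k, hR, hirr, hRΔ, hp, hpo, hc, hcard', hcen, hminus, rfl⟩)))))), le_inf (hHK.trans h) hH⟩
  | wreath hq k t e P f₁ ht ht3 hex hf₁ hT h =>
    exact ⟨_, Or.inr (Or.inr (Or.inr (Or.inr ⟨k, t, e, P, f₁, hq, ht, ht3, hex, hf₁, hT, rfl⟩))),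
      le_inf (hHK.trans h) hH⟩
  | quad hq Q hQ hpol h =>
    exact ⟨_, Or.inl (Or.inr (Or.inr (Or.inr (Or.inr (Or.inr (Or.inr ⟨Q, hq, hQ, hpol, rfl⟩)))))),
      le_inf (hHK.trans h) hH⟩

end Cfsg.Agent.Lib.Helper43.SpAsch
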