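import Mathlib
import Cfsg.Prelude.Def_GeometricClasses
import Cfsg.Agent.Lib.Helper61.AschDefs
import Cfsg.Agent.Lib.Helper43.SpAschDefs

/-!
# More shared vocabulary for S5662 (architect helper43): factor algebras of a tensor power, transport of forms
along a bijection of index types.
-/

set_option autoImplicit false

namespace Cfsg.Agent.Lib.Helper43.SpAsch

open Cfsg Cfsg.Geo
open scoped Matrix Kronecker MatrixGroups

variable {ι κ : Type} [Fintype ι] [DecidableEq ι] [Fintype κ] [DecidableEq κ] {F : Type*} [Field F]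

/-- The matrix on `Fin t → Fin m` of `1 ⊗ … ⊗ x ⊗ … ⊗ 1` (`x` in position `i`). -/
def pureAt (m t : ℕ) (i : Fin t) (x : Matrix (Fin m) (Fin m) F) : Matrix (Fin t → Fin m) (Fin t → Fin m) F :=
  fun u v => if ∀ j, j ≠ i → u j = v j then x (u i) (v i) else 0

/-- The `i`-th factor of the tensor power structure `(e, P)`, as a set of matrices: all
`P (1 ⊗ … ⊗ x ⊗ … ⊗ 1) P⁻¹`. -/
def factorSet (m t : ℕ) (e : ι ≃ (Fin t → Fin m)) (P : GL ι F) (i : Fin t) : Set (Matrix ι ι F) :=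
  Set.range fun x : Matrix (Fin m) (Fin m) F =>
    (P : Matrix ι ι F) * Matrix.reindex e.symm e.symm (pureAt m t i x) * ((P⁻¹ : GL ι F) : Matrix ι ι F)

/-- A set of matrices closed under adjoints for `f`. -/
def AdjClosedSet (f : (ι → F) → (ι → F) → F) (S : Set (Matrix ι ι F)) : Prop :=
  ∀ k ∈ S, ∃ k' ∈ S, ∀ u v : ι → F, f (k *ᵥ u) v = f u (k' *ᵥ v)


/-- `K` lies in the similarity group of a non-degenerate quadratic form whose polar form is `f`. -/
def QuadFor (f : (ι → F) → (ι → F) → F) (K : Subgroup (GL ι F)) : Prop :=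
  ∃ Q : (ι → F) → F, IsNondegenerateQuadraticForm Q ∧ (∀ u v, QuadraticMap.polar Q u v = f u v) ∧
    K ≤ quadSimilarityGroup Q

theorem QuadFor.sgeom [Fintype F] {f : (ι → F) → (ι → F) → F} {K : Subgroup (GL ι F)} (h : QuadFor f K)
    (hq : ¬ Odd (Fintype.card F)) : SGeom f K := by
  obtain ⟨Q, hQ, hpol, hK⟩ := h
  exact .quad hq Q hQ hpol hK

theorem QuadFor.mono {f : (ι → F) → (ι → F) → F} {K K' : Subgroup (GL ι F)} (h : QuadFor f K) (hK : K' ≤ K) :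
    QuadFor f K' := by
  obtain ⟨Q, hQ, hpol, h⟩ := h
  exact ⟨Q, hQ, hpol, hK.trans h⟩

/-- In the coordinates `(e, P)` the form `f` has Gram matrix `G₁ ⊗ G₂`. -/
def IsKronForm (f : (ι → F) → (ι → F) → F) (a b : ℕ) (e : ι ≃ Fin a × Fin b) (P : GL ι F)
    (G₁ : Matrix (Fin a) (Fin a) F) (G₂ : Matrix (Fin b) (Fin b) F) : Prop :=
  ∀ x y : Fin a × Fin b → F,
    f ((P : Matrix ι ι F) *ᵥ (x ∘ e)) ((P : Matrix ι ι F) *ᵥ (y ∘ e)) = formOfGram id (G₁ ⊗ₖ G₂) x y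

/-- `k = P (k₁ ⊗ k₂) P⁻¹` with `k₁`, `k₂` similarities of the Gram matrices `G₁`, `G₂`. -/
def KronSim (a b : ℕ) (e : ι ≃ Fin a × Fin b) (P : GL ι F) (G₁ : Matrix (Fin a) (Fin a) F)
    (G₂ : Matrix (Fin b) (Fin b) F) (k : GL ι F) : Prop :=
  ∃ (k₁ : GL (Fin a) F) (k₂ : GL (Fin b) F) (g : GL (Fin a × Fin b) F) (c₁ c₂ : F),
    (g : Matrix (Fin a × Fin b) (Fin a × Fin b) F) =
      (k₁ : Matrix (Fin a) (Fin a) F) ⊗ₖ (k₂ : Matrix (Fin b) (Fin b) F) ∧
    k = P * glReindex e.symm g * P⁻¹ ∧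
    (k₁ : Matrix (Fin a) (Fin a) F)ᵀ * G₁ * (k₁ : Matrix (Fin a) (Fin a) F) = c₁ • G₁ ∧
    (k₂ : Matrix (Fin b) (Fin b) F)ᵀ * G₂ * (k₂ : Matrix (Fin b) (Fin b) F) = c₂ • G₂

/-- In the coordinates `(e, P)` the form `f` has Gram matrix `c • (G 0 ⊗ … ⊗ G (t-1))`. -/
def IsPowerForm (f : (ι → F) → (ι → F) → F) (m t : ℕ) (e : ι ≃ (Fin t → Fin m)) (P : GL ι F) (c : F)
    (G : Fin t → Matrix (Fin m) (Fin m) F) : Prop :=
  ∀ x y : (Fin t → Fin m) → F,
    f ((P : Matrix ι ι F) *ᵥ (x ∘ e)) ((P : Matrix ι ι F) *ᵥ (y ∘ e)) =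
      c * ∑ a, ∑ b, x a * (∏ i, G i (a i) (b i)) * y b

/-- Transport of a two-argument form along a bijection of index types. -/
def formMap (e : ι ≃ κ) (f : (ι → F) → (ι → F) → F) : (κ → F) → (κ → F) → F :=
  fun u v => f (u ∘ e) (v ∘ e)

/-- Transport of invertible matrices along a bijection of index types (`glReindex` with the direction `ι → κ`). -/
def glMap (e : ι ≃ κ) : GL ι F ≃* GL κ F := glReindex e

theorem glMap_val (e : ι ≃ κ) (g : GL ι F) :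
    ((glMap e g : GL κ F) : Matrix κ κ F) = Matrix.reindex e e (g : Matrix ι ι F) := rfl

theorem glMap_mulVec (e : ι ≃ κ) (g : GL ι F) (v : κ → F) :
    ((glMap e g : GL κ F) : Matrix κ κ F) *ᵥ v = (((g : Matrix ι ι F) *ᵥ (v ∘ e)) ∘ e.symm) := by
  rw [glMap_val]
  funext i
  simp only [Matrix.mulVec, dotProduct, Matrix.reindex_apply, Matrix.submatrix_apply, Function.comp_apply]
  rw [← Equiv.sum_comp e]
  simp

end Cfsg.Agent.Lib.Helper43.SpAsch
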