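import Cfsg.Agent.Lib.Helper06.Hall4.Defs

/-! K-H4 leaf BWa (422120) for S4221, architect helper6: the involutions of the coset `x H`
(`H` of odd order, normalised by the involution `x`) are the `H`-conjugates of `x`. -/

set_option autoImplicit false
open Equiv

namespace Cfsg.Agent.Lib.Helper43.Hall4
open Cfsg.Agent.Lib.Helper06.Hall4

section BW
variable {Γ : Type*} [Group Γ] [Finite Γ]

theorem odd_orderOf_of_mem (H : Subgroup Γ) (hH : Odd (Nat.card H)) {u : Γ} (hu : u ∈ H) :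
    Odd (orderOf u) :=
  Odd.of_dvd_nat hH (Subgroup.orderOf_dvd_natCard H hu)

omit [Finite Γ] in
theorem inv_eq_self_of_sq {a : Γ} (h : a * a = 1) : a⁻¹ = a := inv_eq_of_mul_eq_one_right h

omit [Finite Γ] in
/-- conjugates of `x` under `H` lie in `InvCoset x H` -/
theorem conj_mem_invCoset (H : Subgroup Γ) {x : Γ} (x2 : x * x = 1)
    (hxH : ∀ g ∈ H, x * g * x⁻¹ ∈ H) {g : Γ} (hg : g ∈ H) : g * x * g⁻¹ ∈ InvCoset x H := by
  have hxi : x⁻¹ = x := inv_eq_self_of_sq x2
  refine ⟨?_, ?_⟩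
  · have h1 : x⁻¹ * (g * x * g⁻¹) = (x * g * x⁻¹) * g⁻¹ := by
      rw [hxi]; group
    rw [h1]
    exact H.mul_mem (hxH g hg) (H.inv_mem hg)
  · calc g * x * g⁻¹ * (g * x * g⁻¹) = g * (x * x) * g⁻¹ := by group
      _ = 1 := by rw [x2]; group

theorem exists_conj_of_mem_invCoset (H : Subgroup Γ) (hH : Odd (Nat.card H)) {x : Γ}
    (x2 : x * x = 1) (hxH : ∀ g ∈ H, x * g * x⁻¹ ∈ H) {s : Γ} (hs : s ∈ InvCoset x H) :
    ∃ g ∈ H, g * x * g⁻¹ = s := by
  obtain ⟨hu, s2⟩ := hs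
  have hxi : x⁻¹ = x := inv_eq_self_of_sq x2
  set u : Γ := x⁻¹ * s with hu_def
  have hsu : s = x * u := by rw [hu_def]; group
  -- `x u x⁻¹ = u⁻¹`
  have hinv : x * u * x⁻¹ = u⁻¹ := by
    have h1 : x * u * (x * u) = 1 := by rw [← hsu]; exact s2
    have h2 : x * u * x = u⁻¹ := by
      have : (x * u * x) * u = 1 := by rw [← h1]; group
      exact eq_inv_of_mul_eq_one_left this
    rw [hxi]; exact h2
  obtain ⟨j, hj⟩ := odd_orderOf_of_mem H hH hu
  set v : Γ := u ^ (j + 1) with hv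
  have hvH : v ∈ H := H.pow_mem hu _
  have hvv : v * v = u := by
    rw [hv, ← pow_add]
    have : j + 1 + (j + 1) = orderOf u + 1 := by omega
    rw [this, pow_succ, pow_orderOf_eq_one, one_mul]
  have hxv : x * v * x⁻¹ = v⁻¹ := by
    rw [hv, ← inv_pow, ← hinv]
    exact (conj_pow (a := x) (b := u) (i := j + 1)).symm ▸ rfl
  refine ⟨v⁻¹, H.inv_mem hvH, ?_⟩
  -- `v⁻¹ x v = v⁻¹ v⁻¹ x = u⁻¹ x = x u`
  have h3 : x * v = v⁻¹ * x := by
    have := congrArg (· * x) hxv
    simp only [inv_mul_cancel_right] at this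
    exact this
  have h4 : x * u = u⁻¹ * x := by
    have := congrArg (· * x) hinv
    simp only [inv_mul_cancel_right] at this
    exact this
  calc v⁻¹ * x * v⁻¹⁻¹ = v⁻¹ * (x * v) := by group
    _ = v⁻¹ * (v⁻¹ * x) := by rw [h3]
    _ = (v * v)⁻¹ * x := by group
    _ = u⁻¹ * x := by rw [hvv]
    _ = s := by rw [← h4, ← hsu]

theorem card_invCoset (H : Subgroup Γ) (hH : Odd (Nat.card H)) {x : Γ}
    (x2 : x * x = 1) (hxH : ∀ g ∈ H, x * g * x⁻¹ ∈ H) :
    (InvCoset x H).ncard * Nat.card (H ⊓ Subgroup.centralizer {x} : Subgroup Γ) = Nat.card H := by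
  classical
  letI act : MulAction ↥H Γ := MulAction.compHom Γ ((MulAut.conj (G := Γ)).comp H.subtype)
  have hsmul : ∀ (g : ↥H) (y : Γ), g • y = (g : Γ) * y * (g : Γ)⁻¹ := fun g y => rfl
  have horb : MulAction.orbit ↥H x = InvCoset x H := by
    ext s
    constructor
    · rintro ⟨g, rfl⟩
      exact conj_mem_invCoset H x2 hxH g.2
    · intro hs
      obtain ⟨g, hg, hgs⟩ := exists_conj_of_mem_invCoset H hH x2 hxH hs
      exact ⟨⟨g, hg⟩, hgs⟩
  have hstab : MulAction.stabilizer ↥H x =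
      (H ⊓ Subgroup.centralizer {x} : Subgroup Γ).subgroupOf H := by
    ext g
    rw [MulAction.mem_stabilizer_iff, Subgroup.mem_subgroupOf, Subgroup.mem_inf, hsmul,
      mem_centralizer_one]
    constructor
    · intro h
      refine ⟨g.2, ?_⟩
      have := congrArg (· * (g : Γ)) h
      simp only [inv_mul_cancel_right] at this
      exact this.symm
    · rintro ⟨-, h⟩
      rw [← h]; group
  have h1 := Subgroup.index_mul_card (MulAction.stabilizer ↥H x)
  rw [MulAction.index_stabilizer, horb, hstab] at h1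
  rw [← h1]
  congr 1
  exact (Nat.card_congr (Subgroup.subgroupOfEquivOfLe (inf_le_left)).toEquiv).symm

end BW

end Cfsg.Agent.Lib.Helper43.Hall4
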