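import Cfsg.Agent.Lib.Helper43.H4BWa

/-! K-H4 leaf BWb (422121) for S4221, architect helper6: for `s ∈ InvCoset x H`, `t ∈ InvCoset y H`
there is a unique `w ∈ InvCoset (x*y) H` commuting with `s` and `t`. -/

set_option autoImplicit false
open Equiv

namespace Cfsg.Agent.Lib.Helper43.Hall4
open Cfsg.Agent.Lib.Helper06.Hall4

section BW
variable {Γ : Type*} [Group Γ] [Finite Γ]

omit [Finite Γ] in
/-- the product of two elements of the coset `c H` lies in `H` when `c * c = 1` and `c` normalises `H` -/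
theorem mul_mem_of_coset (H : Subgroup Γ) {c : Γ} (c2 : c * c = 1)
    (hcH : ∀ g ∈ H, c * g * c⁻¹ ∈ H) {a b : Γ} (ha : c⁻¹ * a ∈ H) (hb : c⁻¹ * b ∈ H) :
    a * b ∈ H := by
  have h1 : a * b = (c * (c⁻¹ * a) * c⁻¹) * (c⁻¹ * b) := by
    have e1 : (c * (c⁻¹ * a) * c⁻¹) * (c⁻¹ * b) = a * (c * c)⁻¹ * b := by group
    rw [e1, c2, inv_one, mul_one]
  rw [h1]
  exact H.mul_mem (hcH _ ha) hb

theorem existsUnique_central (H : Subgroup Γ) (hH : Odd (Nat.card H)) {x y : Γ}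
    (x2 : x * x = 1) (y2 : y * y = 1) (comm : x * y = y * x)
    (hxH : ∀ g ∈ H, x * g * x⁻¹ ∈ H) (hyH : ∀ g ∈ H, y * g * y⁻¹ ∈ H) {s t : Γ}
    (hs : s ∈ InvCoset x H) (ht : t ∈ InvCoset y H) :
    ∃! w : Γ, w ∈ InvCoset (x * y) H ∧ w * s = s * w ∧ w * t = t * w := by
  obtain ⟨hsH, s2⟩ := hs
  obtain ⟨htH, t2⟩ := ht
  have hxi : x⁻¹ = x := inv_eq_self_of_sq x2
  have hyi : y⁻¹ = y := inv_eq_self_of_sq y2
  have hsi : s⁻¹ = s := inv_eq_self_of_sq s2
  have hti : t⁻¹ = t := inv_eq_self_of_sq t2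
  -- `c = x * y`
  obtain ⟨c, hc⟩ : ∃ c : Γ, c = x * y := ⟨_, rfl⟩
  rw [← hc]
  have c2 : c * c = 1 := by
    rw [hc]
    calc x * y * (x * y) = x * (y * x) * y := by group
      _ = x * (x * y) * y := by rw [comm]
      _ = (x * x) * (y * y) := by group
      _ = 1 := by rw [x2, y2, one_mul]
  have hci : c⁻¹ = c := inv_eq_self_of_sq c2
  have hcH : ∀ g ∈ H, c * g * c⁻¹ ∈ H := by
    intro g hg
    have : c * g * c⁻¹ = x * (y * g * y⁻¹) * x⁻¹ := by rw [hc]; group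
    rw [this]
    exact hxH _ (hyH g hg)
  -- `w₀ = s * t` lies in the coset `c H`
  set w₀ : Γ := s * t with hw₀
  have hw₀c : c⁻¹ * w₀ ∈ H := by
    have : c⁻¹ * w₀ = (y * (x⁻¹ * s) * y⁻¹) * (y⁻¹ * t) := by
      have e1 : (y * (x⁻¹ * s) * y⁻¹) * (y⁻¹ * t) = y * x⁻¹ * s * (y * y)⁻¹ * t := by group
      rw [e1, y2, inv_one, mul_one, hc, mul_inv_rev, hyi, hw₀]
      group
    rw [this]
    exact H.mul_mem (hyH _ hsH) htH
  have hzH : w₀ * w₀ ∈ H := mul_mem_of_coset H c2 hcH hw₀c hw₀c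
  obtain ⟨j, hj⟩ := odd_orderOf_of_mem H hH hzH
  set m : ℕ := orderOf (w₀ * w₀) with hm
  have hzm : (w₀ * w₀) ^ m = 1 := pow_orderOf_eq_one _
  have hw₀inv : w₀⁻¹ = t * s := by rw [hw₀, mul_inv_rev, hsi, hti]
  have hsw₀ : s * w₀ * s⁻¹ = w₀⁻¹ := by
    rw [hw₀inv, hw₀, hsi]
    calc s * (s * t) * s = (s * s) * t * s := by group
      _ = t * s := by rw [s2, one_mul]
  have htw₀ : t * w₀ * t⁻¹ = w₀⁻¹ := by
    rw [hw₀inv, hw₀, hti]
    calc t * (s * t) * t = t * s * (t * t) := by group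
      _ = t * s := by rw [t2, mul_one]
  set w : Γ := w₀ ^ m with hw
  have hww : w * w = 1 := by
    rw [hw, ← pow_add, ← two_mul, pow_mul, pow_two, hzm]
  have hwi : w⁻¹ = w := inv_eq_self_of_sq hww
  have hwc : c⁻¹ * w ∈ H := by
    have : w = w₀ * (w₀ * w₀) ^ j := by
      rw [hw, hj, pow_succ', ← pow_two, ← pow_mul]
    rw [this, ← mul_assoc]
    exact H.mul_mem hw₀c (H.pow_mem hzH _)
  have hws : w * s = s * w := by
    have h1 : s * w * s⁻¹ = w := by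
      rw [hw, ← conj_pow, hsw₀, inv_pow, ← hw, hwi]
    have := congrArg (· * s) h1
    simp only [inv_mul_cancel_right] at this
    exact this.symm
  have hwt : w * t = t * w := by
    have h1 : t * w * t⁻¹ = w := by
      rw [hw, ← conj_pow, htw₀, inv_pow, ← hw, hwi]
    have := congrArg (· * t) h1
    simp only [inv_mul_cancel_right] at this
    exact this.symm
  refine ⟨w, ⟨⟨hwc, hww⟩, hws, hwt⟩, ?_⟩
  rintro w' ⟨⟨hw'c, hw'2⟩, hw's, hw't⟩
  have hw'i : w'⁻¹ = w' := inv_eq_self_of_sq hw'2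
  -- `u = w' * w₀ ∈ H`
  have huH : w' * w₀ ∈ H := mul_mem_of_coset H c2 hcH hw'c hw₀c
  have hcomm0 : w' * w₀ = w₀ * w' := by
    rw [hw₀, ← mul_assoc, hw's, mul_assoc, hw't, ← mul_assoc]
  set u : Γ := w' * w₀ with hu
  have hcommu : Commute w' u := by
    show w' * u = u * w'
    rw [hu, mul_assoc, ← hcomm0]
  have hw₀u : w₀ = w' * u := by
    rw [hu, ← mul_assoc, hw'2, one_mul]
  have huu : u * u = w₀ * w₀ := by
    rw [hw₀u]
    calc u * u = (w' * w') * (u * u) := by rw [hw'2, one_mul]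
      _ = w' * (w' * u) * u := by group
      _ = w' * (u * w') * u := by rw [hcommu.eq]
      _ = w' * u * (w' * u) := by group
  have hum : u ^ m = 1 := by
    have h1 : u ^ (2 * m) = 1 := by
      rw [pow_mul, pow_two, huu, hzm]
    have h2 : orderOf u ∣ 2 * m := orderOf_dvd_of_pow_eq_one h1
    have h3 : Odd (orderOf u) := odd_orderOf_of_mem H hH huH
    have h4 : (orderOf u).Coprime 2 := Nat.Coprime.symm (Nat.coprime_two_left.2 h3)
    exact orderOf_dvd_iff_pow_eq_one.1 (h4.dvd_of_dvd_mul_left h2)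
  -- `w = w₀^m = w'^m u^m = w'`
  have : w = w' := by
    rw [hw, hw₀u, hcommu.mul_pow, hum, mul_one, hj, pow_succ, pow_mul, pow_two, hw'2, one_pow,
      one_mul]
  exact this.symm

end BW

end Cfsg.Agent.Lib.Helper43.Hall4
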