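import Mathlib

set_option autoImplicit false

namespace Cfsg.Agent.Lib.Helper43

open Equiv Equiv.Perm

variable {α : Type*} [Fintype α] [DecidableEq α]

/-- `x` is the 3-cycle `a → b → c → a`. -/
def Cyc3 (x : Perm α) (a b c : α) : Prop :=
  x.IsThreeCycle ∧ x a = b ∧ x b = c ∧ a ≠ b

namespace Cyc3

variable {x y : Perm α} {a b c d : α}

theorem isThreeCycle (h : Cyc3 x a b c) : x.IsThreeCycle := h.1
theorem apply_a (h : Cyc3 x a b c) : x a = b := h.2.1
theorem apply_b (h : Cyc3 x a b c) : x b = c := h.2.2.1
theorem ne_ab (h : Cyc3 x a b c) : a ≠ b := h.2.2.2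

theorem cube (hx : x.IsThreeCycle) (p : α) : x (x (x p)) = p := by
  have h := pow_orderOf_eq_one x
  rw [hx.orderOf] at h
  have := congrArg (fun f : Perm α => f p) h
  simpa [pow_succ] using this

theorem apply_c (h : Cyc3 x a b c) : x c = a := by
  have := cube h.1 a
  rw [h.apply_a, h.apply_b] at this
  exact this

theorem ne_bc (h : Cyc3 x a b c) : b ≠ c := by
  intro hbc
  apply h.ne_ab
  have h1 : x a = x b := by rw [h.apply_a, h.apply_b]; exact hbc
  exact x.injective h1

theorem ne_ca (h : Cyc3 x a b c) : c ≠ a := by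
  intro hca
  apply h.ne_bc
  have h1 : x b = x c := by rw [h.apply_b, h.apply_c]; exact hca
  exact x.injective h1

theorem rotate (h : Cyc3 x a b c) : Cyc3 x b c a :=
  ⟨h.1, h.apply_b, h.apply_c, h.ne_bc⟩

theorem mem_support (h : Cyc3 x a b c) : a ∈ x.support := by
  rw [Perm.mem_support, h.apply_a]; exact h.ne_ab.symm

theorem support_eq (h : Cyc3 x a b c) : x.support = {a, b, c} := by
  have := (h.1.support_eq_iff_mem_support (a := a)).2 h.mem_support
  rw [h.apply_a, h.apply_b] at this
  exact this

/-- points outside `{a, b, c}` are fixed -/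
theorem apply_of_ne (h : Cyc3 x a b c) {p : α} (ha : p ≠ a) (hb : p ≠ b) (hc : p ≠ c) :
    x p = p := by
  by_contra hp
  have : p ∈ x.support := Perm.mem_support.2 hp
  rw [h.support_eq] at this
  simp only [Finset.mem_insert, Finset.mem_singleton] at this
  rcases this with h | h | h
  · exact ha h
  · exact hb h
  · exact hc h

theorem eq_of_apply_ne (h : Cyc3 x a b c) {p : α} (hp : x p ≠ p) : p = a ∨ p = b ∨ p = c := by
  by_contra hcon
  push Not at hcon
  exact hp (h.apply_of_ne hcon.1 hcon.2.1 hcon.2.2)

/-- a permutation acting as `a → b → c → a` and fixing everything else is the 3-cycle -/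
theorem eq_of_spec (h : Cyc3 x a b c) {f : Perm α} (fa : f a = b) (fb : f b = c) (fc : f c = a)
    (fo : ∀ p, p ≠ a → p ≠ b → p ≠ c → f p = p) : f = x := by
  ext p
  by_cases ha : p = a
  · rw [ha, fa, h.apply_a]
  by_cases hb : p = b
  · rw [hb, fb, h.apply_b]
  by_cases hc : p = c
  · rw [hc, fc, h.apply_c]
  rw [fo p ha hb hc, h.apply_of_ne ha hb hc]

theorem unique (h : Cyc3 x a b c) (h' : Cyc3 y a b c) : y = x :=
  h.eq_of_spec h'.apply_a h'.apply_b h'.apply_c (fun _ ha hb hc => h'.apply_of_ne ha hb hc)

theorem inv (h : Cyc3 x a b c) : Cyc3 x⁻¹ a c b := by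
  refine ⟨h.1.inv, ?_, ?_, h.ne_ca.symm⟩
  · rw [Perm.inv_eq_iff_eq]; exact h.apply_c.symm
  · rw [Perm.inv_eq_iff_eq]; exact h.apply_b.symm

theorem of_isThreeCycle (hx : x.IsThreeCycle) {p : α} (hp : x p ≠ p) : Cyc3 x p (x p) (x (x p)) :=
  ⟨hx, rfl, rfl, fun h => hp h.symm⟩

/-- the 3-cycle on three distinct points -/
theorem exists_cyc3 (hab : a ≠ b) (hbc : b ≠ c) (hca : c ≠ a) : ∃ x : Perm α, Cyc3 x a b c := by
  refine ⟨swap b a * swap b c, isThreeCycle_swap_mul_swap_same hab.symm hbc hca.symm, ?_, ?_, hab⟩
  · rw [Perm.mul_apply, swap_apply_of_ne_of_ne hab hca.symm, swap_apply_right]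
  · rw [Perm.mul_apply, swap_apply_left, swap_apply_of_ne_of_ne hbc.symm hca]

theorem conj (h : Cyc3 x a b c) (σ : Perm α) : Cyc3 (σ * x * σ⁻¹) (σ a) (σ b) (σ c) := by
  refine ⟨?_, ?_, ?_, fun hh => h.ne_ab (σ.injective hh)⟩
  · have : (σ * x * σ⁻¹).cycleType = x.cycleType := Perm.cycleType_conj
    unfold IsThreeCycle
    rw [this]; exact h.1
  · simp [h.apply_a]
  · simp [h.apply_b]

end Cyc3

/-- Two 3-cycles whose product is an involution (and which are not inverse to each other) share a
directed edge. -/
theorem exists_shared_edge {x y : Perm α} (hx : x.IsThreeCycle) (hy : y.IsThreeCycle)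
    (hxy : (x * y) * (x * y) = 1) (hne : y ≠ x⁻¹) : ∃ p, x p ≠ p ∧ y p = x p := by
  -- pointwise form of `x y x y = 1`
  have key : ∀ p, x (y (x (y p))) = p := by
    intro p
    have := congrArg (fun f : Perm α => f p) hxy
    simpa only [Perm.mul_apply, Perm.one_apply] using this
  have key' : ∀ p, y (x (y (x p))) = p := by
    intro p
    apply x.injective
    rw [key (x p)]
  by_cases h1 : ∃ p, y p ≠ p ∧ x p = p
  · obtain ⟨p, hyp, hxp⟩ := h1
    -- `y (x (y p)) = p`, so `x (y p) = y (y p)` (as `y^3 = 1`)
    have h2 : y (x (y p)) = p := by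
      have := key' p
      rw [hxp] at this
      exact this
    have h3 : x (y p) = y (y p) := by
      apply y.injective
      rw [h2, Cyc3.cube hy p]
    refine ⟨y p, ?_, h3.symm⟩
    rw [h3]
    intro h4
    exact hyp (y.injective h4)
  by_cases h2 : ∃ p, x p ≠ p ∧ y p = p
  · obtain ⟨p, hxp, hyp⟩ := h2
    have h3 : x (y (x p)) = p := by
      have := key p
      rw [hyp] at this
      exact this
    have h4 : y (x p) = x (x p) := by
      apply x.injective
      rw [h3, Cyc3.cube hx p]
    refine ⟨x p, ?_, h4⟩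
    intro h5
    exact hxp (x.injective h5)
  -- same support
  push Not at h1 h2
  obtain ⟨a, ha⟩ : ∃ a, x a ≠ a := by
    by_contra hcon
    push Not at hcon
    apply hx.ne_one
    ext p; simp [hcon p]
  have hc := Cyc3.of_isThreeCycle hx ha
  have hya : y a ≠ a := h2 a ha
  have hyya : y (y a) ≠ y a := fun h => hya (y.injective h)
  have hxya : x (y a) ≠ y a := h1 _ hyya
  rcases hc.eq_of_apply_ne hxya with h | h | h
  · exact absurd h hya
  · exact ⟨a, ha, h⟩
  · -- `y a = c`; then `y = x⁻¹`
    exfalso
    apply hne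
    have hyc : y (y a) ≠ a := by
      intro h'
      have := Cyc3.cube hy a
      rw [h'] at this
      exact hya this
    have hyyya : y (y (y a)) ≠ y (y a) := fun h' => hyya (y.injective h')
    have hxyya : x (y (y a)) ≠ y (y a) := h1 _ hyyya
    have hyyab : y (y a) = x a := by
      rcases hc.eq_of_apply_ne hxyya with h' | h' | h'
      · exact absurd h' hyc
      · exact h'
      · rw [← h] at h'
        exact absurd h' hyya
    apply (hc.inv).eq_of_spec
    · exact h
    · rw [← h]; exact hyyab
    · rw [← hyyab]; exact Cyc3.cube hy a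
    · intro p hpa hpc hpb
      by_contra hyp
      have := h1 p hyp
      rcases hc.eq_of_apply_ne this with h' | h' | h'
      · exact hpa h'
      · exact hpb h'
      · exact hpc h'

/-- If the 3-cycles `x = (a b c)`, `y = (a b d)` (`c ≠ d`) both share a directed edge with the
3-cycle `z`, then `z` contains the edge `a → b`. -/
theorem common_edge {x y z : Perm α} {a b c d : α} (hx : Cyc3 x a b c) (hy : Cyc3 y a b d)
    (hcd : c ≠ d) (hz : z.IsThreeCycle) (hxz : ∃ p, x p ≠ p ∧ z p = x p)
    (hyz : ∃ p, y p ≠ p ∧ z p = y p) : z a = b := by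
  obtain ⟨p, hp, hzp⟩ := hxz
  obtain ⟨q, hq, hzq⟩ := hyz
  have hab := hx.ne_ab
  have hbc := hx.ne_bc
  have hca := hx.ne_ca
  have hbd := hy.ne_bc
  have hda := hy.ne_ca
  rcases hx.eq_of_apply_ne hp with rfl | rfl | rfl
  · rw [hzp, hx.apply_a]
  · rcases hy.eq_of_apply_ne hq with rfl | rfl | rfl
    · rw [hzq, hy.apply_a]
    · exfalso
      rw [hx.apply_b] at hzp
      rw [hy.apply_b] at hzq
      exact hcd (hzp.symm.trans hzq)
    · -- `z p = c`, `z q = a` with `p = b`, `q = d`
      exfalso
      rw [hx.apply_b] at hzp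
      rw [hy.apply_c] at hzq
      have hz3 : Cyc3 z p c (z c) := by
        have := Cyc3.of_isThreeCycle hz (p := p) (by rw [hzp]; exact hbc.symm)
        rw [hzp] at this
        exact this
      -- `q` is moved by `z`
      have hq' : z q ≠ q := by rw [hzq]; exact hda.symm
      -- `a` is moved by `z`
      have ha' : z a ≠ a := by
        intro h
        have : z q = z a := by rw [hzq, h]
        exact hda (z.injective this)
      have hqc : q = z c := by
        rcases hz3.eq_of_apply_ne hq' with h | h | h
        · exact absurd h hbd.symm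
        · exact absurd h hcd.symm
        · exact h
      have hac : a = z c := by
        rcases hz3.eq_of_apply_ne ha' with h | h | h
        · exact absurd h hab
        · exact absurd h hca.symm
        · exact h
      exact hda (hqc.trans hac.symm)
  · rcases hy.eq_of_apply_ne hq with rfl | rfl | rfl
    · rw [hzq, hy.apply_a]
    · -- `z p = a` (p = c), `z q = d` (q = b)
      exfalso
      rw [hx.apply_c] at hzp
      rw [hy.apply_b] at hzq
      have hz3 : Cyc3 z q d (z d) := by
        have := Cyc3.of_isThreeCycle hz (p := q) (by rw [hzq]; exact hbd.symm)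
        rw [hzq] at this
        exact this
      have hp' : z p ≠ p := by rw [hzp]; exact hca.symm
      have ha' : z a ≠ a := by
        intro h
        have : z p = z a := by rw [hzp, h]
        exact hca (z.injective this)
      have hpc : p = z d := by
        rcases hz3.eq_of_apply_ne hp' with h | h | h
        · exact absurd h hbc.symm
        · exact absurd h hcd
        · exact h
      have hac : a = z d := by
        rcases hz3.eq_of_apply_ne ha' with h | h | h
        · exact absurd h hab
        · exact absurd h hda.symm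
        · exact h
      exact hca (hpc.trans hac.symm)
    · exfalso
      rw [hx.apply_c] at hzp
      rw [hy.apply_c] at hzq
      exact hcd (z.injective (hzp.trans hzq.symm))

/-- The alternating group is generated by the 3-cycles `(o i k)` through a fixed directed edge. -/
theorem alternatingGroup_le_closure_cyc3 (o i : α) (hoi : o ≠ i) :
    alternatingGroup α ≤ Subgroup.closure {x : Perm α | ∃ k, Cyc3 x o i k} := by
  set S := Subgroup.closure {x : Perm α | ∃ k, Cyc3 x o i k} with hS
  -- step 1: 3-cycles starting at `o`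
  have step1 : ∀ (x : Perm α) (b c : α), Cyc3 x o b c → x ∈ S := by
    intro x b c hx
    by_cases hbi : b = i
    · subst hbi
      exact Subgroup.subset_closure ⟨c, hx⟩
    by_cases hci : c = i
    · subst hci
      rw [← inv_mem_iff]
      exact Subgroup.subset_closure ⟨b, hx.inv⟩
    have hob := hx.ne_ab
    have hbc := hx.ne_bc
    have hco := hx.ne_ca
    obtain ⟨y, hy⟩ := Cyc3.exists_cyc3 (a := o) (b := i) (c := c) hoi (Ne.symm hci) hco
    obtain ⟨z, hz⟩ := Cyc3.exists_cyc3 (a := o) (b := i) (c := b) hoi (Ne.symm hbi) hob.symm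
    have hzi := hz.inv
    have hxe : y * z⁻¹ = x := by
      apply hx.eq_of_spec
      · rw [Perm.mul_apply, hzi.apply_a, hy.apply_of_ne hob.symm hbi hbc]
      · rw [Perm.mul_apply, hzi.apply_b, hy.apply_b]
      · rw [Perm.mul_apply, hzi.apply_of_ne hco hbc.symm hci, hy.apply_c]
      · intro p hpo hpb hpc
        by_cases hpi : p = i
        · subst hpi
          rw [Perm.mul_apply, hzi.apply_c, hy.apply_a]
        · rw [Perm.mul_apply, hzi.apply_of_ne hpo hpb hpi, hy.apply_of_ne hpo hpi hpc]
    rw [← hxe]
    exact S.mul_mem (Subgroup.subset_closure ⟨c, hy⟩) (S.inv_mem (Subgroup.subset_closure ⟨b, hz⟩))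
  -- step 2: all 3-cycles
  have step2 : ∀ (x : Perm α) (a b c : α), Cyc3 x a b c → x ∈ S := by
    intro x a b c hx
    by_cases hao : a = o
    · subst hao; exact step1 x b c hx
    by_cases hbo : b = o
    · subst hbo; exact step1 x c a hx.rotate
    by_cases hco : c = o
    · subst hco; exact step1 x a b hx.rotate.rotate
    have hab := hx.ne_ab
    have hbc := hx.ne_bc
    have hca := hx.ne_ca
    obtain ⟨y, hy⟩ := Cyc3.exists_cyc3 (a := o) (b := a) (c := b) (Ne.symm hao) hab hbo
    obtain ⟨z, hz⟩ := Cyc3.exists_cyc3 (a := o) (b := b) (c := c) (Ne.symm hbo) hbc hco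
    have hxe : y * z = x := by
      apply hx.eq_of_spec
      · rw [Perm.mul_apply, hz.apply_of_ne hao hab hca.symm, hy.apply_b]
      · rw [Perm.mul_apply, hz.apply_b, hy.apply_of_ne hco hca hbc.symm]
      · rw [Perm.mul_apply, hz.apply_c, hy.apply_a]
      · intro p hpa hpb hpc
        by_cases hpo : p = o
        · subst hpo
          rw [Perm.mul_apply, hz.apply_a, hy.apply_c]
        · rw [Perm.mul_apply, hz.apply_of_ne hpo hpb hpc, hy.apply_of_ne hpo hpa hpb]
    rw [← hxe]
    exact S.mul_mem (step1 y a b hy) (step1 z b c hz)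
  rw [← Equiv.Perm.closure_three_cycles_eq_alternating, Subgroup.closure_le]
  intro x hx
  have hx3 : x.IsThreeCycle := hx
  obtain ⟨a, ha⟩ : ∃ a, x a ≠ a := by
    by_contra hcon
    push Not at hcon
    apply hx3.ne_one
    ext p; simp [hcon p]
  exact step2 x _ _ _ (Cyc3.of_isThreeCycle hx3 ha)

end Cfsg.Agent.Lib.Helper43
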