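import Mathlib
import Cfsg.Agent.Lib.Helper43.ThreeCycle

set_option autoImplicit false

namespace Cfsg.Agent.Lib.Helper43

open Equiv Equiv.Perm Nat

/-- centralizer cardinality for cycle type `3^k` -/
lemma card_centralizer_of_cycleType {n : ℕ} {g : Perm (Fin n)} {k : ℕ} (hk : 1 ≤ k)
    (hg : g.cycleType = Multiset.replicate k 3) :
    Nat.card (Subgroup.centralizer {g}) = (n - 3 * k).factorial * 3 ^ k * k.factorial := by
  have hk0 : k ≠ 0 := by omega
  rw [Equiv.Perm.nat_card_centralizer, hg, Multiset.toFinset_replicate, if_neg hk0]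
  simp [Multiset.sum_replicate, Multiset.prod_replicate, Multiset.count_replicate_self, mul_comm]

lemma card_centralizer_alt_le {n : ℕ} (x : alternatingGroup (Fin n)) :
    Nat.card (Subgroup.centralizer {x}) ≤
      Nat.card (Subgroup.centralizer {(x : Perm (Fin n))}) := by
  apply Nat.card_le_card_of_injective
    (fun g : Subgroup.centralizer {x} => (⟨(g : alternatingGroup (Fin n)), by
      have := Subgroup.mem_centralizer_singleton_iff.1 g.2
      rw [Subgroup.mem_centralizer_singleton_iff]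
      have h2 := congrArg Subtype.val this
      simpa using h2⟩ : Subgroup.centralizer {(x : Perm (Fin n))}))
  intro g h hgh
  have := congrArg Subtype.val hgh
  simp only at this
  exact Subtype.ext (Subtype.ext this)

lemma card_centralizer_le_two_mul {n : ℕ} (hn : 2 ≤ n) (x : alternatingGroup (Fin n)) :
    Nat.card (Subgroup.centralizer {(x : Perm (Fin n))}) ≤
      2 * Nat.card (Subgroup.centralizer {x}) := by
  set C := Subgroup.centralizer {(x : Perm (Fin n))} with hC
  have : Nontrivial (Fin n) := Fin.nontrivial_iff_two_le.2 hn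
  have hidx : (alternatingGroup (Fin n)).relIndex C ∣ 2 := by
    have := Subgroup.relIndex_dvd_index_of_normal (alternatingGroup (Fin n)) C
    rwa [alternatingGroup.index_eq_two] at this
  have hle2 : (alternatingGroup (Fin n)).relIndex C ≤ 2 := Nat.le_of_dvd (by norm_num) hidx
  have hcard : Nat.card ((alternatingGroup (Fin n)).subgroupOf C) *
      ((alternatingGroup (Fin n)).subgroupOf C).index = Nat.card C :=
    Subgroup.card_mul_index _
  have hinj : Nat.card ((alternatingGroup (Fin n)).subgroupOf C) ≤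
      Nat.card (Subgroup.centralizer {x}) := by
    apply Nat.card_le_card_of_injective
      (fun g : (alternatingGroup (Fin n)).subgroupOf C =>
        (⟨⟨((g : C) : Perm (Fin n)), Subgroup.mem_subgroupOf.1 g.2⟩, by
          rw [Subgroup.mem_centralizer_singleton_iff]
          apply Subtype.ext
          have := Subgroup.mem_centralizer_singleton_iff.1 (g : C).2
          simpa using this⟩ : Subgroup.centralizer {x}))
    intro g h hgh
    have := congrArg (fun z : Subgroup.centralizer {x} => ((z : alternatingGroup (Fin n)) : Perm (Fin n))) hgh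
    simp only at this
    exact Subtype.ext (Subtype.ext this)
  have hrel : ((alternatingGroup (Fin n)).subgroupOf C).index = (alternatingGroup (Fin n)).relIndex C := rfl
  rw [hrel] at hcard
  calc Nat.card C = Nat.card ((alternatingGroup (Fin n)).subgroupOf C) * (alternatingGroup (Fin n)).relIndex C := hcard.symm
    _ ≤ Nat.card (Subgroup.centralizer {x}) * 2 := Nat.mul_le_mul hinj hle2
    _ = 2 * Nat.card (Subgroup.centralizer {x}) := by ring

lemma fact_ineq_step (k m : ℕ) (hk : 2 ≤ k)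
    (h : 2 * (m ! * 3 ^ k * k !) < 3 * (m + 3 * k - 3)!) :
    2 * (m ! * 3 ^ (k + 1) * (k + 1)!) < 3 * (m + 3 * (k + 1) - 3)! := by
  obtain ⟨j, hj⟩ : ∃ j, m + 3 * k = j + 3 := ⟨m + 3 * k - 3, by omega⟩
  have e1 : m + 3 * k - 3 = j := by omega
  have e2 : m + 3 * (k + 1) - 3 = j + 3 := by omega
  rw [e1] at h
  rw [e2]
  have hf : (j + 3)! = (j + 3) * (j + 2) * (j + 1) * j ! := by
    rw [Nat.factorial_succ, Nat.factorial_succ, Nat.factorial_succ]; ring
  have hL : 2 * (m ! * 3 ^ (k + 1) * (k + 1)!) = (2 * (m ! * 3 ^ k * k !)) * (3 * (k + 1)) := by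
    rw [pow_succ, Nat.factorial_succ]; ring
  have hR : 3 * (j + 3)! = (3 * j !) * ((j + 3) * (j + 2) * (j + 1)) := by
    rw [hf]; ring
  rw [hL, hR]
  have hj3 : 3 ≤ j := by omega
  have h1 : k + 1 ≤ j + 3 := by omega
  have h2 : 3 ≤ (j + 2) * (j + 1) := by nlinarith
  have h3 : 3 * (k + 1) ≤ (j + 3) * (j + 2) * (j + 1) := by
    calc 3 * (k + 1) = (k + 1) * 3 := by ring
      _ ≤ (j + 3) * ((j + 2) * (j + 1)) := Nat.mul_le_mul h1 h2
      _ = (j + 3) * (j + 2) * (j + 1) := by ring
  exact Nat.mul_lt_mul_of_lt_of_le h h3 (by positivity)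

lemma fact_ineq_base (m : ℕ) (hm : 1 ≤ m) :
    2 * (m ! * 3 ^ 2 * 2 !) < 3 * (m + 3 * 2 - 3)! := by
  have e : m + 3 * 2 - 3 = m + 3 := by omega
  rw [e]
  have hf : (m + 3)! = (m + 3) * (m + 2) * (m + 1) * m ! := by
    rw [Nat.factorial_succ, Nat.factorial_succ, Nat.factorial_succ]; ring
  rw [hf]
  have hpos : 0 < m ! := Nat.factorial_pos m
  have h24 : 24 ≤ (m + 3) * (m + 2) * (m + 1) := by
    have h4 : 4 ≤ m + 3 := by omega
    have h3 : 3 ≤ m + 2 := by omega
    have h2 : 2 ≤ m + 1 := by omega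
    calc 24 = 4 * 3 * 2 := by norm_num
      _ ≤ (m + 3) * (m + 2) * (m + 1) := Nat.mul_le_mul (Nat.mul_le_mul h4 h3) h2
  have h2f : (2 : ℕ)! = 2 := rfl
  rw [h2f]
  calc 2 * (m ! * 3 ^ 2 * 2) = 36 * m ! := by ring
    _ < 72 * m ! := by omega
    _ = 3 * (24 * m !) := by ring
    _ ≤ 3 * ((m + 3) * (m + 2) * (m + 1) * m !) := by
        apply Nat.mul_le_mul_left
        exact Nat.mul_le_mul_right _ h24

lemma fact_ineq (k m : ℕ) (hk : 2 ≤ k) (hkm : k = 2 → 1 ≤ m) :
    2 * (m ! * 3 ^ k * k !) < 3 * (m + 3 * k - 3)! := by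
  induction k, hk using Nat.le_induction with
  | base => exact fact_ineq_base m (hkm rfl)
  | succ k hk ih =>
    by_cases hm : 1 ≤ m
    · exact fact_ineq_step k m hk (ih (fun _ => hm))
    · have hm0 : m = 0 := by omega
      subst hm0
      by_cases hk2 : k = 2
      · subst hk2
        decide
      · exact fact_ineq_step k 0 hk (ih (fun h => absurd h hk2))


/-- An automorphism of the alternating group of degree `n ≠ 6` maps 3-cycles to 3-cycles. -/
theorem isThreeCycle_map_of_mulEquiv {n : ℕ} (hn6 : n ≠ 6)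
    (θ : alternatingGroup (Fin n) ≃* alternatingGroup (Fin n)) (x : alternatingGroup (Fin n))
    (hx : (x : Perm (Fin n)).IsThreeCycle) :
    ((θ x : alternatingGroup (Fin n)) : Perm (Fin n)).IsThreeCycle := by
  set y := θ x with hy
  have hox : orderOf (x : Perm (Fin n)) = 3 := hx.orderOf
  have hoy : orderOf (y : Perm (Fin n)) = 3 := by
    rw [Subgroup.orderOf_coe, hy, MulEquiv.orderOf_eq, ← Subgroup.orderOf_coe, hox]
  obtain ⟨k', hk'⟩ := cycleType_prime_order (σ := (y : Perm (Fin n))) (by rw [hoy]; norm_num)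
  rw [hoy] at hk'
  rcases Nat.eq_zero_or_pos k' with h0 | hpos
  · subst h0
    unfold IsThreeCycle
    rw [hk']
    rfl
  exfalso
  set k := k' + 1 with hk
  have hk2 : 2 ≤ k := by omega
  have hsum : 3 * k ≤ n := by
    have := sum_cycleType_le (y : Perm (Fin n))
    rw [hk', Multiset.sum_replicate, Fintype.card_fin, smul_eq_mul] at this
    omega
  have hn7 : 7 ≤ n := by omega
  have hcx : Nat.card (Subgroup.centralizer {(x : Perm (Fin n))}) = (n - 3 * 1)! * 3 ^ 1 * 1 ! :=
    card_centralizer_of_cycleType (le_refl 1) (by rw [Multiset.replicate_one]; exact hx)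
  have hcy : Nat.card (Subgroup.centralizer {(y : Perm (Fin n))}) = (n - 3 * k)! * 3 ^ k * k ! :=
    card_centralizer_of_cycleType (by omega) hk'
  have hxy : Nat.card (Subgroup.centralizer {x}) = Nat.card (Subgroup.centralizer {y}) := by
    apply Nat.card_congr
    refine Equiv.subtypeEquiv θ.toEquiv ?_
    intro g
    simp only [MulEquiv.toEquiv_eq_coe, EquivLike.coe_coe]
    rw [Subgroup.mem_centralizer_singleton_iff, Subgroup.mem_centralizer_singleton_iff, hy,
      ← map_mul, ← map_mul]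
    exact ⟨fun h => by rw [h], fun h => θ.injective h⟩
  have h1 := card_centralizer_le_two_mul (by omega : 2 ≤ n) x
  have h2 := card_centralizer_alt_le y
  rw [hcx] at h1
  rw [hcy] at h2
  rw [hxy] at h1
  have h3 := fact_ineq k (n - 3 * k) hk2 (by intro h; omega)
  have e : n - 3 * k + 3 * k - 3 = n - 3 * 1 := by omega
  rw [e] at h3
  have h4 : (n - 3 * 1)! * 3 ^ 1 * 1 ! = 3 * (n - 3 * 1)! := by
    simp [Nat.factorial]; ring
  rw [h4] at h1
  omega

section
variable {α : Type*} [Fintype α] [DecidableEq α]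

theorem cyc3_swap {a b c : α} (hab : a ≠ b) (hbc : b ≠ c) (hca : c ≠ a) :
    Cyc3 (swap b a * swap b c) a b c := by
  refine ⟨isThreeCycle_swap_mul_swap_same hab.symm hbc hca.symm, ?_, ?_, hab⟩
  · rw [Perm.mul_apply, swap_apply_of_ne_of_ne hab hca.symm, swap_apply_right]
  · rw [Perm.mul_apply, swap_apply_left, swap_apply_of_ne_of_ne hbc.symm hca]

/-- `(o i k)(o i l)` is an involution -/
theorem cyc3_mul_cyc3_sq {x y : Perm α} {o i k l : α} (hx : Cyc3 x o i k) (hy : Cyc3 y o i l)
    (hkl : k ≠ l) : (x * y) * (x * y) = 1 := by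
  have hoi := hx.ne_ab
  have hik := hx.ne_bc
  have hko := hx.ne_ca
  have hil := hy.ne_bc
  have hlo := hy.ne_ca
  have f0 : (x * y) o = k := by rw [Perm.mul_apply, hy.apply_a, hx.apply_b]
  have fk : (x * y) k = o := by
    rw [Perm.mul_apply, hy.apply_of_ne hko hik.symm hkl, hx.apply_c]
  have f1 : (x * y) i = l := by
    rw [Perm.mul_apply, hy.apply_b, hx.apply_of_ne hlo hil.symm hkl.symm]
  have fl : (x * y) l = i := by rw [Perm.mul_apply, hy.apply_c, hx.apply_a]
  ext p
  rw [Perm.mul_apply, Perm.one_apply]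
  by_cases h0 : p = o
  · rw [h0, f0, fk]
  by_cases h1 : p = i
  · rw [h1, f1, fl]
  by_cases h2 : p = k
  · rw [h2, fk, f0]
  by_cases h3 : p = l
  · rw [h3, fl, f1]
  have : (x * y) p = p := by
    rw [Perm.mul_apply, hy.apply_of_ne h0 h1 h3, hx.apply_of_ne h0 h1 h2]
  rw [this, this]

end

/-- Every automorphism of the alternating group of degree `n ≥ 4`, `n ≠ 6`, is conjugation by a
permutation. -/
theorem exists_conj_of_mulEquiv_alternatingGroup {n : ℕ} (hn : 4 ≤ n) (hn6 : n ≠ 6)
    (θ : alternatingGroup (Fin n) ≃* alternatingGroup (Fin n)) :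
    ∃ σ : Perm (Fin n), ∀ g : alternatingGroup (Fin n),
      ((θ g : alternatingGroup (Fin n)) : Perm (Fin n)) = σ * (g : Perm (Fin n)) * σ⁻¹ := by
  classical
  let i0 : Fin n := ⟨0, by omega⟩
  let i1 : Fin n := ⟨1, by omega⟩
  let i2 : Fin n := ⟨2, by omega⟩
  let i3 : Fin n := ⟨3, by omega⟩
  have h01 : i0 ≠ i1 := by simp [i0, i1, Fin.ext_iff]
  -- the index type of the generators
  let K := {k : Fin n // k ≠ i0 ∧ k ≠ i1}
  let tt : K → Perm (Fin n) := fun k => swap i1 i0 * swap i1 k.1
  have htt : ∀ k : K, Cyc3 (tt k) i0 i1 k.1 := fun k => cyc3_swap h01 k.2.2.symm k.2.1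
  let T : K → alternatingGroup (Fin n) := fun k => ⟨tt k, (htt k).1.mem_alternatingGroup⟩
  let s : K → Perm (Fin n) := fun k => ((θ (T k) : alternatingGroup (Fin n)) : Perm (Fin n))
  have hs3 : ∀ k, (s k).IsThreeCycle := fun k =>
    isThreeCycle_map_of_mulEquiv hn6 θ (T k) (htt k).1
  have htt_inj : ∀ k l : K, tt k = tt l → k = l := by
    intro k l h
    have h1 := (htt k).apply_b
    rw [h, (htt l).apply_b] at h1
    exact Subtype.ext h1.symm
  have hs_inj : ∀ k l : K, s k = s l → k = l := by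
    intro k l h
    have h1 : θ (T k) = θ (T l) := Subtype.ext h
    have h2 : T k = T l := θ.injective h1
    exact htt_inj k l (congrArg Subtype.val h2)
  have hs_sq : ∀ k l : K, k ≠ l → (s k * s l) * (s k * s l) = 1 := by
    intro k l hkl
    have h1 : (tt k * tt l) * (tt k * tt l) = 1 :=
      cyc3_mul_cyc3_sq (htt k) (htt l) (fun h => hkl (Subtype.ext h))
    have h2 : (T k * T l) * (T k * T l) = 1 := Subtype.ext h1
    have h3 := congrArg θ h2
    rw [map_mul, map_mul, map_one] at h3
    have h4 := congrArg (Subtype.val) h3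
    simpa using h4
  have hs_ne_inv : ∀ k l : K, k ≠ l → s l ≠ (s k)⁻¹ := by
    intro k l hkl h
    have h1 : θ (T l) = θ ((T k)⁻¹) := by
      rw [map_inv]
      exact Subtype.ext h
    have h2 : T l = (T k)⁻¹ := θ.injective h1
    have h3 : tt l = (tt k)⁻¹ := congrArg Subtype.val h2
    have h4 := (htt l).apply_a
    rw [h3, (htt k).inv.apply_a] at h4
    exact k.2.2 h4
  have hshare : ∀ k l : K, k ≠ l → ∃ p, s k p ≠ p ∧ s l p = s k p := fun k l hkl =>
    exists_shared_edge (hs3 k) (hs3 l) (hs_sq k l hkl) (hs_ne_inv k l hkl)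
  let k2 : K := ⟨i2, by simp [i2, i0, i1, Fin.ext_iff]⟩
  let k3 : K := ⟨i3, by simp [i3, i0, i1, Fin.ext_iff]⟩
  have hk23 : k2 ≠ k3 := by
    intro h
    have := congrArg (fun k : K => (k.1 : ℕ)) h
    simp [k2, k3, i2, i3] at this
  obtain ⟨a, ha, hab⟩ := hshare k2 k3 hk23
  set b := s k2 a with hb
  have hx : Cyc3 (s k2) a b (s k2 b) := Cyc3.of_isThreeCycle (hs3 k2) ha
  have hy : Cyc3 (s k3) a b (s k3 b) := ⟨hs3 k3, hab, rfl, hx.ne_ab⟩
  have hcd : s k2 b ≠ s k3 b := by
    intro h
    rw [h] at hx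
    exact hk23 (hs_inj k2 k3 (hy.unique hx))
  have hedge : ∀ k : K, s k a = b := by
    intro k
    by_cases h2 : k = k2
    · rw [h2]
    by_cases h3 : k = k3
    · rw [h3]; exact hab
    exact common_edge hx hy hcd (hs3 k) (hshare k2 k (Ne.symm h2)) (hshare k3 k (Ne.symm h3))
  have hcyc : ∀ k : K, Cyc3 (s k) a b (s k b) := fun k => ⟨hs3 k, hedge k, rfl, hx.ne_ab⟩
  let c : K → Fin n := fun k => s k b
  have hc_inj : ∀ k l : K, c k = c l → k = l := by
    intro k l h
    have h1 := hcyc k
    have h2 := hcyc l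
    have h' : s k b = s l b := h
    rw [h'] at h1
    exact hs_inj k l (h2.unique h1)
  have hca : ∀ k, c k ≠ a := fun k => (hcyc k).ne_ca
  have hcb : ∀ k, c k ≠ b := fun k => (hcyc k).ne_bc.symm
  let σf : Fin n → Fin n := fun i =>
    if h0 : i = i0 then a else if h1 : i = i1 then b else c ⟨i, h0, h1⟩
  have hσ0 : σf i0 = a := by simp [σf]
  have hσ1 : σf i1 = b := by simp [σf, h01.symm]
  have hσk : ∀ k : K, σf k.1 = c k := by
    intro k
    simp only [σf, dif_neg k.2.1, dif_neg k.2.2]
    rfl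
  have hσinj : Function.Injective σf := by
    intro i j hij
    by_cases hi0 : i = i0
    · by_cases hj0 : j = i0
      · rw [hi0, hj0]
      · by_cases hj1 : j = i1
        · rw [hi0, hj1, hσ0, hσ1] at hij
          exact absurd hij hx.ne_ab
        · rw [hi0, hσ0, hσk ⟨j, hj0, hj1⟩] at hij
          exact absurd hij.symm (hca _)
    · by_cases hi1 : i = i1
      · by_cases hj0 : j = i0
        · rw [hi1, hj0, hσ0, hσ1] at hij
          exact absurd hij.symm hx.ne_ab
        · by_cases hj1 : j = i1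
          · rw [hi1, hj1]
          · rw [hi1, hσ1, hσk ⟨j, hj0, hj1⟩] at hij
            exact absurd hij.symm (hcb _)
      · by_cases hj0 : j = i0
        · rw [hj0, hσ0, hσk ⟨i, hi0, hi1⟩] at hij
          exact absurd hij (hca _)
        · by_cases hj1 : j = i1
          · rw [hj1, hσ1, hσk ⟨i, hi0, hi1⟩] at hij
            exact absurd hij (hcb _)
          · rw [hσk ⟨i, hi0, hi1⟩, hσk ⟨j, hj0, hj1⟩] at hij
            have := hc_inj _ _ hij
            exact congrArg Subtype.val this
  let σ : Perm (Fin n) := Equiv.ofBijective σf (Finite.injective_iff_bijective.1 hσinj)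
  have hσ_apply : ∀ i, σ i = σf i := fun i => rfl
  have hconj : ∀ k : K, σ * tt k * σ⁻¹ = s k := by
    intro k
    have h1 := (htt k).conj σ
    rw [hσ_apply, hσ_apply, hσ_apply, hσ0, hσ1, hσk k] at h1
    exact (hcyc k).unique h1
  refine ⟨σ, ?_⟩
  -- extend from the generators
  have hgen := alternatingGroup_le_closure_cyc3 i0 i1 h01
  have hSle : Subgroup.closure {x : Perm (Fin n) | ∃ k, Cyc3 x i0 i1 k} ≤ alternatingGroup (Fin n) := by
    rw [Subgroup.closure_le]
    rintro x ⟨k, hk⟩
    exact hk.1.mem_alternatingGroup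
  have key : ∀ (g : Perm (Fin n)) (hg : g ∈ Subgroup.closure {x : Perm (Fin n) | ∃ k, Cyc3 x i0 i1 k}),
      ∀ hA : g ∈ alternatingGroup (Fin n),
        ((θ ⟨g, hA⟩ : alternatingGroup (Fin n)) : Perm (Fin n)) = σ * g * σ⁻¹ := by
    intro g hg
    induction hg using Subgroup.closure_induction with
    | mem x hx =>
      intro hA
      obtain ⟨k, hk⟩ := hx
      have hk0 : k ≠ i0 := hk.ne_ca
      have hk1 : k ≠ i1 := hk.ne_bc.symm
      have hxe : x = tt ⟨k, hk0, hk1⟩ := (htt ⟨k, hk0, hk1⟩).unique hk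
      subst hxe
      rw [hconj]
    | one =>
      intro hA
      have : (⟨1, hA⟩ : alternatingGroup (Fin n)) = 1 := rfl
      rw [this, map_one]
      simp
    | mul x y hx hy ihx ihy =>
      intro hA
      have hxA := hSle hx
      have hyA := hSle hy
      have : (⟨x * y, hA⟩ : alternatingGroup (Fin n)) = ⟨x, hxA⟩ * ⟨y, hyA⟩ := rfl
      rw [this, map_mul, Subgroup.coe_mul, ihx hxA, ihy hyA]
      group
    | inv x hx ihx =>
      intro hA
      have hxA := hSle hx
      have : (⟨x⁻¹, hA⟩ : alternatingGroup (Fin n)) = (⟨x, hxA⟩)⁻¹ := rfl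
      rw [this, map_inv, Subgroup.coe_inv, ihx hxA]
      group
  intro g
  exact key g.1 (hgen g.2) g.2

end Cfsg.Agent.Lib.Helper43
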