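import Cfsg.Agent.Lib.Helper43.OmegaSimple5

set_option autoImplicit false
set_option linter.unusedSimpArgs false
set_option linter.unusedVariables false
set_option linter.unusedSectionVars false

/-! Simplicity of `PΩ(Q)` for a quadratic form with non-degenerate polar form in dimension at
least 7 over a finite field. -/

namespace Cfsg.Agent.Lib.Helper43

open Module Matrix Cfsg.Agent.Lib.Helper19
open scoped commutatorElement

variable {F : Type*} [Field F] {ι : Type} [Fintype ι] [DecidableEq ι]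
variable (Q : QuadraticForm F (ι → F))

section finite

variable [Fintype F]

/-- a linear map fixing every singular line is a scalar -/
theorem scalar_of_fix_lines (hQ : (QuadraticMap.polarBilin Q).Nondegenerate)
    (hn : 7 ≤ Fintype.card ι) (Z : Module.End F (ι → F))
    (hZ : ∀ x : ι → F, x ≠ 0 → Q x = 0 → ∃ c : F, Z x = c • x) :
    ∃ c : F, ∀ v, Z v = c • v := by
  have hn' : 7 ≤ finrank F (ι → F) := by
    rw [Module.finrank_fintype_fun_eq_card]; exact hn
  obtain ⟨s, x0, _, _, _, _, hs, hsx0⟩ := exists_singular_pair_orth2 Q hQ hn' 0 0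
  have hs0 : s ≠ 0 := by
    rintro rfl
    apply hsx0
    simp
  obtain ⟨c, hc⟩ := hZ s hs0 hs
  refine ⟨c, ?_⟩
  -- orthogonal singular vectors have the same scalar
  have horth : ∀ x y : ι → F, x ≠ 0 → y ≠ 0 → Q x = 0 → Q y = 0 →
      QuadraticMap.polarBilin Q x y = 0 → ∀ c1 : F, Z x = c1 • x → Z y = c1 • y := by
    intro x y hx0 hy0 hx hy hxy c1 hc1
    obtain ⟨c2, hc2⟩ := hZ y hy0 hy
    by_cases hdep : ∃ t : F, y = t • x
    · obtain ⟨t, rfl⟩ := hdep
      rw [map_smul, hc1, smul_comm]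
    · have hind := indep_of_not_smul x y hx0 hdep
      have hxy0 : x + y ≠ 0 := by
        intro h
        have := (hind 1 1 (by rw [one_smul, one_smul]; exact h)).1
        exact one_ne_zero this
      have hQxy : Q (x + y) = 0 := by rw [Q_add, hx, hy, hxy]; simp
      obtain ⟨c3, hc3⟩ := hZ (x + y) hxy0 hQxy
      rw [map_add, hc1, hc2, smul_add] at hc3
      have h1 : (c1 - c3) • x + (c2 - c3) • y = 0 := by
        rw [sub_smul, sub_smul]
        have : c1 • x + c2 • y - (c3 • x + c3 • y) = 0 := sub_eq_zero.2 hc3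
        rw [← this]
        abel
      obtain ⟨h2, h3⟩ := hind _ _ h1
      have : c2 = c1 := by
        rw [sub_eq_zero] at h2 h3
        rw [h3, h2]
      rw [hc2, this]
  have hsing : ∀ y : ι → F, y ≠ 0 → Q y = 0 → Z y = c • y := by
    intro y hy0 hy
    by_cases hsy : QuadraticMap.polarBilin Q s y = 0
    · exact horth s y hs0 hy0 hs hy hsy c hc
    · obtain ⟨r, x, hsr, hyr, _, _, hr, hrx⟩ := exists_singular_pair_orth2 Q hQ hn' s y
      have hr0 : r ≠ 0 := by
        rintro rfl
        apply hrx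
        simp
      have h1 := horth s r hs0 hr0 hs hr hsr c hc
      exact horth r y hr0 hy0 hr hy (by rw [polar_symm]; exact hyr) c h1
  have hsing' : ∀ y : ι → F, Q y = 0 → Z y = c • y := by
    intro y hy
    by_cases hy0 : y = 0
    · rw [hy0, map_zero, smul_zero]
    · exact hsing y hy0 hy
  have hne : ∀ v : ι → F, QuadraticMap.polarBilin Q s v ≠ 0 → Z v = c • v := by
    intro v hsv
    obtain ⟨t, ht⟩ := exists_value Q s v hs hsv 0
    have h1 := hsing' _ ht
    rw [map_add, map_smul, hc, smul_add, smul_comm t c s] at h1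
    exact add_right_cancel h1
  intro v
  by_cases hsv : QuadraticMap.polarBilin Q s v = 0
  · have h1 := hne (v + x0) (by rw [map_add, hsv, zero_add]; exact hsx0)
    have h2 := hne x0 hsx0
    rw [map_add, h2, smul_add] at h1
    exact add_right_cancel h1
  · exact hne v hsv

/-- an element of `Ω` acting as a scalar is central -/
theorem mem_center_of_scalar (g : ↥(Cfsg.Omega F ⇑Q)) (c : F) (hg : ∀ v, lo Q g v = c • v) :
    g ∈ Subgroup.center ↥(Cfsg.Omega F ⇑Q) := by
  rw [Subgroup.mem_center_iff]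
  intro h
  apply lo_injective Q
  apply LinearMap.ext
  intro v
  rw [lo_mul_apply, lo_mul_apply, hg, hg, map_smul]

/-- **Simplicity of `PΩ`**: for a quadratic form with non-degenerate polar form in dimension at
least 7 over a finite field, `PΩ(Q) = Ω(Q)/Z(Ω(Q))` is simple. -/
theorem isSimpleGroup_POmega (hQ : (QuadraticMap.polarBilin Q).Nondegenerate)
    (hn : 7 ≤ Fintype.card ι) : IsSimpleGroup (Cfsg.POmega F ⇑Q) := by
  have hn' : 7 ≤ finrank F (ι → F) := by
    rw [Module.finrank_fintype_fun_eq_card]; exact hn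
  obtain ⟨u, x0, _, _, _, _, hu, hux0⟩ := exists_singular_pair_orth2 Q hQ hn' 0 0
  have hu0 : u ≠ 0 := by
    rintro rfl
    apply hux0
    simp
  have hperf := commutator_Omega_eq_top Q hQ hn
  -- dichotomy for normal subgroups of `Ω`
  have hdich : ∀ N : Subgroup ↥(Cfsg.Omega F ⇑Q), N.Normal →
      N ≤ Subgroup.center ↥(Cfsg.Omega F ⇑Q) ∨ N = ⊤ := by
    intro N hN
    by_cases hNH : N ≤ lineStab Q u hu0
    · left
      intro n hn1
      obtain ⟨c, hc⟩ := scalar_of_fix_lines Q hQ hn (lo Q n) (by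
        intro x hx0 hx
        obtain ⟨k, hk, hku⟩ := exists_Omega_map Q hQ hn u x hu0 hx0 (by rw [hu, hx])
        have hmem : (⟨k, hk⟩ : ↥(Cfsg.Omega F ⇑Q))⁻¹ * n * ⟨k, hk⟩ ∈ N := by
          have := hN.conj_mem n hn1 (⟨k, hk⟩ : ↥(Cfsg.Omega F ⇑Q))⁻¹
          rw [inv_inv] at this
          exact this
        obtain ⟨c, hc⟩ := (mem_lineStab Q u hu0 _).1 (hNH hmem)
        refine ⟨c, ?_⟩
        rw [lo_mul_apply, lo_mul_apply] at hc
        have hku' : lo Q ⟨k, hk⟩ u = x := hku
        rw [hku'] at hc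
        have h2 := congrArg (lo Q ⟨k, hk⟩) hc
        rw [lo_apply_inv, map_smul, hku'] at h2
        exact h2)
      exact mem_center_of_scalar Q n c hc
    · right
      have := hN
      exact iwasawa_abstract (lineStab Q u hu0) (siegelGrp Q hQ u hu) N
        (lineStab_maximal Q hQ hn u hu0 hu) (siegelGrp_normalized Q hQ u hu0 hu)
        (siegelGrp_comm Q hQ u hu) (siegelGrp_conj_generate Q hQ hn u hu0 hu) hperf hNH
  -- `Ω` is not abelian
  have hcenter : Subgroup.center ↥(Cfsg.Omega F ⇑Q) ≠ ⊤ := by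
    intro htop
    have hbot : commutator ↥(Cfsg.Omega F ⇑Q) = ⊥ :=
      (commutator_eq_bot_iff_center_eq_top _).2 htop
    rw [hperf] at hbot
    -- a non-trivial element of `Ω`
    obtain ⟨s, x, hus, _, hux, _, hs, hsx⟩ := exists_singular_pair_orth2 Q hQ hn' u u
    have hs0 : s ≠ 0 := by
      rintro rfl
      apply hsx
      simp
    have hsu : s ≠ u := by
      rintro rfl
      exact hsx hux
    obtain ⟨k, hk, hku⟩ := exists_Omega_map Q hQ hn u s hu0 hs0 (by rw [hu, hs])
    have hk1 : (⟨k, hk⟩ : ↥(Cfsg.Omega F ⇑Q)) ∈ (⊤ : Subgroup ↥(Cfsg.Omega F ⇑Q)) :=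
      Subgroup.mem_top _
    rw [hbot, Subgroup.mem_bot] at hk1
    have h1 : lo Q ⟨k, hk⟩ u = s := hku
    rw [hk1, lo_one_apply] at h1
    exact hsu h1.symm
  refine { exists_pair_ne := ?_, eq_bot_or_eq_top_of_normal := ?_ }
  · obtain ⟨g, -, hg⟩ := SetLike.exists_of_lt (lt_top_iff_ne_top.2 hcenter)
    refine ⟨(QuotientGroup.mk g : Cfsg.POmega F ⇑Q), 1, ?_⟩
    intro h
    exact hg ((QuotientGroup.eq_one_iff g).1 h)
  · intro M hM
    have hNn : (M.comap (QuotientGroup.mk' (Subgroup.center ↥(Cfsg.Omega F ⇑Q)))).Normal :=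
      hM.comap _
    rcases hdich _ hNn with h | h
    · left
      rw [Subgroup.eq_bot_iff_forall]
      intro m hm
      obtain ⟨g, rfl⟩ := QuotientGroup.mk_surjective m
      have hg : g ∈ M.comap (QuotientGroup.mk' (Subgroup.center ↥(Cfsg.Omega F ⇑Q))) := hm
      exact (QuotientGroup.eq_one_iff g).2 (h hg)
    · right
      rw [eq_top_iff]
      intro m _
      obtain ⟨g, rfl⟩ := QuotientGroup.mk_surjective m
      have hg : g ∈ M.comap (QuotientGroup.mk' (Subgroup.center ↥(Cfsg.Omega F ⇑Q))) := by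
        rw [h]; exact Subgroup.mem_top g
      exact hg

end finite

end Cfsg.Agent.Lib.Helper43
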