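import Cfsg.Agent.Lib.Helper43.ReflParity

set_option autoImplicit false
set_option linter.unusedSimpArgs false

/-! The Dickson homomorphism `g ↦ rank (g - 1) mod 2` on the isometry group of a quadratic form
(with nondegenerate polar form, generated by reflections), its kernel, and the commutator
subgroup in characteristic two. -/

namespace Cfsg.Agent.Lib.Helper43

open Module Matrix Cfsg.Agent.Lib.Helper19
open scoped commutatorElement

variable {F : Type*} [Field F] {ι : Type} [Fintype ι] [DecidableEq ι]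
variable (Q : QuadraticForm F (ι → F))

/-- the linear map of an element of the isometry group -/
noncomputable def linOf (g : ↥(Cfsg.isometryGroup F ⇑Q)) : Module.End F (ι → F) :=
  Matrix.toLin' ((g : GL ι F) : Matrix ι ι F)

theorem linOf_apply (g : ↥(Cfsg.isometryGroup F ⇑Q)) (v : ι → F) :
    linOf Q g v = ((g : GL ι F) : Matrix ι ι F) *ᵥ v := by
  unfold linOf
  rw [Matrix.toLin'_apply]

theorem linOf_isometry (g : ↥(Cfsg.isometryGroup F ⇑Q)) (v : ι → F) :
    Q (linOf Q g v) = Q v := by
  rw [linOf_apply]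
  exact (mem_isometryGroup_iff _ _).1 g.2 v

theorem linOf_mul (g h : ↥(Cfsg.isometryGroup F ⇑Q)) :
    linOf Q (g * h) = linOf Q g ∘ₗ linOf Q h := by
  unfold linOf
  rw [← Matrix.toLin'_mul]
  rfl

theorem linOf_one : linOf Q 1 = LinearMap.id := by
  unfold linOf
  exact Matrix.toLin'_one

theorem linOf_injective : Function.Injective (linOf Q) := by
  intro g h hgh
  apply Subtype.ext
  apply Units.ext
  exact Matrix.toLin'.injective hgh

theorem linOf_reflO (u : ι → F) (hu : Q u ≠ 0) : linOf Q (reflO Q u) = reflLin Q u := by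
  unfold linOf
  rw [reflO_val Q u hu, toLin'_reflectionMatrix]

/-- a linear isometry as an element of the isometry group -/
theorem exists_ofLin (hQ : (QuadraticMap.polarBilin Q).Nondegenerate)
    (σ : Module.End F (ι → F)) (hσ : ∀ v, Q (σ v) = Q v) :
    ∃ g : ↥(Cfsg.isometryGroup F ⇑Q), linOf Q g = σ := by
  have hinj : Function.Injective σ := isometry_injective Q hQ σ hσ
  have hinj' : Function.Injective (LinearMap.toMatrix' σ).mulVec := by
    intro x y hxy
    apply hinj
    have h1 := Matrix.toLin'_apply (LinearMap.toMatrix' σ) x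
    have h2 := Matrix.toLin'_apply (LinearMap.toMatrix' σ) y
    rw [Matrix.toLin'_toMatrix'] at h1 h2
    rw [h1, h2]
    exact hxy
  have hU : IsUnit (LinearMap.toMatrix' σ) := Matrix.mulVec_injective_iff_isUnit.1 hinj'
  have hmem : hU.unit ∈ Cfsg.isometryGroup F ⇑Q := by
    rw [mem_isometryGroup_iff]
    intro u
    rw [IsUnit.unit_spec, ← Matrix.toLin'_apply, Matrix.toLin'_toMatrix']
    exact hσ u
  refine ⟨⟨hU.unit, hmem⟩, ?_⟩
  unfold linOf
  show Matrix.toLin' ((hU.unit : GL ι F) : Matrix ι ι F) = σ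
  rw [IsUnit.unit_spec, Matrix.toLin'_toMatrix']

theorem reflLin_smul (c : F) (hc : c ≠ 0) (b : ι → F) : reflLin Q (c • b) = reflLin Q b := by
  apply LinearMap.ext
  intro x
  rw [reflLin_apply, reflLin_apply, QuadraticMap.map_smul, QuadraticMap.polar_smul_left,
    smul_smul, smul_eq_mul, smul_eq_mul]
  by_cases hb : Q b = 0
  · rw [hb]; simp
  · congr 2
    field_simp

theorem conj_reflLin (σ : Module.End F (ι → F)) (hσ : ∀ v, Q (σ v) = Q v) (a : ι → F) :
    σ ∘ₗ reflLin Q a = reflLin Q (σ a) ∘ₗ σ := by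
  apply LinearMap.ext
  intro x
  rw [LinearMap.comp_apply, LinearMap.comp_apply, reflLin_apply, reflLin_apply, map_sub,
    map_smul, hσ, polar_isometry Q σ hσ]

/-- the Dickson map -/
noncomputable def dicksonFun (g : ↥(Cfsg.isometryGroup F ⇑Q)) : Multiplicative (ZMod 2) :=
  Multiplicative.ofAdd (((((g : GL ι F) : Matrix ι ι F) - 1).rank : ℕ) : ZMod 2)

theorem dicksonFun_prod (hQ : (QuadraticMap.polarBilin Q).Nondegenerate)
    (l : List (ι → F)) (hl : ∀ u ∈ l, Q u ≠ 0) :
    dicksonFun Q ((l.map (reflO Q)).prod) = Multiplicative.ofAdd ((l.length : ℕ) : ZMod 2) := by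
  unfold dicksonFun
  congr 1
  rw [ZMod.natCast_eq_natCast_iff']
  exact rank_parity_prod_reflO Q hQ l hl

theorem dicksonFun_mul (hQ : (QuadraticMap.polarBilin Q).Nondegenerate) (hgen : ReflGenerated Q)
    (g h : ↥(Cfsg.isometryGroup F ⇑Q)) :
    dicksonFun Q (g * h) = dicksonFun Q g * dicksonFun Q h := by
  obtain ⟨l1, hl1, rfl⟩ := exists_list_reflO Q hgen g
  obtain ⟨l2, hl2, rfl⟩ := exists_list_reflO Q hgen h
  have hl : ∀ u ∈ l1 ++ l2, Q u ≠ 0 := by
    intro u hu
    rcases List.mem_append.1 hu with h | h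
    · exact hl1 u h
    · exact hl2 u h
  rw [← List.prod_append, ← List.map_append, dicksonFun_prod Q hQ _ hl, dicksonFun_prod Q hQ _ hl1,
    dicksonFun_prod Q hQ _ hl2, List.length_append, Nat.cast_add, ofAdd_add]

/-- the Dickson homomorphism -/
noncomputable def dickson (hQ : (QuadraticMap.polarBilin Q).Nondegenerate)
    (hgen : ReflGenerated Q) : ↥(Cfsg.isometryGroup F ⇑Q) →* Multiplicative (ZMod 2) :=
  MonoidHom.mk' (dicksonFun Q) (dicksonFun_mul Q hQ hgen)

theorem dickson_apply (hQ : (QuadraticMap.polarBilin Q).Nondegenerate)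
    (hgen : ReflGenerated Q) (g : ↥(Cfsg.isometryGroup F ⇑Q)) :
    dickson Q hQ hgen g =
      Multiplicative.ofAdd (((((g : GL ι F) : Matrix ι ι F) - 1).rank : ℕ) : ZMod 2) := rfl

theorem mem_ker_dickson_iff (hQ : (QuadraticMap.polarBilin Q).Nondegenerate)
    (hgen : ReflGenerated Q) (g : ↥(Cfsg.isometryGroup F ⇑Q)) :
    g ∈ (dickson Q hQ hgen).ker ↔ Even (((g : GL ι F) : Matrix ι ι F) - 1).rank := by
  rw [MonoidHom.mem_ker, dickson_apply, ← ofAdd_zero, Multiplicative.ofAdd.apply_eq_iff_eq,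
    ZMod.natCast_eq_zero_iff_even]

theorem dickson_reflO (hQ : (QuadraticMap.polarBilin Q).Nondegenerate)
    (hgen : ReflGenerated Q) (u : ι → F) (hu : Q u ≠ 0) :
    dickson Q hQ hgen (reflO Q u) = Multiplicative.ofAdd (1 : ZMod 2) := by
  have h := dicksonFun_prod Q hQ [u] (by simpa using hu)
  simp only [List.map_cons, List.map_nil, List.prod_cons, List.prod_nil, mul_one,
    List.length_cons, List.length_nil, zero_add, Nat.cast_one] at h
  exact h

/-- there is a nonsingular vector as soon as the space is nonzero -/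
theorem exists_nonsingular (hQ : (QuadraticMap.polarBilin Q).Nondegenerate) [Nonempty ι] :
    ∃ u : ι → F, Q u ≠ 0 := by
  by_contra hcon
  push Not at hcon
  obtain ⟨i⟩ := ‹Nonempty ι›
  have h1 : (Pi.single i (1 : F) : ι → F) = 0 := by
    apply hQ.1
    intro y
    rw [QuadraticMap.polarBilin_apply_apply, QuadraticMap.polar, hcon, hcon, hcon]
    simp
  have := congrFun h1 i
  simp at this

theorem dickson_surjective (hQ : (QuadraticMap.polarBilin Q).Nondegenerate)
    (hgen : ReflGenerated Q) [Nonempty ι] : Function.Surjective (dickson Q hQ hgen) := by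
  obtain ⟨u, hu⟩ := exists_nonsingular Q hQ
  intro x
  obtain ⟨y, rfl⟩ := Multiplicative.ofAdd.surjective x
  have h01 : y = 0 ∨ y = 1 := by
    revert y; decide
  rcases h01 with rfl | rfl
  · exact ⟨1, by rw [map_one]; rfl⟩
  · exact ⟨reflO Q u, dickson_reflO Q hQ hgen u hu⟩

theorem index_ker_dickson (hQ : (QuadraticMap.polarBilin Q).Nondegenerate)
    (hgen : ReflGenerated Q) [Nonempty ι] : (dickson Q hQ hgen).ker.index = 2 := by
  rw [Subgroup.index_ker, MonoidHom.range_eq_top.2 (dickson_surjective Q hQ hgen)]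
  rw [Nat.card_congr (Subgroup.topEquiv (G := Multiplicative (ZMod 2))).toEquiv]
  rw [Nat.card_eq_fintype_card]
  rfl

theorem commutator_le_ker_dickson (hQ : (QuadraticMap.polarBilin Q).Nondegenerate)
    (hgen : ReflGenerated Q) : Cfsg.Omega F ⇑Q ≤ (dickson Q hQ hgen).ker :=
  Abelianization.commutator_subset_ker _

section chartwo

variable [Fintype F] [CharP F 2]

/-- in characteristic two over a finite field all reflections are conjugate -/
theorem exists_conj_reflO (hQ : (QuadraticMap.polarBilin Q).Nondegenerate)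
    (a b : ι → F) (ha : Q a ≠ 0) (hb : Q b ≠ 0) :
    ∃ σ : ↥(Cfsg.isometryGroup F ⇑Q), σ * reflO Q a = reflO Q b * σ := by
  -- scale `b` so that `Q (c • b) = Q a`
  obtain ⟨c, hc⟩ : ∃ c : F, c * c = Q a * (Q b)⁻¹ := by
    have hsurj : Function.Surjective (frobenius F 2) :=
      (Finite.injective_iff_surjective.1 (frobenius_inj F 2))
    obtain ⟨c, hc⟩ := hsurj (Q a * (Q b)⁻¹)
    refine ⟨c, ?_⟩
    rw [← hc, frobenius_def, pow_two]
  have hc0 : c ≠ 0 := by
    rintro rfl
    rw [zero_mul] at hc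
    exact mul_ne_zero ha (inv_ne_zero hb) hc.symm
  have hQcb : Q (c • b) = Q a := by
    rw [Q_smul, hc]
    field_simp
  have ha0 : a ≠ 0 := by
    rintro rfl
    exact ha (map_zero Q)
  have hcb0 : c • b ≠ 0 := by
    intro h
    rw [h, map_zero] at hQcb
    exact ha hQcb.symm
  obtain ⟨σ, hσ, -, hσa⟩ := exists_isometry_fix_hyperplane Q hQ ⊥ a (c • b)
    (by simpa using ha0) (by simpa using hcb0) hQcb (by
      intro h hh
      rw [(Submodule.mem_bot F).1 hh]
      simp)
  obtain ⟨s, hs⟩ := exists_ofLin Q hQ σ hσ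
  refine ⟨s, ?_⟩
  apply linOf_injective
  rw [linOf_mul, linOf_mul, linOf_reflO Q a ha, linOf_reflO Q b hb, hs, conj_reflLin Q σ hσ, hσa,
    reflLin_smul Q c hc0]

theorem reflO_mul_reflO_mem_commutator (hQ : (QuadraticMap.polarBilin Q).Nondegenerate)
    (a b : ι → F) (ha : Q a ≠ 0) (hb : Q b ≠ 0) :
    reflO Q a * reflO Q b ∈ Cfsg.Omega F ⇑Q := by
  obtain ⟨σ, hσ⟩ := exists_conj_reflO Q hQ a b ha hb
  have hinv : (reflO Q a)⁻¹ = reflO Q a := inv_eq_of_mul_eq_one_right (reflO_mul_self Q a ha)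
  have hb' : reflO Q b = σ * reflO Q a * σ⁻¹ := by
    rw [hσ, mul_inv_cancel_right]
  have : reflO Q a * reflO Q b = ⁅reflO Q a, σ⁆ := by
    rw [commutatorElement_def, hinv, hb']
    group
  rw [this]
  show _ ∈ commutator _
  rw [commutator_def]
  exact Subgroup.commutator_mem_commutator (Subgroup.mem_top _) (Subgroup.mem_top _)

theorem prod_even_mem_commutator (hQ : (QuadraticMap.polarBilin Q).Nondegenerate) :
    ∀ (n : ℕ) (l : List (ι → F)), (∀ u ∈ l, Q u ≠ 0) → l.length = 2 * n →
      (l.map (reflO Q)).prod ∈ Cfsg.Omega F ⇑Q := by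
  intro n
  induction n with
  | zero =>
    intro l _ hlen
    have : l = [] := List.length_eq_zero_iff.1 (by omega)
    subst this
    simp only [List.map_nil, List.prod_nil]
    exact Subgroup.one_mem _
  | succ n ih =>
    intro l hl hlen
    match l, hl, hlen with
    | [], _, hlen => simp at hlen
    | [a], _, hlen => simp at hlen; omega
    | a :: b :: t, hl, hlen =>
      have ha : Q a ≠ 0 := hl a (by simp)
      have hb : Q b ≠ 0 := hl b (by simp)
      have ht : ∀ u ∈ t, Q u ≠ 0 := fun u hu => hl u (by simp [hu])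
      have hlen' : t.length = 2 * n := by
        simp only [List.length_cons] at hlen
        omega
      rw [List.map_cons, List.map_cons, List.prod_cons, List.prod_cons, ← mul_assoc]
      exact Subgroup.mul_mem _ (reflO_mul_reflO_mem_commutator Q hQ a b ha hb) (ih t ht hlen')

/-- in characteristic two over a finite field, `Ω` is the kernel of the Dickson homomorphism -/
theorem Omega_eq_ker_dickson (hQ : (QuadraticMap.polarBilin Q).Nondegenerate)
    (hgen : ReflGenerated Q) : Cfsg.Omega F ⇑Q = (dickson Q hQ hgen).ker := by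
  apply le_antisymm (commutator_le_ker_dickson Q hQ hgen)
  intro g hg
  obtain ⟨l, hl, rfl⟩ := exists_list_reflO Q hgen g
  rw [MonoidHom.mem_ker] at hg
  have h2 : dickson Q hQ hgen ((l.map (reflO Q)).prod) =
      Multiplicative.ofAdd ((l.length : ℕ) : ZMod 2) := dicksonFun_prod Q hQ l hl
  rw [h2, ← ofAdd_zero, Multiplicative.ofAdd.apply_eq_iff_eq, ZMod.natCast_eq_zero_iff_even] at hg
  obtain ⟨n, hn⟩ := hg
  exact prod_even_mem_commutator Q hQ n l hl (by omega)

theorem mem_Omega_iff_even_rank (hQ : (QuadraticMap.polarBilin Q).Nondegenerate)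
    (hgen : ReflGenerated Q) (g : ↥(Cfsg.isometryGroup F ⇑Q)) :
    g ∈ Cfsg.Omega F ⇑Q ↔ Even (((g : GL ι F) : Matrix ι ι F) - 1).rank := by
  rw [Omega_eq_ker_dickson Q hQ hgen, mem_ker_dickson_iff]

theorem reflGenerated_char_two (hQ : (QuadraticMap.polarBilin Q).Nondegenerate)
    (h24 : Fintype.card F ≠ 2 ∨ Fintype.card ι ≠ 4) : ReflGenerated Q := by
  intro g hg
  exact refl_generate_char_two Q hQ (by rwa [Module.finrank_fintype_fun_eq_card]) g hg

omit [Fintype F] [CharP F 2] in
theorem reflGenerated_of_two_ne_zero (h2 : (2 : F) ≠ 0)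
    (hQ : (QuadraticMap.polarBilin Q).Nondegenerate) : ReflGenerated Q := by
  intro g hg
  obtain ⟨l, hl, hA⟩ := isometry_eq_prod_reflectionMatrix h2 Q hQ (LinearMap.toMatrix' g)
    (fun x => by rw [← Matrix.toLin'_apply, Matrix.toLin'_toMatrix']; exact hg x)
  refine ⟨l, hl, ?_⟩
  rw [← toLin'_prod_reflectionMatrix, ← hA, Matrix.toLin'_toMatrix']

omit [CharP F 2] in
/-- over a finite field, reflections generate (except for `(|F|, n) = (2, 4)`) -/
theorem reflGenerated_finite (hQ : (QuadraticMap.polarBilin Q).Nondegenerate)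
    (h24 : Fintype.card F ≠ 2 ∨ Fintype.card ι ≠ 4) : ReflGenerated Q := by
  by_cases h2 : (2 : F) = 0
  · have hc : CharP F 2 := CharTwo.of_one_ne_zero_of_two_eq_zero one_ne_zero h2
    exact reflGenerated_char_two Q hQ h24
  · exact reflGenerated_of_two_ne_zero Q h2 hQ

theorem index_Omega_char_two (hQ : (QuadraticMap.polarBilin Q).Nondegenerate)
    (h24 : Fintype.card F ≠ 2 ∨ Fintype.card ι ≠ 4) [Nonempty ι] :
    (Cfsg.Omega F ⇑Q).index = 2 := by
  rw [Omega_eq_ker_dickson Q hQ (reflGenerated_char_two Q hQ h24)]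
  exact index_ker_dickson Q hQ _

end chartwo

end Cfsg.Agent.Lib.Helper43
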