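import Cfsg.Agent.Lib.Helper43.AltForm
import Cfsg.Agent.Lib.Helper50.SpinorIndex

set_option autoImplicit false

/-! K-S2720-F (272017) for S2720 (architect helper7): fixed vectors of an isometry of odd order. -/

namespace Cfsg.Agent.Lib.Helper43.S2720K

open Module

variable {F : Type*} [Field F] [Fintype F] {V : Type*} [AddCommGroup V] [Module F V]
  [FiniteDimensional F V]

theorem exists_fixed_pair (h2 : (2 : F) ≠ 0) (Q : QuadraticForm F V)
    (hQ : (QuadraticMap.polarBilin Q).Nondegenerate) (σ : V →ₗ[F] V) (hσ : ∀ v, Q (σ v) = Q v)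
    {r : ℕ} (hro : Odd r) (hrF : (r : F) ≠ 0) (hσr : σ ^ r = 1)
    (heven : Even (Module.finrank F V)) (w : V) (hw : σ w = w) (hw0 : w ≠ 0) (ζ : F)
    (hζ : ζ ≠ 0) : ∃ u u' : V, σ u = u ∧ σ u' = u' ∧ Q u = 1 ∧ Q u' = ζ := by
  classical
  have hBdef : ∀ x y, QuadraticMap.polarBilin Q x y = QuadraticMap.polar Q x y := fun x y => rfl
  have hpol : ∀ x y, QuadraticMap.polar Q (σ x) (σ y) = QuadraticMap.polar Q x y := by
    intro x y
    unfold QuadraticMap.polar
    rw [← map_add, hσ, hσ, hσ]
  obtain ⟨k, hk⟩ := hro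
  -- the inverse of `σ`
  set τ : V →ₗ[F] V := σ ^ (2 * k) with hτ
  have hστ : ∀ x, σ (τ x) = x := by
    intro x
    have : (σ * τ) x = x := by
      rw [hτ, ← pow_succ', ← hk, hσr]
      rfl
    exact this
  have hτσ : ∀ x, τ (σ x) = x := by
    intro x
    have : (τ * σ) x = x := by
      rw [hτ, ← pow_succ, ← hk, hσr]
      rfl
    exact this
  have hpolτ : ∀ x y, QuadraticMap.polar Q x (σ y) = QuadraticMap.polar Q (τ x) y := by
    intro x y
    rw [← hpol (τ x) y, hστ]
  -- powers fix fixed vectors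
  have hpowfix : ∀ (j : ℕ) (x : V), σ x = x → (σ ^ j) x = x := by
    intro j x hx
    induction j with
    | zero => rfl
    | succ j ih =>
      rw [pow_succ]
      show (σ ^ j) (σ x) = x
      rw [hx, ih]
  -- the alternating form
  obtain ⟨ω, hω⟩ : ∃ ω : LinearMap.BilinForm F V,
      ∀ u v, ω u v = QuadraticMap.polar Q (σ u) v - QuadraticMap.polar Q u (σ v) :=
    ⟨(QuadraticMap.polarBilin Q).comp σ - (QuadraticMap.polarBilin Q).compl₂ σ, fun u v => rfl⟩
  have hAlt : ω.IsAlt := by
    intro v
    rw [hω, QuadraticMap.polar_comm Q v (σ v), sub_self]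
  have hker : LinearMap.ker ω = LinearMap.ker (σ - 1) := by
    ext u
    rw [LinearMap.mem_ker, LinearMap.mem_ker, LinearMap.sub_apply, Module.End.one_apply, sub_eq_zero]
    constructor
    · intro h
      have h1 : ∀ v, QuadraticMap.polarBilin Q (σ u - τ u) v = 0 := by
        intro v
        have := congrArg (fun l => l v) h
        simp only [LinearMap.zero_apply] at this
        rw [hω, hpolτ] at this
        rw [map_sub, LinearMap.sub_apply, hBdef, hBdef]
        exact this
      have h3 : σ u - τ u = 0 := hQ.1 _ h1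
      have h4 : σ u = τ u := sub_eq_zero.1 h3
      -- `σ² u = u`
      have h5 : σ (σ u) = u := by rw [h4, hστ]
      have h6 : ∀ j : ℕ, (σ ^ (2 * j)) u = u := by
        intro j
        induction j with
        | zero => rfl
        | succ j ih =>
          have : 2 * (j + 1) = 2 * j + 1 + 1 := by ring
          rw [this, pow_succ, pow_succ]
          show (σ ^ (2 * j)) (σ (σ u)) = u
          rw [h5, ih]
      have h7 : τ u = u := h6 k
      rw [h4, h7]
    · intro h
      apply LinearMap.ext
      intro v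
      rw [hω, LinearMap.zero_apply, sub_eq_zero, h]
      have h9 := hpol u v
      rw [h] at h9
      exact h9.symm
  set V₀ : Submodule F V := LinearMap.ker (σ - 1) with hV₀
  have hmem : ∀ x, x ∈ V₀ ↔ σ x = x := by
    intro x
    rw [hV₀, LinearMap.mem_ker, LinearMap.sub_apply, Module.End.one_apply, sub_eq_zero]
  -- parity
  have hpar := even_finrank_sub_finrank_ker_of_isAlt ω hAlt
  rw [hker] at hpar
  have hle : finrank F V₀ ≤ finrank F V := Submodule.finrank_le V₀
  have hpos : 0 < finrank F V₀ := by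
    rw [Module.finrank_pos_iff_exists_ne_zero]
    exact ⟨⟨w, (hmem w).2 hw⟩, fun h => hw0 (congrArg Subtype.val h)⟩
  have hev0 : Even (finrank F V₀) := by
    obtain ⟨a, ha⟩ := heven
    obtain ⟨b, hb⟩ := hpar
    exact ⟨a - b, by omega⟩
  have hdim : 2 ≤ finrank F V₀ := by
    obtain ⟨a, ha⟩ := hev0
    omega
  -- the restricted form
  set Q₀ : QuadraticForm F V₀ := Q.comp V₀.subtype with hQ₀
  have hQ₀a : ∀ x : V₀, Q₀ x = Q (x : V) := fun x => rfl
  have hpol₀ : ∀ x y : V₀, QuadraticMap.polar Q₀ x y = QuadraticMap.polar Q (x : V) (y : V) := by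
    intro x y
    unfold QuadraticMap.polar
    rw [hQ₀a, hQ₀a, hQ₀a]
    rfl
  -- averaging
  have havg : ∀ v : V, (∑ j ∈ Finset.range r, (σ ^ j) v) ∈ V₀ := by
    intro v
    rw [hmem, map_sum]
    have h1 : ∀ j : ℕ, σ ((σ ^ j) v) = (σ ^ (j + 1)) v := by
      intro j
      rw [pow_succ']
      rfl
    simp only [h1]
    have e2 := Finset.sum_range_succ (fun j => (σ ^ j) v) r
    have e3 := Finset.sum_range_succ' (fun j => (σ ^ j) v) r
    rw [e2] at e3
    simp only [hσr, pow_zero] at e3
    exact (add_right_cancel e3).symm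
  have hpolj : ∀ (j : ℕ) (x y : V), QuadraticMap.polar Q ((σ ^ j) x) ((σ ^ j) y) =
      QuadraticMap.polar Q x y := by
    intro j
    induction j with
    | zero => intro x y; rfl
    | succ j ih =>
      intro x y
      rw [pow_succ']
      show QuadraticMap.polar Q (σ ((σ ^ j) x)) (σ ((σ ^ j) y)) = _
      rw [hpol, ih]
  have hnd₀ : (QuadraticMap.polarBilin Q₀).Nondegenerate := by
    have hBdef₀ : ∀ x y : V₀, QuadraticMap.polarBilin Q₀ x y = QuadraticMap.polar Q₀ x y :=
      fun x y => rfl
    have hrefl : (QuadraticMap.polarBilin Q₀).IsRefl := by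
      intro x y h
      rw [hBdef₀] at *
      rw [QuadraticMap.polar_comm]
      exact h
    rw [LinearMap.IsRefl.nondegenerate_iff_separatingLeft hrefl]
    intro x hx
    have hx' : ∀ y : V, σ y = y → QuadraticMap.polar Q (x : V) y = 0 := by
      intro y hy
      have := hx ⟨y, (hmem y).2 hy⟩
      rw [hBdef₀, hpol₀] at this
      exact this
    have hxfix : σ (x : V) = x := (hmem _).1 x.2
    have hall : ∀ v : V, QuadraticMap.polarBilin Q (x : V) v = 0 := by
      intro v
      rw [hBdef]
      have h1 := hx' _ ((hmem _).1 (havg v))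
      have h2' : QuadraticMap.polar Q (x : V) (∑ j ∈ Finset.range r, (σ ^ j) v) =
          ∑ j ∈ Finset.range r, QuadraticMap.polar Q (x : V) ((σ ^ j) v) := by
        have := map_sum (QuadraticMap.polarBilin Q (x : V)) (fun j => (σ ^ j) v) (Finset.range r)
        exact this
      rw [h2'] at h1
      have h3 : ∀ j ∈ Finset.range r, QuadraticMap.polar Q (x : V) ((σ ^ j) v) =
          QuadraticMap.polar Q (x : V) v := by
        intro j _
        have := hpolj j (x : V) v
        rw [hpowfix j _ hxfix] at this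
        exact this
      rw [Finset.sum_congr rfl h3, Finset.sum_const, Finset.card_range, nsmul_eq_mul] at h1
      rcases mul_eq_zero.1 h1 with h | h
      · exact absurd h hrF
      · exact h
    have hx0 : (x : V) = 0 := hQ.1 _ hall
    exact Subtype.ext hx0
  obtain ⟨u, hu⟩ := Cfsg.Agent.Lib.Helper50.exists_repr Q₀ hnd₀ hdim 1 one_ne_zero
  obtain ⟨u', hu'⟩ := Cfsg.Agent.Lib.Helper50.exists_repr Q₀ hnd₀ hdim ζ hζ
  exact ⟨(u : V), (u' : V), (hmem _).1 u.2, (hmem _).1 u'.2, hu, hu'⟩

end Cfsg.Agent.Lib.Helper43.S2720K
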