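import Cfsg.Agent.Lib.Helper43.OmegaParabolic

set_option autoImplicit false
set_option linter.unusedSimpArgs false
set_option linter.unusedVariables false
set_option linter.unusedSectionVars false

/-! Geometry relative to a non-degenerate subspace `Y` of a quadratic space: orthogonal
complements, singular pairs and universality inside `Y ∩ S^⊥` for small `S`. -/

namespace Cfsg.Agent.Lib.Helper43

open Module Matrix Cfsg.Agent.Lib.Helper19

variable {F : Type*} [Field F] {ι : Type} [Fintype ι] [DecidableEq ι]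
variable (Q : QuadraticForm F (ι → F))

/-- the orthogonal complement for the polar form -/
def orthC (Y : Submodule F (ι → F)) : Submodule F (ι → F) :=
  LinearMap.BilinForm.orthogonal (QuadraticMap.polarBilin Q) Y

theorem mem_orthC (Y : Submodule F (ι → F)) (v : ι → F) :
    v ∈ orthC Q Y ↔ ∀ y ∈ Y, QuadraticMap.polarBilin Q y v = 0 := by
  unfold orthC
  rw [LinearMap.BilinForm.mem_orthogonal_iff]

theorem polarBilin_isRefl : (QuadraticMap.polarBilin Q).IsRefl := by
  intro x y h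
  rw [polar_symm]
  exact h

theorem orthC_orthC (hQ : (QuadraticMap.polarBilin Q).Nondegenerate) (Y : Submodule F (ι → F)) :
    orthC Q (orthC Q Y) = Y :=
  LinearMap.BilinForm.orthogonal_orthogonal hQ (polarBilin_isRefl Q) Y

theorem finrank_orthC (hQ : (QuadraticMap.polarBilin Q).Nondegenerate)
    (Y : Submodule F (ι → F)) :
    finrank F (orthC Q Y) = Fintype.card ι - finrank F Y := by
  have h := LinearMap.BilinForm.finrank_orthogonal hQ Y
  rw [Module.finrank_fintype_fun_eq_card] at h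
  exact h

theorem finrank_add_finrank_orthC (hQ : (QuadraticMap.polarBilin Q).Nondegenerate)
    (Y : Submodule F (ι → F)) :
    finrank F Y + finrank F (orthC Q Y) = Fintype.card ι := by
  have h := finrank_orthC Q hQ Y
  have h2 : finrank F Y ≤ finrank F (ι → F) := Submodule.finrank_le Y
  rw [Module.finrank_fintype_fun_eq_card] at h2
  omega

theorem sup_orthC_eq_top (Y : Submodule F (ι → F)) (hd : Disjoint Y (orthC Q Y)) :
    Y ⊔ orthC Q Y = ⊤ :=
  ((LinearMap.BilinForm.isCompl_orthogonal_iff_disjoint (polarBilin_isRefl Q)).2 hd).sup_eq_top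

/-- decomposition of a vector along `Y ⊕ Y^⊥` -/
theorem exists_decomp (Y : Submodule F (ι → F)) (hd : Disjoint Y (orthC Q Y)) (v : ι → F) :
    ∃ y ∈ Y, ∃ w ∈ orthC Q Y, v = y + w := by
  have h : v ∈ Y ⊔ orthC Q Y := by rw [sup_orthC_eq_top Q Y hd]; exact Submodule.mem_top
  obtain ⟨y, hy, w, hw, rfl⟩ := Submodule.mem_sup.1 h
  exact ⟨y, hy, w, hw, rfl⟩

theorem eq_zero_of_mem_of_mem_orthC (Y : Submodule F (ι → F)) (hd : Disjoint Y (orthC Q Y))
    (v : ι → F) (h1 : v ∈ Y) (h2 : v ∈ orthC Q Y) : v = 0 := by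
  have : v ∈ Y ⊓ orthC Q Y := ⟨h1, h2⟩
  rw [hd.eq_bot, Submodule.mem_bot] at this
  exact this

/-- the relative orthogonal complement `Y ∩ S^⊥` -/
def relOrth (Y S : Submodule F (ι → F)) : Submodule F (ι → F) :=
  orthC Q (orthC Q Y ⊔ S)

theorem mem_relOrth (hQ : (QuadraticMap.polarBilin Q).Nondegenerate) (Y S : Submodule F (ι → F))
    (v : ι → F) :
    v ∈ relOrth Q Y S ↔ v ∈ Y ∧ ∀ s ∈ S, QuadraticMap.polarBilin Q s v = 0 := by
  unfold relOrth
  rw [mem_orthC]
  constructor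
  · intro h
    refine ⟨?_, fun s hs => h s (Submodule.mem_sup_right hs)⟩
    rw [← orthC_orthC Q hQ Y, mem_orthC]
    intro w hw
    exact h w (Submodule.mem_sup_left hw)
  · rintro ⟨h1, h2⟩ z hz
    obtain ⟨w, hw, s, hs, rfl⟩ := Submodule.mem_sup.1 hz
    rw [map_add, LinearMap.add_apply, h2 s hs, add_zero, polar_symm]
    exact (mem_orthC Q Y w).1 hw v h1

section finite

variable [Fintype F]

theorem finrank_relOrth_ge (hQ : (QuadraticMap.polarBilin Q).Nondegenerate)
    (Y S : Submodule F (ι → F)) : finrank F Y ≤ finrank F (relOrth Q Y S) + finrank F S := by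
  unfold relOrth
  have h1 := finrank_add_finrank_orthC Q hQ (orthC Q Y ⊔ S)
  have h2 := finrank_add_finrank_orthC Q hQ Y
  have h3 : finrank F ↥(orthC Q Y ⊔ S) ≤ finrank F (orthC Q Y) + finrank F S :=
    Submodule.finrank_add_le_finrank_add_finrank _ _
  omega

theorem finrank_rad_relOrth_le (hQ : (QuadraticMap.polarBilin Q).Nondegenerate)
    (Y S : Submodule F (ι → F)) (hd : Disjoint Y (orthC Q Y)) :
    finrank F ↥(relOrth Q Y S ⊓ orthC Q (relOrth Q Y S)) ≤ finrank F S := by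
  have e1 : orthC Q (relOrth Q Y S) = orthC Q Y ⊔ S := by
    unfold relOrth
    exact orthC_orthC Q hQ _
  have hle : relOrth Q Y S ⊓ orthC Q (relOrth Q Y S) ≤ Y ⊓ (orthC Q Y ⊔ S) := by
    rw [e1]
    intro v hv
    exact ⟨((mem_relOrth Q hQ Y S v).1 hv.1).1, hv.2⟩
  have h1 := Submodule.finrank_mono hle
  have h2 := Submodule.finrank_sup_add_finrank_inf_eq Y (orthC Q Y ⊔ S)
  have h3 : Y ⊔ (orthC Q Y ⊔ S) = ⊤ := by
    rw [← sup_assoc, sup_orthC_eq_top Q Y hd, top_sup_eq]
  rw [h3, finrank_top, Module.finrank_fintype_fun_eq_card] at h2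
  have h4 := finrank_add_finrank_orthC Q hQ Y
  have h5 : finrank F ↥(orthC Q Y ⊔ S) ≤ finrank F (orthC Q Y) + finrank F S :=
    Submodule.finrank_add_le_finrank_add_finrank _ _
  omega

/-- a singular vector and a partner inside `Y ∩ S^⊥` -/
theorem exists_singular_pair_rel (hQ : (QuadraticMap.polarBilin Q).Nondegenerate)
    (Y S : Submodule F (ι → F)) (hd : Disjoint Y (orthC Q Y))
    (h : 2 * finrank F S + 3 ≤ finrank F Y) :
    ∃ s x : ι → F, s ∈ relOrth Q Y S ∧ x ∈ relOrth Q Y S ∧ Q s = 0 ∧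
      QuadraticMap.polarBilin Q s x ≠ 0 := by
  have h1 := finrank_relOrth_ge Q hQ Y S
  have h2 := finrank_rad_relOrth_le Q hQ Y S hd
  obtain ⟨s, hsM, hsR, hs⟩ := exists_singular_mem_notMem Q (relOrth Q Y S)
    (relOrth Q Y S ⊓ orthC Q (relOrth Q Y S)) (by omega)
  have h3 : s ∉ orthC Q (relOrth Q Y S) := fun h' => hsR ⟨hsM, h'⟩
  rw [mem_orthC] at h3
  push Not at h3
  obtain ⟨x, hxM, hx⟩ := h3
  refine ⟨s, x, hsM, hxM, hs, ?_⟩
  rw [polar_symm]
  exact hx

/-- a hyperbolic pair inside `Y ∩ S^⊥` -/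
theorem exists_hyperbolic_pair_rel (hQ : (QuadraticMap.polarBilin Q).Nondegenerate)
    (Y S : Submodule F (ι → F)) (hd : Disjoint Y (orthC Q Y))
    (h : 2 * finrank F S + 3 ≤ finrank F Y) :
    ∃ x x' : ι → F, x ∈ relOrth Q Y S ∧ x' ∈ relOrth Q Y S ∧ Q x = 0 ∧ Q x' = 0 ∧
      QuadraticMap.polarBilin Q x x' ≠ 0 := by
  obtain ⟨s, x0, hs, hx0, hsQ, hsx⟩ := exists_singular_pair_rel Q hQ Y S hd h
  refine ⟨s, x0 - (Q x0 / QuadraticMap.polarBilin Q s x0) • s, hs,
    Submodule.sub_mem _ hx0 (Submodule.smul_mem _ _ hs), hsQ, ?_, ?_⟩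
  · rw [Q_sub, Q_smul, hsQ, map_smul, polar_symm Q x0 s, mul_zero, add_zero, smul_eq_mul,
      div_mul_cancel₀ _ hsx, sub_self]
  · rw [map_sub, map_smul, polar_self', hsQ]
    simpa using hsx

/-- `Y ∩ S^⊥` represents every value -/
theorem exists_value_rel (hQ : (QuadraticMap.polarBilin Q).Nondegenerate)
    (Y S : Submodule F (ι → F)) (hd : Disjoint Y (orthC Q Y))
    (h : 2 * finrank F S + 3 ≤ finrank F Y) (γ : F) :
    ∃ c ∈ relOrth Q Y S, Q c = γ := by
  obtain ⟨s, x0, hs, hx0, hsQ, hsx⟩ := exists_singular_pair_rel Q hQ Y S hd h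
  obtain ⟨t, ht⟩ := exists_value Q s x0 hsQ hsx γ
  exact ⟨x0 + t • s, Submodule.add_mem _ hx0 (Submodule.smul_mem _ _ hs), ht⟩

theorem finrank_span_singleton_le (a : ι → F) : finrank F (Submodule.span F {a}) ≤ 1 := by
  classical
  have h3 : ({a} : Set (ι → F)) = ((({a} : Finset (ι → F)) : Set (ι → F))) := by simp
  rw [h3]
  refine le_trans (finrank_span_finset_le_card _) ?_
  simp

theorem finrank_span_pair_le (a b : ι → F) : finrank F (Submodule.span F {a, b}) ≤ 2 := by
  classical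
  have h3 : ({a, b} : Set (ι → F)) = ((({a, b} : Finset (ι → F)) : Set (ι → F))) := by simp
  rw [h3]
  refine le_trans (finrank_span_finset_le_card _) ?_
  exact Finset.card_le_two

end finite

end Cfsg.Agent.Lib.Helper43
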