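import Cfsg.Agent.Lib.Helper43.ReflRank

set_option autoImplicit false
set_option linter.unusedSimpArgs false
set_option linter.unnecessarySeqFocus false

/-! Siegel (Eichler) transformations as linear maps; composition law and expression through
reflections. -/

namespace Cfsg.Agent.Lib.Helper43

open Module Cfsg.Agent.Lib.Helper19

variable {F V : Type*} [Field F] [AddCommGroup V] [Module F V]
variable (Q : QuadraticForm F V)

/-- the Siegel transformation `v ↦ v + (f(v,z) - Q(z) f(v,p)) p - f(v,p) z` -/
noncomputable def siegelLin (p z : V) : V →ₗ[F] V :=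
  LinearMap.id +
    ((LinearMap.flip (QuadraticMap.polarBilin Q) z) -
      (Q z) • (LinearMap.flip (QuadraticMap.polarBilin Q) p)).smulRight p +
    (-(LinearMap.flip (QuadraticMap.polarBilin Q) p)).smulRight z

theorem siegelLin_apply (p z v : V) :
    siegelLin Q p z v = v + (QuadraticMap.polarBilin Q v z - Q z * QuadraticMap.polarBilin Q v p) • p +
      (-QuadraticMap.polarBilin Q v p) • z := by
  simp only [siegelLin, LinearMap.add_apply, LinearMap.sub_apply, LinearMap.id_apply,
    LinearMap.smulRight_apply, LinearMap.smul_apply, LinearMap.flip_apply, smul_eq_mul,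
    LinearMap.neg_apply]

theorem siegelLin_isometry (p z : V) (hp : Q p = 0) (hpz : QuadraticMap.polarBilin Q p z = 0)
    (v : V) : Q (siegelLin Q p z v) = Q v := by
  rw [siegelLin_apply, add_assoc, Q_add, Q_add, Q_smul, Q_smul, hp]
  simp only [map_add, map_smul, LinearMap.smul_apply, smul_eq_mul, hpz]
  ring

/-- composition law -/
theorem siegelLin_comp (p y y' : V) (hp : Q p = 0) (hpy : QuadraticMap.polarBilin Q p y = 0)
    (hpy' : QuadraticMap.polarBilin Q p y' = 0) :
    siegelLin Q p y ∘ₗ siegelLin Q p y' = siegelLin Q p (y + y') := by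
  have hpp : QuadraticMap.polarBilin Q p p = 0 := by rw [polar_self', hp, mul_zero]
  have hyp : QuadraticMap.polarBilin Q y p = 0 := by rw [polar_symm, hpy]
  have hy'p : QuadraticMap.polarBilin Q y' p = 0 := by rw [polar_symm, hpy']
  apply LinearMap.ext
  intro v
  rw [LinearMap.comp_apply, siegelLin_apply Q p y, siegelLin_apply Q p y', siegelLin_apply Q p (y + y')]
  simp only [map_add, map_smul, map_neg, LinearMap.add_apply, LinearMap.smul_apply,
    LinearMap.neg_apply, smul_eq_mul, hpp, hyp, hy'p, hpy, hpy', mul_zero, add_zero, neg_zero,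
    Q_add Q y y', polar_symm Q y' y]
  module

/-- a Siegel transformation with non-singular `y` is a product of two reflections -/
theorem refl_comp_refl_eq_siegel (p y : V) (hp : Q p = 0)
    (hpy : QuadraticMap.polarBilin Q p y = 0) (hy : Q y ≠ 0) :
    reflLin Q y ∘ₗ reflLin Q (y - Q y • p) = siegelLin Q p y := by
  have hpp : QuadraticMap.polarBilin Q p p = 0 := by rw [polar_self', hp, mul_zero]
  have hyp : QuadraticMap.polarBilin Q y p = 0 := by rw [polar_symm, hpy]
  have hQy' : Q (y - Q y • p) = Q y := by
    rw [sub_eq_add_neg, ← neg_smul, Q_add, Q_smul, hp, map_smul, smul_eq_mul, hyp]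
    ring
  apply LinearMap.ext
  intro v
  rw [LinearMap.comp_apply, reflLin_apply', reflLin_apply', siegelLin_apply, hQy']
  simp only [map_sub, map_smul, LinearMap.sub_apply, LinearMap.smul_apply, smul_eq_mul, hpp, hyp,
    hpy, mul_zero, sub_zero, polar_self' Q y, smul_sub, smul_smul]
  have h1 : (Q y)⁻¹ * Q y = 1 := inv_mul_cancel₀ hy
  match_scalars <;> field_simp <;> ring

end Cfsg.Agent.Lib.Helper43
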