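import Cfsg.Agent.Lib.Helper43.OmegaSimple1
import Cfsg.Agent.Lib.Helper43.Dickson

set_option autoImplicit false
set_option linter.unusedSimpArgs false
set_option linter.unusedVariables false
set_option linter.unusedSectionVars false

/-! Towards the simplicity of `PΩ`: Witt's lemma inside `Ω`, Siegel transformations as group
elements, `Ω` is generated by Siegel transformations and is perfect (finite field, non-degenerate
polar form, dimension at least 7). -/

namespace Cfsg.Agent.Lib.Helper43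

open Module Matrix Cfsg.Agent.Lib.Helper19
open scoped commutatorElement

variable {F : Type*} [Field F] {ι : Type} [Fintype ι] [DecidableEq ι]
variable (Q : QuadraticForm F (ι → F))

theorem linOf_inv_apply (g : ↥(Cfsg.isometryGroup F ⇑Q)) (v : ι → F) :
    linOf Q g⁻¹ (linOf Q g v) = v := by
  have h := linOf_mul Q g⁻¹ g
  rw [inv_mul_cancel, linOf_one] at h
  have h2 := congrArg (fun f : Module.End F (ι → F) => f v) h
  simp only [LinearMap.id_coe, id_eq, LinearMap.coe_comp, Function.comp_apply] at h2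
  exact h2.symm

theorem linOf_apply_inv (g : ↥(Cfsg.isometryGroup F ⇑Q)) (v : ι → F) :
    linOf Q g (linOf Q g⁻¹ v) = v := by
  have h := linOf_inv_apply Q g⁻¹ v
  rw [inv_inv] at h
  exact h

theorem mem_Omega_iff_of (g : ↥(Cfsg.isometryGroup F ⇑Q)) :
    g ∈ Cfsg.Omega F ⇑Q ↔ Abelianization.of g = 1 := by
  rw [← MonoidHom.mem_ker, Abelianization.ker_of]

open Classical in
/-- the Siegel transformation as an element of the isometry group -/
noncomputable def siegelO (hQ : (QuadraticMap.polarBilin Q).Nondegenerate) (u v : ι → F) :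
    ↥(Cfsg.isometryGroup F ⇑Q) :=
  if h : Q u = 0 ∧ QuadraticMap.polarBilin Q u v = 0 then
    Classical.choose (exists_ofLin Q hQ (siegelLin Q u v) (siegelLin_isometry Q u v h.1 h.2))
  else 1

theorem linOf_siegelO (hQ : (QuadraticMap.polarBilin Q).Nondegenerate) (u v : ι → F)
    (hu : Q u = 0) (huv : QuadraticMap.polarBilin Q u v = 0) :
    linOf Q (siegelO Q hQ u v) = siegelLin Q u v := by
  unfold siegelO
  rw [dif_pos ⟨hu, huv⟩]
  exact Classical.choose_spec (exists_ofLin Q hQ (siegelLin Q u v) (siegelLin_isometry Q u v hu huv))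

theorem reflO_conj (g : ↥(Cfsg.isometryGroup F ⇑Q)) (a : ι → F) (ha : Q a ≠ 0) :
    g * reflO Q a = reflO Q (linOf Q g a) * g := by
  apply linOf_injective Q
  have ha' : Q (linOf Q g a) ≠ 0 := by rw [linOf_isometry]; exact ha
  rw [linOf_mul, linOf_mul, linOf_reflO Q a ha, linOf_reflO Q _ ha']
  exact conj_reflLin Q (linOf Q g) (linOf_isometry Q g) a

/-- Witt's lemma, giving an element of the isometry group -/
theorem witt_O (hQ : (QuadraticMap.polarBilin Q).Nondegenerate) (U : Submodule F (ι → F))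
    (f : (ι → F) →ₗ[F] (ι → F)) (hf : ∀ u ∈ U, Q (f u) = Q u) (hinj : ∀ u ∈ U, f u = 0 → u = 0) :
    ∃ g : ↥(Cfsg.isometryGroup F ⇑Q), ∀ u ∈ U, linOf Q g u = f u := by
  obtain ⟨g, hg1, hg2⟩ := witt_quad_aux Q hQ _ U rfl f hf hinj
  obtain ⟨g', hg'⟩ := exists_ofLin Q hQ (g : (ι → F) →ₗ[F] (ι → F)) (fun v => hg1 v)
  refine ⟨g', fun u hu => ?_⟩
  rw [hg']
  exact hg2 u hu

/-- the isometry group is transitive on the non-zero vectors of a given norm -/
theorem exists_isometry_map (hQ : (QuadraticMap.polarBilin Q).Nondegenerate) (a c : ι → F)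
    (ha : a ≠ 0) (hc : c ≠ 0) (hac : Q a = Q c) :
    ∃ g : ↥(Cfsg.isometryGroup F ⇑Q), linOf Q g a = c := by
  obtain ⟨z, hz1, hz2⟩ := exists_polar_repr Q hQ ⊥ a (by simpa using ha)
  have hf : ∀ u ∈ Submodule.span F {a},
      Q (((QuadraticMap.polarBilin Q z).smulRight c) u) = Q u := by
    intro u hu
    obtain ⟨t, rfl⟩ := Submodule.mem_span_singleton.1 hu
    rw [LinearMap.smulRight_apply, Q_smul, Q_smul, LinearMap.map_smul, hz1, smul_eq_mul, mul_one,
      hac]
  have hinj : ∀ u ∈ Submodule.span F {a},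
      ((QuadraticMap.polarBilin Q z).smulRight c) u = 0 → u = 0 := by
    intro u hu h0
    obtain ⟨t, rfl⟩ := Submodule.mem_span_singleton.1 hu
    rw [LinearMap.smulRight_apply, LinearMap.map_smul, hz1, smul_eq_mul, mul_one] at h0
    rcases smul_eq_zero.1 h0 with h | h
    · rw [h, zero_smul]
    · exact absurd h hc
  obtain ⟨g, hg⟩ := witt_O Q hQ (Submodule.span F {a})
    ((QuadraticMap.polarBilin Q z).smulRight c) hf hinj
  refine ⟨g, ?_⟩
  rw [hg a (Submodule.mem_span_singleton_self a), LinearMap.smulRight_apply, hz1, one_smul]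

/-- Witt's lemma for pairs of vectors -/
theorem witt_pair (hQ : (QuadraticMap.polarBilin Q).Nondegenerate) (u a u' a' : ι → F)
    (hind : ∀ α β : F, α • u + β • a = 0 → α = 0 ∧ β = 0)
    (hind' : ∀ α β : F, α • u' + β • a' = 0 → α = 0 ∧ β = 0)
    (h1 : Q u = Q u') (h2 : Q a = Q a')
    (h3 : QuadraticMap.polarBilin Q u a = QuadraticMap.polarBilin Q u' a') :
    ∃ g : ↥(Cfsg.isometryGroup F ⇑Q), linOf Q g u = u' ∧ linOf Q g a = a' := by
  have hu : u ∉ Submodule.span F {a} := by
    intro h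
    obtain ⟨t, ht⟩ := Submodule.mem_span_singleton.1 h
    have := (hind 1 (-t) (by rw [one_smul, neg_smul, ht, add_neg_cancel])).1
    exact one_ne_zero this
  have ha : a ∉ Submodule.span F {u} := by
    intro h
    obtain ⟨t, ht⟩ := Submodule.mem_span_singleton.1 h
    have := (hind (-t) 1 (by rw [one_smul, neg_smul, ht, neg_add_cancel])).2
    exact one_ne_zero this
  obtain ⟨z1, hz1, hz1'⟩ := exists_polar_repr Q hQ _ u hu
  obtain ⟨z2, hz2, hz2'⟩ := exists_polar_repr Q hQ _ a ha
  have hz1a : QuadraticMap.polarBilin Q z1 a = 0 := hz1' a (Submodule.mem_span_singleton_self a)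
  have hz2u : QuadraticMap.polarBilin Q z2 u = 0 := hz2' u (Submodule.mem_span_singleton_self u)
  have hf : ∀ x ∈ Submodule.span F {u, a},
      Q (((QuadraticMap.polarBilin Q z1).smulRight u' +
        (QuadraticMap.polarBilin Q z2).smulRight a') x) = Q x := by
    intro x hx
    obtain ⟨α, β, rfl⟩ := Submodule.mem_span_pair.1 hx
    rw [LinearMap.add_apply, LinearMap.smulRight_apply, LinearMap.smulRight_apply]
    simp only [map_add, map_smul, hz1, hz1a, hz2, hz2u, smul_eq_mul, mul_one, mul_zero, add_zero,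
      zero_add]
    rw [Q_add, Q_add, Q_smul, Q_smul, Q_smul, Q_smul]
    simp only [map_smul, LinearMap.smul_apply, smul_eq_mul, h1, h2, h3]
  have hinj : ∀ x ∈ Submodule.span F {u, a},
      ((QuadraticMap.polarBilin Q z1).smulRight u' +
        (QuadraticMap.polarBilin Q z2).smulRight a') x = 0 → x = 0 := by
    intro x hx h0
    obtain ⟨α, β, rfl⟩ := Submodule.mem_span_pair.1 hx
    rw [LinearMap.add_apply, LinearMap.smulRight_apply, LinearMap.smulRight_apply] at h0
    simp only [map_add, map_smul, hz1, hz1a, hz2, hz2u, smul_eq_mul, mul_one, mul_zero, add_zero,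
      zero_add] at h0
    obtain ⟨hα, hβ⟩ := hind' α β h0
    rw [hα, hβ, zero_smul, zero_smul, add_zero]
  obtain ⟨g, hg⟩ := witt_O Q hQ (Submodule.span F {u, a})
    ((QuadraticMap.polarBilin Q z1).smulRight u' + (QuadraticMap.polarBilin Q z2).smulRight a')
    hf hinj
  refine ⟨g, ?_, ?_⟩
  · rw [hg u (Submodule.subset_span (by simp)), LinearMap.add_apply, LinearMap.smulRight_apply,
      LinearMap.smulRight_apply, hz1, hz2u, one_smul, zero_smul, add_zero]
  · rw [hg a (Submodule.subset_span (by simp)), LinearMap.add_apply, LinearMap.smulRight_apply,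
      LinearMap.smulRight_apply, hz1a, hz2, one_smul, zero_smul, zero_add]

/-- reflections in vectors of the same norm have the same image in the abelianization -/
theorem of_reflO_eq (hQ : (QuadraticMap.polarBilin Q).Nondegenerate) (a c : ι → F)
    (ha : Q a ≠ 0) (hac : Q a = Q c) :
    (Abelianization.of (reflO Q a) : Abelianization ↥(Cfsg.isometryGroup F ⇑Q)) =
      Abelianization.of (reflO Q c) := by
  have ha0 : a ≠ 0 := by
    rintro rfl
    exact ha (map_zero Q)
  have hc0 : c ≠ 0 := by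
    rintro rfl
    rw [map_zero] at hac
    exact ha hac
  obtain ⟨g, hg⟩ := exists_isometry_map Q hQ a c ha0 hc0 hac
  have h := reflO_conj Q g a ha
  rw [hg] at h
  have h' := congrArg (Abelianization.of : _ →* Abelianization ↥(Cfsg.isometryGroup F ⇑Q)) h
  rw [map_mul, map_mul, mul_comm] at h'
  exact mul_right_cancel h'

theorem linOf_reflO_fix (y x : ι → F) (hy : Q y ≠ 0) (hyx : QuadraticMap.polarBilin Q y x = 0) :
    linOf Q (reflO Q y) x = x := by
  rw [linOf_reflO Q y hy]
  exact reflLin_fix Q y x hyx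

section finite

variable [Fintype F]

/-- every product of reflections agrees modulo `Ω` with an isometry fixing two given vectors -/
theorem exists_fix_of_eq (hQ : (QuadraticMap.polarBilin Q).Nondegenerate)
    (hn : 7 ≤ Fintype.card ι) (a b : ι → F) (l : List (ι → F)) (hl : ∀ u ∈ l, Q u ≠ 0) :
    ∃ s : ↥(Cfsg.isometryGroup F ⇑Q), linOf Q s a = a ∧ linOf Q s b = b ∧
      (Abelianization.of ((l.map (reflO Q)).prod) : Abelianization ↥(Cfsg.isometryGroup F ⇑Q)) =
        Abelianization.of s := by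
  have hn' : 7 ≤ finrank F (ι → F) := by
    rw [Module.finrank_fintype_fun_eq_card]; exact hn
  induction l with
  | nil =>
    refine ⟨1, ?_, ?_, ?_⟩
    · rw [linOf_one]; rfl
    · rw [linOf_one]; rfl
    · simp
  | cons c t ih =>
    have hc : Q c ≠ 0 := hl c List.mem_cons_self
    have ht : ∀ u ∈ t, Q u ≠ 0 := fun u hu => hl u (List.mem_cons_of_mem _ hu)
    obtain ⟨s, hsa, hsb, hs⟩ := ih ht
    obtain ⟨y, hya, hyb, hy⟩ := exists_orth_value Q hQ hn' a b (Q c)
    have hy0 : Q y ≠ 0 := by rw [hy]; exact hc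
    refine ⟨reflO Q y * s, ?_, ?_, ?_⟩
    · rw [linOf_mul, LinearMap.comp_apply, hsa]
      exact linOf_reflO_fix Q y a hy0 (by rw [polar_symm]; exact hya)
    · rw [linOf_mul, LinearMap.comp_apply, hsb]
      exact linOf_reflO_fix Q y b hy0 (by rw [polar_symm]; exact hyb)
    · rw [List.map_cons, List.prod_cons, map_mul, map_mul, hs, of_reflO_eq Q hQ c y hc hy.symm]

/-- Witt's lemma inside `Ω`: an isometry can be corrected to an element of `Ω` with the same
values on two given vectors -/
theorem exists_Omega_correction (hQ : (QuadraticMap.polarBilin Q).Nondegenerate)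
    (hn : 7 ≤ Fintype.card ι) (a b : ι → F) (g : ↥(Cfsg.isometryGroup F ⇑Q)) :
    ∃ g' ∈ Cfsg.Omega F ⇑Q, linOf Q g' a = linOf Q g a ∧ linOf Q g' b = linOf Q g b := by
  have hgen : ReflGenerated Q := reflGenerated_finite Q hQ (Or.inr (by omega))
  obtain ⟨l, hl, rfl⟩ := exists_list_reflO Q hgen g
  obtain ⟨s, hsa, hsb, hs⟩ := exists_fix_of_eq Q hQ hn a b l hl
  refine ⟨(l.map (reflO Q)).prod * s⁻¹, ?_, ?_, ?_⟩
  · rw [mem_Omega_iff_of, map_mul, map_inv, hs, mul_inv_cancel]
  · rw [linOf_mul, LinearMap.comp_apply]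
    congr 1
    have h := linOf_inv_apply Q s a
    rw [hsa] at h
    exact h
  · rw [linOf_mul, LinearMap.comp_apply]
    congr 1
    have h := linOf_inv_apply Q s b
    rw [hsb] at h
    exact h

/-- `Ω` is transitive on non-zero vectors of a given norm -/
theorem exists_Omega_map (hQ : (QuadraticMap.polarBilin Q).Nondegenerate)
    (hn : 7 ≤ Fintype.card ι) (a c : ι → F) (ha : a ≠ 0) (hc : c ≠ 0) (hac : Q a = Q c) :
    ∃ g ∈ Cfsg.Omega F ⇑Q, linOf Q g a = c := by
  obtain ⟨g, hg⟩ := exists_isometry_map Q hQ a c ha hc hac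
  obtain ⟨g', hg', h1, _⟩ := exists_Omega_correction Q hQ hn a a g
  exact ⟨g', hg', by rw [h1, hg]⟩

/-- Witt's lemma for pairs inside `Ω` -/
theorem exists_Omega_pair (hQ : (QuadraticMap.polarBilin Q).Nondegenerate)
    (hn : 7 ≤ Fintype.card ι) (u a u' a' : ι → F)
    (hind : ∀ α β : F, α • u + β • a = 0 → α = 0 ∧ β = 0)
    (hind' : ∀ α β : F, α • u' + β • a' = 0 → α = 0 ∧ β = 0)
    (h1 : Q u = Q u') (h2 : Q a = Q a')
    (h3 : QuadraticMap.polarBilin Q u a = QuadraticMap.polarBilin Q u' a') :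
    ∃ g ∈ Cfsg.Omega F ⇑Q, linOf Q g u = u' ∧ linOf Q g a = a' := by
  obtain ⟨g, hg1, hg2⟩ := witt_pair Q hQ u a u' a' hind hind' h1 h2 h3
  obtain ⟨g', hg', h1', h2'⟩ := exists_Omega_correction Q hQ hn u a g
  exact ⟨g', hg', by rw [h1', hg1], by rw [h2', hg2]⟩

/-- Siegel transformations lie in `Ω` -/
theorem siegelO_mem_Omega (hQ : (QuadraticMap.polarBilin Q).Nondegenerate)
    (hn : 7 ≤ Fintype.card ι) (u v : ι → F) (hu : Q u = 0)
    (huv : QuadraticMap.polarBilin Q u v = 0) : siegelO Q hQ u v ∈ Cfsg.Omega F ⇑Q := by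
  have hn' : 7 ≤ finrank F (ι → F) := by
    rw [Module.finrank_fintype_fun_eq_card]; exact hn
  have key : ∀ w : ι → F, QuadraticMap.polarBilin Q u w = 0 → Q w ≠ 0 →
      siegelO Q hQ u w ∈ Cfsg.Omega F ⇑Q := by
    intro w huw hw
    have hQw' : Q (w - Q w • u) = Q w := by
      rw [Q_sub, Q_smul, hu, map_smul, smul_eq_mul, polar_symm Q w u, huw]
      ring
    have hw' : Q (w - Q w • u) ≠ 0 := by rw [hQw']; exact hw
    have heq : siegelO Q hQ u w = reflO Q w * reflO Q (w - Q w • u) := by
      apply linOf_injective Q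
      rw [linOf_siegelO Q hQ u w hu huw, linOf_mul, linOf_reflO Q w hw, linOf_reflO Q _ hw']
      exact (refl_comp_refl_eq_siegel Q u w hu huw hw).symm
    rw [heq, mem_Omega_iff_of, map_mul, of_reflO_eq Q hQ (w - Q w • u) w hw' hQw', ← map_mul,
      reflO_mul_self Q w hw, map_one]
  by_cases hv : Q v = 0
  · obtain ⟨y, hyu, hyv, hy⟩ := exists_orth_value Q hQ hn' u v 1
    have h1 : QuadraticMap.polarBilin Q u (v + y) = 0 := by rw [map_add, huv, hyu, add_zero]
    have h2 : QuadraticMap.polarBilin Q u (-y) = 0 := by rw [map_neg, hyu, neg_zero]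
    have hQ1 : Q (v + y) ≠ 0 := by
      rw [Q_add, hv, hy, hyv]
      simp
    have hQ2 : Q (-y) ≠ 0 := by
      rw [QuadraticMap.map_neg, hy]
      exact one_ne_zero
    have heq : siegelO Q hQ u v = siegelO Q hQ u (v + y) * siegelO Q hQ u (-y) := by
      apply linOf_injective Q
      rw [linOf_mul, linOf_siegelO Q hQ u v hu huv, linOf_siegelO Q hQ u _ hu h1,
        linOf_siegelO Q hQ u _ hu h2, siegelLin_comp Q u _ _ hu h1 h2]
      congr 1
      abel
    rw [heq]
    exact (Cfsg.Omega F ⇑Q).mul_mem (key _ h1 hQ1) (key _ h2 hQ2)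
  · exact key v huv hv

/-- the subgroup generated by the Siegel transformations -/
noncomputable def siegelSub : Subgroup ↥(Cfsg.isometryGroup F ⇑Q) :=
  Subgroup.normalClosure {g | ∃ u v : ι → F, Q u = 0 ∧ QuadraticMap.polarBilin Q u v = 0 ∧
    linOf Q g = siegelLin Q u v}

instance siegelSub_normal : (siegelSub Q).Normal := by
  unfold siegelSub
  infer_instance

theorem siegelO_mem_siegelSub (hQ : (QuadraticMap.polarBilin Q).Nondegenerate) (u v : ι → F)
    (hu : Q u = 0) (huv : QuadraticMap.polarBilin Q u v = 0) : siegelO Q hQ u v ∈ siegelSub Q :=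
  Subgroup.subset_normalClosure ⟨u, v, hu, huv, linOf_siegelO Q hQ u v hu huv⟩

theorem siegelSub_le_Omega (hQ : (QuadraticMap.polarBilin Q).Nondegenerate)
    (hn : 7 ≤ Fintype.card ι) : siegelSub Q ≤ Cfsg.Omega F ⇑Q := by
  apply Subgroup.normalClosure_le_normal
  rintro g ⟨u, v, hu, huv, hg⟩
  have : g = siegelO Q hQ u v := by
    apply linOf_injective Q
    rw [hg, linOf_siegelO Q hQ u v hu huv]
  rw [this]
  exact siegelO_mem_Omega Q hQ hn u v hu huv

/-- reflections in vectors of the same norm agree modulo the Siegel subgroup -/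
theorem mk_reflO_eq (hQ : (QuadraticMap.polarBilin Q).Nondegenerate)
    (hn : 7 ≤ Fintype.card ι) (a b : ι → F) (ha : Q a ≠ 0) (hab : Q a = Q b) :
    (QuotientGroup.mk' (siegelSub Q) (reflO Q a)) = QuotientGroup.mk' (siegelSub Q) (reflO Q b) := by
  have hn' : 7 ≤ finrank F (ι → F) := by
    rw [Module.finrank_fintype_fun_eq_card]; exact hn
  have hb : Q b ≠ 0 := by rw [← hab]; exact ha
  by_cases h1 : b = a
  · rw [h1]
  by_cases h2 : b = -a
  · have : reflO Q b = reflO Q a := by
      apply linOf_injective Q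
      rw [linOf_reflO Q b hb, linOf_reflO Q a ha, h2]
      have := reflLin_smul Q (-1 : F) (by simp) a
      rw [neg_one_smul] at this
      exact this
    rw [this]
  -- generic case
  have haspan : a ∉ Submodule.span F {a - b} := by
    intro h
    obtain ⟨t, ht⟩ := Submodule.mem_span_singleton.1 h
    have ht0 : t ≠ 0 := by
      rintro rfl
      rw [zero_smul] at ht
      apply ha
      rw [← ht, map_zero]
    have hb' : b = (1 - t⁻¹) • a := by
      have h3 : t • b = (t - 1) • a := by
        rw [smul_sub] at ht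
        rw [sub_smul, one_smul]
        calc t • b = t • a - (t • a - t • b) := by abel
          _ = t • a - a := by rw [ht]
      have h4 : b = t⁻¹ • (t • b) := by rw [smul_smul, inv_mul_cancel₀ ht0, one_smul]
      rw [h4, h3, smul_smul]
      congr 1
      field_simp
    have hQb : Q b = (1 - t⁻¹) * (1 - t⁻¹) * Q a := by rw [hb', Q_smul]
    rw [← hab] at hQb
    have h5 : (1 - t⁻¹) * (1 - t⁻¹) = 1 := by
      have := mul_right_cancel₀ ha (a := (1 - t⁻¹) * (1 - t⁻¹)) (c := 1) (by rw [one_mul]; exact hQb.symm)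
      exact this
    have h6 : (1 - t⁻¹ - 1) * (1 - t⁻¹ + 1) = 0 := by linear_combination h5
    rcases mul_eq_zero.1 h6 with h7 | h7
    · apply h1
      rw [hb']
      have : (1 - t⁻¹) = 1 := by linear_combination h7
      rw [this, one_smul]
    · apply h2
      rw [hb']
      have : (1 - t⁻¹) = -1 := by linear_combination h7
      rw [this, neg_one_smul]
  obtain ⟨z, hz1, hz2⟩ := exists_polar_repr Q hQ _ a haspan
  obtain ⟨s, x, hs1, _, hx1, _, hs, hsx⟩ := exists_singular_pair_orth2 Q hQ hn' (a - b) (a - b)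
  obtain ⟨s', hs'W, hs', hφ⟩ := exists_singular_functional_ne Q
    (LinearMap.ker (QuadraticMap.polarBilin Q (a - b))) s x
    (by rw [LinearMap.mem_ker]; exact hs1) (by rw [LinearMap.mem_ker]; exact hx1) hs hsx
    (QuadraticMap.polarBilin Q a) z
    (by
      rw [LinearMap.mem_ker, polar_symm]
      exact hz2 _ (Submodule.mem_span_singleton_self _))
    (by rw [polar_symm, hz1]; exact one_ne_zero)
  rw [LinearMap.mem_ker] at hs'W
  have hβ : QuadraticMap.polarBilin Q a s' = QuadraticMap.polarBilin Q b s' := by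
    have : QuadraticMap.polarBilin Q (a - b) s' = 0 := hs'W
    rw [map_sub, LinearMap.sub_apply] at this
    exact sub_eq_zero.1 this
  have horth := siegelLin_key_orth Q a b s' hs' hβ
  have hkey := siegelLin_key Q a b s' hab hβ hφ
  set v := (QuadraticMap.polarBilin Q a s')⁻¹ • (a - b) with hv
  have hconj := reflO_conj Q (siegelO Q hQ s' v) a ha
  rw [linOf_siegelO Q hQ s' v hs' horth, hkey] at hconj
  have h' := congrArg (QuotientGroup.mk' (siegelSub Q)) hconj
  rw [map_mul, map_mul] at h'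
  have hone : QuotientGroup.mk' (siegelSub Q) (siegelO Q hQ s' v) = 1 := by
    rw [QuotientGroup.mk'_apply, QuotientGroup.eq_one_iff]
    exact siegelO_mem_siegelSub Q hQ s' v hs' horth
  rw [hone, one_mul, mul_one] at h'
  exact h'

theorem reflO_comm_of_orth (x b : ι → F) (hx : Q x ≠ 0) (hb : Q b ≠ 0)
    (hxb : QuadraticMap.polarBilin Q x b = 0) : reflO Q x * reflO Q b = reflO Q b * reflO Q x := by
  have h := reflO_conj Q (reflO Q x) b hb
  rw [linOf_reflO_fix Q x b hx hxb] at h
  exact h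

/-- images of reflections commute modulo the Siegel subgroup -/
theorem mk_reflO_commute (hQ : (QuadraticMap.polarBilin Q).Nondegenerate)
    (hn : 7 ≤ Fintype.card ι) (x y : ι → F) (hx : Q x ≠ 0) (hy : Q y ≠ 0) :
    Commute (QuotientGroup.mk' (siegelSub Q) (reflO Q x))
      (QuotientGroup.mk' (siegelSub Q) (reflO Q y)) := by
  have hn' : 7 ≤ finrank F (ι → F) := by
    rw [Module.finrank_fintype_fun_eq_card]; exact hn
  obtain ⟨b, hxb, _, hb⟩ := exists_orth_value Q hQ hn' x x (Q y)
  have hb0 : Q b ≠ 0 := by rw [hb]; exact hy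
  rw [mk_reflO_eq Q hQ hn y b hy hb.symm]
  unfold Commute SemiconjBy
  rw [← map_mul, ← map_mul, reflO_comm_of_orth Q x b hx hb0 hxb]

/-- the isometry group is abelian modulo the Siegel subgroup -/
theorem commutator_le_siegelSub (hQ : (QuadraticMap.polarBilin Q).Nondegenerate)
    (hn : 7 ≤ Fintype.card ι) : Cfsg.Omega F ⇑Q ≤ siegelSub Q := by
  have hgen : ReflGenerated Q := reflGenerated_finite Q hQ (Or.inr (by omega))
  have hcomm : ∀ g h : ↥(Cfsg.isometryGroup F ⇑Q),
      Commute (QuotientGroup.mk' (siegelSub Q) g) (QuotientGroup.mk' (siegelSub Q) h) := by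
    intro g h
    obtain ⟨l1, hl1, rfl⟩ := exists_list_reflO Q hgen g
    obtain ⟨l2, hl2, rfl⟩ := exists_list_reflO Q hgen h
    rw [map_list_prod, map_list_prod]
    apply Commute.list_prod_right
    intro y hy
    apply Commute.list_prod_left
    intro x hx
    rw [List.mem_map] at hx hy
    obtain ⟨x', hx', rfl⟩ := hx
    obtain ⟨y', hy', rfl⟩ := hy
    rw [List.mem_map] at hx' hy'
    obtain ⟨x'', hx'', rfl⟩ := hx'
    obtain ⟨y'', hy'', rfl⟩ := hy'
    exact mk_reflO_commute Q hQ hn x'' y'' (hl1 x'' hx'') (hl2 y'' hy'')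
  show commutator ↥(Cfsg.isometryGroup F ⇑Q) ≤ siegelSub Q
  rw [commutator_def, Subgroup.commutator_le]
  intro g _ h _
  rw [← QuotientGroup.eq_one_iff, ← QuotientGroup.mk'_apply, commutatorElement_def, map_mul,
    map_mul, map_mul, map_inv, map_inv, (hcomm g h).eq]
  group

theorem Omega_eq_siegelSub (hQ : (QuadraticMap.polarBilin Q).Nondegenerate)
    (hn : 7 ≤ Fintype.card ι) : Cfsg.Omega F ⇑Q = siegelSub Q :=
  le_antisymm (commutator_le_siegelSub Q hQ hn) (siegelSub_le_Omega Q hQ hn)

end finite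

end Cfsg.Agent.Lib.Helper43
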