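import Mathlib

set_option autoImplicit false

/-! Facts on a finite field `F` with `q^2` elements (mostly characteristic two):
the maps `c ↦ c + c^q` and `c ↦ c^(q+1)` onto the fixed field of `x ↦ x^q`. -/

namespace Cfsg.Agent.Lib.Helper43

open Polynomial

variable {F : Type*} [Field F] [Fintype F] {q : ℕ}

theorem one_lt_q_of_card (hF : Fintype.card F = q ^ 2) : 1 < q := by
  have h1 : 1 < Fintype.card F := Fintype.one_lt_card
  rw [hF] at h1
  by_contra h
  push Not at h
  have : q ^ 2 ≤ 1 ^ 2 := Nat.pow_le_pow_left h 2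
  omega

/-- some element is moved by `x ↦ x^q` -/
theorem exists_pow_q_ne (hF : Fintype.card F = q ^ 2) : ∃ θ : F, θ ^ q ≠ θ := by
  classical
  by_contra hcon
  push Not at hcon
  have hq : 1 < q := one_lt_q_of_card hF
  have hne : (X ^ q - X : F[X]) ≠ 0 := FiniteField.X_pow_card_sub_X_ne_zero F hq
  have hdeg : (X ^ q - X : F[X]).natDegree = q := FiniteField.X_pow_card_sub_X_natDegree_eq F hq
  have hsub : (Finset.univ : Finset F) ⊆ (X ^ q - X : F[X]).roots.toFinset := by
    intro x _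
    rw [Multiset.mem_toFinset, mem_roots hne]
    simp [hcon x]
  have h1 : Fintype.card F ≤ (X ^ q - X : F[X]).roots.toFinset.card := by
    rw [← Finset.card_univ]; exact Finset.card_le_card hsub
  have h2 : (X ^ q - X : F[X]).roots.toFinset.card ≤ q :=
    le_trans (Multiset.toFinset_card_le _) ((Polynomial.card_roots' _).trans hdeg.le)
  rw [hF] at h1
  have : q < q ^ 2 := by nlinarith
  omega

theorem pow_q_pow_q' (hF : Fintype.card F = q ^ 2) (x : F) : (x ^ q) ^ q = x := by
  rw [← pow_mul, ← sq, ← hF, FiniteField.pow_card]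

/-- `x ↦ x^q` is additive -/
theorem add_pow_q' (hF : Fintype.card F = q ^ 2) (x y : F) : (x + y) ^ q = x ^ q + y ^ q := by
  obtain ⟨p, hchar⟩ := CharP.exists F
  have hp : p.Prime := CharP.char_is_prime F p
  have : Fact p.Prime := ⟨hp⟩
  obtain ⟨k, _, hk⟩ := FiniteField.card F p
  have hdvd : q ∣ p ^ (k : ℕ) := by
    rw [← hk, hF]; exact Dvd.intro_left (q ^ 1) (by ring)
  obtain ⟨j, _, hj⟩ := (Nat.dvd_prime_pow hp).mp hdvd
  rw [hj]
  exact add_pow_char_pow x y p j

/-- trace surjectivity in characteristic two -/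
theorem exists_trace_eq [CharP F 2] (hF : Fintype.card F = q ^ 2) (a : F) (ha : a ^ q = a) :
    ∃ c : F, c + c ^ q = a := by
  obtain ⟨θ, hθ⟩ := exists_pow_q_ne hF
  set t0 := θ + θ ^ q with ht0
  have ht0ne : t0 ≠ 0 := by
    intro h
    apply hθ
    have : θ ^ q = -θ := by linear_combination h
    rw [this, CharTwo.neg_eq]
  have ht0fix : t0 ^ q = t0 := by
    rw [ht0, add_pow_q' hF, pow_q_pow_q' hF, add_comm]
  refine ⟨a * t0⁻¹ * θ, ?_⟩
  have h1 : (a * t0⁻¹ * θ) ^ q = a * t0⁻¹ * θ ^ q := by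
    rw [mul_pow, mul_pow, inv_pow, ha, ht0fix]
  rw [h1]
  field_simp
  rw [ht0]

/-- norm surjectivity in characteristic two -/
theorem exists_norm_eq [CharP F 2] (a : F) (ha : a ^ q = a) :
    ∃ c : F, c ^ (q + 1) = a := by
  obtain ⟨c, hc⟩ := FiniteField.isSquare_of_char_two (ringChar.eq F 2) a
  refine ⟨c, ?_⟩
  have h1 : (c ^ q) * (c ^ q) = c * c := by
    rw [← mul_pow, ← hc, ha]
  have h2 : c ^ q = c := by
    have h3 : (c ^ q - c) * (c ^ q - c) = 0 := by
      have h4 : c ^ q * c + c ^ q * c = 0 := CharTwo.add_self_eq_zero _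
      have h6 : c * c + c * c = 0 := CharTwo.add_self_eq_zero _
      linear_combination h1 - h4 + h6
    have h5 : c ^ q - c = 0 := mul_self_eq_zero.mp h3
    exact sub_eq_zero.mp h5
  rw [pow_succ, h2, hc]

/-- square roots inside the norm-one group, characteristic two -/
theorem exists_sq_norm_one [CharP F 2] (l : F) (hl : l ^ (q + 1) = 1) :
    ∃ μ : F, μ ^ (q + 1) = 1 ∧ μ * μ = l := by
  obtain ⟨c, hc⟩ := FiniteField.isSquare_of_char_two (ringChar.eq F 2) l
  refine ⟨c, ?_, hc.symm⟩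
  have h1 : (c ^ (q + 1)) * (c ^ (q + 1)) = 1 := by
    rw [← mul_pow, ← hc, hl]
  have h3 : (c ^ (q + 1) - 1) * (c ^ (q + 1) - 1) = 0 := by
    have h4 : c ^ (q + 1) + c ^ (q + 1) = 0 := CharTwo.add_self_eq_zero _
    have h7 : (1 : F) + 1 = 0 := CharTwo.add_self_eq_zero _
    linear_combination h1 - h4 + h7
  have h5 : c ^ (q + 1) - 1 = 0 := mul_self_eq_zero.mp h3
  exact sub_eq_zero.mp h5

end Cfsg.Agent.Lib.Helper43
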