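import Cfsg.Agent.Lib.Helper43.OrthFrames

set_option autoImplicit false
set_option linter.unusedSimpArgs false

/-! Explicit orthogonal frames in the standard minus type quadratic space. -/

namespace Cfsg.Agent.Lib.Helper43

open Module Matrix

section minus

variable {F : Type*} [Field F] (m : ℕ) (c d : F)

theorem polar_minus_apply (u v : (Fin m ⊕ Fin m) ⊕ Fin 2 → F) :
    QuadraticMap.polarBilin (qfMinus m F c d) u v =
      ∑ i, (u (Sum.inl (Sum.inl i)) * v (Sum.inl (Sum.inr i)) +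
        u (Sum.inl (Sum.inr i)) * v (Sum.inl (Sum.inl i))) +
      (2 * u (Sum.inr 0) * v (Sum.inr 0) +
        c * (u (Sum.inr 0) * v (Sum.inr 1) + u (Sum.inr 1) * v (Sum.inr 0)) +
        2 * d * u (Sum.inr 1) * v (Sum.inr 1)) := by
  rw [QuadraticMap.polarBilin_apply_apply, QuadraticMap.polar]
  change Cfsg.quadFormMinus m F c d (u + v) - Cfsg.quadFormMinus m F c d u -
    Cfsg.quadFormMinus m F c d v = _
  unfold Cfsg.quadFormMinus
  have h : ∑ i, (u + v) (Sum.inl (Sum.inl i)) * (u + v) (Sum.inl (Sum.inr i)) =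
      ∑ i, u (Sum.inl (Sum.inl i)) * u (Sum.inl (Sum.inr i)) +
      ∑ i, v (Sum.inl (Sum.inl i)) * v (Sum.inl (Sum.inr i)) +
      ∑ i, (u (Sum.inl (Sum.inl i)) * v (Sum.inl (Sum.inr i)) +
        u (Sum.inl (Sum.inr i)) * v (Sum.inl (Sum.inl i))) := by
    rw [← Finset.sum_add_distrib, ← Finset.sum_add_distrib]
    refine Finset.sum_congr rfl fun i _ => ?_
    simp only [Pi.add_apply]
    ring
  rw [h]
  simp only [Pi.add_apply]
  ring

/-- `e_a` -/
def wE (a : Fin m) : (Fin m ⊕ Fin m) ⊕ Fin 2 → F := Pi.single (Sum.inl (Sum.inl a)) 1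
/-- `f_a` -/
def wF (a : Fin m) : (Fin m ⊕ Fin m) ⊕ Fin 2 → F := Pi.single (Sum.inl (Sum.inr a)) 1
/-- `e_a + f_a` -/
def wH (a : Fin m) : (Fin m ⊕ Fin m) ⊕ Fin 2 → F := wE m a + wF m a
/-- `z_1` -/
def wZ : (Fin m ⊕ Fin m) ⊕ Fin 2 → F := Pi.single (Sum.inr 0) 1

theorem polar_minus_wE (u : (Fin m ⊕ Fin m) ⊕ Fin 2 → F) (b : Fin m) :
    QuadraticMap.polarBilin (qfMinus m F c d) u (wE m b) = u (Sum.inl (Sum.inr b)) := by
  rw [polar_minus_apply]
  simp [wE, Pi.single_apply]

theorem polar_minus_wF (u : (Fin m ⊕ Fin m) ⊕ Fin 2 → F) (b : Fin m) :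
    QuadraticMap.polarBilin (qfMinus m F c d) u (wF m b) = u (Sum.inl (Sum.inl b)) := by
  rw [polar_minus_apply]
  simp [wF, Pi.single_apply]

theorem polar_minus_wH (u : (Fin m ⊕ Fin m) ⊕ Fin 2 → F) (b : Fin m) :
    QuadraticMap.polarBilin (qfMinus m F c d) u (wH m b) =
      u (Sum.inl (Sum.inr b)) + u (Sum.inl (Sum.inl b)) := by
  unfold wH
  rw [map_add, polar_minus_wE, polar_minus_wF]

theorem polar_minus_wZ (u : (Fin m ⊕ Fin m) ⊕ Fin 2 → F) :
    QuadraticMap.polarBilin (qfMinus m F c d) u (wZ m) = 2 * u (Sum.inr 0) + c * u (Sum.inr 1) := by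
  rw [polar_minus_apply]
  simp [wZ, Pi.single_apply]

theorem minus_wE (a : Fin m) : qfMinus m F c d (wE m a) = 0 := by
  change Cfsg.quadFormMinus m F c d (wE m a) = 0
  simp [Cfsg.quadFormMinus, wE, Pi.single_apply]

theorem minus_wH (a : Fin m) : qfMinus m F c d (wH m a) = 1 := by
  change Cfsg.quadFormMinus m F c d (wH m a) = 1
  simp [Cfsg.quadFormMinus, wH, wE, wF, Pi.single_apply]

theorem minus_wZ : qfMinus m F c d (wZ m) = 1 := by
  change Cfsg.quadFormMinus m F c d (wZ m) = 1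
  simp [Cfsg.quadFormMinus, wZ, Pi.single_apply]

theorem polar_minus_wE_wE (a b : Fin m) :
    QuadraticMap.polarBilin (qfMinus m F c d) (wE m a) (wE m b) = 0 := by
  rw [polar_minus_wE]
  simp [wE]

theorem polar_minus_wH_wH (a b : Fin m) (hab : a ≠ b) :
    QuadraticMap.polarBilin (qfMinus m F c d) (wH m a) (wH m b) = 0 := by
  rw [polar_minus_wH]
  simp [wH, wE, wF, Pi.single_apply, hab.symm]

theorem polar_minus_wH_wZ (a : Fin m) :
    QuadraticMap.polarBilin (qfMinus m F c d) (wH m a) (wZ m) = 0 := by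
  rw [polar_minus_wZ]
  simp [wH, wE, wF]

theorem polar_minus_wZ_wH (a : Fin m) :
    QuadraticMap.polarBilin (qfMinus m F c d) (wZ m) (wH m a) = 0 := by
  rw [polar_symm, polar_minus_wH_wZ]

theorem linearIndependent_wE {κ : Type*} (emb : κ → Fin m) (hemb : Function.Injective emb) :
    LinearIndependent F (fun k => (wE m (emb k) : (Fin m ⊕ Fin m) ⊕ Fin 2 → F)) := by
  apply LinearIndependent.of_comp
    (LinearMap.funLeft F F (fun i : Fin m => (Sum.inl (Sum.inl i) : (Fin m ⊕ Fin m) ⊕ Fin 2)))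
  have : (⇑(LinearMap.funLeft F F (fun i : Fin m => (Sum.inl (Sum.inl i) : (Fin m ⊕ Fin m) ⊕ Fin 2))) ∘
      fun k => (wE m (emb k) : (Fin m ⊕ Fin m) ⊕ Fin 2 → F)) =
        (fun a => Pi.basisFun F (Fin m) a) ∘ emb := by
    funext k
    ext i
    simp [wE, LinearMap.funLeft_apply, Pi.single_apply]
  rw [this]
  exact (Pi.basisFun F (Fin m)).linearIndependent.comp emb hemb

theorem linearIndependent_wH {κ : Type*} (emb : κ → Fin m) (hemb : Function.Injective emb) :
    LinearIndependent F (fun k => (wH m (emb k) : (Fin m ⊕ Fin m) ⊕ Fin 2 → F)) := by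
  apply LinearIndependent.of_comp
    (LinearMap.funLeft F F (fun i : Fin m => (Sum.inl (Sum.inl i) : (Fin m ⊕ Fin m) ⊕ Fin 2)))
  have : (⇑(LinearMap.funLeft F F (fun i : Fin m => (Sum.inl (Sum.inl i) : (Fin m ⊕ Fin m) ⊕ Fin 2))) ∘
      fun k => (wH m (emb k) : (Fin m ⊕ Fin m) ⊕ Fin 2 → F)) =
        (fun a => Pi.basisFun F (Fin m) a) ∘ emb := by
    funext k
    ext i
    simp [wH, wE, wF, LinearMap.funLeft_apply, Pi.single_apply]
  rw [this]
  exact (Pi.basisFun F (Fin m)).linearIndependent.comp emb hemb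

/-- the frame `z_1, e_0 + f_0, …, e_(k-1) + f_(k-1)` -/
def wFrame {k : ℕ} (hk : k ≤ m) : Fin (k + 1) → ((Fin m ⊕ Fin m) ⊕ Fin 2 → F) :=
  Fin.cons (wZ m) (fun a => wH m (Fin.castLE hk a))

theorem linearIndependent_wFrame {k : ℕ} (hk : k ≤ m) :
    LinearIndependent F (wFrame (F := F) m hk) := by
  unfold wFrame
  rw [linearIndependent_fin_cons]
  refine ⟨linearIndependent_wH m (Fin.castLE hk) (Fin.castLE_injective hk), ?_⟩
  intro hmem
  have hle : Submodule.span F (Set.range fun a : Fin k => (wH m (Fin.castLE hk a) :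
      (Fin m ⊕ Fin m) ⊕ Fin 2 → F)) ≤
      LinearMap.ker (LinearMap.proj (R := F) (φ := fun _ => F)
        (Sum.inr 0 : (Fin m ⊕ Fin m) ⊕ Fin 2)) := by
    rw [Submodule.span_le]
    rintro _ ⟨a, rfl⟩
    rw [SetLike.mem_coe, LinearMap.mem_ker, LinearMap.proj_apply]
    simp [wH, wE, wF]
  have := hle hmem
  rw [LinearMap.mem_ker, LinearMap.proj_apply] at this
  simp [wZ] at this

theorem wFrame_orth {k : ℕ} (hk : k ≤ m) (a b : Fin (k + 1)) (hab : a ≠ b) :
    QuadraticMap.polarBilin (qfMinus m F c d) (wFrame (F := F) m hk a) (wFrame m hk b) = 0 := by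
  unfold wFrame
  induction a using Fin.cases with
  | zero =>
    induction b using Fin.cases with
    | zero => exact absurd rfl hab
    | succ b =>
      simp only [Fin.cons_zero, Fin.cons_succ]
      exact polar_minus_wZ_wH m c d _
  | succ a =>
    induction b using Fin.cases with
    | zero =>
      simp only [Fin.cons_zero, Fin.cons_succ]
      exact polar_minus_wH_wZ m c d _
    | succ b =>
      simp only [Fin.cons_succ]
      apply polar_minus_wH_wH
      intro h
      apply hab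
      rw [Fin.castLE_injective hk h]

theorem wFrame_norm {k : ℕ} (hk : k ≤ m) (a : Fin (k + 1)) :
    qfMinus m F c d (wFrame (F := F) m hk a) = 1 := by
  unfold wFrame
  induction a using Fin.cases with
  | zero =>
    simp only [Fin.cons_zero]
    exact minus_wZ m c d
  | succ a =>
    simp only [Fin.cons_succ]
    exact minus_wH m c d _

end minus

end Cfsg.Agent.Lib.Helper43
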