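import Cfsg.Agent.Lib.Helper43.ReflGen
import Cfsg.Agent.Lib.Helper43.WittIndex

set_option autoImplicit false

/-! Generation by reflections in characteristic two, second version: the exceptional case
`(|F|, dim) = (2, 4)` is allowed when there is no totally singular plane (minus type). -/

namespace Cfsg.Agent.Lib.Helper43

open Module Cfsg.Agent.Lib.Helper19

variable {F V : Type*} [Field F] [AddCommGroup V] [Module F V]
variable (Q : QuadraticForm F V)

set_option maxHeartbeats 800000 in
/-- generation by reflections, characteristic two, by induction on the rank of `g - 1` -/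
theorem refl_generate_char_two_aux' [Fintype F] [CharP F 2] [FiniteDimensional F V]
    (hQ : (QuadraticMap.polarBilin Q).Nondegenerate)
    (hS : ∀ p z : V, Q p = 0 → Q z = 0 → QuadraticMap.polarBilin Q p z = 0 →
      LinearIndependent F ![p, z] →
      ∃ l : List V, (∀ u ∈ l, Q u ≠ 0) ∧ siegelLin Q p z = (l.map (reflLin Q)).prod) :
    ∀ (d : ℕ) (g : V →ₗ[F] V), (∀ v, Q (g v) = Q v) →
      finrank F V - finrank F (fixSpace g) = d →
      ∃ l : List V, (∀ u ∈ l, Q u ≠ 0) ∧ g = (l.map (reflLin Q)).prod := by
  intro d
  induction d using Nat.strong_induction_on with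
  | _ d ih =>
  intro g hg hd
  have hfixle : ∀ g' : V →ₗ[F] V, finrank F (fixSpace g') ≤ finrank F V :=
    fun g' => Submodule.finrank_le _
  by_cases hA : ∃ u, Q (g u - u) ≠ 0
  · obtain ⟨u, hu⟩ := hA
    set w := g u - u with hw
    have h1 := finrank_fixSpace_refl_of_mem hQ g hg w hu ⟨u, rfl⟩
    have hg' : ∀ v, Q ((reflLin Q w ∘ₗ g) v) = Q v := by
      intro v
      rw [LinearMap.comp_apply, reflLin_isometry Q w hu, hg]
    have h2 := hfixle (reflLin Q w ∘ₗ g)
    obtain ⟨l', hl', hgl'⟩ := ih (finrank F V - finrank F (fixSpace (reflLin Q w ∘ₗ g)))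
      (by omega) (reflLin Q w ∘ₗ g) hg' rfl
    refine ⟨w :: l', ?_, ?_⟩
    · intro x hx
      rcases List.mem_cons.1 hx with rfl | hx
      · exact hu
      · exact hl' x hx
    · rw [List.map_cons, List.prod_cons, ← hgl']
      apply LinearMap.ext
      intro x
      rw [Module.End.mul_apply, LinearMap.comp_apply, reflLin_mul_self' w hu]
  · push Not at hA
    by_cases hg1 : g = LinearMap.id
    · exact ⟨[], by simp, by rw [hg1]; rfl⟩
    set N : V →ₗ[F] V := g - LinearMap.id with hN
    have hNapp : ∀ v, N v = g v - v := fun v => rfl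
    have hgN : ∀ v, g v = v + N v := fun v => by rw [hNapp]; abel
    have hQN : ∀ v, Q (N v) = 0 := fun v => hA v
    have hNN : ∀ u v, QuadraticMap.polarBilin Q (N u) (N v) = 0 := by
      intro u v
      have h1 := Q_add Q (N u) (N v)
      rw [← map_add, hQN, hQN, hQN] at h1
      linear_combination -h1
    have hNu : ∀ u, QuadraticMap.polarBilin Q (N u) u = 0 := by
      intro u
      have h1 := Q_residual g hg u
      rw [← hNapp, hQN] at h1
      linear_combination h1
    have hadj : ∀ u v, QuadraticMap.polarBilin Q (N u) v = QuadraticMap.polarBilin Q (N v) u := by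
      intro u v
      have h1 := hNu (u + v)
      simp only [map_add, LinearMap.add_apply, hNu, zero_add, add_zero] at h1
      have h2 : QuadraticMap.polarBilin Q (N v) u + QuadraticMap.polarBilin Q (N v) u = 0 :=
        CharTwo.add_self_eq_zero _
      linear_combination h1 - h2
    obtain ⟨v0, hv0⟩ : ∃ v0, N v0 ≠ 0 := by
      by_contra hcon
      push Not at hcon
      apply hg1
      apply LinearMap.ext
      intro v
      rw [hgN, hcon, add_zero]; rfl
    obtain ⟨u0, hu0⟩ : ∃ u0, QuadraticMap.polarBilin Q (N v0) u0 ≠ 0 := by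
      by_contra hcon
      push Not at hcon
      exact hv0 (hQ.1 _ hcon)
    set x := (QuadraticMap.polarBilin Q (N v0) u0)⁻¹ • u0 with hx
    set y := v0 with hy
    have hyx : QuadraticMap.polarBilin Q (N y) x = 1 := by
      rw [hx, map_smul, smul_eq_mul, inv_mul_cancel₀ hu0]
    have hxy : QuadraticMap.polarBilin Q (N x) y = 1 := by rw [hadj, hyx]
    set p := N x with hp
    set z := N y with hz
    have hzy : QuadraticMap.polarBilin Q z y = 0 := hNu y
    have hpx : QuadraticMap.polarBilin Q p x = 0 := hNu x
    have hind : LinearIndependent F ![p, z] := by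
      rw [LinearIndependent.pair_iff]
      intro c e hce
      have h1 := congrArg (fun t => QuadraticMap.polarBilin Q t x) hce
      have h2 := congrArg (fun t => QuadraticMap.polarBilin Q t y) hce
      simp only [map_add, map_smul, LinearMap.add_apply, LinearMap.smul_apply, smul_eq_mul,
        map_zero, LinearMap.zero_apply, hNu, hyx, hxy, hzy, hpx, mul_zero, mul_one, zero_add, add_zero]
        at h1 h2
      exact ⟨h2, h1⟩
    have hpz : QuadraticMap.polarBilin Q p z = 0 := hNN x y
    have hpp : QuadraticMap.polarBilin Q p p = 0 := hNN x x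
    have hQp : Q p = 0 := hQN x
    have hQz : Q z = 0 := hQN y
    have hE : ∀ v, siegelLin Q p z v = v + QuadraticMap.polarBilin Q v z • p +
        (-QuadraticMap.polarBilin Q v p) • z := by
      intro v
      rw [siegelLin_apply, hQz, zero_mul, sub_zero]
    set g' : V →ₗ[F] V := siegelLin Q p z ∘ₗ g with hg'def
    have hg' : ∀ v, Q (g' v) = Q v := by
      intro v
      rw [hg'def, LinearMap.comp_apply, siegelLin_isometry Q p z hQp hpz, hg]
    have hsub : fixSpace g ≤ fixSpace g' := by
      intro v hv
      rw [mem_fixSpace] at hv ⊢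
      have hNv : N v = 0 := by rw [hNapp, hv, sub_self]
      have h1 : QuadraticMap.polarBilin Q v z = 0 := by
        rw [polar_symm, hadj, hNv, map_zero, LinearMap.zero_apply]
      have h2 : QuadraticMap.polarBilin Q v p = 0 := by
        rw [polar_symm, hadj, hNv, map_zero, LinearMap.zero_apply]
      rw [hg'def, LinearMap.comp_apply, hv, hE, h1, h2]
      simp
    have hxfix : x ∈ fixSpace g' := by
      rw [mem_fixSpace, hg'def, LinearMap.comp_apply, hgN x, hE]
      have h1 : QuadraticMap.polarBilin Q (x + p) z = 1 := by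
        rw [map_add, LinearMap.add_apply, hpz, add_zero, polar_symm, hyx]
      have h2 : QuadraticMap.polarBilin Q (x + p) p = 0 := by
        rw [map_add, LinearMap.add_apply, hpp, add_zero, polar_symm, hNu]
      rw [h1, h2, one_smul, neg_zero, zero_smul, add_zero, add_assoc]
      have : p + p = 0 := by rw [← two_smul F p, CharTwo.two_eq_zero, zero_smul]
      rw [this, add_zero]
    have hxnot : x ∉ fixSpace g := by
      rw [mem_fixSpace, hgN x]
      intro h
      have hp0 : p = 0 := by
        have := add_eq_left.1 h
        exact this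
      rw [hp0, map_zero, LinearMap.zero_apply] at hxy
      exact zero_ne_one hxy
    have hlt : fixSpace g < fixSpace g' := by
      refine lt_of_le_of_ne hsub ?_
      intro heq
      exact hxnot (heq ▸ hxfix)
    have h1 := Submodule.finrank_lt_finrank_of_lt hlt
    have h2 := hfixle g'
    obtain ⟨l', hl', hgl'⟩ := ih (finrank F V - finrank F (fixSpace g')) (by omega) g' hg' rfl
    obtain ⟨l4, hl4, hEl4⟩ := hS p z hQp hQz hpz hind
    refine ⟨l4 ++ l', ?_, ?_⟩
    · intro u hu
      rcases List.mem_append.1 hu with hu | hu
      · exact hl4 u hu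
      · exact hl' u hu
    · rw [List.map_append, List.prod_append, ← hgl', ← hEl4, hg'def]
      have hEE : siegelLin Q p z ∘ₗ siegelLin Q p z = LinearMap.id := by
        rw [siegelLin_comp Q p z z hQp hpz hpz]
        have : z + z = 0 := by rw [← two_smul F z, CharTwo.two_eq_zero, zero_smul]
        rw [this, siegelLin_zero]
      apply LinearMap.ext
      intro v
      rw [Module.End.mul_apply, LinearMap.comp_apply]
      have := LinearMap.congr_fun hEE (g v)
      rw [LinearMap.comp_apply, LinearMap.id_apply] at this
      exact this.symm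


/-- generation by reflections when there is no totally singular plane -/
theorem refl_generate_char_two_of_no_plane [Fintype F] [CharP F 2] [FiniteDimensional F V]
    (hQ : (QuadraticMap.polarBilin Q).Nondegenerate)
    (hno : ∀ W : Submodule F V, 1 < finrank F W → ∃ w ∈ W, Q w ≠ 0)
    (g : V →ₗ[F] V) (hg : ∀ v, Q (g v) = Q v) :
    ∃ l : List V, (∀ u ∈ l, Q u ≠ 0) ∧ g = (l.map (reflLin Q)).prod := by
  refine refl_generate_char_two_aux' Q hQ ?_ _ g hg rfl
  intro p z hQp hQz hpz hind
  exfalso
  obtain ⟨w, hw, hQw⟩ := hno (Submodule.span F (Set.range ![p, z])) (by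
    rw [finrank_span_eq_card hind]
    simp)
  apply hQw
  have hts : ∀ x ∈ Submodule.span F (Set.range ![p, z]), Q x = 0 := by
    intro x hx
    rw [Submodule.mem_span_range_iff_exists_fun] at hx
    obtain ⟨c, rfl⟩ := hx
    rw [Fin.sum_univ_two]
    simp only [Matrix.cons_val_zero, Matrix.cons_val_one]
    rw [Q_add, Q_smul, Q_smul, hQp, hQz, map_smul, map_smul, LinearMap.smul_apply, hpz]
    simp
  exact hts w hw

end Cfsg.Agent.Lib.Helper43
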