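import Cfsg.Agent.Lib.Helper43.SpCount
import Cfsg.Agent.Lib.Helper43.OrthFramesMinus
import Cfsg.Agent.Lib.Helper43.ReflGen2

set_option autoImplicit false

/-! Counting classes of involutions in `Ω(Q)` (characteristic two). -/

namespace Cfsg.Agent.Lib.Helper43

open Module Matrix Cfsg.Agent.Lib.Helper19

/-- reflections generate the minus type orthogonal groups in characteristic two, all cases -/
theorem reflGenerated_minus {F : Type*} [Field F] [Fintype F] [CharP F 2] (m : ℕ) (c d : F)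
    (hc : c ≠ 0)
    (hcd : ∀ z₁ z₂ : F, z₁ ^ 2 + c * z₁ * z₂ + d * z₂ ^ 2 = 0 → z₁ = 0 ∧ z₂ = 0) :
    ReflGenerated (qfMinus m F c d) := by
  have hQ := qfMinus_nondegenerate m F c d hc
  by_cases h : Fintype.card F ≠ 2 ∨ Fintype.card ((Fin m ⊕ Fin m) ⊕ Fin 2) ≠ 4
  · exact reflGenerated_char_two _ hQ h
  · push Not at h
    have hm : m = 1 := by
      have := h.2
      rw [Fintype.card_sum, Fintype.card_sum, Fintype.card_fin, Fintype.card_fin] at this
      omega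
    subst hm
    intro g hg
    exact refl_generate_char_two_of_no_plane _ hQ
      (fun W hW => exists_nonsingular_minus 1 c d hc hcd W hW) g hg

variable {F : Type*} [Field F] {ι : Type} [Fintype ι] [DecidableEq ι]
variable (Q : QuadraticForm F (ι → F))

theorem coe_rank_pos_of_ne_one [CharP F 2] (x : ↥(Cfsg.Omega F ⇑Q)) (hx : x ≠ 1) :
    0 < ((((x : ↥(Cfsg.isometryGroup F ⇑Q)) : GL ι F) : Matrix ι ι F) - 1).rank := by
  apply rank_pos_of_ne_one
  intro h
  apply hx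
  exact Subtype.ext h

/-- classes of involutions of `Ω(Q)` when no class splits -/
theorem card_invol_classes_Omega_nosplit [Fintype F] [CharP F 2]
    (hQ : (QuadraticMap.polarBilin Q).Nondegenerate) (hgen : ReflGenerated Q)
    (m cmax amax : ℕ) (hcard : Fintype.card ι = 2 * m)
    (hns : ∀ W : Submodule F (ι → F), m ≤ finrank F W → ∃ w ∈ W, Q w ≠ 0)
    (hc : ∀ k : Fin cmax, ∃ g : ↥(Cfsg.isometryGroup F ⇑Q), g * g = 1 ∧
      (((g : GL ι F) : Matrix ι ι F) - 1).rank = 2 * (k + 1) ∧ ¬ (∀ v, Q (v + linOf Q g v) = 0))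
    (ha : ∀ i : Fin amax, ∃ g : ↥(Cfsg.isometryGroup F ⇑Q), g * g = 1 ∧
      (((g : GL ι F) : Matrix ι ι F) - 1).rank = 2 * (i + 1) ∧ (∀ v, Q (v + linOf Q g v) = 0))
    (hcb : ∀ g : ↥(Cfsg.isometryGroup F ⇑Q), g * g = 1 → ¬ (∀ v, Q (v + linOf Q g v) = 0) →
      (((g : GL ι F) : Matrix ι ι F) - 1).rank ≤ 2 * cmax + 1)
    (hab : ∀ g : ↥(Cfsg.isometryGroup F ⇑Q), g * g = 1 → (∀ v, Q (v + linOf Q g v) = 0) →
      (((g : GL ι F) : Matrix ι ι F) - 1).rank ≤ 2 * amax + 1) :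
    Nat.card {C : ConjClasses ↥(Cfsg.Omega F ⇑Q) //
      ∃ g : ↥(Cfsg.Omega F ⇑Q), ConjClasses.mk g = C ∧ orderOf g = 2} = cmax + amax := by
  classical
  choose gc hgc2 hgcr hgct using hc
  choose ga hga2 hgar hgat using ha
  have hmemc : ∀ k, gc k ∈ Cfsg.Omega F ⇑Q := by
    intro k
    rw [mem_Omega_iff_even_rank Q hQ hgen, hgcr]
    exact ⟨k + 1, by ring⟩
  have hmema : ∀ i, ga i ∈ Cfsg.Omega F ⇑Q := by
    intro i
    rw [mem_Omega_iff_even_rank Q hQ hgen, hgar]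
    exact ⟨i + 1, by ring⟩
  have hcount := card_invol_classes (G := ↥(Cfsg.Omega F ⇑Q))
    (fun x => (((((x : ↥(Cfsg.isometryGroup F ⇑Q)) : GL ι F) : Matrix ι ι F) - 1).rank,
      (∀ v, Q (v + linOf Q (x : ↥(Cfsg.isometryGroup F ⇑Q)) v) = 0)))
    (Sum.elim (fun k => ⟨gc k, hmemc k⟩) (fun i => ⟨ga i, hmema i⟩)) ?_ ?_ ?_ ?_
  · rw [hcount, Fintype.card_sum, Fintype.card_fin, Fintype.card_fin]
  · intro x y hox hoy
    obtain ⟨hx2, -⟩ := (Cfsg.Agent.Lib.Helper43.orderOf_eq_two_iff x).1 hox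
    obtain ⟨hy2, -⟩ := (Cfsg.Agent.Lib.Helper43.orderOf_eq_two_iff y).1 hoy
    have hx2' : (x : ↥(Cfsg.isometryGroup F ⇑Q)) * x = 1 := congrArg Subtype.val hx2
    have hy2' : (y : ↥(Cfsg.isometryGroup F ⇑Q)) * y = 1 := congrArg Subtype.val hy2
    rw [Prod.mk.injEq, eq_iff_iff, ← isConj_iff_invariants Q hQ _ _ hx2' hy2']
    constructor
    · intro h
      obtain ⟨c, hc⟩ := isConj_iff.1 h
      exact isConj_iff.2 ⟨(c : ↥(Cfsg.isometryGroup F ⇑Q)), congrArg Subtype.val hc⟩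
    · intro h
      have hfix := card_le_two_mul_finrank_fixSpace Q (x : ↥(Cfsg.isometryGroup F ⇑Q)) hx2'
      obtain ⟨w, hwfix, hw⟩ := hns (fixSpace (linOf Q (x : ↥(Cfsg.isometryGroup F ⇑Q))))
        (by omega)
      obtain ⟨g, hgO, hg⟩ := exists_conj_mem_Omega Q hQ hgen _ _ h w hw
        ((mem_fixSpace _ _).1 hwfix)
      exact isConj_iff.2 ⟨⟨g, hgO⟩, Subtype.ext hg⟩
  · rintro (k | i)
    · rw [Cfsg.Agent.Lib.Helper43.orderOf_eq_two_iff]
      refine ⟨Subtype.ext (hgc2 k), ?_⟩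
      intro h
      have h' : gc k = 1 := congrArg Subtype.val h
      refine ne_one_of_rank_pos Q (gc k) ?_ h'
      rw [hgcr k]
      omega
    · rw [Cfsg.Agent.Lib.Helper43.orderOf_eq_two_iff]
      refine ⟨Subtype.ext (hga2 i), ?_⟩
      intro h
      have h' : ga i = 1 := congrArg Subtype.val h
      refine ne_one_of_rank_pos Q (ga i) ?_ h'
      rw [hgar i]
      omega
  · rintro (k | i) (k' | i') h
    · simp only [Sum.elim_inl, Prod.mk.injEq] at h
      rw [hgcr k, hgcr k'] at h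
      have : (k : ℕ) = k' := by omega
      rw [Fin.ext this]
    · simp only [Sum.elim_inl, Sum.elim_inr, Prod.mk.injEq, eq_iff_iff] at h
      exact absurd (h.2.2 (hgat i')) (hgct k)
    · simp only [Sum.elim_inl, Sum.elim_inr, Prod.mk.injEq, eq_iff_iff] at h
      exact absurd (h.2.1 (hgat i)) (hgct k')
    · simp only [Sum.elim_inr, Prod.mk.injEq] at h
      rw [hgar i, hgar i'] at h
      have : (i : ℕ) = i' := by omega
      rw [Fin.ext this]
  · intro x hx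
    obtain ⟨hx2, hx1⟩ := (Cfsg.Agent.Lib.Helper43.orderOf_eq_two_iff x).1 hx
    have hx2' : (x : ↥(Cfsg.isometryGroup F ⇑Q)) * x = 1 := congrArg Subtype.val hx2
    have hpos := coe_rank_pos_of_ne_one Q x hx1
    obtain ⟨r, hr⟩ := (mem_Omega_iff_even_rank Q hQ hgen (x : ↥(Cfsg.isometryGroup F ⇑Q))).1 x.2
    by_cases halt : ∀ v, Q (v + linOf Q (x : ↥(Cfsg.isometryGroup F ⇑Q)) v) = 0
    · have hb := hab _ hx2' halt
      have hr2 : r - 1 < amax := by omega
      refine ⟨Sum.inr ⟨r - 1, hr2⟩, ?_⟩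
      simp only [Sum.elim_inr, Prod.mk.injEq, eq_iff_iff]
      refine ⟨?_, fun _ => hgat _, fun _ => halt⟩
      rw [hgar]
      simp only
      omega
    · have hb := hcb _ hx2' halt
      have hr2 : r - 1 < cmax := by omega
      refine ⟨Sum.inl ⟨r - 1, hr2⟩, ?_⟩
      simp only [Sum.elim_inl, Prod.mk.injEq, eq_iff_iff]
      refine ⟨?_, fun h => absurd h halt, fun h => absurd h (hgct _)⟩
      rw [hgcr]
      simp only
      omega

end Cfsg.Agent.Lib.Helper43
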