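import Cfsg.Agent.Lib.Helper43.AutOm4

set_option autoImplicit false
set_option linter.unusedSimpArgs false
set_option linter.unusedVariables false
set_option linter.unusedSectionVars false

/-! Automorphisms of `PΩ`: additive maps of `⟨e,f⟩^⊥` commuting with the Siegel transformations
of that space are scalars. -/

namespace Cfsg.Agent.Lib.Helper43.AutOm

open Module Matrix Cfsg.Agent.Lib.Helper19 Cfsg.Agent.Lib.Helper43

variable {F : Type*} [Field F] [Fintype F] {ι : Type} [Fintype ι] [DecidableEq ι]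
variable (Q : QuadraticForm F (ι → F))

local notation "ℬ" => QuadraticMap.polarBilin Q

variable (hQ : (QuadraticMap.polarBilin Q).Nondegenerate) (hn : 7 ≤ Fintype.card ι)
include hQ hn

/-- a singular vector orthogonal to finitely many vectors, outside a small subspace -/
theorem exists_singular_orth_finset (S : Finset (ι → F)) (U : Submodule F (ι → F))
    (h : finrank F U + S.card + 3 ≤ Fintype.card ι) :
    ∃ s : ι → F, s ∉ U ∧ Q s = 0 ∧ ∀ y ∈ S, ℬ y s = 0 := by
  have h1 : finrank F (Submodule.span F (S : Set (ι → F))) ≤ S.card :=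
    finrank_span_finset_le_card S
  have h2 := finrank_add_finrank_orthC Q hQ (Submodule.span F (S : Set (ι → F)))
  obtain ⟨s, hsW, hsU, hs⟩ := exists_singular_mem_notMem Q
    (orthC Q (Submodule.span F (S : Set (ι → F)))) U (by omega)
  refine ⟨s, hsU, hs, ?_⟩
  intro y hy
  rw [mem_orthC] at hsW
  exact hsW y (Submodule.subset_span hy)

/-- vectors of `⟨e,f⟩^⊥` fixed by all Siegel transformations `E_{a,b}`, `b ∈ ⟨e,f⟩^⊥`, lie on
the line of `a` -/
theorem fixed_of_siegel_W (e f a x : ι → F) (he : Q e = 0) (hf : Q f = 0) (hef : ℬ e f = 1)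
    (ha0 : a ≠ 0) (ha : Q a = 0) (hea : ℬ e a = 0) (hfa : ℬ f a = 0)
    (hex : ℬ e x = 0) (hfx : ℬ f x = 0)
    (hx : ∀ b : ι → F, ℬ e b = 0 → ℬ f b = 0 → ℬ a b = 0 → lo Q (sg Q hQ hn a b) x = x) :
    ∃ c : F, x = c • a := by
  classical
  obtain ⟨a', ha', haa'⟩ := exists_partner Q hQ hn a ha0 ha
  obtain ⟨b0, hb0, _, hb0S⟩ := exists_singular_orth_finset Q hQ hn {e, f, a, a'} ⊥ (by
    have : ({e, f, a, a'} : Finset (ι → F)).card ≤ 4 := Finset.card_le_four
    rw [finrank_bot]; omega)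
  have hb0e : ℬ e b0 = 0 := hb0S e (by simp)
  have hb0f : ℬ f b0 = 0 := hb0S f (by simp)
  have hb0a : ℬ a b0 = 0 := hb0S a (by simp)
  have hb0a' : ℬ a' b0 = 0 := hb0S a' (by simp)
  have hb00 : b0 ≠ 0 := by
    rintro rfl
    exact hb0 (Submodule.zero_mem _)
  have key : ∀ b : ι → F, ℬ e b = 0 → ℬ f b = 0 → ℬ a b = 0 →
      (ℬ x b - Q b * ℬ x a) • a + (-ℬ x a) • b = 0 := by
    intro b h1 h2 h3
    have h4 := hx b h1 h2 h3
    rw [lo_sg Q hQ hn a b ha h3, add_assoc] at h4
    have h5 : x + ((ℬ x b - Q b * ℬ x a) • a + (-ℬ x a) • b) = x + 0 := by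
      rw [add_zero]; exact h4
    exact add_left_cancel h5
  have hxa : ℬ x a = 0 := by
    have h1 := key b0 hb0e hb0f hb0a
    have h2 := congrArg (fun y => ℬ y a') h1
    simp only [map_add, map_smul, LinearMap.add_apply, LinearMap.smul_apply, haa',
      polar_symm Q b0 a', hb0a', smul_eq_mul, mul_one, mul_zero, add_zero, map_zero,
      LinearMap.zero_apply] at h2
    rw [h2, zero_smul, zero_add] at h1
    rcases smul_eq_zero.1 h1 with h3 | h3
    · exact neg_eq_zero.1 h3
    · exact absurd h3 hb00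
  have hall : ∀ b : ι → F, ℬ e b = 0 → ℬ f b = 0 → ℬ a b = 0 → ℬ x b = 0 := by
    intro b h1 h2 h3
    have h4 := key b h1 h2 h3
    rw [hxa, mul_zero, sub_zero, neg_zero, zero_smul, add_zero] at h4
    rcases smul_eq_zero.1 h4 with h5 | h5
    · exact h5
    · exact absurd h5 ha0
  have hmem : x ∈ orthC Q (orthC Q (Submodule.span F {a})) := by
    rw [mem_orthC]
    intro y hy
    rw [mem_orthC] at hy
    have hay : ℬ a y = 0 := hy a (Submodule.subset_span rfl)
    obtain ⟨w, hw1, hw2, hyd⟩ := exists_decomp_hyp Q hQ hn e f he hf hef y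
    have haw : ℬ a w = 0 := by
      have h1 := congrArg (fun z => ℬ a z) hyd
      simp only [map_add, map_smul, polar_symm Q a e, hea, polar_symm Q a f, hfa, smul_eq_mul,
        mul_zero, zero_add, add_zero] at h1
      rw [← h1]; exact hay
    rw [polar_symm, hyd]
    simp only [map_add, map_smul, polar_symm Q x e, hex, polar_symm Q x f, hfx, smul_eq_mul,
      mul_zero, zero_add, add_zero]
    exact hall w hw1 hw2 haw
  rw [orthC_orthC Q hQ, Submodule.mem_span_singleton] at hmem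
  obtain ⟨c, hc⟩ := hmem
  exact ⟨c, hc.symm⟩

/-- a hyperbolic pair inside `⟨e,f⟩^⊥` -/
theorem exists_hyp_pair_W (e f : ι → F) (he : Q e = 0) (hf : Q f = 0) (hef : ℬ e f = 1) :
    ∃ a a' : ι → F, Q a = 0 ∧ Q a' = 0 ∧ ℬ a a' = 1 ∧ ℬ e a = 0 ∧ ℬ f a = 0 ∧ ℬ e a' = 0 ∧
      ℬ f a' = 0 := by
  obtain ⟨a, ha0, ha, hea, hfa⟩ := exists_orth_pair_ne_zero Q hQ hn e f
  obtain ⟨a1, ha1, haa1⟩ := exists_partner Q hQ hn a ha0 ha
  obtain ⟨w, hw1, hw2, hd⟩ := exists_decomp_hyp Q hQ hn e f he hf hef a1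
  have haw : ℬ a w = 1 := by
    have h1 := congrArg (fun z => ℬ a z) hd
    simp only [map_add, map_smul, polar_symm Q a e, hea, polar_symm Q a f, hfa, smul_eq_mul,
      mul_zero, zero_add, add_zero] at h1
    rw [← h1]; exact haa1
  refine ⟨a, w - Q w • a, ha, ?_, ?_, hea, hfa, ?_, ?_⟩
  · rw [Q_sub, Q_smul, ha, map_smul, polar_symm Q w a, haw]
    simp
  · rw [map_sub, map_smul, polar_self', ha, haw]
    simp
  · rw [map_sub, map_smul, hw1, hea]
    simp
  · rw [map_sub, map_smul, hw2, hfa]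
    simp

/-- additive maps of `⟨e,f⟩^⊥` commuting with its Siegel transformations are scalars -/
theorem scalar_of_commute (e f : ι → F) (he : Q e = 0) (hf : Q f = 0) (hef : ℬ e f = 1)
    (ψ : (ι → F) → (ι → F))
    (hψW : ∀ w : ι → F, ℬ e w = 0 → ℬ f w = 0 → ℬ e (ψ w) = 0 ∧ ℬ f (ψ w) = 0)
    (hψadd : ∀ w1 w2 : ι → F, ℬ e w1 = 0 → ℬ f w1 = 0 → ℬ e w2 = 0 → ℬ f w2 = 0 →
      ψ (w1 + w2) = ψ w1 + ψ w2)
    (hψc : ∀ a b w : ι → F, Q a = 0 → ℬ e a = 0 → ℬ f a = 0 → ℬ e b = 0 → ℬ f b = 0 →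
      ℬ a b = 0 → ℬ e w = 0 → ℬ f w = 0 →
      ψ (lo Q (sg Q hQ hn a b) w) = lo Q (sg Q hQ hn a b) (ψ w)) :
    ∃ lam : F, ∀ w : ι → F, ℬ e w = 0 → ℬ f w = 0 → ψ w = lam • w := by
  classical
  have hψ0 : ψ 0 = 0 := by
    have h := hψadd 0 0 (by simp) (by simp) (by simp) (by simp)
    rw [add_zero] at h
    have h2 : ψ 0 + 0 = ψ 0 + ψ 0 := by rw [add_zero]; exact h
    exact (add_left_cancel h2).symm
  -- step 2: `ψ (t a)` lies on the line of `a`
  have hline : ∀ a : ι → F, a ≠ 0 → Q a = 0 → ℬ e a = 0 → ℬ f a = 0 → ∀ t : F,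
      ∃ c : F, ψ (t • a) = c • a := by
    intro a ha0 ha hea hfa t
    have hta1 : ℬ e (t • a) = 0 := by rw [map_smul, hea, smul_zero]
    have hta2 : ℬ f (t • a) = 0 := by rw [map_smul, hfa, smul_zero]
    obtain ⟨h1, h2⟩ := hψW (t • a) hta1 hta2
    apply fixed_of_siegel_W Q hQ hn e f a _ he hf hef ha0 ha hea hfa h1 h2
    intro b hb1 hb2 hb3
    rw [← hψc a b (t • a) ha hea hfa hb1 hb2 hb3 hta1 hta2, map_smul,
      lo_sg_self Q hQ hn a b ha hb3]
  -- step 3a: propagation along orthogonal independent singular vectors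
  have hprop : ∀ (lam : F) (a1 a2 : ι → F), a1 ≠ 0 → Q a1 = 0 → ℬ e a1 = 0 → ℬ f a1 = 0 →
      a2 ≠ 0 → Q a2 = 0 → ℬ e a2 = 0 → ℬ f a2 = 0 → ℬ a1 a2 = 0 → (¬ ∃ c : F, a2 = c • a1) →
      ψ a1 = lam • a1 → ∀ t : F, ψ (t • a2) = (lam * t) • a2 := by
    intro lam a1 a2 h10 h1 h1e h1f h20 h2 h2e h2f h12 hind hlam t
    by_cases ht : t = 0
    · rw [ht, zero_smul, mul_zero, zero_smul, hψ0]
    obtain ⟨c1, hc1⟩ := hline a2 h20 h2 h2e h2f t
    have hs0 : t • a2 + a1 ≠ 0 := by
      intro h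
      apply hind
      refine ⟨-t⁻¹, ?_⟩
      have : t • a2 = -a1 := eq_neg_of_add_eq_zero_left h
      rw [neg_smul, ← smul_neg, ← this, smul_smul, inv_mul_cancel₀ ht, one_smul]
    have hsQ : Q (t • a2 + a1) = 0 := by
      rw [Q_add, Q_smul, h2, h1, map_smul, LinearMap.smul_apply, polar_symm Q a2 a1, h12]
      simp
    have hse : ℬ e (t • a2 + a1) = 0 := by rw [map_add, map_smul, h2e, h1e]; simp
    have hsf : ℬ f (t • a2 + a1) = 0 := by rw [map_add, map_smul, h2f, h1f]; simp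
    obtain ⟨c3, hc3⟩ := hline (t • a2 + a1) hs0 hsQ hse hsf 1
    rw [one_smul, hψadd (t • a2) a1 (by rw [map_smul, h2e, smul_zero])
      (by rw [map_smul, h2f, smul_zero]) h1e h1f, hc1, hlam, smul_add, smul_smul] at hc3
    -- c1 a2 + lam a1 = c3 t a2 + c3 a1
    have h5 : (c1 - c3 * t) • a2 = (c3 - lam) • a1 := by
      rw [sub_smul, sub_smul, sub_eq_sub_iff_add_eq_add, hc3]
      abel
    have h6 : c1 - c3 * t = 0 := by
      by_contra hne
      apply hind
      refine ⟨(c1 - c3 * t)⁻¹ * (c3 - lam), ?_⟩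
      rw [mul_smul, ← h5, smul_smul, inv_mul_cancel₀ hne, one_smul]
    have h7 : c3 - lam = 0 := by
      rw [h6, zero_smul] at h5
      rcases smul_eq_zero.1 h5.symm with h8 | h8
      · exact h8
      · exact absurd h8 h10
    rw [hc1, sub_eq_zero.1 h6, sub_eq_zero.1 h7]
  -- the base singular vector
  obtain ⟨a0, a0', ha0, ha0', ha0a0', hea0, hfa0, hea0', hfa0'⟩ :=
    exists_hyp_pair_W Q hQ hn e f he hf hef
  have ha00 : a0 ≠ 0 := by
    rintro rfl
    simp at ha0a0'
  obtain ⟨lam, hlam⟩ := hline a0 ha00 ha0 hea0 hfa0 1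
  rw [one_smul] at hlam
  refine ⟨lam, ?_⟩
  -- step 3: all singular vectors
  have hsing : ∀ a : ι → F, Q a = 0 → ℬ e a = 0 → ℬ f a = 0 → ∀ t : F,
      ψ (t • a) = (lam * t) • a := by
    intro a ha hea hfa t
    by_cases haz : a = 0
    · rw [haz, smul_zero, smul_zero, hψ0]
    by_cases hcase : ℬ a0 a = 0 ∧ ¬ ∃ c : F, a = c • a0
    · exact hprop lam a0 a ha00 ha0 hea0 hfa0 haz ha hea hfa hcase.1 hcase.2 hlam t
    · -- an auxiliary singular vector orthogonal to `a0` and `a`, independent of both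
      have haux : ∃ a2 : ι → F, a2 ≠ 0 ∧ Q a2 = 0 ∧ ℬ e a2 = 0 ∧ ℬ f a2 = 0 ∧ ℬ a0 a2 = 0 ∧
          ℬ a a2 = 0 ∧ (¬ ∃ c : F, a2 = c • a0) ∧ (¬ ∃ c : F, a = c • a2) := by
        by_cases hdep : ∃ c : F, a = c • a0
        · obtain ⟨c, hc⟩ := hdep
          have hc0 : c ≠ 0 := by
            rintro rfl
            rw [zero_smul] at hc
            exact haz hc
          obtain ⟨a2, ha2U, ha2, ha2S⟩ := exists_singular_orth_finset Q hQ hn {e, f, a0}
            (Submodule.span F {a0}) (by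
              have h1 : ({e, f, a0} : Finset (ι → F)).card ≤ 3 := Finset.card_le_three
              have h2 := finrank_span_singleton_le (F := F) a0
              omega)
          have h2e : ℬ e a2 = 0 := ha2S e (by simp)
          have h2f : ℬ f a2 = 0 := ha2S f (by simp)
          have h2a : ℬ a0 a2 = 0 := ha2S a0 (by simp)
          refine ⟨a2, ?_, ha2, h2e, h2f, h2a, ?_, ?_, ?_⟩
          · rintro rfl
            exact ha2U (Submodule.zero_mem _)
          · rw [hc, map_smul, LinearMap.smul_apply, h2a, smul_zero]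
          · rintro ⟨d, hd⟩
            apply ha2U
            rw [hd]
            exact Submodule.smul_mem _ _ (Submodule.subset_span rfl)
          · rintro ⟨d, hd⟩
            apply ha2U
            have hd0 : d ≠ 0 := by
              rintro rfl
              rw [zero_smul] at hd
              exact haz hd
            have : a2 = (d⁻¹ * c) • a0 := by
              rw [mul_smul, ← hc, hd, smul_smul, inv_mul_cancel₀ hd0, one_smul]
            rw [this]
            exact Submodule.smul_mem _ _ (Submodule.subset_span rfl)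
        · have hne : ℬ a0 a ≠ 0 := by
            intro h
            exact hcase ⟨h, hdep⟩
          obtain ⟨a2, ha2U, ha2, ha2S⟩ := exists_singular_orth_finset Q hQ hn {e, f, a0, a} ⊥ (by
              have h1 : ({e, f, a0, a} : Finset (ι → F)).card ≤ 4 := Finset.card_le_four
              rw [finrank_bot]; omega)
          have h2e : ℬ e a2 = 0 := ha2S e (by simp)
          have h2f : ℬ f a2 = 0 := ha2S f (by simp)
          have h2a0 : ℬ a0 a2 = 0 := ha2S a0 (by simp)
          have h2a : ℬ a a2 = 0 := ha2S a (by simp)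
          have h20 : a2 ≠ 0 := by
            rintro rfl
            exact ha2U (Submodule.zero_mem _)
          refine ⟨a2, h20, ha2, h2e, h2f, h2a0, h2a, ?_, ?_⟩
          · rintro ⟨d, hd⟩
            have h3 : ℬ a a2 = d * ℬ a a0 := by rw [hd, map_smul, smul_eq_mul]
            rw [h2a, polar_symm Q a a0] at h3
            rcases mul_eq_zero.1 h3.symm with h4 | h4
            · rw [h4, zero_smul] at hd
              exact h20 hd
            · exact hne h4
          · rintro ⟨d, hd⟩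
            have h3 : ℬ a0 a = d * ℬ a0 a2 := by rw [hd, map_smul, smul_eq_mul]
            rw [h2a0, mul_zero] at h3
            exact hne h3
      obtain ⟨a2, h20, h2, h2e, h2f, h2a0, h2a, hind1, hind2⟩ := haux
      have hP2 := hprop lam a0 a2 ha00 ha0 hea0 hfa0 h20 h2 h2e h2f h2a0 hind1 hlam
      have hlam2 : ψ a2 = lam • a2 := by
        have := hP2 1
        rw [one_smul, mul_one] at this
        exact this
      exact hprop lam a2 a h20 h2 h2e h2f haz ha hea hfa (by rw [polar_symm]; exact h2a) hind2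
        hlam2 t
  -- step 4: every vector is a sum of singular vectors
  have hsplit : ∀ (w s : ι → F), ℬ e w = 0 → ℬ f w = 0 → Q s = 0 → ℬ e s = 0 → ℬ f s = 0 →
      ℬ w s ≠ 0 → ψ w = lam • w := by
    intro w s hw1 hw2 hs hse hsf hws
    set t := Q w / ℬ w s with ht
    have h1 : Q (w - t • s) = 0 := by
      rw [Q_sub, Q_smul, hs, map_smul, smul_eq_mul, ht, div_mul_cancel₀ _ hws]
      ring
    have h1e : ℬ e (w - t • s) = 0 := by rw [map_sub, map_smul, hw1, hse]; simp
    have h1f : ℬ f (w - t • s) = 0 := by rw [map_sub, map_smul, hw2, hsf]; simp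
    have h2 : w = (1 : F) • (w - t • s) + t • s := by rw [one_smul]; abel
    have h3 := hψadd ((1 : F) • (w - t • s)) (t • s) (by rw [map_smul, h1e, smul_zero])
      (by rw [map_smul, h1f, smul_zero]) (by rw [map_smul, hse, smul_zero])
      (by rw [map_smul, hsf, smul_zero])
    rw [← h2, hsing _ h1 h1e h1f 1, hsing s hs hse hsf t] at h3
    rw [h3, mul_one, mul_smul, ← smul_add, sub_add_cancel]
  intro w hw1 hw2
  by_cases h1 : ℬ w a0' ≠ 0
  · exact hsplit w a0' hw1 hw2 ha0' hea0' hfa0' h1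
  by_cases h2 : ℬ w a0 ≠ 0
  · exact hsplit w a0 hw1 hw2 ha0 hea0 hfa0 h2
  push Not at h1 h2
  have h3 : ψ (w + a0) = lam • (w + a0) := by
    apply hsplit (w + a0) a0' (by rw [map_add, hw1, hea0, add_zero])
      (by rw [map_add, hw2, hfa0, add_zero]) ha0' hea0' hfa0'
    rw [map_add, LinearMap.add_apply, h1, ha0a0', zero_add]
    exact one_ne_zero
  rw [hψadd w a0 hw1 hw2 hea0 hfa0, hlam, smul_add] at h3
  exact add_right_cancel h3

end Cfsg.Agent.Lib.Helper43.AutOm
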