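import Cfsg.Agent.Lib.Helper43.ReflGen

set_option autoImplicit false
set_option linter.unusedSimpArgs false

/-! Parity of the rank of `g - 1` for a product of reflections, and the orthogonal group as a
matrix group: reflections as group elements, the Dickson homomorphism. -/

namespace Cfsg.Agent.Lib.Helper43

open Module Cfsg.Agent.Lib.Helper19

section abstract

variable {F V : Type*} [Field F] [AddCommGroup V] [Module F V]
variable (Q : QuadraticForm F V)

theorem fixSpace_one : fixSpace (1 : Module.End F V) = ⊤ := by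
  ext v
  rw [mem_fixSpace]
  simp

/-- the codimension of the fixed space of a product of `k` reflections is congruent to `k` mod 2 -/
theorem parity_fix_prod [FiniteDimensional F V]
    (hQ : (QuadraticMap.polarBilin Q).Nondegenerate) (l : List V) (hl : ∀ u ∈ l, Q u ≠ 0) :
    (finrank F V - finrank F (fixSpace ((l.map (reflLin Q)).prod))) % 2 = l.length % 2 := by
  induction l with
  | nil =>
    have h1 : fixSpace ((([] : List V).map (reflLin Q)).prod) = ⊤ := by
      rw [List.map_nil, List.prod_nil]; exact fixSpace_one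
    rw [h1, finrank_top]
    simp
  | cons a t ih =>
    have ha : Q a ≠ 0 := hl a List.mem_cons_self
    have ht : ∀ u ∈ t, Q u ≠ 0 := fun u hu => hl u (List.mem_cons_of_mem _ hu)
    have ih' := ih ht
    set g : V →ₗ[F] V := (t.map (reflLin Q)).prod with hg
    have hgiso : ∀ v, Q (g v) = Q v := prod_isometry Q t ht
    have hprod : ((a :: t).map (reflLin Q)).prod = reflLin Q a ∘ₗ g := by
      rw [List.map_cons, List.prod_cons]; rfl
    rw [hprod, List.length_cons]
    have hle1 : finrank F (fixSpace (reflLin Q a ∘ₗ g)) ≤ finrank F V := Submodule.finrank_le _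
    have hle2 : finrank F (fixSpace g) ≤ finrank F V := Submodule.finrank_le _
    by_cases hmem : ∃ u, g u - u = a
    · have := finrank_fixSpace_refl_of_mem hQ g hgiso a ha hmem
      omega
    · have := finrank_fixSpace_refl_of_notMem hQ g hgiso a ha hmem
      omega

end abstract

section matrix

open Matrix

variable {F : Type*} [Field F] {ι : Type} [Fintype ι] [DecidableEq ι]
variable (Q : QuadraticForm F (ι → F))

theorem reflectionMatrix_mul_self (u : ι → F) (hu : Q u ≠ 0) :
    Cfsg.reflectionMatrix (⇑Q) u * Cfsg.reflectionMatrix (⇑Q) u = 1 := by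
  apply Matrix.toLin'.injective
  rw [Matrix.toLin'_mul, toLin'_reflectionMatrix, Matrix.toLin'_one]
  exact reflLin_mul_self Q u hu

open Classical in
/-- the reflection in `u` as an element of the isometry group (identity if `Q u = 0`) -/
noncomputable def reflO (u : ι → F) : ↥(Cfsg.isometryGroup F ⇑Q) :=
  if hu : Q u ≠ 0 then
    ⟨⟨Cfsg.reflectionMatrix (⇑Q) u, Cfsg.reflectionMatrix (⇑Q) u,
      reflectionMatrix_mul_self Q u hu, reflectionMatrix_mul_self Q u hu⟩,
      (mem_isometryGroup_iff _ _).2 (fun x => reflectionMatrix_isometry Q u hu x)⟩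
  else 1

theorem reflO_val (u : ι → F) (hu : Q u ≠ 0) :
    ((reflO Q u : GL ι F) : Matrix ι ι F) = Cfsg.reflectionMatrix (⇑Q) u := by
  unfold reflO
  rw [dif_pos hu]

theorem reflO_mul_self (u : ι → F) (hu : Q u ≠ 0) : reflO Q u * reflO Q u = 1 := by
  apply Subtype.ext
  apply Units.ext
  show ((reflO Q u : GL ι F) : Matrix ι ι F) * ((reflO Q u : GL ι F) : Matrix ι ι F) = 1
  rw [reflO_val Q u hu, reflectionMatrix_mul_self Q u hu]

theorem val_prod_reflO (l : List (ι → F)) (hl : ∀ u ∈ l, Q u ≠ 0) :
    ((((l.map (reflO Q)).prod : ↥(Cfsg.isometryGroup F ⇑Q)) : GL ι F) : Matrix ι ι F) =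
      (l.map (Cfsg.reflectionMatrix (⇑Q))).prod := by
  induction l with
  | nil => rw [List.map_nil, List.map_nil, List.prod_nil, List.prod_nil]; rfl
  | cons a t ih =>
    have ha : Q a ≠ 0 := hl a List.mem_cons_self
    have ht : ∀ u ∈ t, Q u ≠ 0 := fun u hu => hl u (List.mem_cons_of_mem _ hu)
    rw [List.map_cons, List.map_cons, List.prod_cons, List.prod_cons, ← ih ht, ← reflO_val Q a ha]
    rfl

theorem toLin'_prod_reflectionMatrix (l : List (ι → F)) :
    Matrix.toLin' ((l.map (Cfsg.reflectionMatrix (⇑Q))).prod) = (l.map (reflLin Q)).prod := by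
  induction l with
  | nil => simp; rfl
  | cons a t ih =>
    rw [List.map_cons, List.prod_cons, Matrix.toLin'_mul, ih, toLin'_reflectionMatrix,
      List.map_cons, List.prod_cons]
    rfl

/-- generation hypothesis: every linear isometry is a product of reflections -/
def ReflGenerated : Prop :=
  ∀ g : Module.End F (ι → F), (∀ v, Q (g v) = Q v) →
    ∃ l : List (ι → F), (∀ u ∈ l, Q u ≠ 0) ∧ g = (l.map (reflLin Q)).prod

theorem exists_list_reflO (hgen : ReflGenerated Q) (g : ↥(Cfsg.isometryGroup F ⇑Q)) :
    ∃ l : List (ι → F), (∀ u ∈ l, Q u ≠ 0) ∧ g = (l.map (reflO Q)).prod := by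
  have hg : ∀ v, Q (Matrix.toLin' ((g : GL ι F) : Matrix ι ι F) v) = Q v := by
    intro v
    rw [Matrix.toLin'_apply]
    exact (mem_isometryGroup_iff _ _).1 g.2 v
  obtain ⟨l, hl, hgl⟩ := hgen _ hg
  refine ⟨l, hl, ?_⟩
  apply Subtype.ext
  apply Units.ext
  rw [val_prod_reflO Q l hl]
  apply Matrix.toLin'.injective
  rw [hgl, toLin'_prod_reflectionMatrix]

theorem rank_sub_one_eq (A : Matrix ι ι F) :
    (A - 1).rank = Fintype.card ι - finrank F (fixSpace (Matrix.toLin' A)) := by
  have h1 : fixSpace (Matrix.toLin' A) = LinearMap.ker (A - 1).mulVecLin := by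
    unfold fixSpace
    congr 1
    apply LinearMap.ext
    intro v
    simp [Matrix.sub_mulVec]
  rw [h1]
  have h2 := LinearMap.finrank_range_add_finrank_ker (A - 1).mulVecLin
  rw [Module.finrank_fintype_fun_eq_card] at h2
  unfold Matrix.rank
  omega

/-- parity of the rank of `g - 1` for a product of reflections -/
theorem rank_parity_prod_reflO (hQ : (QuadraticMap.polarBilin Q).Nondegenerate)
    (l : List (ι → F)) (hl : ∀ u ∈ l, Q u ≠ 0) :
    (((((l.map (reflO Q)).prod : ↥(Cfsg.isometryGroup F ⇑Q)) : GL ι F) : Matrix ι ι F) - 1).rank % 2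
      = l.length % 2 := by
  rw [rank_sub_one_eq, val_prod_reflO Q l hl, toLin'_prod_reflectionMatrix,
    ← Module.finrank_fintype_fun_eq_card (R := F)]
  exact parity_fix_prod Q hQ l hl

end matrix

end Cfsg.Agent.Lib.Helper43
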