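import Cfsg.Agent.Lib.Helper43.OmegaSimple6
import Cfsg.Agent.Lib.Helper43.OmegaNondeg1

set_option autoImplicit false
set_option linter.unusedSimpArgs false
set_option linter.unusedVariables false
set_option linter.unusedSectionVars false

/-! Basics for the automorphism group of `PΩ`: Siegel elements of `Ω`, hyperbolic partners,
fixed vectors of Siegel groups, the centre of `Ω`, `p`-elements. -/

namespace Cfsg.Agent.Lib.Helper43.AutOm

open Module Matrix Cfsg.Agent.Lib.Helper19 Cfsg.Agent.Lib.Helper43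

variable {F : Type*} [Field F] [Fintype F] {ι : Type} [Fintype ι] [DecidableEq ι]
variable (Q : QuadraticForm F (ι → F))

local notation "ℬ" => QuadraticMap.polarBilin Q

theorem siegelO_mem_Omega' (hQ : (QuadraticMap.polarBilin Q).Nondegenerate) (hn : 7 ≤ Fintype.card ι) (u v : ι → F) :
    siegelO Q hQ u v ∈ Cfsg.Omega F ⇑Q := by
  by_cases h : Q u = 0 ∧ ℬ u v = 0
  · exact siegelO_mem_Omega Q hQ hn u v h.1 h.2
  · unfold siegelO
    rw [dif_neg h]
    exact Subgroup.one_mem _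

/-- the Siegel element `E_{u,v}` of `Ω` -/
noncomputable def sg (hQ : (QuadraticMap.polarBilin Q).Nondegenerate) (hn : 7 ≤ Fintype.card ι) (u v : ι → F) :
    ↥(Cfsg.Omega F ⇑Q) :=
  ⟨siegelO Q hQ u v, siegelO_mem_Omega' Q hQ hn u v⟩

variable (hQ : (QuadraticMap.polarBilin Q).Nondegenerate) (hn : 7 ≤ Fintype.card ι)
include hQ hn

theorem coe_sg (u v : ι → F) :
    ((sg Q hQ hn u v : ↥(Cfsg.Omega F ⇑Q)) : ↥(Cfsg.isometryGroup F ⇑Q)) = siegelO Q hQ u v := rfl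

theorem lo_sg (u v : ι → F) (hu : Q u = 0) (huv : ℬ u v = 0) (x : ι → F) :
    lo Q (sg Q hQ hn u v) x = x + (ℬ x v - Q v * ℬ x u) • u + (-ℬ x u) • v := by
  unfold lo
  rw [coe_sg, linOf_siegelO Q hQ u v hu huv, siegelLin_apply]

theorem sg_mem_siegelGrp (u v : ι → F) (hu : Q u = 0) (huv : ℬ u v = 0) :
    sg Q hQ hn u v ∈ siegelGrp Q hQ u hu :=
  ⟨v, huv, rfl⟩

theorem mem_siegelGrp_iff (u : ι → F) (hu : Q u = 0) (g : ↥(Cfsg.Omega F ⇑Q)) :
    g ∈ siegelGrp Q hQ u hu ↔ ∃ v, ℬ u v = 0 ∧ g = sg Q hQ hn u v := by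
  constructor
  · rintro ⟨v, hv, hg⟩
    exact ⟨v, hv, Subtype.ext hg⟩
  · rintro ⟨v, hv, rfl⟩
    exact sg_mem_siegelGrp Q hQ hn u v hu hv

theorem sg_add (u v v' : ι → F) (hu : Q u = 0) (huv : ℬ u v = 0) (huv' : ℬ u v' = 0) :
    sg Q hQ hn u (v + v') = sg Q hQ hn u v * sg Q hQ hn u v' := by
  apply Subtype.ext
  rw [Subgroup.coe_mul, coe_sg, coe_sg, coe_sg, siegelO_add Q hQ u v v' hu huv huv']

theorem sg_zero (u : ι → F) (hu : Q u = 0) : sg Q hQ hn u 0 = 1 := by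
  apply Subtype.ext
  rw [coe_sg, siegelO_zero Q hQ u hu]
  rfl

theorem sg_inv (u v : ι → F) (hu : Q u = 0) (huv : ℬ u v = 0) :
    (sg Q hQ hn u v)⁻¹ = sg Q hQ hn u (-v) := by
  apply Subtype.ext
  rw [Subgroup.coe_inv, coe_sg, coe_sg, siegelO_inv Q hQ u v hu huv]

theorem sg_conj (g : ↥(Cfsg.Omega F ⇑Q)) (u v : ι → F) (hu : Q u = 0) (huv : ℬ u v = 0) :
    g * sg Q hQ hn u v * g⁻¹ = sg Q hQ hn (lo Q g u) (lo Q g v) := by
  apply Subtype.ext
  rw [Subgroup.coe_mul, Subgroup.coe_mul, Subgroup.coe_inv, coe_sg, coe_sg,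
    siegelO_conj Q hQ _ u v hu huv]
  rfl

theorem sg_smul_left (c : F) (u v : ι → F) (hu : Q u = 0) (huv : ℬ u v = 0) :
    sg Q hQ hn (c • u) v = sg Q hQ hn u (c • v) := by
  apply Subtype.ext
  rw [coe_sg, coe_sg, siegelO_smul_left Q hQ c u v hu huv]

theorem sg_pow (u v : ι → F) (hu : Q u = 0) (huv : ℬ u v = 0) (k : ℕ) :
    (sg Q hQ hn u v) ^ k = sg Q hQ hn u (k • v) := by
  induction k with
  | zero => rw [pow_zero, zero_smul, sg_zero Q hQ hn u hu]
  | succ k ih =>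
    have h : ℬ u (k • v) = 0 := by rw [map_nsmul, huv, smul_zero]
    rw [pow_succ, ih, succ_nsmul, sg_add Q hQ hn u _ _ hu h huv]

theorem lo_sg_self (u v : ι → F) (hu : Q u = 0) (huv : ℬ u v = 0) :
    lo Q (sg Q hQ hn u v) u = u := by
  rw [lo_sg Q hQ hn u v hu huv, polar_self', hu, huv]
  simp

/-- hyperbolic partner of a singular vector -/
theorem exists_partner (u : ι → F) (hu0 : u ≠ 0) (hu : Q u = 0) :
    ∃ f : ι → F, Q f = 0 ∧ ℬ u f = 1 := by
  have hex : ∃ y : ι → F, ℬ u y ≠ 0 := by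
    by_contra hcon
    push Not at hcon
    exact hu0 (hQ.1 u hcon)
  obtain ⟨y, hy⟩ := hex
  obtain ⟨y', h1⟩ : ∃ y' : ι → F, ℬ u y' = 1 :=
    ⟨(ℬ u y)⁻¹ • y, by rw [map_smul, smul_eq_mul, inv_mul_cancel₀ hy]⟩
  refine ⟨y' - Q y' • u, ?_, ?_⟩
  · rw [Q_sub, Q_smul, hu, map_smul, polar_symm Q y' u, h1]
    simp
  · rw [map_sub, map_smul, h1, polar_self', hu]
    simp

/-- decomposition along a hyperbolic pair -/
theorem exists_decomp_hyp (u f : ι → F) (hu : Q u = 0) (hf : Q f = 0) (huf : ℬ u f = 1)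
    (v : ι → F) : ∃ w : ι → F, ℬ u w = 0 ∧ ℬ f w = 0 ∧ v = ℬ v f • u + w + ℬ v u • f := by
  have hfu : ℬ f u = 1 := by rw [polar_symm, huf]
  refine ⟨v - ℬ v f • u - ℬ v u • f, ?_, ?_, ?_⟩
  · rw [map_sub, map_sub, map_smul, map_smul, polar_self', hu, huf, polar_symm Q u v]
    simp
  · rw [map_sub, map_sub, map_smul, map_smul, polar_self', hf, hfu, polar_symm Q f v]
    simp
  · abel

/-- a non-zero vector orthogonal to a hyperbolic pair -/
theorem exists_orth_pair_ne_zero (a b : ι → F) :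
    ∃ s : ι → F, s ≠ 0 ∧ Q s = 0 ∧ ℬ a s = 0 ∧ ℬ b s = 0 := by
  have hn' : 7 ≤ finrank F (ι → F) := by
    rw [Module.finrank_fintype_fun_eq_card]; exact hn
  obtain ⟨s, x, h1, h2, _, _, hs, hsx⟩ := exists_singular_pair_orth2 Q hQ hn' a b
  refine ⟨s, ?_, hs, h1, h2⟩
  rintro rfl
  apply hsx
  simp

theorem sg_eq_one_iff (u v : ι → F) (hu0 : u ≠ 0) (hu : Q u = 0) (huv : ℬ u v = 0) :
    sg Q hQ hn u v = 1 ↔ ∃ c : F, v = c • u := by
  constructor
  · intro h
    obtain ⟨f, hf, huf⟩ := exists_partner Q hQ hn u hu0 hu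
    have h1 := lo_sg Q hQ hn u v hu huv f
    rw [h, lo_one_apply, polar_symm Q f u, huf] at h1
    refine ⟨ℬ f v - Q v * 1, ?_⟩
    have h2 : (ℬ f v - Q v * 1) • u + (-1 : F) • v = 0 := by
      have h3 : f + ((ℬ f v - Q v * 1) • u + (-1 : F) • v) = f + 0 := by
        rw [add_zero, ← add_assoc]
        exact h1.symm
      exact add_left_cancel h3
    rw [neg_one_smul, add_neg_eq_zero] at h2
    exact h2.symm
  · rintro ⟨c, rfl⟩
    apply lo_injective Q
    apply LinearMap.ext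
    intro x
    rw [lo_sg Q hQ hn u _ hu huv, lo_one_apply, Q_smul, hu, map_smul]
    simp only [mul_zero, zero_mul, sub_zero, smul_eq_mul, smul_smul]
    rw [add_assoc, ← add_smul]
    simp [mul_comm]

theorem sg_eq_sg_iff (u v v' : ι → F) (hu0 : u ≠ 0) (hu : Q u = 0) (huv : ℬ u v = 0)
    (huv' : ℬ u v' = 0) :
    sg Q hQ hn u v = sg Q hQ hn u v' ↔ ∃ c : F, v - v' = c • u := by
  have h1 : ℬ u (-v') = 0 := by rw [map_neg, huv', neg_zero]
  have h2 : ℬ u (v + -v') = 0 := by rw [map_add, huv, h1, add_zero]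
  rw [← sg_eq_one_iff Q hQ hn u (v - v') hu0 hu (by rw [sub_eq_add_neg]; exact h2),
    sub_eq_add_neg, sg_add Q hQ hn u v (-v') hu huv h1, ← sg_inv Q hQ hn u v' hu huv',
    mul_inv_eq_one]

/-- the vectors fixed by a whole Siegel group lie on its line -/
theorem fixed_of_siegelGrp (u x : ι → F) (hu0 : u ≠ 0) (hu : Q u = 0)
    (hx : ∀ w : ι → F, ℬ u w = 0 → lo Q (sg Q hQ hn u w) x = x) : ∃ c : F, x = c • u := by
  obtain ⟨f, hf, huf⟩ := exists_partner Q hQ hn u hu0 hu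
  obtain ⟨w0, hw0, _, hw0u, hw0f⟩ := exists_orth_pair_ne_zero Q hQ hn u f
  have key : ∀ w : ι → F, ℬ u w = 0 → (ℬ x w - Q w * ℬ x u) • u + (-ℬ x u) • w = 0 := by
    intro w hw
    have h1 := hx w hw
    rw [lo_sg Q hQ hn u w hu hw, add_assoc] at h1
    have h3 : x + ((ℬ x w - Q w * ℬ x u) • u + (-ℬ x u) • w) = x + 0 := by
      rw [add_zero]; exact h1
    exact add_left_cancel h3
  have hxu : ℬ x u = 0 := by
    have h1 := key w0 hw0u
    have h2 := congrArg (fun y => ℬ y f) h1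
    simp only [map_add, map_smul, LinearMap.add_apply, LinearMap.smul_apply, huf,
      polar_symm Q w0 f, hw0f, smul_eq_mul, mul_one, mul_zero, add_zero, map_zero,
      LinearMap.zero_apply] at h2
    rw [h2, zero_smul, zero_add] at h1
    rcases smul_eq_zero.1 h1 with h3 | h3
    · exact neg_eq_zero.1 h3
    · exact absurd h3 hw0
  have hall : ∀ w : ι → F, ℬ u w = 0 → ℬ x w = 0 := by
    intro w hw
    have h1 := key w hw
    rw [hxu, mul_zero, sub_zero, neg_zero, zero_smul, add_zero] at h1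
    rcases smul_eq_zero.1 h1 with h3 | h3
    · exact h3
    · exact absurd h3 hu0
  have hmem : x ∈ orthC Q (orthC Q (Submodule.span F {u})) := by
    rw [mem_orthC]
    intro y hy
    rw [mem_orthC] at hy
    rw [polar_symm]
    exact hall y (hy u (Submodule.subset_span rfl))
  rw [orthC_orthC Q hQ, Submodule.mem_span_singleton] at hmem
  obtain ⟨c, hc⟩ := hmem
  exact ⟨c, hc.symm⟩

/-- central elements of `Ω` are scalars of square one -/
theorem center_scalar (z : ↥(Cfsg.Omega F ⇑Q)) (hz : z ∈ Subgroup.center ↥(Cfsg.Omega F ⇑Q)) :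
    ∃ c : F, (∀ v, lo Q z v = c • v) ∧ c * c = 1 := by
  have hfix : ∀ x : ι → F, x ≠ 0 → Q x = 0 → ∃ c : F, lo Q z x = c • x := by
    intro x hx0 hx
    apply fixed_of_siegelGrp Q hQ hn x (lo Q z x) hx0 hx
    intro w hw
    have hcomm : sg Q hQ hn x w * z = z * sg Q hQ hn x w :=
      Subgroup.mem_center_iff.1 hz (sg Q hQ hn x w)
    have h1 := congrArg (fun g => lo Q g x) hcomm
    simp only [lo_mul_apply] at h1
    rw [lo_sg_self Q hQ hn x w hx hw] at h1
    exact h1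
  obtain ⟨c, hc⟩ := scalar_of_fix_lines Q hQ hn (lo Q z) hfix
  refine ⟨c, hc, ?_⟩
  obtain ⟨u, hu0, hu, _, _⟩ := exists_orth_pair_ne_zero Q hQ hn 0 0
  obtain ⟨f, hf, huf⟩ := exists_partner Q hQ hn u hu0 hu
  have h1 := lo_polar Q z u f
  rw [hc, hc, map_smul, map_smul, LinearMap.smul_apply, huf] at h1
  simpa using h1

end Cfsg.Agent.Lib.Helper43.AutOm
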