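import Cfsg.Agent.Lib.Helper43.AutOm1

set_option autoImplicit false
set_option linter.unusedSimpArgs false
set_option linter.unusedVariables false
set_option linter.unusedSectionVars false

/-! Basics for the automorphism group of `PΩ`, part 2: `p`-elements and the centre, the
characterisation of Siegel groups by triviality on `u^⊥/u`, regular action on opposite points. -/

namespace Cfsg.Agent.Lib.Helper43.AutOm

open Module Matrix Cfsg.Agent.Lib.Helper19 Cfsg.Agent.Lib.Helper43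

variable {F : Type*} [Field F] [Fintype F] {ι : Type} [Fintype ι] [DecidableEq ι]
variable (Q : QuadraticForm F (ι → F))

local notation "ℬ" => QuadraticMap.polarBilin Q

variable (hQ : (QuadraticMap.polarBilin Q).Nondegenerate) (hn : 7 ≤ Fintype.card ι)
include hQ hn

/-- `E_{u,f-f'}` moves the partner `f` of `u` to the partner `f'` -/
theorem lo_sg_partner (u f f' : ι → F) (hu : Q u = 0) (hf : Q f = 0) (hf' : Q f' = 0)
    (huf : ℬ u f = 1) (huf' : ℬ u f' = 1) :
    ℬ u (f - f') = 0 ∧ lo Q (sg Q hQ hn u (f - f')) f = f' := by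
  have h0 : ℬ u (f - f') = 0 := by rw [map_sub, huf, huf', sub_self]
  refine ⟨h0, ?_⟩
  rw [lo_sg Q hQ hn u _ hu h0, polar_symm Q f u, huf, Q_sub, hf, hf', map_sub, polar_self', hf]
  have e : (2 * 0 - ℬ f f' - (0 + 0 - ℬ f f') * 1 : F) = 0 := by ring
  rw [e, zero_smul, add_zero, neg_one_smul]
  abel

/-- a linear isometry fixing `u` and trivial on `u^⊥/u` is a Siegel transformation -/
theorem lin_eq_sg_of_trivial (u : ι → F) (hu0 : u ≠ 0) (hu : Q u = 0)
    (L : Module.End F (ι → F)) (hL : ∀ v, Q (L v) = Q v) (hLu : L u = u)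
    (hg : ∀ x : ι → F, ℬ u x = 0 → ∃ c : F, L x = x + c • u) :
    ∃ y : ι → F, ℬ u y = 0 ∧ L = lo Q (sg Q hQ hn u y) := by
  obtain ⟨f, hf, huf⟩ := exists_partner Q hQ hn u hu0 hu
  have hgf : Q (L f) = 0 := by rw [hL, hf]
  have hugf : ℬ u (L f) = 1 := by
    have h := polar_of_isometry Q L hL u f
    rw [hLu, huf] at h
    exact h
  obtain ⟨h0, h1⟩ := lo_sg_partner Q hQ hn u f (L f) hu hf hgf huf hugf
  refine ⟨f - L f, h0, ?_⟩
  apply LinearMap.ext
  intro v
  obtain ⟨w, hw1, hw2, hv⟩ := exists_decomp_hyp Q hQ hn u f hu hf huf v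
  have hEw : lo Q (sg Q hQ hn u (f - L f)) w = L w := by
    obtain ⟨c, hc⟩ := hg w hw1
    rw [lo_sg Q hQ hn u _ hu h0, hc, polar_symm Q w u, hw1, map_sub, polar_symm Q w f, hw2]
    have h2 := polar_of_isometry Q L hL w f
    rw [hc, polar_symm Q w f, hw2, map_add, map_smul, LinearMap.add_apply, LinearMap.smul_apply,
      hugf, smul_eq_mul, mul_one] at h2
    have h3 : ℬ w (L f) = -c := by
      rw [eq_neg_iff_add_eq_zero]; exact h2
    rw [h3]
    simp
  rw [hv]
  simp only [map_add, map_smul]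
  rw [lo_sg_self Q hQ hn u _ hu h0, hLu, hEw, h1]

/-- an element of `Ω` fixing `u` and trivial on `u^⊥/u` is a Siegel element -/
theorem mem_siegelGrp_of_trivial (u : ι → F) (hu0 : u ≠ 0) (hu : Q u = 0)
    (g : ↥(Cfsg.Omega F ⇑Q)) (hgu : lo Q g u = u)
    (hg : ∀ x : ι → F, ℬ u x = 0 → ∃ c : F, lo Q g x = x + c • u) :
    g ∈ siegelGrp Q hQ u hu := by
  obtain ⟨y, hy, h⟩ := lin_eq_sg_of_trivial Q hQ hn u hu0 hu (lo Q g) (lo_isometry Q g) hgu hg
  rw [mem_siegelGrp_iff Q hQ hn]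
  exact ⟨y, hy, lo_injective Q h⟩

section pgroup

variable (p : ℕ) [hp : Fact p.Prime] [CharP F p]

theorem sg_pow_p (u v : ι → F) (hu : Q u = 0) (huv : ℬ u v = 0) :
    (sg Q hQ hn u v) ^ p = 1 := by
  rw [sg_pow Q hQ hn u v hu huv, ← Nat.cast_smul_eq_nsmul F, CharP.cast_eq_zero F p, zero_smul,
    sg_zero Q hQ hn u hu]

theorem siegelGrp_isPGroup (u : ι → F) (hu : Q u = 0) : IsPGroup p ↥(siegelGrp Q hQ u hu) := by
  rintro ⟨g, hg⟩
  obtain ⟨v, hv, rfl⟩ := (mem_siegelGrp_iff Q hQ hn u hu g).1 hg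
  refine ⟨1, ?_⟩
  apply Subtype.ext
  rw [pow_one, Subgroup.coe_pow, Subgroup.coe_one]
  exact sg_pow_p Q hQ hn p u v hu hv

theorem lo_pow_scalar (z : ↥(Cfsg.Omega F ⇑Q)) (c : F) (hz : ∀ v, lo Q z v = c • v) (k : ℕ)
    (v : ι → F) : lo Q (z ^ k) v = c ^ k • v := by
  induction k with
  | zero => rw [pow_zero, pow_zero, lo_one_apply, one_smul]
  | succ k ih => rw [pow_succ, lo_mul_apply, hz, map_smul, ih, smul_smul, pow_succ, mul_comm]

/-- a central `p`-element of `Ω` is trivial -/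
theorem center_p_trivial (z : ↥(Cfsg.Omega F ⇑Q)) (hz : z ∈ Subgroup.center ↥(Cfsg.Omega F ⇑Q))
    (k : ℕ) (hzk : z ^ p ^ k = 1) : z = 1 := by
  obtain ⟨c, hc, hcc⟩ := center_scalar Q hQ hn z hz
  obtain ⟨u, hu0, _, _, _⟩ := exists_orth_pair_ne_zero Q hQ hn 0 0
  have h1 := lo_pow_scalar Q hQ hn z c hc (p ^ k) u
  rw [hzk, lo_one_apply] at h1
  have hck : c ^ p ^ k = 1 := by
    have h2 : (c ^ p ^ k - 1) • u = 0 := by rw [sub_smul, one_smul, ← h1, sub_self]
    rcases smul_eq_zero.1 h2 with h3 | h3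
    · exact sub_eq_zero.1 h3
    · exact absurd h3 hu0
  have hc1 : c = 1 := by
    rcases Nat.Prime.eq_two_or_odd' hp.out with h2 | hodd
    · have h3 : (2 : F) = 0 := by
        have := CharP.cast_eq_zero F p
        rw [h2] at this
        exact_mod_cast this
      have h4 : (c - 1) * (c - 1) = 0 := by
        have : (c - 1) * (c - 1) = c * c - 2 * c + 1 := by ring
        rw [this, hcc, h3]; ring_nf
        rw [h3]
      have := mul_self_eq_zero.1 h4
      exact sub_eq_zero.1 this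
    · have hodd' : Odd (p ^ k) := hodd.pow
      obtain ⟨j, hj⟩ := hodd'
      rw [hj, pow_succ, pow_mul, pow_two, hcc, one_pow, one_mul] at hck
      exact hck
  apply lo_injective Q
  apply LinearMap.ext
  intro v
  rw [hc, hc1, one_smul, lo_one_apply]

/-- two `p`-elements of `Ω` with the same image in `PΩ` are equal -/
theorem eq_of_mk_eq_of_pow (x y : ↥(Cfsg.Omega F ⇑Q)) (k l : ℕ) (hx : x ^ p ^ k = 1)
    (hy : y ^ p ^ l = 1)
    (hxy : (QuotientGroup.mk x : Cfsg.POmega F ⇑Q) = QuotientGroup.mk y) : x = y := by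
  have hz : x⁻¹ * y ∈ Subgroup.center ↥(Cfsg.Omega F ⇑Q) := QuotientGroup.eq.1 hxy
  have hcomm : Commute x⁻¹ y := by
    have h1 := Subgroup.mem_center_iff.1 hz x
    -- x * (x⁻¹ * y) = (x⁻¹ * y) * x
    have h2 : y = x⁻¹ * y * x := by
      have : x * (x⁻¹ * y) = y := by group
      rw [this] at h1; exact h1
    show x⁻¹ * y = y * x⁻¹
    rw [eq_mul_inv_iff_mul_eq]
    exact h2.symm
  have h3 : (x⁻¹ * y) ^ p ^ (k + l) = 1 := by
    rw [hcomm.mul_pow, inv_pow, pow_add, pow_mul, hx, one_pow, inv_one, one_mul, mul_comm,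
      pow_mul, hy, one_pow]
  have h4 := center_p_trivial Q hQ hn p _ hz _ h3
  rw [inv_mul_eq_one] at h4
  exact h4

end pgroup

end Cfsg.Agent.Lib.Helper43.AutOm
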