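import Cfsg.Agent.Lib.Helper43.AutOm2

set_option autoImplicit false
set_option linter.unusedSimpArgs false
set_option linter.unusedVariables false
set_option linter.unusedSectionVars false

/-! Basics for the automorphism group of `PΩ`, part 3: line stabilisers and Siegel groups depend
only on the line; opposite points; Levi decomposition; the centraliser of a Siegel group. -/

namespace Cfsg.Agent.Lib.Helper43.AutOm

open Module Matrix Cfsg.Agent.Lib.Helper19 Cfsg.Agent.Lib.Helper43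

variable {F : Type*} [Field F] [Fintype F] {ι : Type} [Fintype ι] [DecidableEq ι]
variable (Q : QuadraticForm F (ι → F))

local notation "ℬ" => QuadraticMap.polarBilin Q

variable (hQ : (QuadraticMap.polarBilin Q).Nondegenerate) (hn : 7 ≤ Fintype.card ι)
include hQ hn

theorem lineStab_smul (u : ι → F) (hu0 : u ≠ 0) (c : F) (hc : c ≠ 0) (h : c • u ≠ 0) :
    lineStab Q (c • u) h = lineStab Q u hu0 := by
  ext g
  rw [mem_lineStab, mem_lineStab]
  constructor
  · rintro ⟨d, hd⟩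
    refine ⟨d, ?_⟩
    rw [map_smul, smul_comm d c u] at hd
    exact smul_right_injective _ hc hd
  · rintro ⟨d, hd⟩
    refine ⟨d, ?_⟩
    rw [map_smul, hd, smul_comm]

theorem siegelGrp_smul (u : ι → F) (hu : Q u = 0) (c : F) (hc : c ≠ 0) (h : Q (c • u) = 0) :
    siegelGrp Q hQ (c • u) h = siegelGrp Q hQ u hu := by
  ext g
  rw [mem_siegelGrp_iff Q hQ hn, mem_siegelGrp_iff Q hQ hn]
  constructor
  · rintro ⟨v, hv, rfl⟩
    have hv' : ℬ u v = 0 := by
      rw [map_smul, LinearMap.smul_apply, smul_eq_mul] at hv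
      rcases mul_eq_zero.1 hv with h1 | h1
      · exact absurd h1 hc
      · exact h1
    refine ⟨c • v, by rw [map_smul, hv', smul_zero], ?_⟩
    exact sg_smul_left Q hQ hn c u v hu hv'
  · rintro ⟨v, hv, rfl⟩
    have h1 : ℬ u (c⁻¹ • v) = 0 := by rw [map_smul, hv, smul_zero]
    refine ⟨c⁻¹ • v, by
      rw [map_smul (ℬ) c u, LinearMap.smul_apply, h1, smul_zero], ?_⟩
    rw [sg_smul_left Q hQ hn c u _ hu h1, smul_smul, mul_inv_cancel₀ hc, one_smul]

/-- a Siegel element of `e` stabilising a line not orthogonal to `e` is trivial -/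
theorem sg_eq_one_of_mem_lineStab (e f w : ι → F) (he0 : e ≠ 0) (he : Q e = 0) (hf0 : f ≠ 0)
    (hef : ℬ e f ≠ 0) (hw : ℬ e w = 0) (h : sg Q hQ hn e w ∈ lineStab Q f hf0) :
    sg Q hQ hn e w = 1 := by
  obtain ⟨c, hc⟩ := h
  rw [lo_sg Q hQ hn e w he hw] at hc
  have h1 := congrArg (fun x => ℬ e x) hc
  simp only [map_add, map_smul, polar_self', he, hw, smul_eq_mul, mul_zero, add_zero] at h1
  have hc1 : c = 1 := by
    have h2 : (c - 1) * ℬ e f = 0 := by rw [sub_mul, one_mul, ← h1, sub_self]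
    rcases mul_eq_zero.1 h2 with h3 | h3
    · exact sub_eq_zero.1 h3
    · exact absurd h3 hef
  rw [hc1, one_smul, add_assoc] at hc
  have h4 : (ℬ f w - Q w * ℬ f e) • e + (-ℬ f e) • w = 0 := by
    have : f + ((ℬ f w - Q w * ℬ f e) • e + (-ℬ f e) • w) = f + 0 := by rw [add_zero]; exact hc
    exact add_left_cancel this
  rw [sg_eq_one_iff Q hQ hn e w he0 he hw]
  have hfe : ℬ f e ≠ 0 := by rw [polar_symm]; exact hef
  refine ⟨(ℬ f e)⁻¹ * (ℬ f w - Q w * ℬ f e), ?_⟩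
  rw [neg_smul, add_neg_eq_zero] at h4
  rw [mul_smul, h4, smul_smul, inv_mul_cancel₀ hfe, one_smul]

/-- a non-zero vector orthogonal to `e` and not on its line -/
theorem exists_orth_notMem_line (e : ι → F) (he0 : e ≠ 0) (he : Q e = 0) :
    ∃ w : ι → F, ℬ e w = 0 ∧ ¬ ∃ c : F, w = c • e := by
  obtain ⟨f, hf, hef⟩ := exists_partner Q hQ hn e he0 he
  obtain ⟨s, hs0, _, hs1, hs2⟩ := exists_orth_pair_ne_zero Q hQ hn e f
  refine ⟨s, hs1, ?_⟩
  rintro ⟨c, rfl⟩
  rw [map_smul, polar_symm Q f e, hef, smul_eq_mul, mul_one] at hs2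
  rw [hs2, zero_smul] at hs0
  exact hs0 rfl

/-- line stabilisers determine the line -/
theorem line_eq_of_lineStab_le (a b : ι → F) (ha0 : a ≠ 0) (ha : Q a = 0) (hb0 : b ≠ 0)
    (h : lineStab Q a ha0 ≤ lineStab Q b hb0) : ∃ c : F, b = c • a := by
  by_contra hcon
  by_cases hab : ℬ a b = 0
  · have hmem : b ∉ orthC Q (orthC Q (Submodule.span F {a})) := by
      rw [orthC_orthC Q hQ, Submodule.mem_span_singleton]
      rintro ⟨c, hc⟩
      exact hcon ⟨c, hc.symm⟩
    rw [mem_orthC] at hmem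
    push Not at hmem
    obtain ⟨w, hw, hbw⟩ := hmem
    rw [mem_orthC] at hw
    have haw : ℬ a w = 0 := hw a (Submodule.subset_span rfl)
    have h1 : sg Q hQ hn a w ∈ lineStab Q a ha0 :=
      ⟨1, by rw [lo_sg_self Q hQ hn a w ha haw, one_smul]⟩
    obtain ⟨c, hc⟩ := h h1
    rw [lo_sg Q hQ hn a w ha haw, polar_symm Q b a, hab, mul_zero, sub_zero, neg_zero, zero_smul,
      add_zero, polar_symm Q b w] at hc
    have hc1 : c ≠ 1 := by
      rintro rfl
      rw [one_smul] at hc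
      have h2 : ℬ w b • a = 0 := by
        have : b + ℬ w b • a = b + 0 := by rw [add_zero]; exact hc
        exact add_left_cancel this
      rcases smul_eq_zero.1 h2 with h3 | h3
      · exact hbw h3
      · exact ha0 h3
    apply hcon
    refine ⟨(c - 1) * (ℬ w b)⁻¹, ?_⟩
    have h2 : ℬ w b • a = (c - 1) • b := by
      rw [sub_smul, one_smul, ← hc]; abel
    have h3 : c - 1 ≠ 0 := sub_ne_zero.2 hc1
    have h4 : b = (c - 1)⁻¹ • (ℬ w b • a) := by
      rw [h2, smul_smul, inv_mul_cancel₀ h3, one_smul]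
    exfalso
    apply hcon
    exact ⟨(c - 1)⁻¹ * ℬ w b, by rw [mul_smul]; exact h4⟩
  · obtain ⟨w, hw, hwe⟩ := exists_orth_notMem_line Q hQ hn a ha0 ha
    have h1 : sg Q hQ hn a w ∈ lineStab Q a ha0 :=
      ⟨1, by rw [lo_sg_self Q hQ hn a w ha hw, one_smul]⟩
    have h2 := sg_eq_one_of_mem_lineStab Q hQ hn a b w ha0 ha hb0 hab hw (h h1)
    rw [sg_eq_one_iff Q hQ hn a w ha0 ha hw] at h2
    exact hwe h2

/-- Levi decomposition of a line stabiliser -/
theorem exists_levi (e f : ι → F) (he0 : e ≠ 0) (he : Q e = 0) (hf0 : f ≠ 0) (hf : Q f = 0)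
    (hef : ℬ e f = 1) (g : ↥(Cfsg.Omega F ⇑Q)) (hg : g ∈ lineStab Q e he0) :
    ∃ y : ι → F, ℬ e y = 0 ∧ (sg Q hQ hn e y)⁻¹ * g ∈ lineStab Q e he0 ∧
      (sg Q hQ hn e y)⁻¹ * g ∈ lineStab Q f hf0 := by
  obtain ⟨c, hc⟩ := hg
  have hc0 : c ≠ 0 := by
    rintro rfl
    rw [zero_smul] at hc
    exact lo_ne_zero Q g e he0 hc
  have h1 : Q (c • lo Q g f) = 0 := by rw [Q_smul, lo_isometry, hf, mul_zero]
  have h2 : ℬ e (c • lo Q g f) = 1 := by
    have h3 := lo_polar Q g e f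
    rw [hc, map_smul, LinearMap.smul_apply, hef] at h3
    rw [map_smul]
    exact h3
  obtain ⟨h0, h4⟩ := lo_sg_partner Q hQ hn e f (c • lo Q g f) he hf h1 hef h2
  refine ⟨f - c • lo Q g f, h0, ?_, ?_⟩
  · refine Subgroup.mul_mem _ (Subgroup.inv_mem _ ?_) ⟨c, hc⟩
    exact ⟨1, by rw [lo_sg_self Q hQ hn e _ he h0, one_smul]⟩
  · refine ⟨c⁻¹, ?_⟩
    rw [lo_mul_apply]
    have h5 : lo Q g f = c⁻¹ • lo Q (sg Q hQ hn e (f - c • lo Q g f)) f := by
      rw [h4, smul_smul, inv_mul_cancel₀ hc0, one_smul]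
    generalize sg Q hQ hn e (f - c • lo Q g f) = E at h5 ⊢
    rw [h5, map_smul, lo_inv_apply]

/-- the centraliser of a Siegel group in the line stabiliser is the Siegel group times the
centre -/
theorem centralizer_siegelGrp (e : ι → F) (he0 : e ≠ 0) (he : Q e = 0)
    (d : ↥(Cfsg.Omega F ⇑Q)) (hd : d ∈ lineStab Q e he0)
    (hcomm : ∀ w : ι → F, ℬ e w = 0 → d * sg Q hQ hn e w = sg Q hQ hn e w * d) :
    ∃ y : ι → F, ℬ e y = 0 ∧
      d * (sg Q hQ hn e y)⁻¹ ∈ Subgroup.center ↥(Cfsg.Omega F ⇑Q) := by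
  have hn' : 7 ≤ finrank F (ι → F) := by
    rw [Module.finrank_fintype_fun_eq_card]; exact hn
  obtain ⟨c, hc⟩ := hd
  have hc0 : c ≠ 0 := by
    rintro rfl
    rw [zero_smul] at hc
    exact lo_ne_zero Q d e he0 hc
  have hperp : ∀ w : ι → F, ℬ e w = 0 → ℬ e (lo Q d w) = 0 := by
    intro w hw
    have h2 := lo_polar Q d e w
    rw [hc, hw, map_smul, LinearMap.smul_apply, smul_eq_mul] at h2
    rcases mul_eq_zero.1 h2 with h3 | h3
    · exact absurd h3 hc0
    · exact h3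
  have hkey : ∀ w : ι → F, ℬ e w = 0 → ∃ t : F, c • lo Q d w - w = t • e := by
    intro w hw
    have h1 : d * sg Q hQ hn e w * d⁻¹ = sg Q hQ hn e w := by
      rw [hcomm w hw]; group
    rw [sg_conj Q hQ hn d e w he hw, hc, sg_smul_left Q hQ hn c e _ he (hperp w hw)] at h1
    exact (sg_eq_sg_iff Q hQ hn e _ w he0 he (by rw [map_smul, hperp w hw, smul_zero]) hw).1 h1
  have hcc : c * c = 1 := by
    obtain ⟨w, hw1, _, hw2⟩ := exists_orth_value Q hQ hn' e e 1
    obtain ⟨t, ht⟩ := hkey w hw1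
    have h1 : c • lo Q d w = w + t • e := by rw [← ht]; abel
    have h2 : Q (c • lo Q d w) = c * c * 1 := by rw [Q_smul, lo_isometry, hw2]
    rw [h1, Q_add, Q_smul, he, hw2, map_smul, polar_symm Q w e, hw1] at h2
    simp at h2
    exact h2.symm
  obtain ⟨y, hy, hL⟩ := lin_eq_sg_of_trivial Q hQ hn e he0 he (c • lo Q d)
    (by
      intro v
      rw [LinearMap.smul_apply, Q_smul, lo_isometry, hcc, one_mul])
    (by rw [LinearMap.smul_apply, hc, smul_smul, hcc, one_smul])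
    (by
      intro x hx
      obtain ⟨t, ht⟩ := hkey x hx
      refine ⟨t, ?_⟩
      rw [LinearMap.smul_apply, ← ht]; abel)
  refine ⟨y, hy, ?_⟩
  apply mem_center_of_scalar Q _ c
  intro v
  rw [lo_mul_apply]
  have h1 : lo Q d (lo Q (sg Q hQ hn e y)⁻¹ v) =
      c • (c • lo Q d) (lo Q (sg Q hQ hn e y)⁻¹ v) := by
    rw [LinearMap.smul_apply, smul_smul, hcc, one_smul]
  rw [h1, hL, lo_apply_inv]

end Cfsg.Agent.Lib.Helper43.AutOm
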