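import Cfsg.Agent.Lib.Helper43.AutOm3

set_option autoImplicit false
set_option linter.unusedSimpArgs false
set_option linter.unusedVariables false
set_option linter.unusedSectionVars false

/-! Automorphisms of `PΩ`: images of line stabilisers and Siegel groups in `PΩ`, the property
`Star` ("an automorphism permutes the pairs (line stabiliser, Siegel group)"), and the first
rigidity steps: an automorphism fixing the image of a Siegel group pointwise. -/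

namespace Cfsg.Agent.Lib.Helper43.AutOm

open Module Matrix Cfsg.Agent.Lib.Helper19 Cfsg.Agent.Lib.Helper43

variable {F : Type*} [Field F] [Fintype F] {ι : Type} [Fintype ι] [DecidableEq ι]
variable (Q : QuadraticForm F (ι → F))

local notation "ℬ" => QuadraticMap.polarBilin Q

/-- the projection `Ω → PΩ` -/
noncomputable def pi : ↥(Cfsg.Omega F ⇑Q) →* Cfsg.POmega F ⇑Q :=
  QuotientGroup.mk' (Subgroup.center ↥(Cfsg.Omega F ⇑Q))

theorem pi_surjective : Function.Surjective (pi Q) := QuotientGroup.mk'_surjective _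

theorem pi_eq_iff (x y : ↥(Cfsg.Omega F ⇑Q)) :
    pi Q x = pi Q y ↔ x⁻¹ * y ∈ Subgroup.center ↥(Cfsg.Omega F ⇑Q) := QuotientGroup.eq

theorem pi_eq_one_iff (x : ↥(Cfsg.Omega F ⇑Q)) :
    pi Q x = 1 ↔ x ∈ Subgroup.center ↥(Cfsg.Omega F ⇑Q) := QuotientGroup.eq_one_iff x

/-- image of a line stabiliser in `PΩ` -/
noncomputable def Gbar (u : ι → F) (hu0 : u ≠ 0) : Subgroup (Cfsg.POmega F ⇑Q) :=
  (lineStab Q u hu0).map (pi Q)

/-- image of a Siegel group in `PΩ` -/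
noncomputable def Qbar (hQ : (QuadraticMap.polarBilin Q).Nondegenerate) (hn : 7 ≤ Fintype.card ι)
    (u : ι → F) (hu : Q u = 0) : Subgroup (Cfsg.POmega F ⇑Q) :=
  (siegelGrp Q hQ u hu).map (pi Q)

/-- an automorphism permutes the pairs (line stabiliser, Siegel group) -/
def Star (hQ : (QuadraticMap.polarBilin Q).Nondegenerate) (hn : 7 ≤ Fintype.card ι)
    (β : MulAut (Cfsg.POmega F ⇑Q)) : Prop :=
  ∀ (u : ι → F) (hu0 : u ≠ 0) (hu : Q u = 0), ∃ (u' : ι → F) (hu0' : u' ≠ 0) (hu' : Q u' = 0),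
    (Gbar Q u hu0).map β.toMonoidHom = Gbar Q u' hu0' ∧
    (Qbar Q hQ hn u hu).map β.toMonoidHom = Qbar Q hQ hn u' hu'

variable (hQ : (QuadraticMap.polarBilin Q).Nondegenerate) (hn : 7 ≤ Fintype.card ι)
include hQ hn

theorem center_le_lineStab (u : ι → F) (hu0 : u ≠ 0) :
    Subgroup.center ↥(Cfsg.Omega F ⇑Q) ≤ lineStab Q u hu0 := by
  intro z hz
  obtain ⟨c, hc, _⟩ := center_scalar Q hQ hn z hz
  exact ⟨c, hc u⟩

theorem pi_mem_Gbar_iff (u : ι → F) (hu0 : u ≠ 0) (g : ↥(Cfsg.Omega F ⇑Q)) :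
    pi Q g ∈ Gbar Q u hu0 ↔ g ∈ lineStab Q u hu0 := by
  constructor
  · rintro ⟨g', hg', h⟩
    have h1 := (pi_eq_iff Q g' g).1 h
    have h2 : g = g' * (g'⁻¹ * g) := by group
    rw [h2]
    exact Subgroup.mul_mem _ hg' (center_le_lineStab Q hQ hn u hu0 h1)
  · intro h
    exact ⟨g, h, rfl⟩

theorem mem_Qbar_iff (u : ι → F) (hu : Q u = 0) (x : Cfsg.POmega F ⇑Q) :
    x ∈ Qbar Q hQ hn u hu ↔ ∃ w : ι → F, ℬ u w = 0 ∧ x = pi Q (sg Q hQ hn u w) := by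
  constructor
  · rintro ⟨g, hg, rfl⟩
    obtain ⟨w, hw, rfl⟩ := (mem_siegelGrp_iff Q hQ hn u hu g).1 hg
    exact ⟨w, hw, rfl⟩
  · rintro ⟨w, hw, rfl⟩
    exact ⟨_, sg_mem_siegelGrp Q hQ hn u w hu hw, rfl⟩

theorem Gbar_smul (u : ι → F) (hu0 : u ≠ 0) (c : F) (hc : c ≠ 0) (h : c • u ≠ 0) :
    Gbar Q (c • u) h = Gbar Q u hu0 := by
  unfold Gbar
  rw [lineStab_smul Q hQ hn u hu0 c hc h]

theorem Qbar_smul (u : ι → F) (hu : Q u = 0) (c : F) (hc : c ≠ 0) (h : Q (c • u) = 0) :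
    Qbar Q hQ hn (c • u) h = Qbar Q hQ hn u hu := by
  unfold Qbar
  rw [siegelGrp_smul Q hQ hn u hu c hc h]

/-- conjugating the image of a line stabiliser -/
theorem conj_mem_Gbar (g : ↥(Cfsg.Omega F ⇑Q)) (u : ι → F) (hu0 : u ≠ 0)
    (x : Cfsg.POmega F ⇑Q) (hx : x ∈ Gbar Q u hu0) :
    pi Q g * x * (pi Q g)⁻¹ ∈ Gbar Q (lo Q g u) (lo_ne_zero Q g u hu0) := by
  obtain ⟨h, hh, rfl⟩ := hx
  refine ⟨g * h * g⁻¹, ?_, by simp⟩
  obtain ⟨c, hc⟩ := hh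
  refine ⟨c, ?_⟩
  rw [lo_mul_apply, lo_mul_apply, lo_inv_apply, hc, map_smul]

theorem Gbar_conj (g : ↥(Cfsg.Omega F ⇑Q)) (u : ι → F) (hu0 : u ≠ 0) :
    (Gbar Q u hu0).map (MulAut.conj (pi Q g)).toMonoidHom =
      Gbar Q (lo Q g u) (lo_ne_zero Q g u hu0) := by
  ext x
  constructor
  · rintro ⟨y, hy, rfl⟩
    exact conj_mem_Gbar Q hQ hn g u hu0 y hy
  · intro hx
    refine ⟨(pi Q g)⁻¹ * x * pi Q g, ?_, ?_⟩
    · have h1 := conj_mem_Gbar Q hQ hn g⁻¹ (lo Q g u) (lo_ne_zero Q g u hu0) x hx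
      have h2 : Gbar Q (lo Q g⁻¹ (lo Q g u)) (lo_ne_zero Q g⁻¹ _ (lo_ne_zero Q g u hu0)) =
          Gbar Q u hu0 := by
        congr 1
        exact lo_inv_apply Q g u
      rw [map_inv, inv_inv] at h1
      have h3 : ∀ (a b : ι → F) (ha : a ≠ 0) (hb : b ≠ 0), a = b → Gbar Q a ha = Gbar Q b hb := by
        intro a b ha hb hab
        subst hab
        rfl
      rw [h3 _ u _ hu0 (lo_inv_apply Q g u)] at h1
      exact h1
    · show pi Q g * ((pi Q g)⁻¹ * x * pi Q g) * (pi Q g)⁻¹ = x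
      group

section pgroup

variable (p : ℕ) [hp : Fact p.Prime] [hch : CharP F p]
include p hp hch

theorem pi_sg_inj (e w e' w' : ι → F) (he : Q e = 0) (hw : ℬ e w = 0) (he' : Q e' = 0)
    (hw' : ℬ e' w' = 0) (h : pi Q (sg Q hQ hn e w) = pi Q (sg Q hQ hn e' w')) :
    sg Q hQ hn e w = sg Q hQ hn e' w' := by
  apply eq_of_mk_eq_of_pow Q hQ hn p _ _ 1 1 _ _ h
  · rw [pow_one]; exact sg_pow_p Q hQ hn p e w he hw
  · rw [pow_one]; exact sg_pow_p Q hQ hn p e' w' he' hw'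

/-- the image of a Siegel group determines the line -/
theorem line_eq_of_Qbar_le (e e' : ι → F) (he0 : e ≠ 0) (he : Q e = 0) (he' : Q e' = 0)
    (h : Qbar Q hQ hn e he ≤ Qbar Q hQ hn e' he') : ∃ c : F, e' = c • e := by
  apply fixed_of_siegelGrp Q hQ hn e e' he0 he
  intro w hw
  have h1 : pi Q (sg Q hQ hn e w) ∈ Qbar Q hQ hn e' he' :=
    h ((mem_Qbar_iff Q hQ hn e he _).2 ⟨w, hw, rfl⟩)
  obtain ⟨w', hw', h2⟩ := (mem_Qbar_iff Q hQ hn e' he' _).1 h1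
  rw [pi_sg_inj Q hQ hn p e w e' w' he hw he' hw' h2]
  exact lo_sg_self Q hQ hn e' w' he' hw'

/-- an automorphism fixing the image of the Siegel group of `e` pointwise stabilises the image of
the line stabiliser of `e` -/
theorem Gbar_map_of_fix (β : MulAut (Cfsg.POmega F ⇑Q)) (hβ : Star Q hQ hn β)
    (e : ι → F) (he0 : e ≠ 0) (he : Q e = 0)
    (hfix : ∀ w : ι → F, ℬ e w = 0 → β (pi Q (sg Q hQ hn e w)) = pi Q (sg Q hQ hn e w)) :
    (Gbar Q e he0).map β.toMonoidHom = Gbar Q e he0 := by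
  obtain ⟨e', he0', he', h1, h2⟩ := hβ e he0 he
  have h3 : Qbar Q hQ hn e he ≤ Qbar Q hQ hn e' he' := by
    intro x hx
    obtain ⟨w, hw, rfl⟩ := (mem_Qbar_iff Q hQ hn e he x).1 hx
    rw [← h2]
    exact ⟨_, (mem_Qbar_iff Q hQ hn e he _).2 ⟨w, hw, rfl⟩, hfix w hw⟩
  obtain ⟨c, rfl⟩ := line_eq_of_Qbar_le Q hQ hn p e e' he0 he he' h3
  have hc : c ≠ 0 := by
    rintro rfl
    rw [zero_smul] at he0'
    exact he0' rfl
  rw [h1, Gbar_smul Q hQ hn e he0 c hc]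

/-- modulo the Siegel group, such an automorphism is the identity on the line stabiliser -/
theorem exists_sg_of_fix (β : MulAut (Cfsg.POmega F ⇑Q))
    (e : ι → F) (he0 : e ≠ 0) (he : Q e = 0)
    (hG : (Gbar Q e he0).map β.toMonoidHom = Gbar Q e he0)
    (hfix : ∀ w : ι → F, ℬ e w = 0 → β (pi Q (sg Q hQ hn e w)) = pi Q (sg Q hQ hn e w))
    (g : ↥(Cfsg.Omega F ⇑Q)) (hg : g ∈ lineStab Q e he0) :
    ∃ y : ι → F, ℬ e y = 0 ∧ β (pi Q g) = pi Q (g * sg Q hQ hn e y) := by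
  have h1 : β (pi Q g) ∈ Gbar Q e he0 := by
    rw [← hG]
    exact ⟨pi Q g, ⟨g, hg, rfl⟩, rfl⟩
  obtain ⟨g1, hg1, hg1'⟩ := h1
  have hd : g⁻¹ * g1 ∈ lineStab Q e he0 := Subgroup.mul_mem _ (Subgroup.inv_mem _ hg) hg1
  have hcomm : ∀ w : ι → F, ℬ e w = 0 →
      (g⁻¹ * g1) * sg Q hQ hn e w = sg Q hQ hn e w * (g⁻¹ * g1) := by
    intro w hw
    obtain ⟨w1, hw1, hgw⟩ := (mem_siegelGrp_iff Q hQ hn e he _).1
      (siegelGrp_normalized Q hQ e he0 he g hg _ (sg_mem_siegelGrp Q hQ hn e w he hw))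
    obtain ⟨w2, hw2, hgw2⟩ := (mem_siegelGrp_iff Q hQ hn e he _).1
      (siegelGrp_normalized Q hQ e he0 he g1 hg1 _ (sg_mem_siegelGrp Q hQ hn e w he hw))
    have h3 : pi Q (g1 * sg Q hQ hn e w * g1⁻¹) = pi Q (g * sg Q hQ hn e w * g⁻¹) := by
      have h4 : β (pi Q (g * sg Q hQ hn e w * g⁻¹)) = pi Q (g * sg Q hQ hn e w * g⁻¹) := by
        rw [hgw]; exact hfix w1 hw1
      rw [← h4, map_mul, map_mul, map_mul, map_mul, map_inv, map_inv, map_mul, map_mul, map_inv,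
        hfix w hw, ← hg1']
    rw [hgw, hgw2] at h3
    have h5 := pi_sg_inj Q hQ hn p e w2 e w1 he hw2 he hw1 h3
    rw [← hgw, ← hgw2] at h5
    -- g1 * s * g1⁻¹ = g * s * g⁻¹
    have h6 : g⁻¹ * g1 * sg Q hQ hn e w = g⁻¹ * (g1 * sg Q hQ hn e w * g1⁻¹) * g1 := by group
    rw [h6, h5]
    group
  obtain ⟨y, hy, hz⟩ := centralizer_siegelGrp Q hQ hn e he0 he _ hd hcomm
  refine ⟨y, hy, ?_⟩
  rw [← hg1', pi_eq_iff]
  have h7 : g1⁻¹ * (g * sg Q hQ hn e y) =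
      ((sg Q hQ hn e y)⁻¹ * (g⁻¹ * g1 * (sg Q hQ hn e y)⁻¹) * ((sg Q hQ hn e y)⁻¹)⁻¹)⁻¹ := by
    group
  rw [h7]
  exact Subgroup.inv_mem _ (Subgroup.Normal.conj_mem inferInstance _ hz _)

/-- an automorphism fixing the image of the Siegel group of `e` pointwise and stabilising the
images of the stabilisers of `e` and of an opposite point `f` is the identity on the image of
the stabiliser of `e` -/
theorem fix_lineStab (β : MulAut (Cfsg.POmega F ⇑Q))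
    (e f : ι → F) (he0 : e ≠ 0) (he : Q e = 0) (hf0 : f ≠ 0) (hf : Q f = 0) (hef : ℬ e f = 1)
    (hG : (Gbar Q e he0).map β.toMonoidHom = Gbar Q e he0)
    (hGf : (Gbar Q f hf0).map β.toMonoidHom = Gbar Q f hf0)
    (hfix : ∀ w : ι → F, ℬ e w = 0 → β (pi Q (sg Q hQ hn e w)) = pi Q (sg Q hQ hn e w))
    (g : ↥(Cfsg.Omega F ⇑Q)) (hg : g ∈ lineStab Q e he0) : β (pi Q g) = pi Q g := by
  obtain ⟨y, hy, hl1, hl2⟩ := exists_levi Q hQ hn e f he0 he hf0 hf hef g hg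
  set l := (sg Q hQ hn e y)⁻¹ * g with hl
  have hgl : g = sg Q hQ hn e y * l := by rw [hl]; group
  obtain ⟨y', hy', hβl⟩ := exists_sg_of_fix Q hQ hn p β e he0 he hG hfix l hl1
  have h1 : β (pi Q l) ∈ Gbar Q f hf0 := by
    rw [← hGf]
    exact ⟨pi Q l, ⟨l, hl2, rfl⟩, rfl⟩
  rw [hβl, pi_mem_Gbar_iff Q hQ hn] at h1
  have h2 : sg Q hQ hn e y' ∈ lineStab Q f hf0 := by
    have : sg Q hQ hn e y' = l⁻¹ * (l * sg Q hQ hn e y') := by group
    rw [this]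
    exact Subgroup.mul_mem _ (Subgroup.inv_mem _ hl2) h1
  have h3 := sg_eq_one_of_mem_lineStab Q hQ hn e f y' he0 he hf0 (by rw [hef]; exact one_ne_zero)
    hy' h2
  rw [h3, mul_one] at hβl
  rw [hgl, map_mul, map_mul, hβl, hfix y hy]

end pgroup

end Cfsg.Agent.Lib.Helper43.AutOm
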