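import Cfsg.Agent.Lib.Helper43.AutOm5

set_option autoImplicit false
set_option linter.unusedSimpArgs false
set_option linter.unusedVariables false
set_option linter.unusedSectionVars false

/-! Automorphisms of `PΩ`, rigidity: an automorphism satisfying `Star` which fixes the image of a
Siegel group pointwise is inner. -/

namespace Cfsg.Agent.Lib.Helper43.AutOm

open Module Matrix Cfsg.Agent.Lib.Helper19 Cfsg.Agent.Lib.Helper43

variable {F : Type*} [Field F] [Fintype F] {ι : Type} [Fintype ι] [DecidableEq ι]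
variable (Q : QuadraticForm F (ι → F))

local notation "ℬ" => QuadraticMap.polarBilin Q

variable (hQ : (QuadraticMap.polarBilin Q).Nondegenerate) (hn : 7 ≤ Fintype.card ι)
include hQ hn

theorem lo_sg_of_orth (a b x : ι → F) (ha : Q a = 0) (hab : ℬ a b = 0) (hxa : ℬ x a = 0)
    (hxb : ℬ x b = 0) : lo Q (sg Q hQ hn a b) x = x := by
  rw [lo_sg Q hQ hn a b ha hab, hxa, hxb]
  simp

/-- the value `f(n e, f)` for `n = E_{e,w} E_{f,λ w} E_{e,w}` -/
theorem polar_n_e (e f w : ι → F) (lam : F) (he : Q e = 0) (hf : Q f = 0) (hef : ℬ e f = 1)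
    (hew : ℬ e w = 0) (hfw : ℬ f w = 0) :
    ℬ (lo Q (sg Q hQ hn e w * sg Q hQ hn f (lam • w) * sg Q hQ hn e w) e) f
      = (1 - lam * Q w) ^ 2 := by
  have hfe : ℬ f e = 1 := by rw [polar_symm, hef]
  have hfw' : ℬ f (lam • w) = 0 := by rw [map_smul, hfw, smul_zero]
  have hwe : ℬ w e = 0 := by rw [polar_symm, hew]
  have hwf : ℬ w f = 0 := by rw [polar_symm, hfw]
  rw [lo_mul_apply, lo_mul_apply, lo_sg_self Q hQ hn e w he hew, lo_sg Q hQ hn f _ hf hfw',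
    lo_sg Q hQ hn e w he hew]
  simp only [map_add, map_smul, map_neg, LinearMap.add_apply, LinearMap.smul_apply,
    LinearMap.neg_apply, smul_eq_mul, hef, hfe, hew, hfw, hwe, hwf, polar_self', he, hf, Q_smul,
    mul_zero, mul_one, zero_mul, add_zero, zero_add, sub_zero, zero_sub, neg_zero]
  ring

theorem n_e (e f w : ι → F) (he : Q e = 0) (hf : Q f = 0) (hef : ℬ e f = 1)
    (hew : ℬ e w = 0) (hfw : ℬ f w = 0) (hw : Q w = 1) :
    lo Q (sg Q hQ hn e w * sg Q hQ hn f w * sg Q hQ hn e w) e = -f := by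
  have hfe : ℬ f e = 1 := by rw [polar_symm, hef]
  have hwe : ℬ w e = 0 := by rw [polar_symm, hew]
  have hwf : ℬ w f = 0 := by rw [polar_symm, hfw]
  rw [lo_mul_apply, lo_mul_apply, lo_sg_self Q hQ hn e w he hew, lo_sg Q hQ hn f _ hf hfw,
    hew, hef, hw]
  simp only [map_add, map_smul, map_neg]
  rw [lo_sg_self Q hQ hn e w he hew, lo_sg Q hQ hn e w he hew f, lo_sg Q hQ hn e w he hew w,
    hfe, hfw, hwe, polar_self', hw]
  module

section pgroup

variable (p : ℕ) [hp : Fact p.Prime] [hch : CharP F p]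
include p hp hch

/-- uniqueness of the normalised parameter of a Siegel element of `f` -/
theorem W_unique (e f w' w'' : ι → F) (hf0 : f ≠ 0) (hf : Q f = 0) (hef : ℬ e f = 1)
    (h1 : ℬ e w' = 0) (h2 : ℬ f w' = 0) (h3 : ℬ e w'' = 0) (h4 : ℬ f w'' = 0)
    (h : pi Q (sg Q hQ hn f w') = pi Q (sg Q hQ hn f w'')) : w' = w'' := by
  have h5 := pi_sg_inj Q hQ hn p f w' f w'' hf h2 hf h4 h
  obtain ⟨c, hc⟩ := (sg_eq_sg_iff Q hQ hn f w' w'' hf0 hf h2 h4).1 h5
  have h6 := congrArg (fun x => ℬ e x) hc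
  simp only [map_sub, map_smul, h1, h3, hef, smul_eq_mul, mul_one, sub_zero] at h6
  rw [← h6, zero_smul] at hc
  exact sub_eq_zero.1 hc

/-- `Star` and stabilising the image of the line stabiliser give stabilising the image of the
Siegel group -/
theorem Qbar_map_of_Gbar_map (β : MulAut (Cfsg.POmega F ⇑Q)) (hβ : Star Q hQ hn β)
    (f : ι → F) (hf0 : f ≠ 0) (hf : Q f = 0)
    (hG : (Gbar Q f hf0).map β.toMonoidHom = Gbar Q f hf0) :
    (Qbar Q hQ hn f hf).map β.toMonoidHom = Qbar Q hQ hn f hf := by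
  obtain ⟨y, hy0, hy, h1, h2⟩ := hβ f hf0 hf
  rw [hG] at h1
  have h3 : lineStab Q f hf0 ≤ lineStab Q y hy0 := by
    intro g hg
    rw [← pi_mem_Gbar_iff Q hQ hn, ← h1, pi_mem_Gbar_iff Q hQ hn]
    exact hg
  obtain ⟨c, rfl⟩ := line_eq_of_lineStab_le Q hQ hn f y hf0 hf hy0 h3
  have hc : c ≠ 0 := by
    rintro rfl
    rw [zero_smul] at hy0
    exact hy0 rfl
  rw [h2, Qbar_smul Q hQ hn f hf c hc]

/-- the action on the image of the opposite Siegel group is by a scalar -/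
theorem exists_scalar_opposite (β : MulAut (Cfsg.POmega F ⇑Q))
    (e f : ι → F) (he0 : e ≠ 0) (he : Q e = 0) (hf0 : f ≠ 0) (hf : Q f = 0) (hef : ℬ e f = 1)
    (hfixG : ∀ g : ↥(Cfsg.Omega F ⇑Q), g ∈ lineStab Q e he0 → β (pi Q g) = pi Q g)
    (hQf : (Qbar Q hQ hn f hf).map β.toMonoidHom = Qbar Q hQ hn f hf) :
    ∃ lam : F, ∀ w : ι → F, ℬ e w = 0 → ℬ f w = 0 →
      β (pi Q (sg Q hQ hn f w)) = pi Q (sg Q hQ hn f (lam • w)) := by
  classical
  have hfe : ℬ f e = 1 := by rw [polar_symm, hef]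
  have hff : ℬ f f = 0 := by rw [polar_self', hf, mul_zero]
  have hex : ∀ w : ι → F, ℬ e w = 0 ∧ ℬ f w = 0 → ∃ w' : ι → F, ℬ e w' = 0 ∧ ℬ f w' = 0 ∧
      β (pi Q (sg Q hQ hn f w)) = pi Q (sg Q hQ hn f w') := by
    rintro w ⟨hw1, hw2⟩
    have h1 : β (pi Q (sg Q hQ hn f w)) ∈ Qbar Q hQ hn f hf := by
      rw [← hQf]
      exact ⟨_, (mem_Qbar_iff Q hQ hn f hf _).2 ⟨w, hw2, rfl⟩, rfl⟩
    obtain ⟨w0, hw0, h2⟩ := (mem_Qbar_iff Q hQ hn f hf _).1 h1
    have h3 : ℬ f (w0 - ℬ e w0 • f) = 0 := by rw [map_sub, map_smul, hw0, hff]; simp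
    refine ⟨w0 - ℬ e w0 • f, ?_, h3, ?_⟩
    · rw [map_sub, map_smul, hef]; simp
    · rw [h2]
      congr 1
      rw [sg_eq_sg_iff Q hQ hn f _ _ hf0 hf hw0 h3]
      exact ⟨ℬ e w0, by abel⟩
  let ψ : (ι → F) → (ι → F) := fun w =>
    if h : ℬ e w = 0 ∧ ℬ f w = 0 then Classical.choose (hex w h) else 0
  have hψ : ∀ w : ι → F, ℬ e w = 0 → ℬ f w = 0 → ℬ e (ψ w) = 0 ∧ ℬ f (ψ w) = 0 ∧
      β (pi Q (sg Q hQ hn f w)) = pi Q (sg Q hQ hn f (ψ w)) := by
    intro w h1 h2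
    have h : ℬ e w = 0 ∧ ℬ f w = 0 := ⟨h1, h2⟩
    show ℬ e (dite _ _ _) = 0 ∧ ℬ f (dite _ _ _) = 0 ∧ _ = pi Q (sg Q hQ hn f (dite _ _ _))
    rw [dif_pos h]
    exact Classical.choose_spec (hex w h)
  obtain ⟨lam, hlam⟩ := scalar_of_commute Q hQ hn e f he hf hef ψ
    (fun w h1 h2 => ⟨(hψ w h1 h2).1, (hψ w h1 h2).2.1⟩)
    (by
      intro w1 w2 h1 h2 h3 h4
      obtain ⟨a1, a2, a3⟩ := hψ w1 h1 h2
      obtain ⟨b1, b2, b3⟩ := hψ w2 h3 h4
      have hs1 : ℬ e (w1 + w2) = 0 := by rw [map_add, h1, h3, add_zero]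
      have hs2 : ℬ f (w1 + w2) = 0 := by rw [map_add, h2, h4, add_zero]
      obtain ⟨c1, c2, c3⟩ := hψ (w1 + w2) hs1 hs2
      apply W_unique Q hQ hn p e f _ _ hf0 hf hef c1 c2 (by rw [map_add, a1, b1, add_zero])
        (by rw [map_add, a2, b2, add_zero])
      rw [← c3, sg_add Q hQ hn f w1 w2 hf h2 h4, map_mul, map_mul, a3, b3, ← map_mul,
        ← sg_add Q hQ hn f _ _ hf a2 b2])
    (by
      intro a b w ha hea hfa heb hfb hab hw1 hw2
      have hl_e : lo Q (sg Q hQ hn a b) e = e :=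
        lo_sg_of_orth Q hQ hn a b e ha hab hea heb
      have hl_f : lo Q (sg Q hQ hn a b) f = f :=
        lo_sg_of_orth Q hQ hn a b f ha hab hfa hfb
      have hl_mem : sg Q hQ hn a b ∈ lineStab Q e he0 := ⟨1, by rw [hl_e, one_smul]⟩
      have hlw1 : ℬ e (lo Q (sg Q hQ hn a b) w) = 0 := by
        have := lo_polar Q (sg Q hQ hn a b) e w
        rw [hl_e] at this
        rw [this, hw1]
      have hlw2 : ℬ f (lo Q (sg Q hQ hn a b) w) = 0 := by
        have := lo_polar Q (sg Q hQ hn a b) f w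
        rw [hl_f] at this
        rw [this, hw2]
      obtain ⟨a1, a2, a3⟩ := hψ w hw1 hw2
      obtain ⟨c1, c2, c3⟩ := hψ _ hlw1 hlw2
      have hlψ1 : ℬ e (lo Q (sg Q hQ hn a b) (ψ w)) = 0 := by
        have := lo_polar Q (sg Q hQ hn a b) e (ψ w)
        rw [hl_e] at this
        rw [this, a1]
      have hlψ2 : ℬ f (lo Q (sg Q hQ hn a b) (ψ w)) = 0 := by
        have := lo_polar Q (sg Q hQ hn a b) f (ψ w)
        rw [hl_f] at this
        rw [this, a2]
      apply W_unique Q hQ hn p e f _ _ hf0 hf hef c1 c2 hlψ1 hlψ2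
      rw [← c3]
      have h5 := sg_conj Q hQ hn (sg Q hQ hn a b) f w hf hw2
      rw [hl_f] at h5
      have h6 := sg_conj Q hQ hn (sg Q hQ hn a b) f (ψ w) hf a2
      rw [hl_f] at h6
      rw [← h5, ← h6, map_mul, map_mul, map_mul, map_mul, map_inv, map_mul, map_mul, map_inv, a3,
        hfixG _ hl_mem, map_inv])
  refine ⟨lam, ?_⟩
  intro w h1 h2
  rw [(hψ w h1 h2).2.2, hlam w h1 h2]

/-- the scalar is one -/
theorem scalar_opposite_eq_one (β : MulAut (Cfsg.POmega F ⇑Q))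
    (e f : ι → F) (he0 : e ≠ 0) (he : Q e = 0) (hf0 : f ≠ 0) (hf : Q f = 0) (hef : ℬ e f = 1)
    (hfixG : ∀ g : ↥(Cfsg.Omega F ⇑Q), g ∈ lineStab Q e he0 → β (pi Q g) = pi Q g)
    (hGf : (Gbar Q f hf0).map β.toMonoidHom = Gbar Q f hf0)
    (lam : F) (hlam : ∀ w : ι → F, ℬ e w = 0 → ℬ f w = 0 →
      β (pi Q (sg Q hQ hn f w)) = pi Q (sg Q hQ hn f (lam • w))) : lam = 1 := by
  have hn' : 7 ≤ finrank F (ι → F) := by
    rw [Module.finrank_fintype_fun_eq_card]; exact hn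
  obtain ⟨w, hew, hfw, hw⟩ := exists_orth_value Q hQ hn' e f 1
  set n := sg Q hQ hn e w * sg Q hQ hn f w * sg Q hQ hn e w with hn_def
  set n' := sg Q hQ hn e w * sg Q hQ hn f (lam • w) * sg Q hQ hn e w with hn'_def
  have hsge : sg Q hQ hn e w ∈ lineStab Q e he0 :=
    ⟨1, by rw [lo_sg_self Q hQ hn e w he hew, one_smul]⟩
  have hβn : β (pi Q n) = pi Q n' := by
    rw [hn_def, hn'_def, map_mul, map_mul, map_mul, map_mul, hfixG _ hsge, hlam w hew hfw,
      map_mul, map_mul]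
  have hne : lo Q n e = -f := n_e Q hQ hn e f w he hf hef hew hfw hw
  -- `n' G_e n'⁻¹ ≤ G_f`
  have hconj : ∀ g : ↥(Cfsg.Omega F ⇑Q), g ∈ lineStab Q e he0 →
      n' * g * n'⁻¹ ∈ lineStab Q f hf0 := by
    intro g hg
    have h1 : n * g * n⁻¹ ∈ lineStab Q f hf0 := by
      obtain ⟨c, hc⟩ := hg
      refine ⟨c, ?_⟩
      have h2 : lo Q n⁻¹ f = -e := by
        have h3 := lo_inv_apply Q n e
        rw [hne, map_neg] at h3
        rw [← h3, neg_neg]
      rw [lo_mul_apply, lo_mul_apply, h2, map_neg, map_neg, hc, map_smul, hne]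
      simp
    have h4 : β (pi Q (n * g * n⁻¹)) ∈ Gbar Q f hf0 := by
      rw [← hGf]
      exact ⟨_, ⟨_, h1, rfl⟩, rfl⟩
    rw [map_mul, map_mul, map_mul, map_mul, map_inv, map_inv, hβn, hfixG g hg, ← map_inv,
      ← map_mul, ← map_mul, pi_mem_Gbar_iff Q hQ hn] at h4
    exact h4
  have hle : lineStab Q (lo Q n' e) (lo_ne_zero Q n' e he0) ≤ lineStab Q f hf0 := by
    intro h hh
    have h1 : n'⁻¹ * h * n' ∈ lineStab Q e he0 := by
      obtain ⟨c, hc⟩ := hh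
      refine ⟨c, ?_⟩
      rw [lo_mul_apply, lo_mul_apply, hc, map_smul, lo_inv_apply]
    have h2 := hconj _ h1
    have h3 : n' * (n'⁻¹ * h * n') * n'⁻¹ = h := by group
    rw [h3] at h2
    exact h2
  obtain ⟨c, hc⟩ := line_eq_of_lineStab_le Q hQ hn (lo Q n' e) f (lo_ne_zero Q n' e he0)
    (by rw [lo_isometry, he]) hf0 hle
  have hc0 : c ≠ 0 := by
    rintro rfl
    rw [zero_smul] at hc
    exact hf0 hc
  have h5 : ℬ (lo Q n' e) f = 0 := by
    have h6 : ℬ (lo Q n' e) (c • lo Q n' e) = 0 := by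
      rw [map_smul, polar_self', lo_isometry, he]; simp
    rw [← hc] at h6
    exact h6
  rw [hn'_def, polar_n_e Q hQ hn e f w lam he hf hef hew hfw, hw, mul_one] at h5
  have h6 := pow_eq_zero_iff (two_ne_zero) |>.1 h5
  exact (sub_eq_zero.1 h6).symm

/-- an automorphism which is the identity on the images of a line stabiliser and of the opposite
Siegel group is the identity -/
theorem eq_one_of_fix (β : MulAut (Cfsg.POmega F ⇑Q))
    (e f : ι → F) (he0 : e ≠ 0) (he : Q e = 0) (hf0 : f ≠ 0) (hf : Q f = 0) (hef : ℬ e f = 1)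
    (hfixG : ∀ g : ↥(Cfsg.Omega F ⇑Q), g ∈ lineStab Q e he0 → β (pi Q g) = pi Q g)
    (hfixQ : ∀ w : ι → F, ℬ e w = 0 → ℬ f w = 0 →
      β (pi Q (sg Q hQ hn f w)) = pi Q (sg Q hQ hn f w)) : β = 1 := by
  let K : Subgroup ↥(Cfsg.Omega F ⇑Q) :=
    MonoidHom.eqLocus (β.toMonoidHom.comp (pi Q)) (pi Q)
  have hK : ∀ g, g ∈ K ↔ β (pi Q g) = pi Q g := fun g => Iff.rfl
  have hle : lineStab Q e he0 ≤ K := fun g hg => (hK g).2 (hfixG g hg)
  obtain ⟨w, hew, hfw, hw⟩ : ∃ w : ι → F, ℬ e w = 0 ∧ ℬ f w = 0 ∧ w ≠ 0 := by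
    obtain ⟨s, hs0, _, h1, h2⟩ := exists_orth_pair_ne_zero Q hQ hn e f
    exact ⟨s, h1, h2, hs0⟩
  have hmem : sg Q hQ hn f w ∈ K := (hK _).2 (hfixQ w hew hfw)
  have hnot : sg Q hQ hn f w ∉ lineStab Q e he0 := by
    intro h
    have h1 := sg_eq_one_of_mem_lineStab Q hQ hn f e w hf0 hf he0
      (by rw [polar_symm, hef]; exact one_ne_zero) hfw h
    obtain ⟨c, hc⟩ := (sg_eq_one_iff Q hQ hn f w hf0 hf hfw).1 h1
    have h2 := congrArg (fun x => ℬ e x) hc
    simp only [map_smul, hew, hef, smul_eq_mul, mul_one] at h2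
    rw [← h2, zero_smul] at hc
    exact hw hc
  have htop : K = ⊤ := by
    rcases lineStab_maximal Q hQ hn e he0 he K hle with h | h
    · rw [h] at hmem
      exact absurd hmem hnot
    · exact h
  apply MulEquiv.ext
  intro x
  obtain ⟨g, rfl⟩ := pi_surjective Q x
  have : g ∈ K := by rw [htop]; exact Subgroup.mem_top g
  exact (hK g).1 this

/-- **Rigidity**: if every automorphism satisfies `Star`, an automorphism fixing the image of
the Siegel group of `e` pointwise is inner -/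
theorem inner_of_fix (hstar : ∀ β : MulAut (Cfsg.POmega F ⇑Q), Star Q hQ hn β)
    (β : MulAut (Cfsg.POmega F ⇑Q)) (e : ι → F) (he0 : e ≠ 0) (he : Q e = 0)
    (hfix : ∀ w : ι → F, ℬ e w = 0 → β (pi Q (sg Q hQ hn e w)) = pi Q (sg Q hQ hn e w)) :
    ∃ s : ↥(Cfsg.Omega F ⇑Q), β = MulAut.conj (pi Q s) := by
  obtain ⟨f, hf, hef⟩ := exists_partner Q hQ hn e he0 he
  have hf0 : f ≠ 0 := by
    rintro rfl
    simp at hef
  -- the image of the stabiliser of `f`
  obtain ⟨y, hy0, hy, hGy, hQy⟩ := hstar β f hf0 hf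
  have hey : ℬ e y ≠ 0 := by
    intro hey
    -- every Siegel element of `e` fixing the line of `y` is trivial
    have hkey : ∀ w : ι → F, ℬ e w = 0 → sg Q hQ hn e w ∈ lineStab Q y hy0 →
        sg Q hQ hn e w = 1 := by
      intro w hw hmem
      have h1 : pi Q (sg Q hQ hn e w) ∈ (Gbar Q f hf0).map β.toMonoidHom := by
        rw [hGy]
        exact ⟨_, hmem, rfl⟩
      obtain ⟨x, ⟨g, hg, rfl⟩, hx⟩ := h1
      have h2 : β (pi Q g) = β (pi Q (sg Q hQ hn e w)) := by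
        rw [hfix w hw]; exact hx
      have h3 := β.injective h2
      have h4 : sg Q hQ hn e w ∈ lineStab Q f hf0 := by
        rw [← pi_mem_Gbar_iff Q hQ hn, ← h3]
        exact ⟨g, hg, rfl⟩
      exact sg_eq_one_of_mem_lineStab Q hQ hn e f w he0 he hf0 (by rw [hef]; exact one_ne_zero)
        hw h4
    have h1 := hkey y hey ⟨1, by
      rw [lo_sg_of_orth Q hQ hn e y y he hey (by rw [polar_symm]; exact hey)
        (by rw [polar_self', hy, mul_zero]), one_smul]⟩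
    obtain ⟨c, hc⟩ := (sg_eq_one_iff Q hQ hn e y he0 he hey).1 h1
    obtain ⟨w, hw, hwe⟩ := exists_orth_notMem_line Q hQ hn e he0 he
    have h2 := hkey w hw ⟨1, by
      rw [hc, map_smul, lo_sg_self Q hQ hn e w he hw, one_smul]⟩
    exact hwe ((sg_eq_one_iff Q hQ hn e w he0 he hw).1 h2)
  -- normalise `y`
  set y' := (ℬ e y)⁻¹ • y with hy'_def
  have hy'0 : y' ≠ 0 := smul_ne_zero (inv_ne_zero hey) hy0
  have hy' : Q y' = 0 := by rw [hy'_def, Q_smul, hy, mul_zero]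
  have hey' : ℬ e y' = 1 := by rw [hy'_def, map_smul, smul_eq_mul, inv_mul_cancel₀ hey]
  have hGy' : Gbar Q y' hy'0 = Gbar Q y hy0 := Gbar_smul Q hQ hn y hy0 _ (inv_ne_zero hey) _
  obtain ⟨h0, hmove⟩ := lo_sg_partner Q hQ hn e y' f he hy' hf hey' hef
  set s := sg Q hQ hn e (y' - f) with hs_def
  set β' : MulAut (Cfsg.POmega F ⇑Q) := MulAut.conj (pi Q s) * β with hβ'_def
  have hβ'_apply : ∀ x, β' x = pi Q s * β x * (pi Q s)⁻¹ := by
    intro x
    rw [hβ'_def, MulAut.mul_apply, MulAut.conj_apply]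
  have hfix' : ∀ w : ι → F, ℬ e w = 0 → β' (pi Q (sg Q hQ hn e w)) = pi Q (sg Q hQ hn e w) := by
    intro w hw
    rw [hβ'_apply, hfix w hw, ← map_inv, ← map_mul, ← map_mul]
    congr 1
    have h1 := siegelGrp_comm Q hQ e he s (sg_mem_siegelGrp Q hQ hn e _ he h0) _
      (sg_mem_siegelGrp Q hQ hn e w he hw)
    rw [h1]
    group
  have hGf' : (Gbar Q f hf0).map β'.toMonoidHom = Gbar Q f hf0 := by
    have h1 : (Gbar Q f hf0).map β'.toMonoidHom =
        ((Gbar Q f hf0).map β.toMonoidHom).map (MulAut.conj (pi Q s)).toMonoidHom := by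
      rw [Subgroup.map_map]
      rfl
    rw [h1, hGy, ← hGy', Gbar_conj Q hQ hn s y' hy'0]
    have h3 : ∀ (a b : ι → F) (ha : a ≠ 0) (hb : b ≠ 0), a = b → Gbar Q a ha = Gbar Q b hb := by
      intro a b ha hb hab
      subst hab
      rfl
    exact h3 _ _ _ _ hmove
  have hG' := Gbar_map_of_fix Q hQ hn p β' (hstar β') e he0 he hfix'
  have hfixG := fix_lineStab Q hQ hn p β' e f he0 he hf0 hf hef hG' hGf' hfix'
  have hQf' := Qbar_map_of_Gbar_map Q hQ hn p β' (hstar β') f hf0 hf hGf'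
  obtain ⟨lam, hlam⟩ := exists_scalar_opposite Q hQ hn p β' e f he0 he hf0 hf hef hfixG hQf'
  have hlam1 := scalar_opposite_eq_one Q hQ hn p β' e f he0 he hf0 hf hef hfixG hGf' lam hlam
  have hone := eq_one_of_fix Q hQ hn p β' e f he0 he hf0 hf hef hfixG (by
    intro w h1 h2
    rw [hlam w h1 h2, hlam1, one_smul])
  refine ⟨s⁻¹, ?_⟩
  rw [map_inv, map_inv]
  rw [hβ'_def] at hone
  exact eq_inv_of_mul_eq_one_right hone

end pgroup

end Cfsg.Agent.Lib.Helper43.AutOm
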