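import Cfsg.Agent.Lib.Helper43.AutOm6
import Cfsg.Agent.Lib.Helper46.AOStarB

set_option autoImplicit false
set_option linter.unusedSimpArgs false
set_option linter.unusedVariables false
set_option linter.unusedSectionVars false

/-! Automorphisms of `PΩ`: transport of maximal subgroups, Sylow subgroups over a Siegel group,
normal `p`-subgroups of the image of a line stabiliser in `PΩ`. -/

namespace Cfsg.Agent.Lib.Helper43.AutOm

open Module Matrix Cfsg.Agent.Lib.Helper19 Cfsg.Agent.Lib.Helper43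

/-- transport of a maximal subgroup containing the kernel through a surjection followed by an
automorphism -/
theorem maximal_transport {G G' : Type*} [Group G] [Group G'] (f : G →* G')
    (hf : Function.Surjective f) (β : G' ≃* G') (M : Subgroup G) (hker : f.ker ≤ M)
    (hM : ∀ K : Subgroup G, M ≤ K → K = M ∨ K = ⊤)
    (K : Subgroup G) (hK : ((M.map f).map β.toMonoidHom).comap f ≤ K) :
    K = ((M.map f).map β.toMonoidHom).comap f ∨ K = ⊤ := by
  set H := ((M.map f).map β.toMonoidHom).comap f with hH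
  have hHmem : ∀ y, y ∈ H ↔ ∃ m ∈ M, β (f m) = f y := by
    intro y
    rw [hH, Subgroup.mem_comap, Subgroup.mem_map]
    constructor
    · rintro ⟨x, ⟨m, hm, rfl⟩, hx⟩
      exact ⟨m, hm, hx⟩
    · rintro ⟨m, hm, h⟩
      exact ⟨f m, ⟨m, hm, rfl⟩, h⟩
  have hkerK : f.ker ≤ K := by
    intro x hx
    apply hK
    rw [hHmem]
    refine ⟨1, M.one_mem, ?_⟩
    rw [map_one, map_one, (MonoidHom.mem_ker).1 hx]
  let K1 : Subgroup G := ((K.map f).comap β.toMonoidHom).comap f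
  have hK1 : ∀ x, x ∈ K1 ↔ ∃ k ∈ K, f k = β (f x) := by
    intro x
    show β (f x) ∈ K.map f ↔ _
    rw [Subgroup.mem_map]
  have hMK1 : M ≤ K1 := by
    intro m hm
    rw [hK1]
    obtain ⟨y, hy⟩ := hf (β (f m))
    refine ⟨y, hK ((hHmem y).2 ⟨m, hm, hy.symm⟩), hy⟩
  rcases hM K1 hMK1 with h | h
  · left
    apply le_antisymm _ hK
    intro k hk
    obtain ⟨x, hx⟩ := hf (β.symm (f k))
    have hx' : β (f x) = f k := by rw [hx, MulEquiv.apply_symm_apply]
    have hxK1 : x ∈ K1 := (hK1 x).2 ⟨k, hk, hx'.symm⟩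
    rw [h] at hxK1
    exact (hHmem k).2 ⟨x, hxK1, hx'⟩
  · right
    rw [eq_top_iff]
    intro g _
    obtain ⟨x, hx⟩ := hf (β.symm (f g))
    have hx' : β (f x) = f g := by rw [hx, MulEquiv.apply_symm_apply]
    have hxK1 : x ∈ K1 := by rw [h]; exact Subgroup.mem_top x
    obtain ⟨k, hk, hk'⟩ := (hK1 x).1 hxK1
    have h1 : k⁻¹ * g ∈ f.ker := by
      rw [MonoidHom.mem_ker, map_mul, map_inv, hk', hx', inv_mul_cancel]
    have h2 : g = k * (k⁻¹ * g) := by group
    rw [h2]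
    exact K.mul_mem hk (hkerK h1)

variable {F : Type*} [Field F] [Fintype F] {ι : Type} [Fintype ι] [DecidableEq ι]
variable (Q : QuadraticForm F (ι → F))

local notation "ℬ" => QuadraticMap.polarBilin Q

/-- `Rgrp U` is a `p`-group in every characteristic -/
theorem isPGroup_Rgrp' (hn : 7 ≤ Fintype.card ι) (U : Submodule F (ι → F))
    (p : ℕ) [hp : Fact p.Prime] [CharP F p] :
    IsPGroup p (Cfsg.Agent.Lib.Helper46.AO.Rgrp Q U) := by
  rintro ⟨g, hg1, hg2⟩
  refine ⟨2, Subtype.ext ?_⟩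
  show g ^ p ^ 2 = 1
  apply lo_injective Q
  rw [Cfsg.Agent.Lib.Helper46.AO.lo_pow]
  have := Cfsg.Agent.Lib.Helper46.AO.nontrivial_end Q (F := F) hn
  have : CharP (Module.End F (ι → F)) p :=
    charP_of_injective_algebraMap (algebraMap F (Module.End F (ι → F))).injective p
  set N : Module.End F (ι → F) := lo Q g - 1 with hN
  have hNU : ∀ v ∈ U, N v = 0 := by
    intro v hv
    rw [hN, LinearMap.sub_apply, hg1 v hv]
    simp
  have hNO : ∀ v, N v ∈ orthC Q U := by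
    intro v
    rw [mem_orthC]
    intro u hu
    rw [hN, LinearMap.sub_apply, map_sub]
    have h1 := lo_polar Q g u v
    rw [hg1 u hu] at h1
    rw [h1]
    simp
  have hNN : ∀ v ∈ orthC Q U, N v ∈ U := by
    intro v hv
    have := hg2 v hv
    rw [hN, LinearMap.sub_apply]
    simpa using this
  have hN3 : N ^ 3 = 0 := by
    apply LinearMap.ext
    intro v
    rw [pow_succ, pow_succ, pow_one]
    show N (N (N v)) = 0
    exact hNU _ (hNN _ (hNO v))
  have e : lo Q g = 1 + N := by rw [hN]; abel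
  have hp2 : 2 ≤ p := hp.out.two_le
  have hNp : N ^ p ^ 2 = 0 := by
    have h4 : 3 ≤ p ^ 2 := by nlinarith
    obtain ⟨k, hk⟩ : ∃ k, p ^ 2 = 3 + k := ⟨p ^ 2 - 3, by omega⟩
    rw [hk, pow_add, hN3, zero_mul]
  have h5 : (1 + N) ^ p ^ 2 = 1 ^ p ^ 2 + N ^ p ^ 2 :=
    add_pow_char_pow_of_commute p 2 (Commute.one_left N)
  rw [e, h5, one_pow, hNp, add_zero]
  apply LinearMap.ext
  intro v
  rw [lo_one_apply]
  rfl

variable (hQ : (QuadraticMap.polarBilin Q).Nondegenerate) (hn : 7 ≤ Fintype.card ι)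
include hQ hn

section pgroup

variable (p : ℕ) [hp : Fact p.Prime] [hch : CharP F p]
include p hp hch

/-- a Sylow `p`-subgroup of `Ω` containing the Siegel group of `e` and fixing `e` -/
theorem exists_sylow_fix (e : ι → F) (he0 : e ≠ 0) (he : Q e = 0) :
    ∃ S : Sylow p ↥(Cfsg.Omega F ⇑Q), siegelGrp Q hQ e he ≤ (S : Subgroup _) ∧
      ∀ s ∈ (S : Subgroup ↥(Cfsg.Omega F ⇑Q)), lo Q s e = e := by
  obtain ⟨S, hS⟩ := (siegelGrp_isPGroup Q hQ hn p e he).exists_le_sylow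
  refine ⟨S, hS, ?_⟩
  have hpF : p ∣ Fintype.card F := Cfsg.Agent.Lib.Helper46.AO.dvd_card_of_charP (F := F) (p := p)
  have htop_ne : (⊤ : Submodule F (ι → F)) ≠ ⊥ := by
    intro h
    have h1 : e ∈ (⊤ : Submodule F (ι → F)) := Submodule.mem_top
    rw [h, Submodule.mem_bot] at h1
    exact he0 h1
  obtain ⟨v, -, hv0, hv⟩ := Cfsg.Agent.Lib.Helper46.AO.pfix_lin Q hpF (S : Subgroup _) S.2 ⊤
    htop_ne (fun _ _ _ _ => Submodule.mem_top)
  obtain ⟨c, hc⟩ := fixed_of_siegelGrp Q hQ hn e v he0 he (fun w hw =>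
    hv _ (hS (sg_mem_siegelGrp Q hQ hn e w he hw)))
  have hc0 : c ≠ 0 := by
    rintro rfl
    rw [zero_smul] at hc
    exact hv0 hc
  intro s hs
  have h1 := hv s hs
  rw [hc, map_smul] at h1
  exact smul_right_injective _ hc0 h1

/-- normal `p`-subgroups of the image of a line stabiliser lie in the image of the Siegel
group -/
theorem normal_pgroup_bar_le (e : ι → F) (he0 : e ≠ 0) (he : Q e = 0)
    (N : Subgroup (Cfsg.POmega F ⇑Q)) (hNle : N ≤ Gbar Q e he0)
    (hNn : ∀ h ∈ Gbar Q e he0, ∀ x ∈ N, h * x * h⁻¹ ∈ N) (hNp : IsPGroup p N) :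
    N ≤ Qbar Q hQ hn e he := by
  obtain ⟨f, hf, hef⟩ := exists_partner Q hQ hn e he0 he
  have hpair : Cfsg.Agent.Lib.Helper46.AO.HPair Q ⊤ e f :=
    ⟨Submodule.mem_top, Submodule.mem_top, he, hf, hef⟩
  obtain ⟨S, hQS, hSfix⟩ := exists_sylow_fix Q hQ hn p e he0 he
  have hSG : (S : Subgroup ↥(Cfsg.Omega F ⇑Q)) ≤ lineStab Q e he0 := by
    intro s hs
    exact ⟨1, by rw [hSfix s hs, one_smul]⟩
  let P' : Sylow p (Cfsg.POmega F ⇑Q) := Sylow.mapSurjective (pi_surjective Q) S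
  have hP' : (P' : Subgroup (Cfsg.POmega F ⇑Q)) = (S : Subgroup _).map (pi Q) :=
    Sylow.coe_mapSurjective _ S
  have hP'G : (P' : Subgroup (Cfsg.POmega F ⇑Q)) ≤ Gbar Q e he0 := by
    rw [hP']
    exact Subgroup.map_mono hSG
  have hsup : IsPGroup p (N ⊔ (P' : Subgroup (Cfsg.POmega F ⇑Q)) : Subgroup _) :=
    hNp.to_sup_of_normal_left' P'.2
      (Subgroup.le_normalizer_iff.2 fun x hx y hy => hNn x (hP'G hx) y hy)
  have hNP' : N ≤ (P' : Subgroup (Cfsg.POmega F ⇑Q)) := by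
    have h1 := P'.is_maximal' hsup le_sup_right
    rw [← h1]
    exact le_sup_left
  set N' : Subgroup ↥(Cfsg.Omega F ⇑Q) := (S : Subgroup _) ⊓ N.comap (pi Q) with hN'
  have hN'p : IsPGroup p N' := S.2.to_le inf_le_left
  have hN'G : N' ≤ lineStab Q e (Cfsg.Agent.Lib.Helper46.AO.e_ne_zero Q hpair) :=
    fun x hx => hSG hx.1
  have hN'n : ∀ h ∈ lineStab Q e (Cfsg.Agent.Lib.Helper46.AO.e_ne_zero Q hpair), ∀ g ∈ N',
      h * g * h⁻¹ ∈ N' := by
    rintro h hh g ⟨hgS, hgN⟩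
    have h1 : pi Q (h * g * h⁻¹) ∈ N := by
      rw [map_mul, map_mul, map_inv]
      exact hNn _ ⟨h, hh, rfl⟩ _ hgN
    have h2 := hNP' h1
    rw [hP'] at h2
    obtain ⟨s, hs, hs'⟩ := h2
    obtain ⟨k, hk⟩ := S.2 ⟨s, hs⟩
    obtain ⟨l, hl⟩ := S.2 ⟨g, hgS⟩
    have hk' : s ^ p ^ k = 1 := by
      have := congrArg Subtype.val hk
      simpa using this
    have hl' : (h * g * h⁻¹) ^ p ^ l = 1 := by
      have h3 : g ^ p ^ l = 1 := by
        have := congrArg Subtype.val hl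
        simpa using this
      rw [conj_pow, h3, mul_one, mul_inv_cancel]
    have h4 := eq_of_mk_eq_of_pow Q hQ hn p s (h * g * h⁻¹) k l hk' hl' hs'
    rw [← h4]
    exact ⟨hs, by show pi Q s ∈ N; rw [hs']; exact h1⟩
  have hN'Q := Cfsg.Agent.Lib.Helper46.AO.normal_pgroup_le Q hQ hn hpair N' hN'G hN'n hN'p
  intro x hx
  have h2 := hNP' hx
  rw [hP'] at h2
  obtain ⟨s, hs, rfl⟩ := h2
  exact ⟨s, hN'Q ⟨hs, hx⟩, rfl⟩

end pgroup

end Cfsg.Agent.Lib.Helper43.AutOm
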