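import Cfsg.Agent.Lib.Helper43.AutOm7

set_option autoImplicit false
set_option linter.unusedSimpArgs false
set_option linter.unusedVariables false
set_option linter.unusedSectionVars false

/-! Automorphisms of `PΩ`: counting. The Siegel group of a point has at most `q^(n-2)` elements,
the unipotent radical of a maximal totally singular subspace of dimension `k = n/2 ≥ 3` has at
least `q^(3k-6)` elements. -/

namespace Cfsg.Agent.Lib.Helper43.AutOm

open Module Matrix Cfsg.Agent.Lib.Helper19 Cfsg.Agent.Lib.Helper43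

variable {F : Type*} [Field F] [Fintype F] {ι : Type} [Fintype ι] [DecidableEq ι]
variable (Q : QuadraticForm F (ι → F))

local notation "ℬ" => QuadraticMap.polarBilin Q

theorem card_submodule (W : Submodule F (ι → F)) :
    Nat.card ↥W = Fintype.card F ^ finrank F ↥W := by
  rw [Module.natCard_eq_pow_finrank (K := F) (V := ↥W), Nat.card_eq_fintype_card]

theorem exists_mem_notMem_of_finrank_lt (U T : Submodule F (ι → F))
    (h : finrank F U < finrank F T) : ∃ t ∈ T, t ∉ U := by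
  by_contra hcon
  push Not at hcon
  have : T ≤ U := hcon
  have := Submodule.finrank_mono this
  omega

variable (hQ : (QuadraticMap.polarBilin Q).Nondegenerate) (hn : 7 ≤ Fintype.card ι)
include hQ hn

theorem finrank_orthC_span_finset_ge (S : Finset (ι → F)) :
    Fintype.card ι ≤ finrank F (orthC Q (Submodule.span F (S : Set (ι → F)))) + S.card := by
  have h1 : finrank F (Submodule.span F (S : Set (ι → F))) ≤ S.card :=
    finrank_span_finset_le_card S
  have h2 := finrank_add_finrank_orthC Q hQ (Submodule.span F (S : Set (ι → F)))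
  omega

theorem finrank_inf_orthC_ge (T : Submodule F (ι → F)) (S : Finset (ι → F)) :
    finrank F T ≤ finrank F ↥(T ⊓ orthC Q (Submodule.span F (S : Set (ι → F)))) + S.card := by
  have h1 := finrank_orthC_span_finset_ge Q hQ hn S
  have h2 := Submodule.finrank_sup_add_finrank_inf_eq T
    (orthC Q (Submodule.span F (S : Set (ι → F))))
  have h3 : finrank F ↥(T ⊔ orthC Q (Submodule.span F (S : Set (ι → F)))) ≤ Fintype.card ι := by
    have := Submodule.finrank_le (T ⊔ orthC Q (Submodule.span F (S : Set (ι → F))))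
    rw [Module.finrank_fintype_fun_eq_card] at this
    exact this
  omega

/-- the Siegel group of a singular point has at most `q^(n-2)` elements -/
theorem card_siegelGrp_le (e : ι → F) (he0 : e ≠ 0) (he : Q e = 0) :
    Nat.card ↥(siegelGrp Q hQ e he) ≤ Fintype.card F ^ (Fintype.card ι - 2) := by
  classical
  obtain ⟨f, hf, hef⟩ := exists_partner Q hQ hn e he0 he
  set W := orthC Q (Submodule.span F {e, f}) with hW
  have hWmem : ∀ w, w ∈ W ↔ ℬ e w = 0 ∧ ℬ f w = 0 := by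
    intro w
    rw [hW, mem_orthC]
    constructor
    · intro h
      exact ⟨h e (Submodule.subset_span (by simp)), h f (Submodule.subset_span (by simp))⟩
    · rintro ⟨h1, h2⟩ y hy
      obtain ⟨a, b, rfl⟩ := Submodule.mem_span_pair.1 hy
      rw [map_add, map_smul, map_smul, LinearMap.add_apply, LinearMap.smul_apply,
        LinearMap.smul_apply, h1, h2]
      simp
  have hfin : 2 ≤ finrank F (Submodule.span F {e, f}) := by
    have h1 : Submodule.span F {e} < Submodule.span F {e, f} := by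
      refine lt_of_le_of_ne (Submodule.span_mono (by simp)) ?_
      intro h
      have hfm : f ∈ Submodule.span F {e} := by
        rw [h]; exact Submodule.subset_span (by simp)
      obtain ⟨c, hc⟩ := Submodule.mem_span_singleton.1 hfm
      have h2 : ℬ e f = 0 := by rw [← hc, map_smul, polar_self', he]; simp
      rw [hef] at h2
      exact one_ne_zero h2
    have h2 := Submodule.finrank_lt_finrank_of_lt h1
    rw [finrank_span_singleton he0] at h2
    omega
  have hWfin : finrank F ↥W ≤ Fintype.card ι - 2 := by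
    have := finrank_add_finrank_orthC Q hQ (Submodule.span F {e, f})
    rw [← hW] at this
    omega
  have hsurj : Function.Surjective (fun w : ↥W =>
      (⟨sg Q hQ hn e w, sg_mem_siegelGrp Q hQ hn e w he ((hWmem w).1 w.2).1⟩ :
        ↥(siegelGrp Q hQ e he))) := by
    rintro ⟨g, hg⟩
    obtain ⟨v, hv, rfl⟩ := (mem_siegelGrp_iff Q hQ hn e he g).1 hg
    obtain ⟨w, hw1, hw2, hd⟩ := exists_decomp_hyp Q hQ hn e f he hf hef v
    refine ⟨⟨w, (hWmem w).2 ⟨hw1, hw2⟩⟩, ?_⟩
    apply Subtype.ext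
    show sg Q hQ hn e w = sg Q hQ hn e v
    rw [sg_eq_sg_iff Q hQ hn e w v he0 he hw1 hv]
    refine ⟨-ℬ v f, ?_⟩
    have h1 : ℬ v e = 0 := by rw [polar_symm]; exact hv
    rw [h1, zero_smul, add_zero] at hd
    have h5 : w = v - ℬ v f • e := by
      rw [eq_sub_iff_add_eq, add_comm]; exact hd.symm
    rw [h5, neg_smul]
    abel
  calc Nat.card ↥(siegelGrp Q hQ e he) ≤ Nat.card ↥W := Nat.card_le_card_of_surjective _ hsurj
    _ = Fintype.card F ^ finrank F ↥W := card_submodule W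
    _ ≤ Fintype.card F ^ (Fintype.card ι - 2) :=
        Nat.pow_le_pow_right Fintype.card_pos hWfin

theorem sg_mem_Rgrp (U : Submodule F (ι → F)) (hU : ∀ u ∈ U, Q u = 0) (a w : ι → F)
    (ha : a ∈ U) (hw : w ∈ orthC Q U) :
    sg Q hQ hn a w ∈ Cfsg.Agent.Lib.Helper46.AO.Rgrp Q U := by
  have haQ := hU a ha
  have haw : ℬ a w = 0 := (mem_orthC Q U w).1 hw a ha
  have hUU := polar_eq_zero_of_ts Q U hU
  rw [Cfsg.Agent.Lib.Helper46.AO.mem_Rgrp]
  refine ⟨fun v hv => ?_, fun v hv => ?_⟩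
  · rw [lo_sg Q hQ hn a w haQ haw, (mem_orthC Q U w).1 hw v hv, hUU v a hv ha]
    simp
  · have hva : ℬ v a = 0 := by
      rw [polar_symm]; exact (mem_orthC Q U v).1 hv a ha
    rw [lo_sg Q hQ hn a w haQ haw, hva]
    have e1 : v + (ℬ v w - Q w * 0) • a + (-(0 : F)) • w - v = ℬ v w • a := by
      simp
    rw [e1]
    exact U.smul_mem _ ha

/-- the unipotent radical of a maximal totally singular subspace of dimension `k = n/2 ≥ 3` has
at least `q^(3k-6)` elements -/
theorem card_Rgrp_ge (T : Submodule F (ι → F)) (hT : ∀ t ∈ T, Q t = 0)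
    (hmax : orthC Q T ≤ T) (hk : 3 ≤ finrank F T) :
    Fintype.card F ^ (3 * finrank F T - 6) ≤
      Nat.card ↥(Cfsg.Agent.Lib.Helper46.AO.Rgrp Q T) := by
  classical
  have hTT := polar_eq_zero_of_ts Q T hT
  have hTO : T ≤ orthC Q T := by
    intro t ht
    rw [mem_orthC]
    intro y hy
    exact hTT y t hy ht
  -- the three vectors
  obtain ⟨t3, ht3, ht30⟩ := exists_mem_notMem_of_finrank_lt ⊥ T (by rw [finrank_bot]; omega)
  have ht30' : t3 ≠ 0 := fun h => ht30 (by rw [h]; exact Submodule.zero_mem _)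
  obtain ⟨t2, ht2, ht2n⟩ := exists_mem_notMem_of_finrank_lt (Submodule.span F {t3}) T (by
    have := finrank_span_singleton_le (F := F) t3; omega)
  obtain ⟨t1, ht1, ht1n⟩ := exists_mem_notMem_of_finrank_lt (Submodule.span F {t2, t3}) T (by
    have := finrank_span_pair_le (F := F) t2 t3; omega)
  obtain ⟨f1, hf11, hf1X⟩ := exists_polar_repr Q hQ (Submodule.span F {t2, t3}) t1 ht1n
  obtain ⟨f2, hf22, hf2X⟩ := exists_polar_repr Q hQ (Submodule.span F {t3}) t2 ht2n
  obtain ⟨f3, hf33, _⟩ := exists_polar_repr Q hQ ⊥ t3 ht30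
  have hf12 : ℬ f1 t2 = 0 := hf1X t2 (Submodule.subset_span (by simp))
  have hf13 : ℬ f1 t3 = 0 := hf1X t3 (Submodule.subset_span (by simp))
  have hf23 : ℬ f2 t3 = 0 := hf2X t3 (Submodule.subset_span (by simp))
  set Z1 := T ⊓ orthC Q (Submodule.span F (({f1} : Finset (ι → F)) : Set (ι → F))) with hZ1
  set Z2 := T ⊓ orthC Q (Submodule.span F (({f1, f2} : Finset (ι → F)) : Set (ι → F))) with hZ2
  set Z3 := T ⊓ orthC Q (Submodule.span F (({f1, f2, f3} : Finset (ι → F)) : Set (ι → F)))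
    with hZ3
  have hd1 : finrank F T ≤ finrank F ↥Z1 + 1 := by
    have : finrank F T ≤ finrank F ↥Z1 + ({f1} : Finset (ι → F)).card :=
      finrank_inf_orthC_ge Q hQ hn T {f1}
    rw [Finset.card_singleton] at this
    exact this
  have hd2 : finrank F T ≤ finrank F ↥Z2 + 2 := by
    have : finrank F T ≤ finrank F ↥Z2 + ({f1, f2} : Finset (ι → F)).card :=
      finrank_inf_orthC_ge Q hQ hn T {f1, f2}
    have h2 : ({f1, f2} : Finset (ι → F)).card ≤ 2 := Finset.card_le_two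
    omega
  have hd3 : finrank F T ≤ finrank F ↥Z3 + 3 := by
    have : finrank F T ≤ finrank F ↥Z3 + ({f1, f2, f3} : Finset (ι → F)).card :=
      finrank_inf_orthC_ge Q hQ hn T {f1, f2, f3}
    have h2 : ({f1, f2, f3} : Finset (ι → F)).card ≤ 3 := Finset.card_le_three
    omega
  have hZ1mem : ∀ z ∈ Z1, z ∈ T ∧ ℬ f1 z = 0 := by
    rintro z ⟨hz1, hz2'⟩
    have hz2 : z ∈ orthC Q _ := hz2'
    rw [mem_orthC] at hz2
    exact ⟨hz1, hz2 f1 (Submodule.subset_span (by simp))⟩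
  have hZ2mem : ∀ z ∈ Z2, z ∈ T ∧ ℬ f1 z = 0 ∧ ℬ f2 z = 0 := by
    rintro z ⟨hz1, hz2'⟩
    have hz2 : z ∈ orthC Q _ := hz2'
    rw [mem_orthC] at hz2
    exact ⟨hz1, hz2 f1 (Submodule.subset_span (by simp)), hz2 f2 (Submodule.subset_span (by simp))⟩
  have hZ3mem : ∀ z ∈ Z3, z ∈ T ∧ ℬ f1 z = 0 ∧ ℬ f2 z = 0 ∧ ℬ f3 z = 0 := by
    rintro z ⟨hz1, hz2'⟩
    have hz2 : z ∈ orthC Q _ := hz2'
    rw [mem_orthC] at hz2
    exact ⟨hz1, hz2 f1 (Submodule.subset_span (by simp)), hz2 f2 (Submodule.subset_span (by simp)),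
      hz2 f3 (Submodule.subset_span (by simp))⟩
  -- action of a Siegel element with both parameters in `T`
  have hact : ∀ t z x : ι → F, t ∈ T → z ∈ T →
      lo Q (sg Q hQ hn t z) x = x + (ℬ x z • t - ℬ x t • z) := by
    intro t z x ht hz
    rw [lo_sg Q hQ hn t z (hT t ht) (hTT t z ht hz), hT z hz]
    simp only [zero_mul, sub_zero, neg_smul]
    abel
  have hfixT : ∀ t z y : ι → F, t ∈ T → z ∈ T → y ∈ T → lo Q (sg Q hQ hn t z) y = y := by
    intro t z y ht hz hy
    rw [hact t z y ht hz, hTT y z hy hz, hTT y t hy ht]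
    simp
  have hprod : ∀ (z1 z2 z3 x : ι → F), z1 ∈ T → z2 ∈ T → z3 ∈ T →
      lo Q (sg Q hQ hn t1 z1 * sg Q hQ hn t2 z2 * sg Q hQ hn t3 z3) x =
        x + (ℬ x z1 • t1 - ℬ x t1 • z1) + (ℬ x z2 • t2 - ℬ x t2 • z2) +
          (ℬ x z3 • t3 - ℬ x t3 • z3) := by
    intro z1 z2 z3 x hz1 hz2 hz3
    have hd3T : ℬ x z3 • t3 - ℬ x t3 • z3 ∈ T :=
      T.sub_mem (T.smul_mem _ ht3) (T.smul_mem _ hz3)
    have hd2T : ℬ x z2 • t2 - ℬ x t2 • z2 ∈ T :=
      T.sub_mem (T.smul_mem _ ht2) (T.smul_mem _ hz2)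
    rw [lo_mul_apply, lo_mul_apply, hact t3 z3 x ht3 hz3, map_add, hfixT t2 z2 _ ht2 hz2 hd3T,
      hact t2 z2 x ht2 hz2, map_add, map_add, hfixT t1 z1 _ ht1 hz1 hd3T,
      hfixT t1 z1 _ ht1 hz1 hd2T, hact t1 z1 x ht1 hz1]
  let Φ : ↥Z1 × ↥Z2 × ↥Z3 → ↥(Cfsg.Agent.Lib.Helper46.AO.Rgrp Q T) := fun z =>
    ⟨sg Q hQ hn t1 z.1 * sg Q hQ hn t2 z.2.1 * sg Q hQ hn t3 z.2.2,
      Subgroup.mul_mem _ (Subgroup.mul_mem _
        (sg_mem_Rgrp Q hQ hn T hT t1 _ ht1 (hTO (hZ1mem _ z.1.2).1))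
        (sg_mem_Rgrp Q hQ hn T hT t2 _ ht2 (hTO (hZ2mem _ z.2.1.2).1)))
        (sg_mem_Rgrp Q hQ hn T hT t3 _ ht3 (hTO (hZ3mem _ z.2.2.2).1))⟩
  have hΦ : Function.Injective Φ := by
    rintro ⟨⟨z1, hz1⟩, ⟨z2, hz2⟩, ⟨z3, hz3⟩⟩ ⟨⟨y1, hy1⟩, ⟨y2, hy2⟩, ⟨y3, hy3⟩⟩ h
    have h0 : sg Q hQ hn t1 z1 * sg Q hQ hn t2 z2 * sg Q hQ hn t3 z3 =
        sg Q hQ hn t1 y1 * sg Q hQ hn t2 y2 * sg Q hQ hn t3 y3 := congrArg Subtype.val h
    obtain ⟨a1, a2⟩ := hZ1mem z1 hz1
    obtain ⟨b1, b2, b3⟩ := hZ2mem z2 hz2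
    obtain ⟨c1, c2, c3, c4⟩ := hZ3mem z3 hz3
    obtain ⟨a1', a2'⟩ := hZ1mem y1 hy1
    obtain ⟨b1', b2', b3'⟩ := hZ2mem y2 hy2
    obtain ⟨c1', c2', c3', c4'⟩ := hZ3mem y3 hy3
    have e1 : z1 = y1 := by
      have h1 := congrArg (fun g => lo Q g f1) h0
      simp only [hprod z1 z2 z3 f1 a1 b1 c1, hprod y1 y2 y3 f1 a1' b1' c1', a2, b2, c2, a2', b2',
        c2', hf11, hf12, hf13, zero_smul, one_smul, zero_sub, sub_zero, add_zero, neg_zero] at h1
      have h2 := add_left_cancel h1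
      exact neg_injective h2
    subst e1
    have e2 : z2 = y2 := by
      have h1 := congrArg (fun g => lo Q g f2) h0
      simp only [hprod z1 z2 z3 f2 a1 b1 c1, hprod z1 y2 y3 f2 a1' b1' c1', b3, c3, b3',
        c3', hf22, hf23, zero_smul, one_smul, zero_sub, sub_zero, add_zero, neg_zero] at h1
      have h2 := add_left_cancel h1
      exact neg_injective h2
    subst e2
    have e3 : z3 = y3 := by
      have h1 := congrArg (fun g => lo Q g f3) h0
      simp only [hprod z1 z2 z3 f3 a1 b1 c1, hprod z1 z2 y3 f3 a1' b1' c1', c4, c4', hf33,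
        zero_smul, one_smul, zero_sub, sub_zero, add_zero, neg_zero] at h1
      have h2 := add_left_cancel h1
      exact neg_injective h2
    subst e3
    rfl
  have hcard : Nat.card (↥Z1 × ↥Z2 × ↥Z3) =
      Fintype.card F ^ (finrank F ↥Z1 + finrank F ↥Z2 + finrank F ↥Z3) := by
    rw [Nat.card_prod, Nat.card_prod, card_submodule, card_submodule, card_submodule, pow_add,
      pow_add, mul_assoc]
  calc Fintype.card F ^ (3 * finrank F T - 6)
      ≤ Fintype.card F ^ (finrank F ↥Z1 + finrank F ↥Z2 + finrank F ↥Z3) :=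
        Nat.pow_le_pow_right Fintype.card_pos (by omega)
    _ = Nat.card (↥Z1 × ↥Z2 × ↥Z3) := hcard.symm
    _ ≤ Nat.card ↥(Cfsg.Agent.Lib.Helper46.AO.Rgrp Q T) := Nat.card_le_card_of_injective Φ hΦ

end Cfsg.Agent.Lib.Helper43.AutOm
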