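import Cfsg.Agent.Lib.Helper43.AutOm8

set_option autoImplicit false
set_option linter.unusedSimpArgs false
set_option linter.unusedVariables false
set_option linter.unusedSectionVars false

/-! Automorphisms of `PΩ`: the Sylow configuration. For an automorphism `β` and a singular point
`e`, a `p`-subgroup `A` of `Ω` lifting `β(Q̄_e)`, normalised by the preimage `H` of `β(Ḡ_e)`,
together with a singular point `u` fixed by `A` whose Siegel group lies in `H`. -/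

namespace Cfsg.Agent.Lib.Helper43.AutOm

open Module Matrix Cfsg.Agent.Lib.Helper19 Cfsg.Agent.Lib.Helper43

variable {F : Type*} [Field F] [Fintype F] {ι : Type} [Fintype ι] [DecidableEq ι]
variable (Q : QuadraticForm F (ι → F))

local notation "ℬ" => QuadraticMap.polarBilin Q

variable (hQ : (QuadraticMap.polarBilin Q).Nondegenerate) (hn : 7 ≤ Fintype.card ι)
include hQ hn

theorem Qbar_le_Gbar (u : ι → F) (hu0 : u ≠ 0) (hu : Q u = 0) :
    Qbar Q hQ hn u hu ≤ Gbar Q u hu0 := by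
  rintro x ⟨g, hg, rfl⟩
  obtain ⟨w, hw, rfl⟩ := (mem_siegelGrp_iff Q hQ hn u hu g).1 hg
  exact ⟨_, ⟨1, by rw [lo_sg_self Q hQ hn u w hu hw, one_smul]⟩, rfl⟩

theorem Qbar_normal (u : ι → F) (hu0 : u ≠ 0) (hu : Q u = 0) (h x : Cfsg.POmega F ⇑Q)
    (hh : h ∈ Gbar Q u hu0) (hx : x ∈ Qbar Q hQ hn u hu) : h * x * h⁻¹ ∈ Qbar Q hQ hn u hu := by
  obtain ⟨g, hg, rfl⟩ := hh
  obtain ⟨q, hq, rfl⟩ := hx
  exact ⟨g * q * g⁻¹, siegelGrp_normalized Q hQ u hu0 hu g hg q hq, by simp⟩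

section pgroup

variable (p : ℕ) [hp : Fact p.Prime] [hch : CharP F p]
include p hp hch

theorem Qbar_isPGroup (u : ι → F) (hu : Q u = 0) : IsPGroup p ↥(Qbar Q hQ hn u hu) :=
  (siegelGrp_isPGroup Q hQ hn p u hu).map _

/-- the Sylow configuration -/
theorem exists_sylow_config (β : MulAut (Cfsg.POmega F ⇑Q)) (e : ι → F) (he0 : e ≠ 0)
    (he : Q e = 0) :
    ∃ (us : ι → F) (hus0 : us ≠ 0) (hus : Q us = 0) (A : Subgroup ↥(Cfsg.Omega F ⇑Q)),
      IsPGroup p A ∧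
      (∀ x ∈ (Qbar Q hQ hn e he).map β.toMonoidHom, ∃ a ∈ A, pi Q a = x) ∧
      (∀ a ∈ A, pi Q a ∈ (Qbar Q hQ hn e he).map β.toMonoidHom) ∧
      (∀ h ∈ ((Gbar Q e he0).map β.toMonoidHom).comap (pi Q), ∀ a ∈ A, h * a * h⁻¹ ∈ A) ∧
      siegelGrp Q hQ us hus ≤ ((Gbar Q e he0).map β.toMonoidHom).comap (pi Q) ∧
      (∀ a ∈ A, lo Q a us = us) := by
  obtain ⟨S', hQS', hS'fix⟩ := exists_sylow_fix Q hQ hn p e he0 he
  have hS'G : (S' : Subgroup ↥(Cfsg.Omega F ⇑Q)) ≤ lineStab Q e he0 := by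
    intro s hs
    exact ⟨1, by rw [hS'fix s hs, one_smul]⟩
  let P' : Sylow p (Cfsg.POmega F ⇑Q) := Sylow.mapSurjective (pi_surjective Q) S'
  have hP' : (P' : Subgroup (Cfsg.POmega F ⇑Q)) = (S' : Subgroup _).map (pi Q) :=
    Sylow.coe_mapSurjective _ S'
  have hβs : Function.Surjective (β.toMonoidHom) := β.surjective
  let P'' : Sylow p (Cfsg.POmega F ⇑Q) := Sylow.mapSurjective hβs P'
  have hP'' : (P'' : Subgroup (Cfsg.POmega F ⇑Q)) = (P' : Subgroup _).map β.toMonoidHom :=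
    Sylow.coe_mapSurjective _ P'
  obtain ⟨S'', hS''⟩ := Sylow.mapSurjective_surjective (pi_surjective Q) p P''
  have hS''c : (P'' : Subgroup (Cfsg.POmega F ⇑Q)) = (S'' : Subgroup _).map (pi Q) := by
    rw [← hS'']
    exact Sylow.coe_mapSurjective _ S''
  obtain ⟨g, hg⟩ := MulAction.exists_smul_eq ↥(Cfsg.Omega F ⇑Q) S' S''
  have hS''mem : ∀ x, x ∈ (S'' : Subgroup ↥(Cfsg.Omega F ⇑Q)) ↔
      g⁻¹ * x * g ∈ (S' : Subgroup ↥(Cfsg.Omega F ⇑Q)) := by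
    intro x
    rw [← hg, Sylow.coe_subgroup_smul, Subgroup.mem_pointwise_smul_iff_inv_smul_mem]
    simp [MulAut.smul_def]
  have hus0 : lo Q g e ≠ 0 := lo_ne_zero Q g e he0
  have hus : Q (lo Q g e) = 0 := by rw [lo_isometry, he]
  have hS''fix : ∀ s ∈ (S'' : Subgroup ↥(Cfsg.Omega F ⇑Q)), lo Q s (lo Q g e) = lo Q g e := by
    intro s hs
    have h1 := hS'fix _ ((hS''mem s).1 hs)
    rw [lo_mul_apply, lo_mul_apply] at h1
    have h2 := congrArg (lo Q g) h1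
    rw [lo_apply_inv] at h2
    exact h2
  have hQus : siegelGrp Q hQ (lo Q g e) hus ≤ (S'' : Subgroup ↥(Cfsg.Omega F ⇑Q)) := by
    intro x hx
    obtain ⟨w, hw, rfl⟩ := (mem_siegelGrp_iff Q hQ hn _ hus x).1 hx
    rw [hS''mem]
    apply hQS'
    have h1 := sg_conj Q hQ hn g⁻¹ (lo Q g e) w hus hw
    rw [lo_inv_apply, inv_inv] at h1
    rw [h1]
    refine sg_mem_siegelGrp Q hQ hn e _ he ?_
    have h2 := lo_polar Q g⁻¹ (lo Q g e) w
    rw [lo_inv_apply] at h2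
    rw [h2, hw]
  -- the image groups
  set Abar : Subgroup (Cfsg.POmega F ⇑Q) := (Qbar Q hQ hn e he).map β.toMonoidHom with hAbar
  set Hbar : Subgroup (Cfsg.POmega F ⇑Q) := (Gbar Q e he0).map β.toMonoidHom with hHbar
  have hAbarP'' : Abar ≤ (P'' : Subgroup (Cfsg.POmega F ⇑Q)) := by
    rintro x ⟨y, ⟨q, hq, rfl⟩, rfl⟩
    rw [hP'', hP']
    exact ⟨_, ⟨q, hQS' hq, rfl⟩, rfl⟩
  have hS''H : (S'' : Subgroup ↥(Cfsg.Omega F ⇑Q)) ≤ Hbar.comap (pi Q) := by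
    intro s hs
    have h1 : pi Q s ∈ (P'' : Subgroup (Cfsg.POmega F ⇑Q)) := by
      rw [hS''c]; exact ⟨s, hs, rfl⟩
    rw [hP'', hP'] at h1
    obtain ⟨y, ⟨s', hs', rfl⟩, hy⟩ := h1
    show pi Q s ∈ Hbar
    rw [← hy]
    exact ⟨_, ⟨s', hS'G hs', rfl⟩, rfl⟩
  refine ⟨lo Q g e, hus0, hus, (S'' : Subgroup _) ⊓ Abar.comap (pi Q), S''.2.to_le inf_le_left,
    ?_, ?_, ?_, hQus.trans hS''H, fun a ha => hS''fix a ha.1⟩
  · intro x hx
    have h1 := hAbarP'' hx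
    rw [hS''c] at h1
    obtain ⟨s, hs, rfl⟩ := h1
    exact ⟨s, ⟨hs, hx⟩, rfl⟩
  · intro a ha
    exact ha.2
  · rintro h hh a ⟨haS, haA⟩
    have hhH : pi Q h ∈ Hbar := hh
    obtain ⟨y, ⟨h', hh', rfl⟩, hy⟩ := hhH
    have haA' : pi Q a ∈ Abar := haA
    obtain ⟨z, ⟨q, hq, rfl⟩, hz⟩ := haA'
    have h1 : pi Q (h * a * h⁻¹) ∈ Abar := by
      rw [map_mul, map_mul, map_inv, ← hy, ← hz]
      refine ⟨pi Q (h' * q * h'⁻¹), ⟨_, siegelGrp_normalized Q hQ e he0 he h' hh' q hq, rfl⟩, ?_⟩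
      simp
    have h2 := hAbarP'' h1
    rw [hS''c] at h2
    obtain ⟨s, hs, hs'⟩ := h2
    obtain ⟨k, hk⟩ := S''.2 ⟨s, hs⟩
    obtain ⟨l, hl⟩ := S''.2 ⟨a, haS⟩
    have hk' : s ^ p ^ k = 1 := by
      have := congrArg Subtype.val hk
      simpa using this
    have hl' : (h * a * h⁻¹) ^ p ^ l = 1 := by
      have h3 : a ^ p ^ l = 1 := by
        have := congrArg Subtype.val hl
        simpa using this
      rw [conj_pow, h3, mul_one, mul_inv_cancel]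
    have h4 := eq_of_mk_eq_of_pow Q hQ hn p s (h * a * h⁻¹) k l hk' hl' hs'
    rw [← h4]
    exact ⟨hs, by show pi Q s ∈ Abar; rw [hs']; exact h1⟩

end pgroup

end Cfsg.Agent.Lib.Helper43.AutOm
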