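import Cfsg.Agent.Lib.Helper43.WittQuad
import Cfsg.Agent.Lib.Helper19.CartanDieudonne

set_option autoImplicit false

/-! Multiplying an isometry by a reflection changes the dimension of the fixed space by exactly
one (any field, any characteristic). -/

namespace Cfsg.Agent.Lib.Helper43

open Module Cfsg.Agent.Lib.Helper19

variable {F V : Type*} [Field F] [AddCommGroup V] [Module F V]
variable (Q : QuadraticForm F V)

/-- reflection formula with `polarBilin` -/
theorem reflLin_apply' (w x : V) :
    reflLin Q w x = x - ((Q w)⁻¹ * QuadraticMap.polarBilin Q x w) • w := by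
  rw [reflLin_apply, polar_symm Q x w, QuadraticMap.polarBilin_apply_apply]

/-- intersecting with the kernel of a functional not vanishing on `W` drops the dimension by one -/
theorem finrank_inf_ker_add_one [FiniteDimensional F V] (W : Submodule F V) (φ : Module.Dual F V)
    (h : ∃ v ∈ W, φ v ≠ 0) : finrank F ↥(W ⊓ LinearMap.ker φ) + 1 = finrank F W := by
  obtain ⟨v, hv, hφv⟩ := h
  have hne : φ.comp W.subtype ≠ 0 := by
    intro h0
    apply hφv
    have := LinearMap.congr_fun h0 ⟨v, hv⟩
    simpa using this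
  have h1 := Module.Dual.finrank_ker_add_one_of_ne_zero hne
  have h2 : LinearMap.ker (φ.comp W.subtype) = Submodule.comap W.subtype (W ⊓ LinearMap.ker φ) := by
    ext x
    simp [LinearMap.mem_ker]
  rw [h2] at h1
  have h3 : finrank F ↥(Submodule.comap W.subtype (W ⊓ LinearMap.ker φ)) =
      finrank F ↥(W ⊓ LinearMap.ker φ) :=
    (Submodule.comapSubtypeEquivOfLe (inf_le_left : W ⊓ LinearMap.ker φ ≤ W)).finrank_eq
  rw [h3] at h1
  exact h1

variable {Q}

/-- the residual space is orthogonal to the fixed space -/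
theorem polar_range_ker (g : V →ₗ[F] V) (hg : ∀ v, Q (g v) = Q v) (u v : V) (hv : g v = v) :
    QuadraticMap.polarBilin Q (g u - u) v = 0 := by
  have h1 := polar_of_isometry Q g hg u v
  rw [hv] at h1
  rw [map_sub, LinearMap.sub_apply, h1, sub_self]

/-- the residual space is the orthogonal of the fixed space -/
theorem mem_range_of_orthogonal_ker [FiniteDimensional F V]
    (hQ : (QuadraticMap.polarBilin Q).Nondegenerate)
    (g : V →ₗ[F] V) (hg : ∀ v, Q (g v) = Q v) (w : V)
    (hw : ∀ v, g v = v → QuadraticMap.polarBilin Q v w = 0) :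
    ∃ u, g u - u = w := by
  set β := QuadraticMap.polarBilin Q with hβ
  set N : V →ₗ[F] V := g - LinearMap.id with hN
  have hle : LinearMap.range N ≤ LinearMap.BilinForm.orthogonal β (LinearMap.ker N) := by
    rintro _ ⟨u, rfl⟩
    rw [LinearMap.BilinForm.mem_orthogonal_iff]
    intro v hv
    have hv' : g v = v := by
      have : N v = 0 := hv
      rw [hN, LinearMap.sub_apply, LinearMap.id_apply, sub_eq_zero] at this
      exact this
    show β v (g u - u) = 0
    rw [hβ, polar_symm]
    exact polar_range_ker g hg u v hv'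
  have h1 := LinearMap.BilinForm.finrank_orthogonal hQ (LinearMap.ker N)
  have h2 := LinearMap.finrank_range_add_finrank_ker N
  have heq : LinearMap.range N = LinearMap.BilinForm.orthogonal β (LinearMap.ker N) :=
    Submodule.eq_of_le_of_finrank_eq hle (by omega)
  have hmem : w ∈ LinearMap.BilinForm.orthogonal β (LinearMap.ker N) := by
    rw [LinearMap.BilinForm.mem_orthogonal_iff]
    intro v hv
    have hv' : g v = v := by
      have : N v = 0 := hv
      rw [hN, LinearMap.sub_apply, LinearMap.id_apply, sub_eq_zero] at this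
      exact this
    exact hw v hv'
  rw [← heq] at hmem
  obtain ⟨u, hu⟩ := hmem
  exact ⟨u, hu⟩

/-- the fixed space of `g` as a submodule -/
def fixSpace (g : V →ₗ[F] V) : Submodule F V := LinearMap.ker (g - LinearMap.id)

theorem mem_fixSpace (g : V →ₗ[F] V) (v : V) : v ∈ fixSpace g ↔ g v = v := by
  unfold fixSpace
  rw [LinearMap.mem_ker, LinearMap.sub_apply, LinearMap.id_apply, sub_eq_zero]

/-- case `w ∉ im (g - 1)`: the fixed space shrinks -/
theorem finrank_fixSpace_refl_of_notMem [FiniteDimensional F V]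
    (hQ : (QuadraticMap.polarBilin Q).Nondegenerate)
    (g : V →ₗ[F] V) (hg : ∀ v, Q (g v) = Q v) (w : V) (hw : Q w ≠ 0)
    (hwR : ¬ ∃ u, g u - u = w) :
    finrank F (fixSpace (reflLin Q w ∘ₗ g)) + 1 = finrank F (fixSpace g) := by
  have hfix : fixSpace (reflLin Q w ∘ₗ g) =
      fixSpace g ⊓ LinearMap.ker (LinearMap.flip (QuadraticMap.polarBilin Q) w) := by
    ext v
    rw [Submodule.mem_inf, mem_fixSpace, mem_fixSpace, LinearMap.mem_ker, LinearMap.flip_apply,
      LinearMap.comp_apply]
    constructor
    · intro h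
      -- g v - v is a multiple of w
      have h1 : g v - v = ((Q w)⁻¹ * QuadraticMap.polarBilin Q (g v) w) • w := by
        rw [reflLin_apply'] at h
        rw [sub_eq_iff_eq_add, add_comm]
        exact sub_eq_iff_eq_add.1 h
      have h2 : (Q w)⁻¹ * QuadraticMap.polarBilin Q (g v) w = 0 := by
        by_contra hne
        apply hwR
        refine ⟨((Q w)⁻¹ * QuadraticMap.polarBilin Q (g v) w)⁻¹ • v, ?_⟩
        rw [map_smul, ← smul_sub, h1, smul_smul, inv_mul_cancel₀ hne, one_smul]
      rw [h2, zero_smul, sub_eq_zero] at h1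
      refine ⟨h1, ?_⟩
      rw [h1] at h2
      rcases mul_eq_zero.1 h2 with h3 | h3
      · exact absurd (inv_eq_zero.1 h3) hw
      · exact h3
    · rintro ⟨h1, h2⟩
      rw [h1, reflLin_apply', h2, mul_zero, zero_smul, sub_zero]
  rw [hfix]
  apply finrank_inf_ker_add_one
  by_contra hcon
  push Not at hcon
  apply hwR
  apply mem_range_of_orthogonal_ker hQ g hg w
  intro v hv
  have := hcon v ((mem_fixSpace g v).2 hv)
  simpa using this

/-- Wall's identity: `Q (g u - u) = - f (g u - u, u)` -/
theorem Q_residual (g : V →ₗ[F] V) (hg : ∀ v, Q (g v) = Q v) (u : V) :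
    Q (g u - u) = -QuadraticMap.polarBilin Q (g u - u) u := by
  have h1 := Q_add Q (g u - u) u
  rw [sub_add_cancel, hg] at h1
  linear_combination -h1

theorem reflLin_mul_self' (w : V) (hw : Q w ≠ 0) (x : V) : reflLin Q w (reflLin Q w x) = x := by
  have := reflLin_mul_self Q w hw
  have h2 := LinearMap.congr_fun this x
  simpa using h2

/-- case `w ∈ im (g - 1)`: the fixed space grows -/
theorem finrank_fixSpace_refl_of_mem [FiniteDimensional F V]
    (hQ : (QuadraticMap.polarBilin Q).Nondegenerate)
    (g : V →ₗ[F] V) (hg : ∀ v, Q (g v) = Q v) (w : V) (hw : Q w ≠ 0)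
    (hwR : ∃ u, g u - u = w) :
    finrank F (fixSpace (reflLin Q w ∘ₗ g)) = finrank F (fixSpace g) + 1 := by
  obtain ⟨u, hu⟩ := hwR
  have hg' : ∀ v, Q ((reflLin Q w ∘ₗ g) v) = Q v := by
    intro v
    rw [LinearMap.comp_apply, reflLin_isometry Q w hw, hg]
  have hwu : QuadraticMap.polarBilin Q w u = -Q w := by
    have := Q_residual g hg u
    rw [hu] at this
    linear_combination this
  have hufix : (reflLin Q w ∘ₗ g) u = u := by
    have hgu : g u = u + w := by rw [← hu]; abel
    rw [LinearMap.comp_apply, hgu, map_add, reflLin_self Q w hw, reflLin_apply', polar_symm Q u w,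
      hwu]
    have : (Q w)⁻¹ * -Q w = -1 := by field_simp
    rw [this, neg_one_smul]
    abel
  have hnot : ¬ ∃ u', (reflLin Q w ∘ₗ g) u' - u' = w := by
    rintro ⟨u', hu'⟩
    have h1 := polar_range_ker (reflLin Q w ∘ₗ g) hg' u' u hufix
    rw [hu', hwu] at h1
    exact hw (neg_eq_zero.1 h1)
  have h2 := finrank_fixSpace_refl_of_notMem hQ (reflLin Q w ∘ₗ g) hg' w hw hnot
  have h3 : reflLin Q w ∘ₗ (reflLin Q w ∘ₗ g) = g := by
    apply LinearMap.ext
    intro x
    simp only [LinearMap.comp_apply, reflLin_mul_self' w hw]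
  rw [h3] at h2
  omega

end Cfsg.Agent.Lib.Helper43
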