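import Cfsg.Agent.Lib.Helper11.SpMax
import Cfsg.Agent.Lib.Helper43.ReflRank

set_option autoImplicit false
set_option linter.unusedSimpArgs false
set_option linter.unusedVariables false
set_option linter.unusedSectionVars false

/-! Pairs of complementary Lagrangian subspaces of the standard symplectic space: basic facts and the
elements `ρ_{a,b} : x ↦ x + f(x,a) b + f(x,b) a`. -/

namespace Cfsg.Agent.Lib.Helper43.SpPair

open Module Matrix Cfsg.Agent.Lib.Helper18 Cfsg.Agent.Lib.Helper11.SpMax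

section
variable {F : Type*} [Field F] {m : ℕ}

local notation "V" => (Fin m ⊕ Fin m → F)
local notation "ff" => Cfsg.sympForm m F

/-- a pair of complementary totally isotropic subspaces -/
structure LagPair (U U' : Submodule F V) : Prop where
  tsU : ∀ a ∈ U, ∀ b ∈ U, ff a b = 0
  tsU' : ∀ a ∈ U', ∀ b ∈ U', ff a b = 0
  decomp : ∀ v : V, ∃ a ∈ U, ∃ b ∈ U', v = a + b
  eq_zero_of_mem : ∀ v : V, v ∈ U → v ∈ U' → v = 0

theorem LagPair.symm {U U' : Submodule F V} (h : LagPair U U') : LagPair U' U :=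
  ⟨h.tsU', h.tsU, fun v => by
    obtain ⟨a, ha, b, hb, hab⟩ := h.decomp v
    exact ⟨b, hb, a, ha, by rw [hab, add_comm]⟩, fun v h1 h2 => h.eq_zero_of_mem v h2 h1⟩

theorem LagPair.pairing {U U' : Submodule F V} (h : LagPair U U') (u : V) (hu : u ∈ U) (hu0 : u ≠ 0) :
    ∃ u' ∈ U', ff u u' ≠ 0 := by
  obtain ⟨y, hy⟩ := sf_nondeg_top m u hu0
  obtain ⟨a, ha, b, hb, rfl⟩ := h.decomp y
  refine ⟨b, hb, ?_⟩
  rw [sf_add_right, h.tsU u hu a ha, zero_add] at hy
  exact hy

/-- a vector of `U'` perpendicular to `a` and pairing to `1` with `b`, for independent `a, b ∈ U` -/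
theorem LagPair.exists_dual {U U' : Submodule F V} (h : LagPair U U') (a b : V) (ha : a ∈ U) (hb : b ∈ U)
    (hab : b ∉ Submodule.span F {a}) : ∃ y ∈ U', ff y a = 0 ∧ ff y b = 1 := by
  obtain ⟨u, hu1, hu2⟩ := exists_perp_sep m (Submodule.span F {a}) b hab
  have hau : ff a u = 0 := hu1 a (Submodule.mem_span_singleton_self a)
  obtain ⟨u₁, hu₁, u₂, hu₂, rfl⟩ := h.decomp u
  rw [sf_add_right, h.tsU a ha u₁ hu₁, zero_add] at hau
  rw [sf_add_right, h.tsU b hb u₁ hu₁, zero_add] at hu2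
  have hne : ff u₂ b ≠ 0 := by
    rw [sf_swap]
    exact neg_ne_zero.2 hu2
  refine ⟨(ff u₂ b)⁻¹ • u₂, U'.smul_mem _ hu₂, ?_, ?_⟩
  · rw [sf_smul_left, sf_swap m u₂ a, hau, neg_zero, mul_zero]
  · rw [sf_smul_left, inv_mul_cancel₀ hne]

end

section
variable {F : Type*} [Field F] (m : ℕ)

local notation "V" => (Fin m ⊕ Fin m → F)
local notation "ff" => Cfsg.sympForm m F
local notation "GLm" => Matrix.GeneralLinearGroup (Fin m ⊕ Fin m) F

/-- the symplectic form as a bilinear map -/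
def ffL : V →ₗ[F] V →ₗ[F] F :=
  LinearMap.mk₂ F (Cfsg.sympForm m F) (sf_add_left m)
    (fun c x y => by rw [sf_smul_left, smul_eq_mul]) (sf_add_right m)
    (fun c x y => by rw [sf_smul_right, smul_eq_mul])

@[simp] theorem ffL_apply (x y : V) : ffL m x y = ff x y := rfl

/-- the functional `x ↦ f(x, p)` -/
def ffR (p : V) : V →ₗ[F] F := (ffL m).flip p

@[simp] theorem ffR_apply (p x : V) : ffR m p x = ff x p := rfl

theorem finrank_le_inf_ker_add_one (W : Submodule F V) (φ : V →ₗ[F] F) :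
    finrank F W ≤ finrank F ↥(W ⊓ LinearMap.ker φ) + 1 := by
  by_cases h : ∃ v ∈ W, φ v ≠ 0
  · exact (Cfsg.Agent.Lib.Helper43.finrank_inf_ker_add_one W φ h).symm.le
  · push Not at h
    have : W ⊓ LinearMap.ker φ = W := by
      apply le_antisymm inf_le_left
      intro v hv
      exact ⟨hv, LinearMap.mem_ker.2 (h v hv)⟩
    rw [this]
    omega

/-- the element `x ↦ x + f(x,a) b + f(x,b) a` of the symplectic group (for `f(a,b) = 0`) -/
def rho (a b : V) : GLm := tg m (a + b) 1 * tg m a (-1) * tg m b (-1)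

theorem rho_mem (a b : V) : rho m a b ∈ Cfsg.spGL m F :=
  Subgroup.mul_mem _ (Subgroup.mul_mem _ (tg_mem m _ _) (tg_mem m _ _)) (tg_mem m _ _)

theorem rho_act (a b : V) (hab : ff a b = 0) (x : V) :
    (rho m a b).1 *ᵥ x = x + ff x a • b + ff x b • a := by
  have hba : ff b a = 0 := by rw [sf_swap, hab, neg_zero]
  unfold rho
  rw [gl_mul_act, gl_mul_act, tg_act, tg_act, tg_act]
  simp only [sf_add_left, sf_add_right, sf_smul_left, sf_smul_right, sf_self, hab, hba, mul_zero,
    add_zero, zero_add, one_mul, neg_mul, mul_neg]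
  module

theorem conj_rho (g : GLm) (hg : g ∈ Cfsg.spGL m F) (a b : V) :
    g * rho m a b * g⁻¹ = rho m (g.1 *ᵥ a) (g.1 *ᵥ b) := by
  unfold rho
  rw [← conj_tg m g hg, ← conj_tg m g hg, ← Matrix.mulVec_add, ← conj_tg m g hg]
  group

/-- the Heisenberg commutator relation -/
theorem rho_comm (x v w : V) (hxv : ff x v = 0) (hxw : ff x w = 0) :
    rho m x v * rho m x w = tg m x (2 * ff w v) * (rho m x w * rho m x v) := by
  have hvx : ff v x = 0 := by rw [sf_swap, hxv, neg_zero]
  have hwx : ff w x = 0 := by rw [sf_swap, hxw, neg_zero]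
  have hvw : ff v w = - ff w v := sf_swap m v w
  apply gl_ext
  intro z
  rw [gl_mul_act, gl_mul_act, gl_mul_act, rho_act m x v hxv, rho_act m x w hxw, rho_act m x w hxw,
    rho_act m x v hxv, tg_act]
  simp only [sf_add_left, sf_add_right, sf_smul_left, sf_smul_right, sf_self, hxv, hxw, hvx, hwx,
    hvw, mul_zero, add_zero, zero_add, mul_neg, neg_zero]
  module

end

end Cfsg.Agent.Lib.Helper43.SpPair
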