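import Cfsg.Prelude.Def_LieTypeDatum
import Cfsg.Agent.Lib.Helper11.SpPerfect
import Cfsg.Agent.Lib.Helper43.SpPair1
import Cfsg.Agent.Lib.Helper07.SpCenter

set_option autoImplicit false
set_option linter.unusedSimpArgs false
set_option linter.unusedVariables false
set_option linter.unusedSectionVars false

/-! Basic facts on the transvection subgroups of `Sp_2m(F)` and their images in `PSp_2m(F)`,
used for the determination of the automorphism group of `PSp_2m(F)`. -/

namespace Cfsg.Agent.Lib.Helper43.AutPSp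

open Matrix Cfsg.Agent.Lib.Helper18 Cfsg.Agent.Lib.Helper11.SpPerfect

section
variable {F : Type*} [Field F] (m : ℕ)

local notation "V" => (Fin m ⊕ Fin m → F)
local notation "f" => Cfsg.sympForm m F
local notation "G" => Matrix.symplecticGroup (Fin m) F
local notation "Mat" => Matrix (Fin m ⊕ Fin m) (Fin m ⊕ Fin m) F

/-- the projection `Sp → PSp` -/
def prj : G →* Cfsg.PSp m F := QuotientGroup.mk' (Subgroup.center G)

theorem prj_surjective : Function.Surjective (prj (F := F) m) :=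
  QuotientGroup.mk'_surjective _

theorem prj_apply (A : G) : prj m A = (QuotientGroup.mk A : Cfsg.PSp m F) := rfl

theorem act_mul (A B : G) (x : V) : (A * B).1 *ᵥ x = A.1 *ᵥ (B.1 *ᵥ x) := by
  rw [val_mul, Matrix.mulVec_mulVec]

theorem act_one (x : V) : (1 : G).1 *ᵥ x = x := by
  rw [val_one, Matrix.one_mulVec]

theorem act_inv_act (A : G) (x : V) : (A⁻¹).1 *ᵥ (A.1 *ᵥ x) = x := inv_mulVec_mulVec m A x

theorem act_act_inv (A : G) (x : V) : A.1 *ᵥ ((A⁻¹).1 *ᵥ x) = x := mulVec_inv_mulVec m A x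

theorem act_sf (A : G) (x y : V) : f (A.1 *ᵥ x) (A.1 *ᵥ y) = f x y :=
  sf_mulVec_of_mem m A.1 A.2 x y

theorem act_sf_inv (A : G) (x y : V) : f ((A⁻¹).1 *ᵥ x) y = f x (A.1 *ᵥ y) := by
  rw [← act_sf m A, act_act_inv]

theorem act_injective (A : G) {x y : V} (h : A.1 *ᵥ x = A.1 *ᵥ y) : x = y := by
  rw [← act_inv_act m A x, h, act_inv_act]

theorem act_ne_zero (A : G) {x : V} (hx : x ≠ 0) : A.1 *ᵥ x ≠ 0 := by
  intro h
  apply hx
  apply act_injective m A
  rw [h, Matrix.mulVec_zero]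

/-- the element `-1` of the symplectic group -/
theorem neg_one_mem : (-1 : Mat) ∈ Matrix.symplecticGroup (Fin m) F := by
  rw [SymplecticGroup.mem_iff]
  simp

/-- elements with opposite matrices have the same image in `PSp` -/
theorem prj_eq_of_neg {A B : G} (h : A.1 = -B.1) : prj m A = prj m B := by
  rw [prj_apply, prj_apply, QuotientGroup.eq, Subgroup.mem_center_iff]
  have hz : (A⁻¹ * B).1 = -1 := by
    have h1 : (A⁻¹ * A).1 = 1 := by rw [inv_mul_cancel]; rfl
    rw [val_mul] at h1 ⊢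
    have hB : B.1 = -A.1 := by rw [h, neg_neg]
    rw [hB, Matrix.mul_neg, h1]
  intro g
  apply Subtype.ext
  rw [val_mul m g, val_mul m _ g, hz, Matrix.mul_neg, Matrix.neg_mul, Matrix.mul_one,
    Matrix.one_mul]

theorem prj_eq_iff [NeZero m] {A B : G} :
    prj m A = prj m B ↔ A.1 = B.1 ∨ A.1 = -B.1 := by
  constructor
  · intro h
    rw [prj_apply, prj_apply, QuotientGroup.eq] at h
    have hz := Cfsg.Agent.Lib.Helper07.center_val_eq (A⁻¹ * B) h
    have hA : A.1 * (A⁻¹ * B).1 = B.1 := by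
      rw [← val_mul, mul_inv_cancel_left]
    rcases hz with hz | hz
    · left
      rw [hz, Matrix.mul_one] at hA
      exact hA
    · right
      rw [hz, Matrix.mul_neg, Matrix.mul_one] at hA
      rw [← hA, neg_neg]
  · rintro (h | h)
    · rw [Subtype.ext h]
    · exact prj_eq_of_neg m h

theorem prj_eq_iff_act [NeZero m] {A B : G} :
    prj m A = prj m B ↔ (∀ x : V, A.1 *ᵥ x = B.1 *ᵥ x) ∨ (∀ x : V, A.1 *ᵥ x = -(B.1 *ᵥ x)) := by
  rw [prj_eq_iff]
  constructor
  · rintro (h | h)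
    · left; intro x; rw [h]
    · right; intro x; rw [h, Matrix.neg_mulVec]
  · rintro (h | h)
    · left; exact mat_ext m _ _ h
    · right
      apply mat_ext m
      intro x
      rw [h, Matrix.neg_mulVec]

theorem tv_comm_of_perp {v w : V} (h : f v w = 0) (c d : F) :
    tv m v c * tv m w d = tv m w d * tv m v c := by
  have h1 := conj_tv m (tv m v c) w d
  rw [tv_act, sf_swap m w v, h, neg_zero, mul_zero, zero_smul, add_zero] at h1
  calc tv m v c * tv m w d = (tv m v c * tv m w d * (tv m v c)⁻¹) * tv m v c := by group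
    _ = tv m w d * tv m v c := by rw [h1]

theorem exists_pair_ne_zero {v : V} (hv : v ≠ 0) : ∃ x : V, f x v = 1 := by
  obtain ⟨y, hy⟩ := sf_nondeg_top m v hv
  refine ⟨(f y v)⁻¹ • y, ?_⟩
  have hy' : f y v ≠ 0 := by
    rw [sf_swap m y v]; exact neg_ne_zero.mpr hy
  rw [sf_smul_left, inv_mul_cancel₀ hy']

theorem eq_zero_of_perp_all {w : V} (h : ∀ y : V, f y w = 0) : w = 0 := by
  by_contra hw
  obtain ⟨y, hy⟩ := sf_nondeg_top m w hw
  apply hy
  rw [sf_swap m w y, h y, neg_zero]

/-- `(v^⊥)^⊥ = ⟨v⟩` -/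
theorem perp_perp {v w : V} (hv : v ≠ 0) (h : ∀ y : V, f y v = 0 → f y w = 0) :
    ∃ c : F, w = c • v := by
  obtain ⟨u, hu⟩ := exists_pair_ne_zero m hv
  refine ⟨f u w, ?_⟩
  have : w - f u w • v = 0 := by
    apply eq_zero_of_perp_all m
    intro y
    have h1 := h (y - f y v • u) (by rw [sf_sub_left, sf_smul_left, hu, mul_one, sub_self])
    rw [sf_sub_left, sf_smul_left] at h1
    rw [sf_sub_right, sf_smul_right]
    linear_combination h1
  exact sub_eq_zero.mp this

/-- collinearity in terms of the form -/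
theorem coll_iff (u v x : V) :
    (∃ α β : F, x = α • u + β • v) ↔ ∀ y : V, f y u = 0 → f y v = 0 → f y x = 0 := by
  constructor
  · rintro ⟨α, β, rfl⟩ y hu hv
    rw [sf_add_right, sf_smul_right, sf_smul_right, hu, hv, mul_zero, mul_zero, add_zero]
  · intro h
    let L : Fin 2 → (V →ₗ[F] F) := ![SpPair.ffR m u, SpPair.ffR m v]
    have hker : ⨅ i, LinearMap.ker (L i) ≤ LinearMap.ker (SpPair.ffR m x) := by
      intro y hy
      rw [Submodule.mem_iInf] at hy
      have h0 := hy 0
      have h1 := hy 1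
      simp only [L, LinearMap.mem_ker, Matrix.cons_val_zero, Matrix.cons_val_one,
        SpPair.ffR_apply] at h0 h1
      rw [LinearMap.mem_ker, SpPair.ffR_apply]
      exact h y h0 h1
    have hmem := mem_span_of_iInf_ker_le_ker hker
    obtain ⟨c, hc⟩ := (Submodule.mem_span_range_iff_exists_fun F).1 hmem
    refine ⟨c 0, c 1, ?_⟩
    have : x - (c 0 • u + c 1 • v) = 0 := by
      apply eq_zero_of_perp_all m
      intro y
      have h2 := LinearMap.congr_fun hc y
      simp only [L, Fin.sum_univ_two, Matrix.cons_val_zero, Matrix.cons_val_one,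
        LinearMap.add_apply, LinearMap.smul_apply, SpPair.ffR_apply, smul_eq_mul] at h2
      rw [sf_sub_right, sf_add_right, sf_smul_right, sf_smul_right]
      linear_combination -h2
    exact sub_eq_zero.mp this

/-- a nonzero vector perpendicular to two given vectors -/
theorem exists_perp2 (hm : 2 ≤ m) (v w : V) : ∃ x : V, x ≠ 0 ∧ f x v = 0 ∧ f x w = 0 := by
  let φ : V →ₗ[F] (Fin 2 → F) := LinearMap.pi ![SpPair.ffR m v, SpPair.ffR m w]
  have hlt : Module.finrank F (Fin 2 → F) < Module.finrank F V := by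
    rw [Module.finrank_fin_fun, Module.finrank_fintype_fun_eq_card, Fintype.card_sum,
      Fintype.card_fin]
    omega
  have hker : LinearMap.ker φ ≠ ⊥ := LinearMap.ker_ne_bot_of_finrank_lt hlt
  obtain ⟨x, hx, hx0⟩ := Submodule.exists_mem_ne_zero_of_ne_bot hker
  refine ⟨x, hx0, ?_, ?_⟩
  · have := congrFun (LinearMap.mem_ker.mp hx) 0
    simpa [φ] using this
  · have := congrFun (LinearMap.mem_ker.mp hx) 1
    simpa [φ] using this

/-- the root subgroup in `PSp` attached to a vector -/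
def Xb (v : V) : Set (Cfsg.PSp m F) := Set.range fun c : F => prj m (tv m v c)

theorem mem_Xb (v : V) (c : F) : prj m (tv m v c) ∈ Xb m v := ⟨c, rfl⟩

theorem Xb_smul (v : V) {c : F} (hc : c ≠ 0) : Xb m (c • v) = Xb m v := by
  ext z
  constructor
  · rintro ⟨d, rfl⟩
    refine ⟨c * c * d, ?_⟩
    beta_reduce
    rw [tv_smul]
  · rintro ⟨d, rfl⟩
    refine ⟨d / (c * c), ?_⟩
    beta_reduce
    rw [tv_smul]
    congr 2
    field_simp

/-- the key rigidity: transvections with the same image in `PSp` have proportional centres -/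
theorem par_of_prj_tv_eq [NeZero m] (hm : 2 ≤ m) {v w : V} {d e : F} (hw : w ≠ 0) (he : e ≠ 0)
    (h : prj m (tv m v d) = prj m (tv m w e)) : ∃ c : F, w = c • v := by
  have hplus : (∀ x : V, (tv m v d).1 *ᵥ x = (tv m w e).1 *ᵥ x) → ∃ c : F, w = c • v := by
    intro h1
    obtain ⟨x, hx⟩ := exists_pair_ne_zero m hw
    have h2 := h1 x
    rw [tv_act, tv_act, hx, mul_one] at h2
    have h3 : (d * f x v) • v = e • w := add_left_cancel h2
    refine ⟨e⁻¹ * (d * f x v), ?_⟩
    rw [← smul_smul, h3, smul_smul, inv_mul_cancel₀ he, one_smul]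
  rcases (prj_eq_iff_act m).mp h with h1 | h1
  · exact hplus h1
  · by_cases h2 : (2 : F) = 0
    · apply hplus
      intro x
      rw [h1 x]
      have : (2 : F) • ((tv m w e).1 *ᵥ x) = 0 := by rw [h2, zero_smul]
      rw [two_smul] at this
      exact (eq_neg_of_add_eq_zero_left this).symm
    · exfalso
      obtain ⟨x, hx0, hxv, hxw⟩ := exists_perp2 m hm v w
      have h3 := h1 x
      simp only [tv_act, hxv, hxw, mul_zero, zero_smul, add_zero] at h3
      have h4 : (2 : F) • x = 0 := by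
        rw [two_smul]
        nth_rewrite 1 [h3]
        rw [neg_add_cancel]
      exact hx0 ((smul_eq_zero.mp h4).resolve_left h2)

theorem Xb_eq_iff [NeZero m] (hm : 2 ≤ m) {v w : V} (hv : v ≠ 0) (hw : w ≠ 0) :
    Xb m v = Xb m w ↔ ∃ c : F, c ≠ 0 ∧ w = c • v := by
  constructor
  · intro h
    have h1 : prj m (tv m w 1) ∈ Xb m v := by rw [h]; exact mem_Xb m w 1
    obtain ⟨d, hd⟩ := h1
    obtain ⟨c, hc⟩ := par_of_prj_tv_eq m hm hw one_ne_zero hd
    refine ⟨c, ?_, hc⟩
    rintro rfl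
    rw [zero_smul] at hc
    exact hw hc
  · rintro ⟨c, hc, rfl⟩
    exact (Xb_smul m v hc).symm

/-- commuting transvections of `PSp` have perpendicular centres -/
theorem sf_eq_zero_of_comm [NeZero m] (hm : 2 ≤ m) {v w : V} (hw : w ≠ 0)
    (h1 : prj m (tv m v 1) * prj m (tv m w 1) = prj m (tv m w 1) * prj m (tv m v 1)) :
    f v w = 0 := by
  have h2 : prj m (tv m v 1 * tv m w 1 * (tv m v 1)⁻¹) = prj m (tv m w 1) := by
    rw [map_mul, map_mul, h1, map_inv, mul_inv_cancel_right]
  rw [conj_tv] at h2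
  have hw' : (tv m v 1).1 *ᵥ w ≠ 0 := act_ne_zero m _ hw
  obtain ⟨c, hc⟩ := par_of_prj_tv_eq m hm hw' one_ne_zero h2.symm
  rw [tv_act, one_mul] at hc
  -- `w + f w v • v = c • w`
  by_contra hne
  have hwv : f w v ≠ 0 := by
    rw [sf_swap m w v]; exact neg_ne_zero.mpr hne
  have h3 : v = ((c - 1) / f w v) • w := by
    have : f w v • v = (c - 1) • w := by
      rw [sub_smul, one_smul, ← hc]; abel
    rw [div_eq_inv_mul, ← smul_smul, ← this, smul_smul, inv_mul_cancel₀ hwv, one_smul]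
  apply hne
  rw [h3, sf_smul_left, sf_self, mul_zero]

/-- commuting of root subgroups of `PSp` -/
theorem Xb_comm_iff [NeZero m] (hm : 2 ≤ m) {v w : V} (hv : v ≠ 0) (hw : w ≠ 0) :
    (∀ a ∈ Xb m v, ∀ b ∈ Xb m w, a * b = b * a) ↔ f v w = 0 := by
  constructor
  · intro h
    exact sf_eq_zero_of_comm m hm hw (h _ (mem_Xb m v 1) _ (mem_Xb m w 1))
  · rintro h _ ⟨c, rfl⟩ _ ⟨d, rfl⟩
    rw [← map_mul, ← map_mul, tv_comm_of_perp m h]

/-- conjugation moves the root subgroups as the vectors -/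
theorem conj_Xb (A : G) (v : V) :
    (fun z => prj m A * z * (prj m A)⁻¹) '' Xb m v = Xb m (A.1 *ᵥ v) := by
  ext z
  constructor
  · rintro ⟨_, ⟨c, rfl⟩, rfl⟩
    refine ⟨c, ?_⟩
    beta_reduce
    rw [← conj_tv, map_mul, map_mul, map_inv]
  · rintro ⟨c, rfl⟩
    refine ⟨prj m (tv m v c), mem_Xb m v c, ?_⟩
    beta_reduce
    rw [← conj_tv, map_mul, map_mul, map_inv]

end

end Cfsg.Agent.Lib.Helper43.AutPSp
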