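import Cfsg.Agent.Lib.Helper43.AutPSpGram

set_option autoImplicit false
set_option linter.unusedSimpArgs false
set_option linter.unusedVariables false
set_option linter.unusedSectionVars false

/-! Characteristic two: an involution of `Sp_2m(F)` which is not a transvection has a conjugate
whose product with it has order four. Here: the calculus of `N = x - 1` and the three
configurations. -/

namespace Cfsg.Agent.Lib.Helper43.AutPSp

open Matrix Cfsg.Agent.Lib.Helper18 Cfsg.Agent.Lib.Helper11.SpPerfect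

section
variable {F : Type*} [Field F] [CharP F 2] (m : ℕ)

local notation "V" => (Fin m ⊕ Fin m → F)
local notation "f" => Cfsg.sympForm m F
local notation "G" => Matrix.symplecticGroup (Fin m) F

/-- `N = x - 1 = x + 1` -/
def Nx (x : G) (u : V) : V := x.1 *ᵥ u + u

theorem act_eq_Nx (x : G) (u : V) : x.1 *ᵥ u = u + Nx m x u := by
  unfold Nx
  rw [add_comm (x.1 *ᵥ u), ← add_assoc, vadd_self, zero_add]

theorem Nx_add (x : G) (u v : V) : Nx m x (u + v) = Nx m x u + Nx m x v := by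
  unfold Nx
  rw [Matrix.mulVec_add]
  abel

theorem Nx_smul (x : G) (c : F) (u : V) : Nx m x (c • u) = c • Nx m x u := by
  unfold Nx
  rw [Matrix.mulVec_smul, smul_add]

theorem Nx_Nx {x : G} (hx : x * x = 1) (u : V) : Nx m x (Nx m x u) = 0 := by
  unfold Nx
  rw [Matrix.mulVec_add, ← act_mul, hx, act_one]
  have : u + x.1 *ᵥ u + (x.1 *ᵥ u + u) = (u + u) + (x.1 *ᵥ u + x.1 *ᵥ u) := by abel
  rw [this, vadd_self, vadd_self, add_zero]

theorem sf_Nx {x : G} (hx : x * x = 1) (u v : V) : f (Nx m x u) v = f u (Nx m x v) := by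
  unfold Nx
  rw [sf_add_left, sf_add_right]
  congr 1
  have h1 : f (x.1 *ᵥ u) v = f (x.1 *ᵥ (x.1 *ᵥ u)) (x.1 *ᵥ v) := (act_sf m x _ _).symm
  rw [h1, ← act_mul, hx, act_one]

theorem sf_Nx_Nx {x : G} (hx : x * x = 1) (u v : V) : f (Nx m x u) (Nx m x v) = 0 := by
  rw [sf_Nx m hx, Nx_Nx m hx, sf_zero_right]

theorem exists_sqrt [Finite F] (a : F) : ∃ c : F, c * c = a := by
  obtain ⟨r, hr⟩ := FiniteField.isSquare_of_char_two (ringChar.eq F 2) a
  exact ⟨r, hr.symm⟩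

/-- conjugating a word by an element acting on the centres -/
theorem conj_wordG {n : ℕ} (x : G) (b : Fin n → V) (L L' : List (Fin n → ZMod 2))
    (h : List.Forall₂ (fun ε ε' => x.1 *ᵥ cvec m b ε = cvec m b ε') L L') :
    x * wordG m b L * x⁻¹ = wordG m b L' := by
  induction h with
  | nil => simp [wordG_nil]
  | cons h1 _ ih =>
    rw [wordG_cons, wordG_cons, ← ih, ← h1, ← conj_tv]
    group

/-- the product `x * (g x g⁻¹)` for an involution `x` and a word `g` -/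
theorem mul_conj_eq_word {n : ℕ} {x : G} (hx : x * x = 1) (b : Fin n → V)
    (L L' : List (Fin n → ZMod 2))
    (h : List.Forall₂ (fun ε ε' => x.1 *ᵥ cvec m b ε = cvec m b ε') L L') :
    x * (wordG m b L * x * (wordG m b L)⁻¹) = wordG m b (L' ++ L.reverse) := by
  have hxi : x⁻¹ = x := inv_eq_of_mul_eq_one_right hx
  rw [wordG_append, ← wordG_reverse_inv, ← conj_wordG m x b L L' h, hxi]
  group

theorem cvec_four (b : Fin 4 → V) (ε : Fin 4 → ZMod 2) :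
    cvec m b ε = io F (ε 0) • b 0 + io F (ε 1) • b 1 + io F (ε 2) • b 2 + io F (ε 3) • b 3 := by
  unfold cvec
  rw [Fin.sum_univ_four]

theorem cvec_six (b : Fin 6 → V) (ε : Fin 6 → ZMod 2) :
    cvec m b ε = io F (ε 0) • b 0 + io F (ε 1) • b 1 + io F (ε 2) • b 2 + io F (ε 3) • b 3
      + io F (ε 4) • b 4 + io F (ε 5) • b 5 := by
  unfold cvec
  rw [Fin.sum_univ_six]

/-- Gram matrix of the first configuration -/
def gramP1 : Matrix (Fin 4) (Fin 4) (ZMod 2) := !![0,0,1,0; 0,0,0,1; 1,0,0,0; 0,1,0,0]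

/-- Gram matrix of the second configuration -/
def gramP2 : Matrix (Fin 4) (Fin 4) (ZMod 2) := !![0,0,1,1; 0,0,1,1; 1,1,0,0; 1,1,0,0]

/-- Gram matrix of the third configuration -/
def gramP3 : Matrix (Fin 6) (Fin 6) (ZMod 2) :=
  !![0,0,0,1,0,0; 0,0,1,0,0,0; 0,1,0,0,0,0; 1,0,0,0,0,0; 0,0,0,0,0,1; 0,0,0,0,1,0]

set_option maxRecDepth 100000 in
/-- first configuration: two orthogonal non-isotropic directions of the form `f(u, N v)` -/
theorem order_four_P1 {x : G} (hx : x * x = 1) (z₁ z₂ : V) (h12 : f z₁ z₂ = 0)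
    (h11 : f z₁ (Nx m x z₁) = 1) (h1n2 : f z₁ (Nx m x z₂) = 0) (h22 : f z₂ (Nx m x z₂) = 1) :
    ∃ g : G, (x * (g * x * g⁻¹)) ^ 4 = 1 ∧ (x * (g * x * g⁻¹)) ^ 2 ≠ 1 := by
  have h2n1 : f z₂ (Nx m x z₁) = 0 := by rw [← sf_Nx m hx, sf_symm2, h1n2]
  let b : Fin 4 → V := ![z₁, z₂, Nx m x z₁, Nx m x z₂]
  have hΓ : ∀ i j, f (b i) (b j) = io F (gramP1 i j) := by
    intro i j
    fin_cases i <;> fin_cases j <;>
      simp [b, gramP1, io, sf_self, h12, h11, h1n2, h22, h2n1, sf_Nx_Nx m hx,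
        sf_symm2 m z₂ z₁, sf_symm2 m (Nx m x z₁) z₁, sf_symm2 m (Nx m x z₂) z₁,
        sf_symm2 m (Nx m x z₁) z₂, sf_symm2 m (Nx m x z₂) z₂]
  let Lg : List (Fin 4 → ZMod 2) := [![1,0,0,0], ![0,1,0,0], ![0,0,1,0], ![0,1,1,0]]
  let Lx : List (Fin 4 → ZMod 2) := [![1,0,1,0], ![0,1,0,1], ![0,0,1,0], ![0,1,1,1]]
  have hN3 : Nx m x (Nx m x z₁) = 0 := Nx_Nx m hx z₁
  have hN4 : Nx m x (Nx m x z₂) = 0 := Nx_Nx m hx z₂
  have hF : List.Forall₂ (fun ε ε' => x.1 *ᵥ cvec m b ε = cvec m b ε') Lg Lx := by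
    refine List.Forall₂.cons ?_ (List.Forall₂.cons ?_ (List.Forall₂.cons ?_
      (List.Forall₂.cons ?_ List.Forall₂.nil)))
    · simp only [cvec_four]
      simp [b, io, Matrix.mulVec_add, act_eq_Nx m x]
    · simp only [cvec_four]
      simp [b, io, Matrix.mulVec_add, act_eq_Nx m x]
    · simp only [cvec_four]
      simp [b, io, Matrix.mulVec_add, act_eq_Nx m x, hN3]
    · simp only [cvec_four]
      simp [b, io, Matrix.mulVec_add, act_eq_Nx m x, hN3, Nx_add]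
  refine ⟨wordG m b Lg, ?_, ?_⟩
  · rw [mul_conj_eq_word m hx b Lg Lx hF, wordG_pow_four]
    exact wordG_eq_one m b gramP1 hΓ _ (by decide)
  · rw [mul_conj_eq_word m hx b Lg Lx hF, wordG_pow_two]
    have hdet : ∃ l j : Fin 4, (gramP1ᵀ * wordC gramP1 ((Lx ++ Lg.reverse) ++ (Lx ++ Lg.reverse))
        * gramP1ᵀ) j l = 1 := by decide
    obtain ⟨l, j, hlj⟩ := hdet
    exact wordG_ne_one m b gramP1 hΓ _ l j hlj

theorem EE_four (b : Fin 4 → V) (C : Matrix (Fin 4) (Fin 4) (ZMod 2)) (u : V) :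
    EE m b C u =
      (io F (C 0 0) * f u (b 0) + io F (C 0 1) * f u (b 1) + io F (C 0 2) * f u (b 2)
        + io F (C 0 3) * f u (b 3)) • b 0 +
      (io F (C 1 0) * f u (b 0) + io F (C 1 1) * f u (b 1) + io F (C 1 2) * f u (b 2)
        + io F (C 1 3) * f u (b 3)) • b 1 +
      (io F (C 2 0) * f u (b 0) + io F (C 2 1) * f u (b 1) + io F (C 2 2) * f u (b 2)
        + io F (C 2 3) * f u (b 3)) • b 2 +
      (io F (C 3 0) * f u (b 0) + io F (C 3 1) * f u (b 1) + io F (C 3 2) * f u (b 2)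
        + io F (C 3 3) * f u (b 3)) • b 3 := by
  unfold EE
  simp only [Fin.sum_univ_four]

set_option maxRecDepth 100000 in
/-- second configuration -/
theorem order_four_P2 {x : G} (hx : x * x = 1) (z₁ z₂ : V) (h12 : f z₁ z₂ = 0)
    (h11 : f z₁ (Nx m x z₁) = 1) (h1n2 : f z₁ (Nx m x z₂) = 1) (h22 : f z₂ (Nx m x z₂) = 1)
    (hne : Nx m x (z₁ + z₂) ≠ 0) :
    ∃ g : G, (x * (g * x * g⁻¹)) ^ 4 = 1 ∧ (x * (g * x * g⁻¹)) ^ 2 ≠ 1 := by
  have h2n1 : f z₂ (Nx m x z₁) = 1 := by rw [← sf_Nx m hx, sf_symm2, h1n2]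
  let b : Fin 4 → V := ![z₁, z₂, Nx m x z₁, Nx m x z₂]
  have hΓ : ∀ i j, f (b i) (b j) = io F (gramP2 i j) := by
    intro i j
    fin_cases i <;> fin_cases j <;>
      simp [b, gramP2, io, sf_self, h12, h11, h1n2, h22, h2n1, sf_Nx_Nx m hx,
        sf_symm2 m z₂ z₁, sf_symm2 m (Nx m x z₁) z₁, sf_symm2 m (Nx m x z₂) z₁,
        sf_symm2 m (Nx m x z₁) z₂, sf_symm2 m (Nx m x z₂) z₂]
  let Lg : List (Fin 4 → ZMod 2) := [![1,0,0,0], ![0,1,0,0]]
  let Lx : List (Fin 4 → ZMod 2) := [![1,0,1,0], ![0,1,0,1]]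
  have hF : List.Forall₂ (fun ε ε' => x.1 *ᵥ cvec m b ε = cvec m b ε') Lg Lx := by
    refine List.Forall₂.cons ?_ (List.Forall₂.cons ?_ List.Forall₂.nil)
    · simp only [cvec_four]
      simp [b, io, Matrix.mulVec_add, act_eq_Nx m x]
    · simp only [cvec_four]
      simp [b, io, Matrix.mulVec_add, act_eq_Nx m x]
  refine ⟨wordG m b Lg, ?_, ?_⟩
  · rw [mul_conj_eq_word m hx b Lg Lx hF, wordG_pow_four]
    exact wordG_eq_one m b gramP2 hΓ _ (by decide)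
  · rw [mul_conj_eq_word m hx b Lg Lx hF, wordG_pow_two]
    intro h1
    have hC2 : wordC gramP2 ((Lx ++ Lg.reverse) ++ (Lx ++ Lg.reverse))
        = !![0,0,1,1; 0,0,1,1; 1,1,0,0; 1,1,0,0] := by decide
    obtain ⟨t, ht⟩ := exists_pair_ne_zero m hne
    have h2 : (wordG m b ((Lx ++ Lg.reverse) ++ (Lx ++ Lg.reverse))).1 *ᵥ t = t := by
      rw [h1, act_one]
    rw [wordG_act m b gramP2 hΓ, hC2, EE_four] at h2
    have h3 := add_eq_left.mp h2
    have h4 := congrArg (Nx m x) h3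
    simp only [b, io, Matrix.cons_val_zero, Matrix.cons_val_one, Matrix.of_apply,
      Matrix.cons_val', Matrix.cons_val_fin_one, Matrix.cons_val_two, Matrix.cons_val_three,
      Matrix.head_cons, Matrix.tail_cons, map_zero, map_one, zero_mul, one_mul, zero_add,
      add_zero, Nx_add, Nx_smul, Nx_Nx m hx, smul_zero] at h4
    rw [← smul_add, ← Nx_add, ← sf_add_right, ← Nx_add, ht, one_smul] at h4
    have : Nx m x (0 : V) = 0 := by
      unfold Nx
      rw [Matrix.mulVec_zero, add_zero]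
    rw [this] at h4
    exact hne h4

set_option maxRecDepth 100000 in
/-- third configuration: a hyperbolic pair for `f(u, N v)` and a third hyperbolic pair whose
first member is fixed by `x` -/
theorem order_four_P3 {x : G} (hx : x * x = 1) (z₁ z₂ e₃ f₃ : V) (h12 : f z₁ z₂ = 0)
    (h11 : f z₁ (Nx m x z₁) = 0) (h1n2 : f z₁ (Nx m x z₂) = 1) (h22 : f z₂ (Nx m x z₂) = 0)
    (he1 : f e₃ z₁ = 0) (he2 : f e₃ z₂ = 0) (hNe : Nx m x e₃ = 0)
    (hf1 : f f₃ z₁ = 0) (hf2 : f f₃ z₂ = 0) (hf3 : f f₃ (Nx m x z₁) = 0)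
    (hf4 : f f₃ (Nx m x z₂) = 0) (hef : f e₃ f₃ = 1) :
    ∃ g : G, (x * (g * x * g⁻¹)) ^ 4 = 1 ∧ (x * (g * x * g⁻¹)) ^ 2 ≠ 1 := by
  have h2n1 : f z₂ (Nx m x z₁) = 1 := by rw [← sf_Nx m hx, sf_symm2, h1n2]
  have he3 : f e₃ (Nx m x z₁) = 0 := by rw [← sf_Nx m hx, hNe, sf_zero_left]
  have he4 : f e₃ (Nx m x z₂) = 0 := by rw [← sf_Nx m hx, hNe, sf_zero_left]
  let b : Fin 6 → V := ![z₁, z₂, Nx m x z₁, Nx m x z₂, e₃, f₃]
  have hΓ : ∀ i j, f (b i) (b j) = io F (gramP3 i j) := by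
    intro i j
    fin_cases i <;> fin_cases j <;>
      simp [b, gramP3, io, sf_self, h12, h11, h1n2, h22, h2n1, he1, he2, he3, he4, hf1, hf2,
        hf3, hf4, hef, sf_Nx_Nx m hx,
        sf_symm2 m z₂ z₁, sf_symm2 m (Nx m x z₁) z₁, sf_symm2 m (Nx m x z₂) z₁,
        sf_symm2 m (Nx m x z₁) z₂, sf_symm2 m (Nx m x z₂) z₂,
        sf_symm2 m z₁ e₃, sf_symm2 m z₂ e₃, sf_symm2 m (Nx m x z₁) e₃,
        sf_symm2 m (Nx m x z₂) e₃, sf_symm2 m z₁ f₃, sf_symm2 m z₂ f₃,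
        sf_symm2 m (Nx m x z₁) f₃, sf_symm2 m (Nx m x z₂) f₃, sf_symm2 m f₃ e₃]
  let Lg : List (Fin 6 → ZMod 2) :=
    [![1,0,0,0,0,0], ![0,1,0,0,0,0], ![0,0,0,0,1,0], ![0,1,0,0,1,0]]
  let Lx : List (Fin 6 → ZMod 2) :=
    [![1,0,1,0,0,0], ![0,1,0,1,0,0], ![0,0,0,0,1,0], ![0,1,0,1,1,0]]
  have hF : List.Forall₂ (fun ε ε' => x.1 *ᵥ cvec m b ε = cvec m b ε') Lg Lx := by
    refine List.Forall₂.cons ?_ (List.Forall₂.cons ?_ (List.Forall₂.cons ?_
      (List.Forall₂.cons ?_ List.Forall₂.nil)))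
    · simp only [cvec_six]
      simp [b, io, Matrix.mulVec_add, act_eq_Nx m x]
    · simp only [cvec_six]
      simp [b, io, Matrix.mulVec_add, act_eq_Nx m x]
    · simp only [cvec_six]
      simp [b, io, Matrix.mulVec_add, act_eq_Nx m x, hNe]
    · simp only [cvec_six]
      simp [b, io, Matrix.mulVec_add, act_eq_Nx m x, hNe, Nx_add]
      abel
  refine ⟨wordG m b Lg, ?_, ?_⟩
  · rw [mul_conj_eq_word m hx b Lg Lx hF, wordG_pow_four]
    exact wordG_eq_one m b gramP3 hΓ _ (by decide)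
  · rw [mul_conj_eq_word m hx b Lg Lx hF, wordG_pow_two]
    have hdet : ∃ l j : Fin 6, (gramP3ᵀ * wordC gramP3 ((Lx ++ Lg.reverse) ++ (Lx ++ Lg.reverse))
        * gramP3ᵀ) j l = 1 := by decide
    obtain ⟨l, j, hlj⟩ := hdet
    exact wordG_ne_one m b gramP3 hΓ _ l j hlj

end

end Cfsg.Agent.Lib.Helper43.AutPSp
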