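import Cfsg.Agent.Lib.Helper43.AutPSpEven1

set_option autoImplicit false
set_option linter.unusedSimpArgs false
set_option linter.unusedVariables false
set_option linter.unusedSectionVars false

/-! Characteristic two: an involution of `Sp_2m(F)`, `m ≥ 3`, which is not a transvection has a
conjugate whose product with it has order four; transvections do not. -/

namespace Cfsg.Agent.Lib.Helper43.AutPSp

open Matrix Cfsg.Agent.Lib.Helper18 Cfsg.Agent.Lib.Helper11.SpPerfect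

section
variable {F : Type*} [Field F] [CharP F 2] (m : ℕ)

local notation "V" => (Fin m ⊕ Fin m → F)
local notation "f" => Cfsg.sympForm m F
local notation "G" => Matrix.symplecticGroup (Fin m) F

theorem eq_of_vadd_eq_zero {a b : V} (h : a + b = 0) : a = b := by
  have : a = a + (b + b) := by rw [vadd_self, add_zero]
  rw [this, ← add_assoc, h, zero_add]

theorem Nx_zero (x : G) : Nx m x (0 : V) = 0 := by
  unfold Nx
  rw [Matrix.mulVec_zero, add_zero]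

/-- a nonzero vector perpendicular to four given vectors -/
theorem exists_perp4 (hm : 3 ≤ m) (a b c d : V) :
    ∃ y : V, y ≠ 0 ∧ f y a = 0 ∧ f y b = 0 ∧ f y c = 0 ∧ f y d = 0 := by
  let φ : V →ₗ[F] (Fin 4 → F) :=
    LinearMap.pi ![SpPair.ffR m a, SpPair.ffR m b, SpPair.ffR m c, SpPair.ffR m d]
  have hlt : Module.finrank F (Fin 4 → F) < Module.finrank F V := by
    rw [Module.finrank_fin_fun, Module.finrank_fintype_fun_eq_card, Fintype.card_sum,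
      Fintype.card_fin]
    omega
  have hker : LinearMap.ker φ ≠ ⊥ := LinearMap.ker_ne_bot_of_finrank_lt hlt
  obtain ⟨x, hx, hx0⟩ := Submodule.exists_mem_ne_zero_of_ne_bot hker
  refine ⟨x, hx0, ?_, ?_, ?_, ?_⟩
  · have := congrFun (LinearMap.mem_ker.mp hx) 0
    simpa [φ] using this
  · have := congrFun (LinearMap.mem_ker.mp hx) 1
    simpa [φ] using this
  · have := congrFun (LinearMap.mem_ker.mp hx) 2
    simpa [φ] using this
  · have := congrFun (LinearMap.mem_ker.mp hx) 3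
    simpa [φ] using this

/-- non-transvection involutions have a conjugate with product of order four -/
theorem exists_order_four [Finite F] (hm : 3 ≤ m) {x : G} (hx2 : x * x = 1) (hx1 : x ≠ 1)
    (hnt : ∀ (v : V) (c : F), x ≠ tv m v c) :
    ∃ g : G, (x * (g * x * g⁻¹)) ^ 4 = 1 ∧ (x * (g * x * g⁻¹)) ^ 2 ≠ 1 := by
  by_cases hA : ∃ z : V, f z (Nx m x z) ≠ 0
  · -- non-alternating type
    obtain ⟨z₀, hz₀⟩ := hA
    obtain ⟨c, hc⟩ := exists_sqrt (f z₀ (Nx m x z₀))⁻¹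
    obtain ⟨z₁, hz₁⟩ : ∃ z₁ : V, z₁ = c • z₀ := ⟨_, rfl⟩
    have h11 : f z₁ (Nx m x z₁) = 1 := by
      rw [hz₁, Nx_smul, sf_smul_left, sf_smul_right, ← mul_assoc, hc, inv_mul_cancel₀ hz₀]
    obtain ⟨w₁, hw₁⟩ : ∃ w₁ : V, w₁ = Nx m x z₁ := ⟨_, rfl⟩
    have hNw₁ : Nx m x w₁ = 0 := by rw [hw₁]; exact Nx_Nx m hx2 z₁
    obtain ⟨u₀, hu₀⟩ : ∃ u₀ : V, x.1 *ᵥ u₀ ≠ (tv m w₁ 1).1 *ᵥ u₀ := by
      by_contra hcon
      push Not at hcon
      exact hnt w₁ 1 (sp_ext m _ _ hcon)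
    rw [act_eq_Nx, tv_act, one_mul] at hu₀
    have hu₀' : Nx m x u₀ ≠ f u₀ w₁ • w₁ := fun h => hu₀ (by rw [h])
    obtain ⟨y₂, hy₂⟩ : ∃ y₂ : V, y₂ = u₀ + f u₀ w₁ • z₁ := ⟨_, rfl⟩
    have hNy₂ : Nx m x y₂ = Nx m x u₀ + f u₀ w₁ • w₁ := by
      rw [hy₂, Nx_add, Nx_smul, hw₁]
    have hNy₂ne : Nx m x y₂ ≠ 0 := by
      intro h0
      rw [hNy₂] at h0
      exact hu₀' (eq_of_vadd_eq_zero m h0)
    have h1y : f z₁ (Nx m x y₂) = 0 := by
      rw [hNy₂, sf_add_right, sf_smul_right, ← sf_Nx m hx2, ← hw₁, sf_symm2 m w₁ u₀,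
        sf_symm2 m z₁ w₁, hw₁, sf_symm2 m (Nx m x z₁) z₁, h11, mul_one, add_self_eq_zero']
    by_cases hB : f y₂ (Nx m x y₂) = 0
    · -- second configuration
      obtain ⟨z₂, hz₂⟩ : ∃ z₂ : V, z₂ = y₂ + f z₁ y₂ • w₁ := ⟨_, rfl⟩
      have hNz₂ : Nx m x z₂ = Nx m x y₂ := by
        rw [hz₂, Nx_add, Nx_smul, hNw₁, smul_zero, add_zero]
      have h12 : f z₁ z₂ = 0 := by
        rw [hz₂, sf_add_right, sf_smul_right, hw₁, h11, mul_one, add_self_eq_zero']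
      have h1n2 : f z₁ (Nx m x z₂) = 0 := by rw [hNz₂, h1y]
      have h22 : f z₂ (Nx m x z₂) = 0 := by
        rw [hNz₂, hz₂, sf_add_left, sf_smul_left, hB, hw₁, sf_Nx_Nx m hx2, mul_zero, add_zero]
      have h2n1 : f z₂ (Nx m x z₁) = 0 := by rw [← sf_Nx m hx2, sf_symm2, h1n2]
      apply order_four_P2 m hx2 z₁ (z₁ + z₂)
      · rw [sf_add_right, sf_self, h12, add_zero]
      · exact h11
      · rw [Nx_add, sf_add_right, h11, h1n2, add_zero]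
      · rw [Nx_add, sf_add_left, sf_add_right, sf_add_right, h11, h1n2, h2n1, h22]
        ring
      · have : z₁ + (z₁ + z₂) = z₂ := by rw [← add_assoc, vadd_self, zero_add]
        rw [this, hNz₂]
        exact hNy₂ne
    · -- first configuration
      obtain ⟨c₂, hc₂⟩ := exists_sqrt (f y₂ (Nx m x y₂))⁻¹
      obtain ⟨y₃, hy₃⟩ : ∃ y₃ : V, y₃ = c₂ • y₂ := ⟨_, rfl⟩
      have h33 : f y₃ (Nx m x y₃) = 1 := by
        rw [hy₃, Nx_smul, sf_smul_left, sf_smul_right, ← mul_assoc, hc₂, inv_mul_cancel₀ hB]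
      have h1y₃ : f z₁ (Nx m x y₃) = 0 := by
        rw [hy₃, Nx_smul, sf_smul_right, h1y, mul_zero]
      obtain ⟨z₂, hz₂⟩ : ∃ z₂ : V, z₂ = y₃ + f z₁ y₃ • w₁ := ⟨_, rfl⟩
      have hNz₂ : Nx m x z₂ = Nx m x y₃ := by
        rw [hz₂, Nx_add, Nx_smul, hNw₁, smul_zero, add_zero]
      have h12 : f z₁ z₂ = 0 := by
        rw [hz₂, sf_add_right, sf_smul_right, hw₁, h11, mul_one, add_self_eq_zero']
      have h1n2 : f z₁ (Nx m x z₂) = 0 := by rw [hNz₂, h1y₃]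
      have h22 : f z₂ (Nx m x z₂) = 1 := by
        rw [hNz₂, hz₂, sf_add_left, sf_smul_left, h33, hw₁, sf_Nx_Nx m hx2, mul_zero, add_zero]
      exact order_four_P1 m hx2 z₁ z₂ h12 h11 h1n2 h22
  · -- alternating type
    push Not at hA
    obtain ⟨z₁, hz₁⟩ : ∃ z₁ : V, Nx m x z₁ ≠ 0 := by
      by_contra hcon
      push Not at hcon
      apply hx1
      apply sp_ext
      intro u
      rw [act_eq_Nx, hcon, add_zero, act_one]
    obtain ⟨w₁, hw₁⟩ : ∃ w₁ : V, w₁ = Nx m x z₁ := ⟨_, rfl⟩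
    obtain ⟨y₂, hy₂⟩ := exists_pair_ne_zero m hz₁
    have h1y : f z₁ (Nx m x y₂) = 1 := by
      rw [← sf_Nx m hx2, sf_symm2, hy₂]
    obtain ⟨z₂, hz₂⟩ : ∃ z₂ : V, z₂ = y₂ + f z₁ y₂ • Nx m x y₂ := ⟨_, rfl⟩
    have hNz₂ : Nx m x z₂ = Nx m x y₂ := by
      rw [hz₂, Nx_add, Nx_smul, Nx_Nx m hx2, smul_zero, add_zero]
    have h12 : f z₁ z₂ = 0 := by
      rw [hz₂, sf_add_right, sf_smul_right, h1y, mul_one, add_self_eq_zero']
    have h1n2 : f z₁ (Nx m x z₂) = 1 := by rw [hNz₂, h1y]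
    have h11 : f z₁ (Nx m x z₁) = 0 := hA z₁
    have h22 : f z₂ (Nx m x z₂) = 0 := hA z₂
    have h2n1 : f z₂ (Nx m x z₁) = 1 := by rw [← sf_Nx m hx2, sf_symm2, h1n2]
    obtain ⟨w₂, hw₂⟩ : ∃ w₂ : V, w₂ = Nx m x z₂ := ⟨_, rfl⟩
    obtain ⟨y, hy0, hy1, hy2, hy3, hy4⟩ := exists_perp4 m hm z₁ z₂ w₁ w₂
    obtain ⟨e₃, he0, he1, he2, hNe⟩ : ∃ e₃ : V, e₃ ≠ 0 ∧ f e₃ z₁ = 0 ∧ f e₃ z₂ = 0 ∧
        Nx m x e₃ = 0 := by
      by_cases hNy : Nx m x y = 0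
      · exact ⟨y, hy0, hy1, hy2, hNy⟩
      · refine ⟨Nx m x y, hNy, ?_, ?_, Nx_Nx m hx2 y⟩
        · rw [sf_Nx m hx2, ← hw₁, hy3]
        · rw [sf_Nx m hx2, ← hw₂, hy4]
    have he3 : f e₃ w₁ = 0 := by rw [hw₁, ← sf_Nx m hx2, hNe, sf_zero_left]
    have he4 : f e₃ w₂ = 0 := by rw [hw₂, ← sf_Nx m hx2, hNe, sf_zero_left]
    obtain ⟨t, ht⟩ := exists_pair_ne_zero m he0
    obtain ⟨f₃, hf₃⟩ : ∃ f₃ : V,
        f₃ = t + f t w₂ • z₁ + f t z₁ • w₂ + f t w₁ • z₂ + f t z₂ • w₁ := ⟨_, rfl⟩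
    have hw1w2 : f w₁ w₂ = 0 := by rw [hw₁, hw₂, sf_Nx_Nx m hx2]
    have hw11 : f w₁ w₁ = 0 := sf_self m _
    have hf1 : f f₃ z₁ = 0 := by
      rw [hf₃]
      simp only [sf_add_left, sf_smul_left]
      rw [sf_self, sf_symm2 m w₂ z₁, hw₂, h1n2, sf_symm2 m z₂ z₁, h12, sf_symm2 m w₁ z₁, hw₁, h11]
      linear_combination (f t z₁) * (two_eq_zero' (F := F))
    have hf2 : f f₃ z₂ = 0 := by
      rw [hf₃]
      simp only [sf_add_left, sf_smul_left]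
      rw [sf_self, h12, sf_symm2 m w₂ z₂, hw₂, h22, sf_symm2 m w₁ z₂, hw₁, h2n1]
      linear_combination (f t z₂) * (two_eq_zero' (F := F))
    have hf3 : f f₃ (Nx m x z₁) = 0 := by
      rw [← hw₁, hf₃]
      simp only [sf_add_left, sf_smul_left]
      rw [sf_self, sf_symm2 m w₂ w₁, hw1w2]
      rw [hw₁, h11, h2n1]
      linear_combination (f t (Nx m x z₁)) * (two_eq_zero' (F := F))
    have hf4 : f f₃ (Nx m x z₂) = 0 := by
      rw [← hw₂, hf₃]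
      simp only [sf_add_left, sf_smul_left]
      rw [sf_self, hw1w2]
      rw [hw₂, h1n2, h22]
      linear_combination (f t (Nx m x z₂)) * (two_eq_zero' (F := F))
    have hef : f e₃ f₃ = 1 := by
      rw [hf₃]
      simp only [sf_add_right, sf_smul_right]
      rw [he1, he2, he3, he4, sf_symm2 m e₃ t, ht]
      ring
    exact order_four_P3 m hx2 z₁ z₂ e₃ f₃ h12 h11 h1n2 h22 he1 he2 hNe hf1 hf2 hf3 hf4 hef

end

end Cfsg.Agent.Lib.Helper43.AutPSp
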