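import Cfsg.Agent.Lib.Helper43.AutPSpEven2
import Cfsg.Agent.Lib.Helper43.AutPSpMain

set_option autoImplicit false
set_option linter.unusedSimpArgs false
set_option linter.unusedVariables false
set_option linter.unusedSectionVars false

/-! Characteristic two, `m ≥ 3`: the transvections of `PSp_2m(F)` are the involutions without a
conjugate giving a product of order four; hence all automorphisms permute the root subgroups. -/

namespace Cfsg.Agent.Lib.Helper43.AutPSp

open Matrix Cfsg.Agent.Lib.Helper18 Cfsg.Agent.Lib.Helper11.SpPerfect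

section
variable {F : Type*} [Field F] [CharP F 2] (m : ℕ)

local notation "V" => (Fin m ⊕ Fin m → F)
local notation "f" => Cfsg.sympForm m F
local notation "G" => Matrix.symplecticGroup (Fin m) F

theorem tv_sq (v : V) (c : F) : tv m v c * tv m v c = 1 := by
  rw [tv_mul, add_self_eq_zero', tv_zero]

/-- the product of a transvection with a conjugate never has order four -/
theorem tv_no_order_four (v : V) (c : F) (g : G)
    (h4 : (tv m v c * (g * tv m v c * g⁻¹)) ^ 4 = 1) :
    (tv m v c * (g * tv m v c * g⁻¹)) ^ 2 = 1 := by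
  by_cases hc : c = 0
  · subst hc
    rw [tv_zero]
    simp
  rw [conj_tv] at h4 ⊢
  obtain ⟨w, hw⟩ : ∃ w : V, w = g.1 *ᵥ v := ⟨_, rfl⟩
  rw [← hw] at h4 ⊢
  by_cases hs : f v w = 0
  · rw [pow_two]
    calc tv m v c * tv m w c * (tv m v c * tv m w c)
        = tv m v c * (tv m w c * tv m v c) * tv m w c := by group
      _ = tv m v c * (tv m v c * tv m w c) * tv m w c := by
          rw [tv_comm_of_perp m hs c c]
      _ = (tv m v c * tv m v c) * (tv m w c * tv m w c) := by group
      _ = 1 := by rw [tv_sq, tv_sq, one_mul]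
  · exfalso
    obtain ⟨t, ht⟩ : ∃ t : F, t = c * f v w := ⟨_, rfl⟩
    have hM : ∀ α β : F, (tv m v c * tv m w c).1 *ᵥ (α • v + β • w)
        = (α * (1 + t ^ 2) + β * t) • v + (α * t + β) • w := by
      intro α β
      rw [act_mul, tv_act, tv_act]
      simp only [sf_add_left, sf_add_right, sf_smul_left, sf_smul_right, sf_self,
        sf_symm2 m w v, mul_zero, add_zero, zero_add]
      rw [ht]
      module
    obtain ⟨M, hMdef⟩ : ∃ M : G, M = tv m v c * tv m w c := ⟨_, rfl⟩
    rw [← hMdef] at hM h4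
    have hw4 : M.1 *ᵥ (M.1 *ᵥ (M.1 *ᵥ (M.1 *ᵥ ((0 : F) • v + (1 : F) • w)))) = w := by
      rw [← act_mul, ← act_mul, ← act_mul, zero_smul, one_smul, zero_add]
      have : M * M * M * M = M ^ 4 := by
        rw [pow_succ, pow_succ, pow_succ, pow_one]
      rw [this, h4, act_one]
    rw [hM, hM, hM, hM] at hw4
    have h5 := congrArg (fun z => f z w) hw4
    simp only [sf_add_left, sf_smul_left, sf_self, mul_zero, add_zero] at h5
    have h2 := two_eq_zero' (F := F)
    have h6 : t ^ 7 * f v w = 0 := by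
      linear_combination h5 - (3 * t ^ 5 + 5 * t ^ 3 + 2 * t) * f v w * h2
    have ht0 : t ≠ 0 := by
      rw [ht]
      exact mul_ne_zero hc hs
    exact (mul_ne_zero (pow_ne_zero 7 ht0) hs) h6

end

/-- a group-theoretic property singling out the transvections in characteristic two -/
def IsT {H : Type*} [Group H] (z : H) : Prop :=
  z ≠ 1 ∧ z * z = 1 ∧ ∀ g : H, (z * (g * z * g⁻¹)) ^ 4 = 1 → (z * (g * z * g⁻¹)) ^ 2 = 1

theorem IsT.map {H : Type*} [Group H] (β : MulAut H) {z : H} (h : IsT z) : IsT (β z) := by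
  obtain ⟨h1, h2, h3⟩ := h
  refine ⟨fun h0 => h1 (β.injective (by rw [h0, map_one])), by rw [← map_mul, h2, map_one], ?_⟩
  intro g hg
  obtain ⟨g', rfl⟩ := β.surjective g
  have e : β z * (β g' * β z * (β g')⁻¹) = β (z * (g' * z * g'⁻¹)) := by
    simp only [map_mul, map_inv]
  rw [e, ← map_pow] at hg ⊢
  have h4 : (z * (g' * z * g'⁻¹)) ^ 4 = 1 := β.injective (by rw [hg, map_one])
  rw [h3 g' h4, map_one]

theorem IsT_map_iff {H : Type*} [Group H] (β : MulAut H) (z : H) : IsT (β z) ↔ IsT z := by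
  constructor
  · intro h
    have := h.map β⁻¹
    simpa using this
  · exact fun h => h.map β

/-- the transvections commuting with an element -/
def CT {H : Type*} [Group H] (z : H) : Set H := {s | IsT s ∧ s * z = z * s}

theorem CT_map {H : Type*} [Group H] (β : MulAut H) (z : H) : CT (β z) = (⇑β) '' CT z := by
  ext s
  constructor
  · rintro ⟨hT, hc⟩
    refine ⟨β⁻¹ s, ⟨?_, ?_⟩, by simp⟩
    · have := hT.map β⁻¹
      exact this
    · apply β.injective
      rw [map_mul, map_mul]
      simpa using hc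
  · rintro ⟨s', ⟨hT, hc⟩, rfl⟩
    exact ⟨hT.map β, by rw [← map_mul, ← map_mul, hc]⟩

section perm
variable {F : Type*} [Field F] [Finite F] [CharP F 2] (m : ℕ)

local notation "V" => (Fin m ⊕ Fin m → F)
local notation "f" => Cfsg.sympForm m F
local notation "G" => Matrix.symplecticGroup (Fin m) F

theorem prj_injective [NeZero m] : Function.Injective (prj (F := F) m) := by
  intro A B h
  rcases (prj_eq_iff m).mp h with h1 | h1
  · exact Subtype.ext h1
  · apply Subtype.ext
    rw [h1]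
    ext i j
    rw [Matrix.neg_apply, neg_eq_self']

theorem tv_one_ne_one {v : V} (hv : v ≠ 0) : tv m v 1 ≠ 1 := by
  intro h
  obtain ⟨u, hu⟩ := exists_pair_ne_zero m hv
  have h1 := congrArg (fun A : G => A.1 *ᵥ u) h
  simp only [tv_act, hu, one_mul, one_smul, act_one] at h1
  exact hv (add_eq_left.mp h1)

theorem IsT_prj_iff [NeZero m] (hm : 3 ≤ m) (a : G) :
    IsT (prj m a) ↔ ∃ v : V, v ≠ 0 ∧ a = tv m v 1 := by
  constructor
  · rintro ⟨h1, h2, h3⟩
    have ha1 : a ≠ 1 := fun h => h1 (by rw [h, map_one])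
    have ha2 : a * a = 1 := prj_injective m (by rw [map_mul, h2, map_one])
    by_contra hno
    push Not at hno
    have hnt : ∀ (v : V) (c : F), a ≠ tv m v c := by
      intro v c hvc
      have hc : c ≠ 0 := by
        rintro rfl
        exact ha1 (by rw [hvc, tv_zero])
      have hv : v ≠ 0 := by
        rintro rfl
        exact ha1 (by rw [hvc, tv_zero_left])
      obtain ⟨d, hd⟩ := exists_sqrt c
      have hd0 : d ≠ 0 := by
        rintro rfl
        rw [mul_zero] at hd
        exact hc hd.symm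
      apply hno (d • v) (smul_ne_zero hd0 hv)
      rw [tv_smul, mul_one, hd, hvc]
    obtain ⟨g, hg4, hg2⟩ := exists_order_four m hm ha2 ha1 hnt
    apply hg2
    apply prj_injective m
    have e : prj m a * (prj m g * prj m a * (prj m g)⁻¹) = prj m (a * (g * a * g⁻¹)) := by
      simp only [map_mul, map_inv]
    have := h3 (prj m g) (by rw [e, ← map_pow, hg4, map_one])
    rw [e, ← map_pow] at this
    rw [this, map_one]
  · rintro ⟨v, hv, rfl⟩
    refine ⟨fun h => tv_one_ne_one m hv (prj_injective m (by rw [h, map_one])),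
      by rw [← map_mul, tv_sq, map_one], ?_⟩
    intro gb hgb
    obtain ⟨g, rfl⟩ := prj_surjective m gb
    have e : prj m (tv m v 1) * (prj m g * prj m (tv m v 1) * (prj m g)⁻¹)
        = prj m (tv m v 1 * (g * tv m v 1 * g⁻¹)) := by
      simp only [map_mul, map_inv]
    rw [e, ← map_pow] at hgb ⊢
    have h4 : (tv m v 1 * (g * tv m v 1 * g⁻¹)) ^ 4 = 1 :=
      prj_injective m (by rw [hgb, map_one])
    rw [tv_no_order_four m v 1 g h4, map_one]

theorem prj_tv_comm_iff [NeZero m] (hm : 2 ≤ m) {v w : V} (hw : w ≠ 0) :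
    prj m (tv m v 1) * prj m (tv m w 1) = prj m (tv m w 1) * prj m (tv m v 1) ↔ f v w = 0 := by
  constructor
  · exact sf_eq_zero_of_comm m hm hw
  · intro h
    rw [← map_mul, ← map_mul, tv_comm_of_perp m h]

theorem CT_eq_iff [NeZero m] (hm : 3 ≤ m) {v w : V} (hv : v ≠ 0) (hw : w ≠ 0) :
    CT (prj m (tv m v 1)) = CT (prj m (tv m w 1)) ↔ ∃ c : F, c ≠ 0 ∧ w = c • v := by
  have hm2 : 2 ≤ m := by omega
  constructor
  · intro h
    obtain ⟨c, hc⟩ : ∃ c : F, w = c • v := by
      apply perp_perp m hv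
      intro y hy
      by_cases hy0 : y = 0
      · subst hy0; exact sf_zero_left m _
      have h1 : prj m (tv m y 1) ∈ CT (prj m (tv m v 1)) :=
        ⟨(IsT_prj_iff m hm _).mpr ⟨y, hy0, rfl⟩, (prj_tv_comm_iff m hm2 hv).mpr hy⟩
      rw [h] at h1
      exact (prj_tv_comm_iff m hm2 hw).mp h1.2
    refine ⟨c, ?_, hc⟩
    rintro rfl
    rw [zero_smul] at hc
    exact hw hc
  · rintro ⟨c, hc, rfl⟩
    ext s
    obtain ⟨a, rfl⟩ := prj_surjective m s
    constructor
    · rintro ⟨hT, hcomm⟩
      refine ⟨hT, ?_⟩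
      obtain ⟨y, hy0, rfl⟩ := (IsT_prj_iff m hm a).mp hT
      have := (prj_tv_comm_iff m hm2 hv).mp hcomm
      exact (prj_tv_comm_iff m hm2 hw).mpr (by rw [sf_smul_right, this, mul_zero])
    · rintro ⟨hT, hcomm⟩
      refine ⟨hT, ?_⟩
      obtain ⟨y, hy0, rfl⟩ := (IsT_prj_iff m hm a).mp hT
      have := (prj_tv_comm_iff m hm2 hw).mp hcomm
      rw [sf_smul_right] at this
      exact (prj_tv_comm_iff m hm2 hv).mpr ((mul_eq_zero.mp this).resolve_left hc)

/-- the root subgroups in group-theoretic terms -/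
theorem Xb_eq_T [NeZero m] (hm : 3 ≤ m) {v : V} (hv : v ≠ 0) :
    Xb m v = {z | z = 1 ∨ (IsT z ∧ CT z = CT (prj m (tv m v 1)))} := by
  ext z
  constructor
  · rintro ⟨c, rfl⟩
    beta_reduce
    by_cases hc : c = 0
    · left
      rw [hc, tv_zero, map_one]
    · right
      obtain ⟨d, hd⟩ := exists_sqrt c
      have hd0 : d ≠ 0 := by
        rintro rfl
        rw [mul_zero] at hd
        exact hc hd.symm
      have e : tv m v c = tv m (d • v) 1 := by rw [tv_smul, mul_one, hd]
      rw [e]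
      exact ⟨(IsT_prj_iff m hm _).mpr ⟨d • v, smul_ne_zero hd0 hv, rfl⟩,
        ((CT_eq_iff m hm hv (smul_ne_zero hd0 hv)).mpr ⟨d, hd0, rfl⟩).symm⟩
  · rintro (rfl | ⟨hT, hCT⟩)
    · exact ⟨0, by beta_reduce; rw [tv_zero, map_one]⟩
    · obtain ⟨a, rfl⟩ := prj_surjective m z
      obtain ⟨w, hw, rfl⟩ := (IsT_prj_iff m hm a).mp hT
      obtain ⟨c, hc, rfl⟩ := (CT_eq_iff m hm hv hw).mp hCT.symm
      exact ⟨c * c * 1, by beta_reduce; rw [tv_smul]⟩

/-- in characteristic two and rank at least three all automorphisms of `PSp` permute the root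
subgroups -/
theorem permRoot_even [NeZero m] (hm : 3 ≤ m) : PermRoot m F := by
  intro β v hv
  have hT₀ : IsT (prj m (tv m v 1)) := (IsT_prj_iff m hm _).mpr ⟨v, hv, rfl⟩
  have hT₁ := hT₀.map β
  obtain ⟨a, ha⟩ := prj_surjective m (β (prj m (tv m v 1)))
  rw [← ha] at hT₁
  obtain ⟨w, hw, rfl⟩ := (IsT_prj_iff m hm a).mp hT₁
  refine ⟨w, hw, ?_⟩
  rw [Xb_eq_T m hm hv, Xb_eq_T m hm hw]
  ext s
  constructor
  · rintro ⟨z, (rfl | ⟨hT, hCT⟩), rfl⟩
    · left; exact map_one β
    · right
      exact ⟨hT.map β, by rw [CT_map, hCT, ← CT_map, ha]⟩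
  · rintro (rfl | ⟨hT, hCT⟩)
    · exact ⟨1, Or.inl rfl, map_one β⟩
    · refine ⟨β⁻¹ s, Or.inr ⟨hT.map β⁻¹, ?_⟩, by simp⟩
      have h1 : (⇑β) '' CT (β⁻¹ s) = (⇑β) '' CT (prj m (tv m v 1)) := by
        rw [← CT_map, ← CT_map, ← ha]
        simpa using hCT
      exact Set.image_injective.mpr β.injective h1

end perm

end Cfsg.Agent.Lib.Helper43.AutPSp
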