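import Cfsg.Agent.Lib.Helper43.AutPSpBasic

set_option autoImplicit false
set_option linter.unusedSimpArgs false
set_option linter.unusedVariables false
set_option linter.unusedSectionVars false

/-! Characteristic two: products of transvections whose centres are `𝔽₂`-combinations of a family
of vectors with a `0/1` Gram matrix, computed in the matrix algebra over `ZMod 2`. -/

namespace Cfsg.Agent.Lib.Helper43.AutPSp

open Matrix Cfsg.Agent.Lib.Helper18 Cfsg.Agent.Lib.Helper11.SpPerfect

section
variable {F : Type*} [Field F] [CharP F 2] (m : ℕ) {n : ℕ}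

local notation "V" => (Fin m ⊕ Fin m → F)
local notation "f" => Cfsg.sympForm m F
local notation "G" => Matrix.symplecticGroup (Fin m) F

/-- the embedding of the prime field -/
noncomputable def io (F : Type*) [Field F] [CharP F 2] : ZMod 2 →+* F := ZMod.castHom (dvd_refl 2) F

theorem two_eq_zero' : (2 : F) = 0 := by
  have : ((2 : ℕ) : F) = 0 := CharP.cast_eq_zero F 2
  exact_mod_cast this

theorem add_self_eq_zero' (a : F) : a + a = 0 := by
  rw [← two_mul, two_eq_zero' (F := F), zero_mul]

theorem neg_eq_self' (a : F) : -a = a := by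
  rw [neg_eq_iff_add_eq_zero]
  exact add_self_eq_zero' a

theorem sf_symm2 (x y : V) : f x y = f y x := by
  rw [sf_swap m x y, neg_eq_self']

theorem vadd_self (x : V) : x + x = 0 := by
  rw [← two_smul F x, two_eq_zero' (F := F), zero_smul]

/-- the vector with `𝔽₂`-coordinates `ε` -/
noncomputable def cvec (b : Fin n → V) (ε : Fin n → ZMod 2) : V := ∑ i, io F (ε i) • b i

/-- the operator `u ↦ Σ C_ij f(u, b_j) b_i` -/
noncomputable def EE (b : Fin n → V) (C : Matrix (Fin n) (Fin n) (ZMod 2)) (u : V) : V :=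
  ∑ i, (∑ j, io F (C i j) * f u (b j)) • b i

theorem EE_zero (b : Fin n → V) (u : V) : EE m b 0 u = 0 := by
  unfold EE
  simp

theorem EE_add_mat (b : Fin n → V) (C D : Matrix (Fin n) (Fin n) (ZMod 2)) (u : V) :
    EE m b (C + D) u = EE m b C u + EE m b D u := by
  unfold EE
  rw [← Finset.sum_add_distrib]
  apply Finset.sum_congr rfl
  intro i _
  rw [← add_smul, ← Finset.sum_add_distrib]
  congr 1
  apply Finset.sum_congr rfl
  intro j _
  rw [Matrix.add_apply, map_add, add_mul]

theorem sf_sum_left {ι : Type*} (s : Finset ι) (g : ι → V) (y : V) :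
    f (∑ i ∈ s, g i) y = ∑ i ∈ s, f (g i) y := by
  classical
  induction s using Finset.induction_on with
  | empty => simp [sf_zero_left]
  | insert a s ha ih => rw [Finset.sum_insert ha, Finset.sum_insert ha, sf_add_left, ih]

theorem sf_EE (b : Fin n → V) (Γ : Matrix (Fin n) (Fin n) (ZMod 2))
    (hΓ : ∀ i j, f (b i) (b j) = io F (Γ i j)) (C : Matrix (Fin n) (Fin n) (ZMod 2)) (u : V)
    (j : Fin n) :
    f (EE m b C u) (b j) = ∑ l, io F ((Γᵀ * C) j l) * f u (b l) := by
  unfold EE
  rw [sf_sum_left]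
  simp_rw [sf_smul_left, hΓ, Finset.sum_mul, Matrix.mul_apply, map_sum, map_mul,
    Matrix.transpose_apply, Finset.sum_mul]
  rw [Finset.sum_comm]
  apply Finset.sum_congr rfl
  intro l _
  apply Finset.sum_congr rfl
  intro i _
  ring

theorem EE_comp (b : Fin n → V) (Γ : Matrix (Fin n) (Fin n) (ZMod 2))
    (hΓ : ∀ i j, f (b i) (b j) = io F (Γ i j)) (C D : Matrix (Fin n) (Fin n) (ZMod 2)) (u : V) :
    EE m b C (EE m b D u) = EE m b (C * Γᵀ * D) u := by
  unfold EE
  apply Finset.sum_congr rfl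
  intro i _
  congr 1
  have h := fun j => sf_EE m b Γ hΓ D u j
  unfold EE at h
  have key : ∀ l, (C * Γᵀ * D) i l = ∑ j, C i j * (Γᵀ * D) j l := fun l => by
    rw [Matrix.mul_assoc]; exact Matrix.mul_apply
  simp_rw [h, key, map_sum, map_mul, Finset.mul_sum, Finset.sum_mul]
  rw [Finset.sum_comm]
  apply Finset.sum_congr rfl
  intro l _
  apply Finset.sum_congr rfl
  intro j _
  ring

theorem sf_cvec_right (b : Fin n → V) (ε : Fin n → ZMod 2) (u : V) :
    f u (cvec m b ε) = ∑ j, io F (ε j) * f u (b j) := by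
  unfold cvec
  rw [sf_symm2, sf_sum_left]
  apply Finset.sum_congr rfl
  intro j _
  rw [sf_smul_left, sf_symm2]

/-- the action of a transvection with centre `cvec b ε` -/
theorem tv_cvec_act (b : Fin n → V) (ε : Fin n → ZMod 2) (u : V) :
    (tv m (cvec m b ε) 1).1 *ᵥ u = u + EE m b (vecMulVec ε ε) u := by
  rw [tv_act, one_mul]
  congr 1
  rw [sf_cvec_right]
  unfold EE
  conv_lhs => rw [cvec, Finset.smul_sum]
  apply Finset.sum_congr rfl
  intro i _
  rw [smul_smul]
  congr 1
  rw [Finset.sum_mul]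
  apply Finset.sum_congr rfl
  intro j _
  rw [Matrix.vecMulVec_apply, map_mul]
  ring

theorem EE_add_vec (b : Fin n → V) (C : Matrix (Fin n) (Fin n) (ZMod 2)) (u v : V) :
    EE m b C (u + v) = EE m b C u + EE m b C v := by
  unfold EE
  rw [← Finset.sum_add_distrib]
  apply Finset.sum_congr rfl
  intro i _
  rw [← add_smul, ← Finset.sum_add_distrib]
  congr 1
  apply Finset.sum_congr rfl
  intro j _
  rw [sf_add_left, mul_add]

/-- the coefficient matrix of a product of transvections -/
def wordC (Γ : Matrix (Fin n) (Fin n) (ZMod 2)) (L : List (Fin n → ZMod 2)) :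
    Matrix (Fin n) (Fin n) (ZMod 2) :=
  L.foldr (fun ε C => vecMulVec ε ε + C + vecMulVec ε ε * Γᵀ * C) 0

/-- the product of the transvections with centres given by a list of `𝔽₂`-vectors -/
noncomputable def wordG (b : Fin n → V) (L : List (Fin n → ZMod 2)) : G :=
  (L.map fun ε => tv m (cvec m b ε) 1).prod

theorem wordG_nil (b : Fin n → V) : wordG m b [] = 1 := rfl

theorem wordG_cons (b : Fin n → V) (ε : Fin n → ZMod 2) (L : List (Fin n → ZMod 2)) :
    wordG m b (ε :: L) = tv m (cvec m b ε) 1 * wordG m b L := by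
  unfold wordG
  rw [List.map_cons, List.prod_cons]

theorem wordG_append (b : Fin n → V) (L L' : List (Fin n → ZMod 2)) :
    wordG m b (L ++ L') = wordG m b L * wordG m b L' := by
  unfold wordG
  rw [List.map_append, List.prod_append]

theorem wordG_act (b : Fin n → V) (Γ : Matrix (Fin n) (Fin n) (ZMod 2))
    (hΓ : ∀ i j, f (b i) (b j) = io F (Γ i j)) (L : List (Fin n → ZMod 2)) (u : V) :
    (wordG m b L).1 *ᵥ u = u + EE m b (wordC Γ L) u := by
  induction L with
  | nil =>
    rw [wordG_nil, act_one]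
    unfold wordC
    rw [List.foldr_nil, EE_zero, add_zero]
  | cons ε L ih =>
    rw [wordG_cons, act_mul, ih, tv_cvec_act, EE_add_vec, EE_comp m b Γ hΓ]
    have : wordC Γ (ε :: L) = vecMulVec ε ε + wordC Γ L + vecMulVec ε ε * Γᵀ * wordC Γ L := rfl
    rw [this, EE_add_mat, EE_add_mat]
    abel

/-- a word whose coefficient matrix vanishes is trivial -/
theorem wordG_eq_one (b : Fin n → V) (Γ : Matrix (Fin n) (Fin n) (ZMod 2))
    (hΓ : ∀ i j, f (b i) (b j) = io F (Γ i j)) (L : List (Fin n → ZMod 2))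
    (hL : wordC Γ L = 0) : wordG m b L = 1 := by
  apply sp_ext
  intro u
  rw [wordG_act m b Γ hΓ, hL, EE_zero, add_zero, act_one]

theorem wordG_pow_four (b : Fin n → V) (L : List (Fin n → ZMod 2)) :
    wordG m b L ^ 4 = wordG m b (L ++ L ++ L ++ L) := by
  rw [wordG_append, wordG_append, wordG_append]
  rw [pow_succ, pow_succ, pow_succ, pow_one]

theorem wordG_pow_two (b : Fin n → V) (L : List (Fin n → ZMod 2)) :
    wordG m b L ^ 2 = wordG m b (L ++ L) := by
  rw [wordG_append, pow_two]

/-- a detection of nontriviality inside the family -/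
theorem wordG_ne_one (b : Fin n → V) (Γ : Matrix (Fin n) (Fin n) (ZMod 2))
    (hΓ : ∀ i j, f (b i) (b j) = io F (Γ i j)) (L : List (Fin n → ZMod 2)) (l j : Fin n)
    (hL : (Γᵀ * wordC Γ L * Γᵀ) j l = 1) : wordG m b L ≠ 1 := by
  intro h1
  have h2 : f ((wordG m b L).1 *ᵥ b l) (b j) = f (b l) (b j) := by rw [h1, act_one]
  rw [wordG_act m b Γ hΓ, sf_add_left, sf_EE m b Γ hΓ] at h2
  have h3 : ∑ k, io F ((Γᵀ * wordC Γ L) j k) * f (b l) (b k) = 0 := by
    have := add_left_cancel (a := f (b l) (b j)) (b := ∑ k, io F ((Γᵀ * wordC Γ L) j k) * f (b l) (b k))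
      (c := 0) (by rw [add_zero]; exact h2)
    exact this
  simp_rw [hΓ, ← map_mul, ← map_sum] at h3
  have h4 : ∑ k, (Γᵀ * wordC Γ L) j k * Γ l k = (Γᵀ * wordC Γ L * Γᵀ) j l := by
    rw [Matrix.mul_apply]
    apply Finset.sum_congr rfl
    intro k _
    rw [Matrix.transpose_apply]
  rw [h4, hL, map_one] at h3
  exact one_ne_zero h3

theorem tv_inv_two (w : V) (c : F) : (tv m w c)⁻¹ = tv m w c := by
  rw [tv_inv, neg_eq_self']

theorem wordG_reverse_inv (b : Fin n → V) (L : List (Fin n → ZMod 2)) :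
    (wordG m b L)⁻¹ = wordG m b L.reverse := by
  induction L with
  | nil => simp [wordG_nil]
  | cons ε L ih =>
    rw [wordG_cons, _root_.mul_inv_rev, ih, List.reverse_cons, wordG_append, tv_inv_two]
    congr 1
    rw [wordG_cons, wordG_nil, mul_one]

end

end Cfsg.Agent.Lib.Helper43.AutPSp
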