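import Cfsg.Agent.Lib.Helper43.AutPSpMain

set_option autoImplicit false
set_option linter.unusedSimpArgs false
set_option linter.unusedVariables false
set_option linter.unusedSectionVars false

/-! A single automorphism of `PSp_2m(F)` permuting the root subgroups (together with its inverse)
is induced by a semilinear conformal symplectic map. -/

namespace Cfsg.Agent.Lib.Helper43.AutPSp

open Matrix Cfsg.Agent.Lib.Helper18 Cfsg.Agent.Lib.Helper11.SpPerfect

section
variable {F : Type*} [Field F] (m : ℕ)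

local notation "V" => (Fin m ⊕ Fin m → F)
local notation "f" => Cfsg.sympForm m F
local notation "G" => Matrix.symplecticGroup (Fin m) F
local notation "Mat" => Matrix (Fin m ⊕ Fin m) (Fin m ⊕ Fin m) F

/-- the main step: from permutation of root subgroups to semilinear induction -/
theorem induced_of_permRoot' [Finite F] [NeZero m] (hm : 2 ≤ m) (β : MulAut (Cfsg.PSp m F))
    (hβ : ∀ v : Fin m ⊕ Fin m → F, v ≠ 0 →
      ∃ w : Fin m ⊕ Fin m → F, w ≠ 0 ∧ (⇑β) '' Xb m v = Xb m w)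
    (hβ' : ∀ v : Fin m ⊕ Fin m → F, v ≠ 0 →
      ∃ w : Fin m ⊕ Fin m → F, w ≠ 0 ∧ (⇑β⁻¹) '' Xb m v = Xb m w) :
    ∃ (g : GL (Fin m ⊕ Fin m) F) (σ : F ≃+* F), g ∈ Cfsg.GSp m F ∧
      Cfsg.IsInducedBySemilinearPSp g σ β := by
  classical
  -- the point map
  have hex : ∀ v : V, ∃ w : V, (v ≠ 0 → w ≠ 0 ∧ (⇑β) '' Xb m v = Xb m w) := fun v => by
    by_cases hv : v = 0
    · exact ⟨0, fun h => (h hv).elim⟩
    · obtain ⟨w, hw⟩ := hβ v hv
      exact ⟨w, fun _ => hw⟩
  choose φ hφ using hex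
  have hφ0 : ∀ v : V, v ≠ 0 → φ v ≠ 0 := fun v hv => (hφ v hv).1
  have hφX : ∀ v : V, v ≠ 0 → (⇑β) '' Xb m v = Xb m (φ v) := fun v hv => (hφ v hv).2
  -- perpendicularity
  have hperp : ∀ u v : V, u ≠ 0 → v ≠ 0 → (f (φ u) (φ v) = 0 ↔ f u v = 0) := by
    intro u v hu hv
    rw [← Xb_comm_iff m hm (hφ0 u hu) (hφ0 v hv), ← hφX u hu, ← hφX v hv, comm_image,
      Xb_comm_iff m hm hu hv]
  -- surjectivity on points
  have hsurj : ∀ w : V, w ≠ 0 → ∃ v : V, v ≠ 0 ∧ ∃ c : F, c ≠ 0 ∧ w = c • φ v := by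
    intro w hw
    obtain ⟨v, hv0, hv⟩ := hβ' w hw
    have h1 : (⇑β) '' Xb m v = Xb m w := by
      rw [← hv, ← Set.image_comp]
      have : (⇑β ∘ ⇑β⁻¹) = id := by
        ext z
        simp
      rw [this, Set.image_id]
    rw [hφX v hv0] at h1
    obtain ⟨c, hc, hcw⟩ := (Xb_eq_iff m hm (hφ0 v hv0) hw).mp h1
    exact ⟨v, hv0, c, hc, hcw⟩
  -- collinearity
  have hcoll : FTPG.IsColl F φ := by
    refine ⟨hφ0, fun u v x hu hv hx => ?_⟩
    rw [coll_iff m u v x, coll_iff m (φ u) (φ v) (φ x)]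
    constructor
    · intro h z hzu hzv
      by_cases hz : z = 0
      · subst hz; exact sf_zero_left m _
      obtain ⟨y, hy0, c, hc, rfl⟩ := hsurj z hz
      rw [sf_smul_left] at hzu hzv ⊢
      have h1 := (hperp y u hy0 hu).mp ((mul_eq_zero.mp hzu).resolve_left hc)
      have h2 := (hperp y v hy0 hv).mp ((mul_eq_zero.mp hzv).resolve_left hc)
      rw [(hperp y x hy0 hx).mpr (h y h1 h2), mul_zero]
    · intro h y hyu hyv
      by_cases hy : y = 0
      · subst hy; exact sf_zero_left m _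
      exact (hperp y x hy hx).mp
        (h (φ y) ((hperp y u hy hu).mpr hyu) ((hperp y v hy hv).mpr hyv))
  obtain ⟨σ₀, H, hadd, hsmul, hφH⟩ := FTPG.ftpg hcoll (ind3_std m hm)
  have hbij : Function.Bijective σ₀ := Finite.injective_iff_bijective.mp σ₀.injective
  obtain ⟨σ, hσ⟩ : ∃ σ : F ≃+* F, ∀ c, σ c = σ₀ c := ⟨RingEquiv.ofBijective σ₀ hbij, fun c => rfl⟩
  have hH0 : ∀ v : V, v ≠ 0 → H v ≠ 0 := by
    intro v hv h0
    obtain ⟨c, hc, e⟩ := hφH v hv
    apply hφ0 v hv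
    rw [e, h0, smul_zero]
  have hHzero : H 0 = 0 := by
    have := hadd 0 0
    rw [add_zero] at this
    exact left_eq_add.mp this
  have hSD : SemiData m σ H := by
    refine ⟨hadd, fun c v => by rw [hsmul, hσ], hH0, fun u v => ?_⟩
    by_cases hu : u = 0
    · subst hu; rw [hHzero, sf_zero_left, sf_zero_left]
    by_cases hv : v = 0
    · subst hv; rw [hHzero, sf_zero_right, sf_zero_right]
    obtain ⟨c, hc, e⟩ := hφH u hu
    obtain ⟨d, hd, e'⟩ := hφH v hv
    rw [← hperp u v hu hv, e, e', sf_smul_left, sf_smul_right]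
    constructor
    · intro h; rw [h, mul_zero, mul_zero]
    · intro h
      exact (mul_eq_zero.mp ((mul_eq_zero.mp h).resolve_left hc)).resolve_left hd
  obtain ⟨g, hgG, hgH⟩ := hSD.exists_gsp
  refine ⟨g, σ, hgG, ?_⟩
  intro s s' hs'
  obtain ⟨t, ht⟩ := prj_surjective m (β (prj m s))
  change β (prj m s) = prj m s'
  rw [← ht]
  -- `t` and `s'` act proportionally on every `H v`
  have hkey : ∀ v : V, v ≠ 0 → ∃ d : F, d ≠ 0 ∧ s'.1 *ᵥ H v = d • (t.1 *ᵥ H v) := by
    intro v hv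
    have hsv : s.1 *ᵥ v ≠ 0 := act_ne_zero m s hv
    have h1 := conj_Xb m s v
    have h2 : (⇑β) '' ((fun z => prj m s * z * (prj m s)⁻¹) '' Xb m v)
        = (⇑β) '' Xb m (s.1 *ᵥ v) := by rw [h1]
    rw [conj_image, hφX v hv, hφX _ hsv, ← ht, conj_Xb] at h2
    obtain ⟨c, hc, e⟩ := (Xb_eq_iff m hm (act_ne_zero m t (hφ0 v hv)) (hφ0 _ hsv)).mp h2
    obtain ⟨c₁, hc₁, e₁⟩ := hφH v hv
    obtain ⟨c₂, hc₂, e₂⟩ := hφH _ hsv
    -- `s' (H v) = H (s v)`
    have e3 : s'.1 *ᵥ H v = H (s.1 *ᵥ v) := by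
      rw [hs', ← hgH v, Matrix.mulVec_mulVec, Matrix.mul_assoc, ← Units.val_mul,
        inv_mul_cancel, Units.val_one, Matrix.mul_one, ← Matrix.mulVec_mulVec,
        map_mulVec_map, hgH]
    refine ⟨c * c₁ / c₂, div_ne_zero (mul_ne_zero hc hc₁) hc₂, ?_⟩
    rw [e3]
    rw [e₂, e₁, Matrix.mulVec_smul, smul_smul] at e
    have : H (s.1 *ᵥ v) = c₂⁻¹ • (c₂ • H (s.1 *ᵥ v)) := by
      rw [smul_smul, inv_mul_cancel₀ hc₂, one_smul]
    rw [this, e, smul_smul]
    congr 1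
    field_simp
  -- hence `t⁻¹ s'` is a scalar
  have hHsurj : ∀ y : V, ∃ x : V, H x = y := by
    intro y
    refine ⟨fun i => σ.symm ((((g⁻¹ : GL (Fin m ⊕ Fin m) F) : Mat) *ᵥ y) i), ?_⟩
    rw [← hgH]
    have : (fun i => σ (σ.symm ((((g⁻¹ : GL (Fin m ⊕ Fin m) F) : Mat) *ᵥ y) i)))
        = ((g⁻¹ : GL (Fin m ⊕ Fin m) F) : Mat) *ᵥ y := by
      ext i; simp
    rw [this, Matrix.mulVec_mulVec, ← Units.val_mul, mul_inv_cancel, Units.val_one,
      Matrix.one_mulVec]
  have hall : ∀ y : V, ∃ d : F, (t⁻¹ * s').1 *ᵥ y = d • y := by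
    intro y
    by_cases hy : y = 0
    · subst hy
      exact ⟨0, by rw [Matrix.mulVec_zero, smul_zero]⟩
    obtain ⟨x, rfl⟩ := hHsurj y
    have hx : x ≠ 0 := by
      rintro rfl
      exact hy hHzero
    obtain ⟨d, hd, e⟩ := hkey x hx
    refine ⟨d, ?_⟩
    rw [act_mul, e, Matrix.mulVec_smul, act_inv_act]
  obtain ⟨a, ha⟩ : ∃ a : F, ∀ y : V, (t⁻¹ * s').1 *ᵥ y = a • y := by
    have hlin : ∀ v : V, ¬ LinearIndependent F ![v, (Matrix.mulVecLin (t⁻¹ * s').1) v] := by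
      intro v hli
      rw [LinearIndependent.pair_iff] at hli
      obtain ⟨d, hd⟩ := hall v
      have := hli d (-1) (by rw [Matrix.mulVecLin_apply, hd]; module)
      have h1 : (-1 : F) = 0 := this.2
      exact one_ne_zero (neg_eq_zero.mp h1)
    obtain ⟨a, ha⟩ := LinearMap.exists_eq_smul_id_of_forall_notLinearIndependent hlin
    refine ⟨a, fun y => ?_⟩
    have := LinearMap.congr_fun ha y
    rw [Matrix.mulVecLin_apply] at this
    rw [this]
    simp
  -- `a = ± 1`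
  have ha2 : a * a = 1 := by
    obtain ⟨x, hx⟩ := exists_pair_ne_zero m (v := (Pi.single (Sum.inl (0 : Fin m)) 1 : V)) (by
      intro h0
      have := congrFun h0 (Sum.inl 0)
      simp at this)
    have h1 := act_sf m (t⁻¹ * s') x (Pi.single (Sum.inl (0 : Fin m)) 1 : V)
    rw [ha, ha, sf_smul_left, sf_smul_right, hx, mul_one] at h1
    exact h1
  have ha' : a = 1 ∨ a = -1 := by
    have : (a - 1) * (a + 1) = 0 := by ring_nf; rw [sq, ha2]; ring
    rcases mul_eq_zero.mp this with h | h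
    · left; exact sub_eq_zero.mp h
    · right; exact eq_neg_of_add_eq_zero_left h
  symm
  rw [prj_eq_iff_act]
  rcases ha' with rfl | rfl
  · left
    intro y
    have := ha y
    rw [one_smul, act_mul] at this
    have h2 := congrArg (fun z => t.1 *ᵥ z) this
    simp only [act_act_inv] at h2
    exact h2
  · right
    intro y
    have := ha y
    rw [act_mul] at this
    have h2 := congrArg (fun z => t.1 *ᵥ z) this
    simp only [act_act_inv] at h2
    rw [h2, neg_smul, one_smul, Matrix.mulVec_neg]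

end

end Cfsg.Agent.Lib.Helper43.AutPSp
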