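import Cfsg.Agent.Lib.Helper43.AutPSpMain
import Cfsg.Agent.Lib.Helper11.SpMax

set_option autoImplicit false
set_option linter.unusedSimpArgs false
set_option linter.unusedVariables false
set_option linter.unusedSectionVars false

/-! Odd characteristic: the root subgroups of `PSp_2m(F)` are the centres of the Sylow
`p`-subgroups, hence permuted by all automorphisms. -/

namespace Cfsg.Agent.Lib.Helper43.AutPSp

open Matrix Cfsg.Agent.Lib.Helper18 Cfsg.Agent.Lib.Helper11.SpPerfect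

section
variable {F : Type*} [Field F] (m : ℕ)

local notation "V" => (Fin m ⊕ Fin m → F)
local notation "f" => Cfsg.sympForm m F
local notation "G" => Matrix.symplecticGroup (Fin m) F
local notation "Mat" => Matrix (Fin m ⊕ Fin m) (Fin m ⊕ Fin m) F

/-- the element `x ↦ x + f(x,a) b + f(x,b) a` of `Sp` -/
noncomputable def rhoG (a b : V) : G :=
  Classical.choose (Cfsg.Agent.Lib.Helper11.SpMax.exists_sp m (SpPair.rho m a b)
    (SpPair.rho_mem m a b))

theorem rhoG_act {a b : V} (hab : f a b = 0) (x : V) :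
    (rhoG m a b).1 *ᵥ x = x + f x a • b + f x b • a := by
  unfold rhoG
  rw [Classical.choose_spec (Cfsg.Agent.Lib.Helper11.SpMax.exists_sp m (SpPair.rho m a b)
    (SpPair.rho_mem m a b)) x, SpPair.rho_act m a b hab]

/-- the unipotent radical of the stabiliser of `v` -/
def Qv (v : V) : Subgroup G where
  carrier := {g | g.1 *ᵥ v = v ∧ ∀ x : V, f x v = 0 → ∃ c : F, g.1 *ᵥ x = x + c • v}
  one_mem' := ⟨act_one m v, fun x _ => ⟨0, by rw [act_one, zero_smul, add_zero]⟩⟩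
  mul_mem' := by
    rintro g h ⟨hg1, hg2⟩ ⟨hh1, hh2⟩
    refine ⟨by rw [act_mul, hh1, hg1], fun x hx => ?_⟩
    obtain ⟨c, hc⟩ := hh2 x hx
    obtain ⟨d, hd⟩ := hg2 x hx
    refine ⟨d + c, ?_⟩
    rw [act_mul, hc, Matrix.mulVec_add, Matrix.mulVec_smul, hg1, hd, add_smul, add_assoc]
  inv_mem' := by
    rintro g ⟨hg1, hg2⟩
    have hinv : (g⁻¹).1 *ᵥ v = v := by
      nth_rewrite 1 [← hg1]
      exact act_inv_act m g v
    refine ⟨hinv, fun x hx => ?_⟩
    obtain ⟨c, hc⟩ := hg2 x hx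
    refine ⟨-c, ?_⟩
    have h1 : (g⁻¹).1 *ᵥ (g.1 *ᵥ x) = x := act_inv_act m g x
    rw [hc, Matrix.mulVec_add, Matrix.mulVec_smul, hinv] at h1
    rw [neg_smul, ← sub_eq_add_neg]
    exact eq_sub_of_add_eq h1

theorem mem_Qv {v : V} {g : G} :
    g ∈ Qv m v ↔ g.1 *ᵥ v = v ∧ ∀ x : V, f x v = 0 → ∃ c : F, g.1 *ᵥ x = x + c • v := Iff.rfl

theorem tv_mem_Qv (v : V) (c : F) : tv m v c ∈ Qv m v := by
  refine ⟨by rw [tv_act, sf_self, mul_zero, zero_smul, add_zero], fun x hx => ⟨0, ?_⟩⟩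
  rw [tv_act, hx, mul_zero]

theorem rhoG_mem_Qv {v w : V} (hvw : f v w = 0) : rhoG m v w ∈ Qv m v := by
  refine ⟨?_, fun x hx => ⟨f x w, ?_⟩⟩
  · rw [rhoG_act m hvw, sf_self, hvw, zero_smul, zero_smul, add_zero, add_zero]
  · rw [rhoG_act m hvw, hx, zero_smul, add_zero]

/-- the stabiliser of `v` normalises `Qv` -/
theorem conj_mem_Qv {v : V} {h g : G} (hv : h.1 *ᵥ v = v) (hg : g ∈ Qv m v) :
    h * g * h⁻¹ ∈ Qv m v := by
  obtain ⟨hg1, hg2⟩ := hg
  have hinv : (h⁻¹).1 *ᵥ v = v := by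
    nth_rewrite 1 [← hv]
    exact act_inv_act m h v
  refine ⟨by rw [act_mul, act_mul, hinv, hg1, hv], fun x hx => ?_⟩
  have hx' : f ((h⁻¹).1 *ᵥ x) v = 0 := by
    rw [act_sf_inv, hv, hx]
  obtain ⟨c, hc⟩ := hg2 _ hx'
  refine ⟨c, ?_⟩
  rw [act_mul, act_mul, hc, Matrix.mulVec_add, Matrix.mulVec_smul, act_act_inv, hv]

/-- elements of `Qv` move vectors inside `v^⊥` -/
theorem Qv_sub_perp {v : V} {g : G} (hg : g ∈ Qv m v) (x : V) : f (g.1 *ᵥ x - x) v = 0 := by
  rw [sf_sub_left]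
  nth_rewrite 1 [← hg.1]
  rw [act_sf, sub_self]

theorem Qv_cube {v : V} {g : G} (hg : g ∈ Qv m v) :
    (g.1 - 1) * (g.1 - 1) * (g.1 - 1) = 0 := by
  apply mat_ext m
  intro x
  have hN : ∀ y : V, (g.1 - 1) *ᵥ y = g.1 *ᵥ y - y := by
    intro y
    rw [Matrix.sub_mulVec, Matrix.one_mulVec]
  rw [← Matrix.mulVec_mulVec, ← Matrix.mulVec_mulVec, Matrix.zero_mulVec, hN x]
  obtain ⟨c, hc⟩ := hg.2 _ (Qv_sub_perp m hg x)
  have h2 : (g.1 - 1) *ᵥ (g.1 *ᵥ x - x) = c • v := by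
    rw [hN, hc, add_sub_cancel_left]
  rw [h2, Matrix.mulVec_smul, hN, hg.1, sub_self, smul_zero]

theorem Qv_pow (p : ℕ) [Fact p.Prime] [CharP F p] [NeZero m] (hp : p ≠ 2) {v : V} {g : G}
    (hg : g ∈ Qv m v) : g ^ p = 1 := by
  apply Subtype.ext
  rw [SubmonoidClass.coe_pow]
  have hp3 : 3 ≤ p := by
    have := (Fact.out : p.Prime).two_le
    omega
  have hcomm : Commute (1 : Mat) (g.1 - 1) := Commute.one_left _
  have h1 : g.1 = 1 + (g.1 - 1) := by abel
  rw [h1, add_pow_char_of_commute p hcomm, one_pow]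
  have h3 : (g.1 - 1) ^ p = 0 := by
    have : p = 3 + (p - 3) := by omega
    rw [this, pow_add, pow_succ, pow_two, Qv_cube m hg, zero_mul]
  rw [h3, add_zero]
  rfl

theorem isPGroup_Qv (p : ℕ) [Fact p.Prime] [CharP F p] [NeZero m] (hp : p ≠ 2) (v : V) :
    IsPGroup p (Qv m v) := by
  intro g
  refine ⟨1, ?_⟩
  rw [pow_one]
  apply Subtype.ext
  rw [Subgroup.coe_pow, Qv_pow m p hp g.2]
  rfl

/-- the fixed vectors of `Qv` -/
theorem fixed_of_Qv {v w : V} (hv : v ≠ 0) (h : ∀ g ∈ Qv m v, g.1 *ᵥ w = w) :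
    ∃ c : F, w = c • v := by
  have h1 := h _ (tv_mem_Qv m v 1)
  rw [tv_act, one_mul] at h1
  have hwv : f w v = 0 := by
    have : f w v • v = 0 := by
      have := congrArg (fun z => z - w) h1
      simpa using this
    exact (smul_eq_zero.mp this).resolve_right hv
  apply perp_perp m hv
  intro y hy
  have hvy : f v y = 0 := by rw [sf_swap m v y, hy, neg_zero]
  have h2 := h _ (rhoG_mem_Qv m hvy)
  rw [rhoG_act m hvy, hwv, zero_smul, add_zero] at h2
  have : f w y • v = 0 := by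
    have := congrArg (fun z => z - w) h2
    simpa using this
  rw [sf_swap m y w, (smul_eq_zero.mp this).resolve_right hv, neg_zero]

/-- the centraliser of `Qv` among the elements fixing `v` -/
theorem eq_tv_of_commute (h2 : (2 : F) ≠ 0) {v : V} (hv : v ≠ 0) {g : G}
    (hgv : g.1 *ᵥ v = v) (hcomm : ∀ q ∈ Qv m v, g * q = q * g) : ∃ c : F, g = tv m v c := by
  obtain ⟨x₀, hx₀⟩ := exists_pair_ne_zero m hv
  -- `g` fixes `v^⊥` pointwise
  have hfix : ∀ w : V, f v w = 0 → g.1 *ᵥ w = w := by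
    intro w hvw
    have hq := hcomm _ (rhoG_mem_Qv m hvw)
    have hstar : ∀ x : V, f x v • (g.1 *ᵥ w - w) = (f (g.1 *ᵥ x) w - f x w) • v := by
      intro x
      have e := congrArg (fun A : G => A.1 *ᵥ x) hq
      simp only [act_mul] at e
      rw [rhoG_act m hvw, rhoG_act m hvw, Matrix.mulVec_add, Matrix.mulVec_add,
        Matrix.mulVec_smul, Matrix.mulVec_smul, hgv] at e
      have e' : f (g.1 *ᵥ x) v = f x v := by
        nth_rewrite 1 [← hgv]
        exact act_sf m g x v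
      rw [e'] at e
      rw [smul_sub, sub_smul]
      have e2 := congrArg (fun z => z - g.1 *ᵥ x - f x v • w - f x w • v) e
      beta_reduce at e2
      have l1 : g.1 *ᵥ x + f x v • g.1 *ᵥ w + f x w • v - g.1 *ᵥ x - f x v • w - f x w • v
          = f x v • g.1 *ᵥ w - f x v • w := by abel
      have l2 : g.1 *ᵥ x + f x v • w + f (g.1 *ᵥ x) w • v - g.1 *ᵥ x - f x v • w - f x w • v
          = f (g.1 *ᵥ x) w • v - f x w • v := by abel
      rw [l1, l2] at e2
      exact e2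
    have h0 := hstar x₀
    rw [hx₀, one_smul] at h0
    -- `μ = f (g x₀) w - f x₀ w`
    have hμ : f (g.1 *ᵥ x₀) w - f x₀ w = -(f (g.1 *ᵥ x₀) w - f x₀ w) := by
      have e1 : f (g.1 *ᵥ x₀) (g.1 *ᵥ w) = f x₀ w := act_sf m g x₀ w
      have e2 : g.1 *ᵥ w = w + (f (g.1 *ᵥ x₀) w - f x₀ w) • v := by
        rw [← h0]; abel
      rw [e2, sf_add_right, sf_smul_right] at e1
      have e3 : f (g.1 *ᵥ x₀) v = 1 := by
        nth_rewrite 1 [← hgv]
        rw [act_sf, hx₀]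
      rw [e3, mul_one] at e1
      linear_combination e1
    have hμ0 : f (g.1 *ᵥ x₀) w - f x₀ w = 0 := by
      have : (2 : F) * (f (g.1 *ᵥ x₀) w - f x₀ w) = 0 := by linear_combination hμ
      exact (mul_eq_zero.mp this).resolve_left h2
    rw [hμ0, zero_smul] at h0
    exact sub_eq_zero.mp h0
  -- `g x₀ - x₀ ∈ ⟨v⟩`
  obtain ⟨c, hc⟩ : ∃ c : F, g.1 *ᵥ x₀ - x₀ = c • v := by
    apply perp_perp m hv
    intro y hy
    have hvy : f v y = 0 := by rw [sf_swap m v y, hy, neg_zero]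
    have e1 : f (g.1 *ᵥ x₀) (g.1 *ᵥ y) = f x₀ y := act_sf m g x₀ y
    rw [hfix y hvy] at e1
    rw [sf_sub_right, sf_swap m y (g.1 *ᵥ x₀), sf_swap m y x₀, e1, sub_self]
  refine ⟨c, ?_⟩
  apply sp_ext
  intro x
  have hx : x = f x v • x₀ + (x - f x v • x₀) := by abel
  have hperp : f v (x - f x v • x₀) = 0 := by
    rw [sf_sub_right, sf_smul_right, sf_swap m v x₀, hx₀, sf_swap m v x]
    ring
  rw [tv_act]
  nth_rewrite 1 [hx]
  rw [Matrix.mulVec_add, Matrix.mulVec_smul, hfix _ hperp]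
  have : g.1 *ᵥ x₀ = x₀ + c • v := by rw [← hc]; abel
  rw [this, smul_add, smul_smul]
  module

/-- the central element `-1` of `Sp` -/
def negOne : G := ⟨-1, neg_one_mem m⟩

theorem negOne_act (x : V) : (negOne (F := F) m).1 *ᵥ x = -x := by
  unfold negOne
  rw [Matrix.neg_mulVec, Matrix.one_mulVec]

theorem negOne_comm (g : G) : negOne m * g = g * negOne m := by
  apply sp_ext
  intro x
  rw [act_mul, act_mul, negOne_act, negOne_act, Matrix.mulVec_neg]

/-- the centraliser of `Qv` -/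
theorem centralizer_Qv (h2 : (2 : F) ≠ 0) {v : V} (hv : v ≠ 0) {g : G}
    (hcomm : ∀ q ∈ Qv m v, g * q = q * g) :
    ∃ c : F, g = tv m v c ∨ g = negOne m * tv m v c := by
  -- `g v = ± v`
  have h1 := hcomm _ (tv_mem_Qv m v 1)
  have h3 : g * tv m v 1 * g⁻¹ = tv m v 1 := by rw [h1]; group
  rw [conj_tv] at h3
  obtain ⟨x₀, hx₀⟩ := exists_pair_ne_zero m hv
  have h4 := congrArg (fun A : G => A.1 *ᵥ x₀) h3
  simp only [tv_act, one_mul, hx₀, one_smul] at h4
  have h5 : f x₀ (g.1 *ᵥ v) • g.1 *ᵥ v = v := add_left_cancel h4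
  have hl : f x₀ (g.1 *ᵥ v) ≠ 0 := by
    intro h0
    rw [h0, zero_smul] at h5
    exact hv h5.symm
  have h6 : g.1 *ᵥ v = (f x₀ (g.1 *ᵥ v))⁻¹ • v := by
    rw [eq_inv_smul_iff₀ hl]
    exact h5
  obtain ⟨μ, hμ⟩ : ∃ μ : F, g.1 *ᵥ v = μ • v := ⟨_, h6⟩
  have hμ2 : μ * μ = 1 := by
    rw [hμ, sf_smul_right, hx₀, mul_one, smul_smul] at h5
    have : (μ * μ - 1) • v = 0 := by rw [sub_smul, h5, one_smul, sub_self]
    exact sub_eq_zero.mp ((smul_eq_zero.mp this).resolve_right hv)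
  have hμ' : μ = 1 ∨ μ = -1 := by
    have : (μ - 1) * (μ + 1) = 0 := by ring_nf; rw [sq, hμ2]; ring
    rcases mul_eq_zero.mp this with h | h
    · left; exact sub_eq_zero.mp h
    · right; exact eq_neg_of_add_eq_zero_left h
  rcases hμ' with rfl | rfl
  · rw [one_smul] at hμ
    obtain ⟨c, hc⟩ := eq_tv_of_commute m h2 hv hμ hcomm
    exact ⟨c, Or.inl hc⟩
  · have hgv : (negOne m * g).1 *ᵥ v = v := by
      rw [act_mul, negOne_act, hμ, neg_smul, one_smul, neg_neg]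
    have hcomm' : ∀ q ∈ Qv m v, (negOne m * g) * q = q * (negOne m * g) := by
      intro q hq
      rw [mul_assoc, hcomm q hq, ← mul_assoc, negOne_comm, mul_assoc]
    obtain ⟨c, hc⟩ := eq_tv_of_commute m h2 hv hgv hcomm'
    refine ⟨c, Or.inr ?_⟩
    rw [← hc, ← mul_assoc]
    have : negOne (F := F) m * negOne m = 1 := by
      apply sp_ext
      intro x
      rw [act_mul, negOne_act, negOne_act, neg_neg, act_one]
    rw [this, one_mul]

end

end Cfsg.Agent.Lib.Helper43.AutPSp
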