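import Cfsg.Agent.Lib.Helper43.AutPSpOdd

set_option autoImplicit false
set_option linter.unusedSimpArgs false
set_option linter.unusedVariables false
set_option linter.unusedSectionVars false

/-! Odd characteristic: Sylow `p`-subgroups of `Sp_2m(F)` and `PSp_2m(F)` and their centres. -/

namespace Cfsg.Agent.Lib.Helper43.AutPSp

open Matrix Cfsg.Agent.Lib.Helper18 Cfsg.Agent.Lib.Helper11.SpPerfect

/-- the centre of a subgroup, as a set of the ambient group -/
def cen {H : Type*} [Group H] (P : Subgroup H) : Set H :=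
  {z | z ∈ P ∧ ∀ s ∈ P, z * s = s * z}

theorem cen_map {H : Type*} [Group H] (β : MulAut H) (P : Subgroup H) :
    cen (P.map β.toMonoidHom) = (⇑β) '' cen P := by
  ext z
  constructor
  · rintro ⟨⟨x, hx, rfl⟩, hz⟩
    refine ⟨x, ⟨hx, fun s hs => ?_⟩, rfl⟩
    have := hz (β s) ⟨s, hs, rfl⟩
    simp only [MulEquiv.coe_toMonoidHom] at this
    rw [← map_mul, ← map_mul] at this
    exact β.injective this
  · rintro ⟨x, ⟨hx, hxz⟩, rfl⟩
    refine ⟨⟨x, hx, rfl⟩, ?_⟩
    rintro _ ⟨s, hs, rfl⟩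
    simp only [MulEquiv.coe_toMonoidHom]
    rw [← map_mul, ← map_mul, hxz s hs]

section
variable {F : Type*} [Field F] [Finite F] (m : ℕ) (p : ℕ) [Fact p.Prime] [CharP F p]

local notation "V" => (Fin m ⊕ Fin m → F)
local notation "f" => Cfsg.sympForm m F
local notation "G" => Matrix.symplecticGroup (Fin m) F
local notation "Mat" => Matrix (Fin m ⊕ Fin m) (Fin m ⊕ Fin m) F

/-- action of a subgroup of `Sp` on vectors -/
@[reducible] def actSub (K : Subgroup G) : MulAction K V where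
  smul g x := g.1.1 *ᵥ x
  one_smul x := act_one m x
  mul_smul g h x := act_mul m g.1 h.1 x

theorem prime_dvd_card_V [NeZero m] : p ∣ Nat.card V := by
  haveI := Fintype.ofFinite F
  obtain ⟨n, -, hc⟩ := FiniteField.card F p
  rw [Nat.card_fun, Nat.card_eq_fintype_card (α := F), hc]
  have h1 : 0 < Nat.card (Fin m ⊕ Fin m) := by
    rw [Nat.card_eq_fintype_card, Fintype.card_sum, Fintype.card_fin]
    have := NeZero.pos m
    omega
  have h2 : p ∣ p ^ (n : ℕ) := dvd_pow_self p n.pos.ne'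
  exact dvd_trans h2 (dvd_pow_self _ h1.ne')

/-- a Sylow `p`-subgroup fixes a nonzero vector -/
theorem exists_fixed [NeZero m] (S : Sylow p G) :
    ∃ v : V, v ≠ 0 ∧ ∀ g ∈ (S : Subgroup G), g.1 *ᵥ v = v := by
  letI := actSub m (S : Subgroup G)
  have h0 : (0 : V) ∈ MulAction.fixedPoints (S : Subgroup G) V := by
    rw [MulAction.mem_fixedPoints]
    intro g
    exact Matrix.mulVec_zero _
  obtain ⟨b, hb, hne⟩ := S.isPGroup'.exists_fixed_point_of_prime_dvd_card_of_fixed_point V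
    (prime_dvd_card_V m p) h0
  refine ⟨b, hne.symm, fun g hg => ?_⟩
  exact (MulAction.mem_fixedPoints.mp hb) ⟨g, hg⟩

theorem Qv_le_sylow [NeZero m] (hp2 : p ≠ 2) (S : Sylow p G) {v : V}
    (hS : ∀ g ∈ (S : Subgroup G), g.1 *ᵥ v = v) : Qv m v ≤ S := by
  have hnorm : (S : Subgroup G) ≤ Subgroup.normalizer (Qv m v : Set G) := by
    intro h hh
    rw [Subgroup.mem_normalizer_iff]
    intro g
    constructor
    · intro hg
      exact conj_mem_Qv m (hS h hh) hg
    · intro hg
      have hinv : (h⁻¹).1 *ᵥ v = v := by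
        nth_rewrite 1 [← hS h hh]
        exact act_inv_act m h v
      have := conj_mem_Qv m hinv hg
      have e : h⁻¹ * (h * g * h⁻¹) * h⁻¹⁻¹ = g := by group
      rw [e] at this
      exact this
  have hP := IsPGroup.to_sup_of_normal_left' (isPGroup_Qv m p hp2 v) S.isPGroup' hnorm
  have := S.is_maximal' hP le_sup_right
  rw [← this]
  exact le_sup_left

theorem negOne_pow_odd {n : ℕ} (hn : Odd n) : (negOne (F := F) m) ^ n = negOne m := by
  apply Subtype.ext
  rw [SubmonoidClass.coe_pow]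
  unfold negOne
  rw [Odd.neg_pow hn, one_pow]

theorem negOne_not_mem [NeZero m] (h2 : (2 : F) ≠ 0) (hp2 : p ≠ 2) (S : Sylow p G) :
    negOne m ∉ (S : Subgroup G) := by
  intro hmem
  obtain ⟨k, hk⟩ := S.isPGroup' ⟨negOne m, hmem⟩
  have hk' : (negOne (F := F) m) ^ (p ^ k) = 1 := by
    have := congrArg Subtype.val hk
    rwa [Subgroup.coe_pow] at this
  have hodd : Odd (p ^ k) := by
    apply Odd.pow
    exact (Fact.out : p.Prime).odd_of_ne_two hp2
  rw [negOne_pow_odd m hodd] at hk'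
  have h1 := congrArg (fun A : G => A.1 *ᵥ (Pi.single (Sum.inl (0 : Fin m)) 1 : V)) hk'
  simp only [negOne_act, act_one] at h1
  have h3 := congrFun h1 (Sum.inl 0)
  simp only [Pi.neg_apply, Pi.single_eq_same] at h3
  apply h2
  have : (2 : F) = 1 - (-1) := by ring
  rw [this, h3, sub_self]

/-- the centre of a Sylow `p`-subgroup is a transvection group -/
theorem center_sylow [NeZero m] (h2 : (2 : F) ≠ 0) (hp2 : p ≠ 2) (S : Sylow p G) {v : V}
    (hv : v ≠ 0) (hS : ∀ g ∈ (S : Subgroup G), g.1 *ᵥ v = v) (z : G) :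
    z ∈ cen (S : Subgroup G) ↔ ∃ c : F, z = tv m v c := by
  have hQ := Qv_le_sylow m p hp2 S hS
  constructor
  · rintro ⟨hz, hcomm⟩
    obtain ⟨c, hc | hc⟩ := centralizer_Qv m h2 hv (fun q hq => hcomm q (hQ hq))
    · exact ⟨c, hc⟩
    · exfalso
      apply negOne_not_mem m p h2 hp2 S
      have : negOne m = z * (tv m v c)⁻¹ := by rw [hc]; group
      rw [this]
      exact Subgroup.mul_mem _ hz (Subgroup.inv_mem _ (hQ (tv_mem_Qv m v c)))
  · rintro ⟨c, rfl⟩
    refine ⟨hQ (tv_mem_Qv m v c), fun s hs => ?_⟩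
    have h1 := conj_tv m s v c
    rw [hS s hs] at h1
    calc tv m v c * s = (s * tv m v c * s⁻¹) * s := by rw [h1]
      _ = s * tv m v c := by group

/-- every nonzero vector is fixed by some Sylow `p`-subgroup -/
theorem exists_sylow_fixing [NeZero m] (hp2 : p ≠ 2) {v : V} (hv : v ≠ 0) :
    ∃ S : Sylow p G, ∀ g ∈ (S : Subgroup G), g.1 *ᵥ v = v := by
  obtain ⟨S, hS⟩ := (isPGroup_Qv m p hp2 v).exists_le_sylow
  obtain ⟨w, hw0, hw⟩ := exists_fixed m p S
  obtain ⟨c, hc⟩ := fixed_of_Qv m hv (fun g hg => hw g (hS hg))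
  have hc0 : c ≠ 0 := by
    rintro rfl
    rw [zero_smul] at hc
    exact hw0 hc
  refine ⟨S, fun g hg => ?_⟩
  have h1 := hw g hg
  rw [hc, Matrix.mulVec_smul] at h1
  exact smul_right_injective _ hc0 h1

/-- the centre of the image in `PSp` of a Sylow `p`-subgroup -/
theorem cen_map_prj [NeZero m] (h2 : (2 : F) ≠ 0) (hp2 : p ≠ 2) (S : Sylow p G) {v : V}
    (hv : v ≠ 0) (hS : ∀ g ∈ (S : Subgroup G), g.1 *ᵥ v = v) :
    cen ((S : Subgroup G).map (prj m)) = Xb m v := by
  ext zb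
  constructor
  · rintro ⟨⟨z, hz, rfl⟩, hcomm⟩
    have hzc : z ∈ cen (S : Subgroup G) := by
      refine ⟨hz, fun s hs => ?_⟩
      have h1 := hcomm (prj m s) ⟨s, hs, rfl⟩
      rw [← map_mul, ← map_mul, prj_eq_iff] at h1
      rcases h1 with h1 | h1
      · exact Subtype.ext h1
      · exfalso
        apply negOne_not_mem m p h2 hp2 S
        have : negOne m = (z * s) * (s * z)⁻¹ := by
          rw [eq_mul_inv_iff_mul_eq]
          apply Subtype.ext
          rw [val_mul, h1]
          unfold negOne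
          rw [Matrix.neg_mul, Matrix.one_mul]
        rw [this]
        exact Subgroup.mul_mem _ (Subgroup.mul_mem _ hz hs)
          (Subgroup.inv_mem _ (Subgroup.mul_mem _ hs hz))
    obtain ⟨c, rfl⟩ := (center_sylow m p h2 hp2 S hv hS z).mp hzc
    exact mem_Xb m v c
  · rintro ⟨c, rfl⟩
    have hzc := (center_sylow m p h2 hp2 S hv hS (tv m v c)).mpr ⟨c, rfl⟩
    refine ⟨⟨_, hzc.1, rfl⟩, ?_⟩
    rintro _ ⟨s, hs, rfl⟩
    rw [← map_mul, ← map_mul, hzc.2 s hs]

/-- in odd characteristic all automorphisms of `PSp` permute the root subgroups -/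
theorem permRoot_odd [NeZero m] (hp2 : p ≠ 2) : PermRoot m F := by
  have h2 : (2 : F) ≠ 0 := by
    intro h
    have h2' : ((2 : ℕ) : F) = 0 := by exact_mod_cast h
    have := (CharP.cast_eq_zero_iff F p 2).mp h2'
    have hp := (Fact.out : p.Prime)
    exact hp2 ((Nat.prime_dvd_prime_iff_eq hp Nat.prime_two).mp this)
  intro β v hv
  obtain ⟨S, hS⟩ := exists_sylow_fixing m p hp2 hv
  let P' : Sylow p (Cfsg.PSp m F) := Sylow.mapSurjective (prj_surjective m) S
  have hP' : (P' : Subgroup (Cfsg.PSp m F)) = (S : Subgroup G).map (prj m) :=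
    Sylow.coe_mapSurjective _ S
  have hβs : Function.Surjective (β.toMonoidHom) := β.surjective
  let P'' : Sylow p (Cfsg.PSp m F) := Sylow.mapSurjective hβs P'
  have hP'' : (P'' : Subgroup (Cfsg.PSp m F)) = (P' : Subgroup _).map β.toMonoidHom :=
    Sylow.coe_mapSurjective _ P'
  obtain ⟨S'', hS''⟩ := Sylow.mapSurjective_surjective (prj_surjective (F := F) m) p P''
  have hS''c : (P'' : Subgroup (Cfsg.PSp m F)) = (S'' : Subgroup G).map (prj m) := by
    rw [← hS'']
    exact Sylow.coe_mapSurjective _ S''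
  obtain ⟨w, hw0, hw⟩ := exists_fixed m p S''
  refine ⟨w, hw0, ?_⟩
  rw [← cen_map_prj m p h2 hp2 S hv hS, ← cen_map_prj m p h2 hp2 S'' hw0 hw, ← hS''c, hP'',
    cen_map, hP']

end

end Cfsg.Agent.Lib.Helper43.AutPSp
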