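import Mathlib

set_option autoImplicit false
set_option linter.unusedSimpArgs false
set_option linter.unusedVariables false
set_option linter.unusedSectionVars false

/-! The fundamental theorem of projective geometry, in the following elementary form:
a map `φ : V → V` of a vector space of dimension at least three over a field which sends nonzero
vectors to nonzero vectors and preserves and reflects collinearity (`x ∈ ⟨u, v⟩ ↔ φ x ∈ ⟨φ u, φ v⟩`)
is, up to nonzero scalars, a map `H` that is additive and semilinear for a ring endomorphism of the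
field. Everything is stated with explicit scalars, no spans. -/

namespace Cfsg.Agent.Lib.Helper43.FTPG

/-- explicit linear independence of two vectors -/
def Ind2 (F : Type*) {V : Type*} [Field F] [AddCommGroup V] [Module F V] (a b : V) : Prop :=
  ∀ α β : F, α • a + β • b = 0 → α = 0 ∧ β = 0

/-- explicit linear independence of three vectors -/
def Ind3 (F : Type*) {V : Type*} [Field F] [AddCommGroup V] [Module F V] (a b c : V) : Prop :=
  ∀ α β γ : F, α • a + β • b + γ • c = 0 → α = 0 ∧ β = 0 ∧ γ = 0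

/-- a map preserving and reflecting collinearity of nonzero vectors -/
structure IsColl (F : Type*) {V : Type*} [Field F] [AddCommGroup V] [Module F V] (φ : V → V) :
    Prop where
  ne0 : ∀ v, v ≠ 0 → φ v ≠ 0
  col : ∀ u v x, u ≠ 0 → v ≠ 0 → x ≠ 0 →
    ((∃ α β : F, x = α • u + β • v) ↔ ∃ α β : F, φ x = α • φ u + β • φ v)

section basics
variable {F V : Type*} [Field F] [AddCommGroup V] [Module F V]

lemma Ind2.left_ne {a b : V} (h : Ind2 F a b) : a ≠ 0 := by
  rintro rfl
  have := h 1 0 (by simp)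
  exact one_ne_zero this.1

lemma Ind2.right_ne {a b : V} (h : Ind2 F a b) : b ≠ 0 := by
  rintro rfl
  have := h 0 1 (by simp)
  exact one_ne_zero this.2

lemma Ind2.symm {a b : V} (h : Ind2 F a b) : Ind2 F b a := fun α β hab => by
  have := h β α (by rw [add_comm]; exact hab)
  exact ⟨this.2, this.1⟩

lemma Ind2.coeff {a b : V} (h : Ind2 F a b) {α β α' β' : F}
    (e : α • a + β • b = α' • a + β' • b) : α = α' ∧ β = β' := by
  have := h (α - α') (β - β') (by linear_combination (norm := module) e)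
  exact ⟨sub_eq_zero.mp this.1, sub_eq_zero.mp this.2⟩

lemma Ind3.coeff {a b c : V} (h : Ind3 F a b c) {α β γ α' β' γ' : F}
    (e : α • a + β • b + γ • c = α' • a + β' • b + γ' • c) : α = α' ∧ β = β' ∧ γ = γ' := by
  have := h (α - α') (β - β') (γ - γ') (by linear_combination (norm := module) e)
  exact ⟨sub_eq_zero.mp this.1, sub_eq_zero.mp this.2.1, sub_eq_zero.mp this.2.2⟩

/-- independence of `a, b` as `a ≠ 0` and `b ∉ ⟨a⟩` -/
lemma ind2_iff {a b : V} : Ind2 F a b ↔ a ≠ 0 ∧ ∀ α : F, b ≠ α • a := by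
  constructor
  · intro h
    refine ⟨h.left_ne, fun α e => ?_⟩
    have := h α (-1) (by rw [e]; module)
    have h1 : (-1 : F) = 0 := this.2
    exact one_ne_zero (neg_eq_zero.mp h1)
  · rintro ⟨ha, hb⟩ α β e
    have hβ : β = 0 := by
      by_contra hβ
      apply hb (-α / β)
      have : b = β⁻¹ • (β • b) := by rw [smul_smul, inv_mul_cancel₀ hβ, one_smul]
      rw [this, eq_neg_of_add_eq_zero_right e, smul_neg, smul_smul]
      rw [← neg_smul]
      congr 1
      field_simp
    subst hβ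
    rw [zero_smul, add_zero] at e
    exact ⟨(smul_eq_zero.mp e).resolve_right ha, rfl⟩

/-- independence of `a, b, c` as independence of `a, b` and `c ∉ ⟨a, b⟩` -/
lemma ind3_iff {a b c : V} : Ind3 F a b c ↔ Ind2 F a b ∧ ∀ α β : F, c ≠ α • a + β • b := by
  constructor
  · intro h
    refine ⟨fun α β e => ?_, fun α β e => ?_⟩
    · have := h α β 0 (by rw [zero_smul, add_zero]; exact e)
      exact ⟨this.1, this.2.1⟩
    · have := h α β (-1) (by rw [e]; module)
      have h1 : (-1 : F) = 0 := this.2.2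
      exact one_ne_zero (neg_eq_zero.mp h1)
  · rintro ⟨hab, hc⟩ α β γ e
    have hγ : γ = 0 := by
      by_contra hγ
      apply hc (-α / γ) (-β / γ)
      have : c = γ⁻¹ • (γ • c) := by rw [smul_smul, inv_mul_cancel₀ hγ, one_smul]
      rw [this, eq_neg_of_add_eq_zero_right e, smul_neg, smul_add, smul_smul, smul_smul, neg_add,
        ← neg_smul, ← neg_smul]
      congr 2 <;> field_simp
    subst hγ
    rw [zero_smul, add_zero] at e
    have := hab α β e
    exact ⟨this.1, this.2, rfl⟩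

lemma Ind3.ind2 {a b c : V} (h : Ind3 F a b c) : Ind2 F a b := (ind3_iff.mp h).1

lemma Ind3.rot {a b c : V} (h : Ind3 F a b c) : Ind3 F b c a := fun α β γ e => by
  have := h γ α β (by linear_combination (norm := module) e)
  exact ⟨this.2.1, this.2.2, this.1⟩

lemma Ind3.swap23 {a b c : V} (h : Ind3 F a b c) : Ind3 F a c b := fun α β γ e => by
  have := h α γ β (by linear_combination (norm := module) e)
  exact ⟨this.1, this.2.2, this.2.1⟩

lemma Ind3.ind2_13 {a b c : V} (h : Ind3 F a b c) : Ind2 F a c := h.swap23.ind2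

lemma Ind3.ind2_23 {a b c : V} (h : Ind3 F a b c) : Ind2 F b c := h.rot.ind2

lemma Ind3.ind2_add {a b c : V} (h : Ind3 F a b c) : Ind2 F a (b + c) := fun α β e => by
  have := h α β β (by linear_combination (norm := module) e)
  exact ⟨this.1, this.2.1⟩

lemma Ind3.add_right {a b c : V} (h : Ind3 F a b c) : Ind3 F a b (b + c) := fun α β γ e => by
  have := h α (β + γ) γ (by linear_combination (norm := module) e)
  obtain ⟨h1, h2, h3⟩ := this
  subst h3
  exact ⟨h1, by simpa using h2, rfl⟩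

lemma Ind2.smul_right {a b : V} (h : Ind2 F a b) {c : F} (hc : c ≠ 0) : Ind2 F a (c • b) :=
  fun α β e => by
    have := h α (β * c) (by rw [← smul_smul]; exact e)
    exact ⟨this.1, (mul_eq_zero.mp this.2).resolve_right hc⟩

lemma Ind2.neg_right {a b : V} (h : Ind2 F a b) : Ind2 F a (-b) := by
  have := h.smul_right (c := (-1 : F)) (neg_ne_zero.mpr one_ne_zero)
  rwa [neg_one_smul] at this

lemma Ind3.smul_both {a b c : V} (h : Ind3 F a b c) {k : F} (hk : k ≠ 0) :
    Ind3 F a (k • b) (k • c) := fun α β γ e => by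
  have := h α (β * k) (γ * k) (by rw [← _root_.smul_smul, ← _root_.smul_smul]; exact e)
  exact ⟨this.1, (mul_eq_zero.mp this.2.1).resolve_right hk,
    (mul_eq_zero.mp this.2.2).resolve_right hk⟩

/-- in a space with three independent vectors, no plane is everything -/
lemma exists_out (h3 : ∃ x y z : V, Ind3 F x y z) (a b : V) :
    ∃ d : V, ∀ α β : F, d ≠ α • a + β • b := by
  obtain ⟨x, y, z, h⟩ := h3
  by_contra hcon
  push Not at hcon
  obtain ⟨α₁, β₁, hx⟩ := hcon x
  obtain ⟨α₂, β₂, hy⟩ := hcon y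
  obtain ⟨α₃, β₃, hz⟩ := hcon z
  have hr := h (α₂ * β₃ - α₃ * β₂) (α₃ * β₁ - α₁ * β₃) (α₁ * β₂ - α₂ * β₁)
    (by rw [hx, hy, hz]; module)
  have hr3 : α₁ * β₂ - α₂ * β₁ = 0 := hr.2.2
  have h1 := h β₂ (-β₁) 0 (by
    rw [hx, hy]
    have e : β₂ • (α₁ • a + β₁ • b) + -β₁ • (α₂ • a + β₂ • b) + (0 : F) • z
        = (α₁ * β₂ - α₂ * β₁) • a := by module
    rw [e, hr3, zero_smul])
  have h2 := h α₂ (-α₁) 0 (by
    rw [hx, hy]
    have e : α₂ • (α₁ • a + β₁ • b) + -α₁ • (α₂ • a + β₂ • b) + (0 : F) • z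
        = (-(α₁ * β₂ - α₂ * β₁)) • b := by module
    rw [e, hr3, neg_zero, zero_smul])
  have hβ₁ : β₁ = 0 := neg_eq_zero.mp h1.2.1
  have hα₁ : α₁ = 0 := neg_eq_zero.mp h2.2.1
  rw [hβ₁, hα₁, zero_smul, zero_smul, add_zero] at hx
  have := h 1 0 0 (by rw [hx]; simp)
  exact one_ne_zero this.1

/-- a third independent vector -/
lemma exists_ind3 (h3 : ∃ x y z : V, Ind3 F x y z) {a b : V} (hab : Ind2 F a b) :
    ∃ d : V, Ind3 F a b d := by
  obtain ⟨d, hd⟩ := exists_out h3 a b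
  exact ⟨d, ind3_iff.mpr ⟨hab, hd⟩⟩

end basics

section coll
variable {F V : Type*} [Field F] [AddCommGroup V] [Module F V] {φ : V → V}

lemma IsColl.smul (hφ : IsColl F φ) {u : V} (hu : u ≠ 0) {c : F} (hc : c ≠ 0) :
    ∃ d : F, d ≠ 0 ∧ φ (c • u) = d • φ u := by
  have hcu : c • u ≠ 0 := smul_ne_zero hc hu
  obtain ⟨α, β, e⟩ := (hφ.col u u (c • u) hu hu hcu).mp ⟨c, 0, by simp⟩
  refine ⟨α + β, ?_, by rw [e, add_smul]⟩
  intro h0
  apply hφ.ne0 _ hcu
  rw [e, ← add_smul, h0, zero_smul]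

lemma IsColl.ind2 (hφ : IsColl F φ) {a b : V} (h : Ind2 F a b) : Ind2 F (φ a) (φ b) := by
  rw [ind2_iff]
  refine ⟨hφ.ne0 _ h.left_ne, fun α e => ?_⟩
  obtain ⟨α', β', e'⟩ := (hφ.col a a b h.left_ne h.left_ne h.right_ne).mpr ⟨α, 0, by simp [e]⟩
  exact (ind2_iff.mp h).2 (α' + β') (by rw [e', add_smul])

lemma IsColl.ind3 (hφ : IsColl F φ) {a b c : V} (h : Ind3 F a b c) :
    Ind3 F (φ a) (φ b) (φ c) := by
  rw [ind3_iff]
  refine ⟨hφ.ind2 h.ind2, fun α β e => ?_⟩
  obtain ⟨α', β', e'⟩ := (hφ.col a b c h.ind2.left_ne h.ind2.right_ne h.ind2_13.right_ne).mpr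
    ⟨α, β, e⟩
  exact (ind3_iff.mp h).2 α' β' e'

lemma IsColl.add (hφ : IsColl F φ) {a b : V} (h : Ind2 F a b) :
    ∃ s t : F, s ≠ 0 ∧ t ≠ 0 ∧ φ (a + b) = s • φ a + t • φ b := by
  have hab : a + b ≠ 0 := by
    intro e
    have := h 1 1 (by rw [one_smul, one_smul]; exact e)
    exact one_ne_zero this.1
  obtain ⟨s, t, e⟩ := (hφ.col a b (a + b) h.left_ne h.right_ne hab).mp ⟨1, 1, by simp⟩
  refine ⟨s, t, ?_, ?_, e⟩
  · rintro rfl
    obtain ⟨α', β', e'⟩ := (hφ.col b b (a + b) h.right_ne h.right_ne hab).mpr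
      ⟨t, 0, by rw [e]; simp⟩
    have := h 1 (1 - α' - β') (by linear_combination (norm := module) e')
    exact one_ne_zero this.1
  · rintro rfl
    obtain ⟨α', β', e'⟩ := (hφ.col a a (a + b) h.left_ne h.left_ne hab).mpr
      ⟨s, 0, by rw [e]; simp⟩
    have := h (1 - α' - β') 1 (by linear_combination (norm := module) e')
    exact one_ne_zero this.2

end coll

section lift
variable {F V : Type*} [Field F] [AddCommGroup V] [Module F V] {φ : V → V}

open Classical in
/-- the normalised representative `h_a(b)` of `φ b`, with `φ (a + b) ∝ φ a + h_a(b)` -/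
noncomputable def lift (F : Type*) {V : Type*} [Field F] [AddCommGroup V] [Module F V]
    (φ : V → V) (a b : V) : V :=
  if h : Ind2 F a b ∧ ∃ t : F, t ≠ 0 ∧ ∃ s : F, s ≠ 0 ∧ φ (a + b) = s • (φ a + t • φ b) then
    Classical.choose h.2 • φ b else 0

lemma lift_of_not {a b : V} (h : ¬ Ind2 F a b) : lift F φ a b = 0 := by
  unfold lift
  rw [dif_neg (fun hh => h hh.1)]

lemma lift_zero (a : V) : lift F φ a 0 = 0 := lift_of_not (fun h => h.right_ne rfl)

lemma lift_spec (hφ : IsColl F φ) {a b : V} (h : Ind2 F a b) :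
    ∃ t : F, t ≠ 0 ∧ lift F φ a b = t • φ b ∧
      ∃ s : F, s ≠ 0 ∧ φ (a + b) = s • (φ a + lift F φ a b) := by
  have hex : ∃ t : F, t ≠ 0 ∧ ∃ s : F, s ≠ 0 ∧ φ (a + b) = s • (φ a + t • φ b) := by
    obtain ⟨s, t, hs, ht, e⟩ := hφ.add h
    refine ⟨t / s, div_ne_zero ht hs, s, hs, ?_⟩
    rw [e, smul_add, smul_smul, mul_div_cancel₀ _ hs]
  have hl : lift F φ a b = Classical.choose hex • φ b := by
    unfold lift
    rw [dif_pos ⟨h, hex⟩]
  obtain ⟨ht, s, hs, e⟩ := Classical.choose_spec hex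
  exact ⟨_, ht, hl, s, hs, by rw [hl]; exact e⟩

lemma lift_unique (hφ : IsColl F φ) {a b : V} (h : Ind2 F a b) {w : V} {τ s : F}
    (hw : w = τ • φ b) (hs : s ≠ 0) (e : φ (a + b) = s • (φ a + w)) : w = lift F φ a b := by
  obtain ⟨t, ht, hl, s', hs', e'⟩ := lift_spec hφ h
  rw [hl] at e' ⊢
  rw [hw] at e ⊢
  have hc := (hφ.ind2 h).coeff (α := s) (β := s * τ) (α' := s') (β' := s' * t)
    (by rw [← smul_smul, ← smul_smul, ← smul_add, ← smul_add, ← e, ← e'])
  obtain ⟨h1, h2⟩ := hc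
  subst h1
  rw [mul_right_inj' hs] at h2
  rw [h2]

lemma lift_ne_zero (hφ : IsColl F φ) {a b : V} (h : Ind2 F a b) : lift F φ a b ≠ 0 := by
  obtain ⟨t, ht, hl, -⟩ := lift_spec hφ h
  rw [hl]
  exact smul_ne_zero ht (hφ.ne0 _ h.right_ne)

/-- additivity of the lift on independent vectors -/
lemma lift_add_ind3 (hφ : IsColl F φ) {a b c : V} (h : Ind3 F a b c) :
    lift F φ a (b + c) = lift F φ a b + lift F φ a c := by
  have hab := h.ind2
  have hac := h.ind2_13
  have hbc := h.ind2_23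
  have habc := h.ind2_add
  obtain ⟨tb, htb, hlb, sb, hsb, eb⟩ := lift_spec hφ hab
  obtain ⟨tc, htc, hlc, sc, hsc, ec⟩ := lift_spec hφ hac
  have hI := hφ.ind3 h
  have ha0 := hab.left_ne
  have hb0 := hab.right_ne
  have hc0 := hac.right_ne
  have hx0 : a + b + c ≠ 0 := by
    intro e
    have := h 1 1 1 (by rw [one_smul, one_smul, one_smul]; exact e)
    exact one_ne_zero this.1
  have hab0 : a + b ≠ 0 := by
    intro e
    have := hab 1 1 (by rw [one_smul, one_smul]; exact e)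
    exact one_ne_zero this.1
  have hac0 : a + c ≠ 0 := by
    intro e
    have := hac 1 1 (by rw [one_smul, one_smul]; exact e)
    exact one_ne_zero this.1
  have hbc0 : b + c ≠ 0 := by
    intro e
    have := hbc 1 1 (by rw [one_smul, one_smul]; exact e)
    exact one_ne_zero this.1
  -- three expressions of `φ (a + b + c)`
  obtain ⟨l1, m1, e1⟩ := (hφ.col (a + b) c (a + b + c) hab0 hc0 hx0).mp ⟨1, 1, by simp⟩
  obtain ⟨l2, m2, e2⟩ := (hφ.col (a + c) b (a + b + c) hac0 hb0 hx0).mp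
    ⟨1, 1, by rw [one_smul, one_smul]; abel⟩
  obtain ⟨l3, m3, e3⟩ := (hφ.col a (b + c) (a + b + c) ha0 hbc0 hx0).mp
    ⟨1, 1, by rw [one_smul, one_smul]; abel⟩
  obtain ⟨p, q, ebc⟩ := (hφ.col b c (b + c) hb0 hc0 hbc0).mp ⟨1, 1, by simp⟩
  rw [hlb] at eb
  rw [hlc] at ec
  have E1 : φ (a + b + c) = (l1 * sb) • φ a + (l1 * sb * tb) • φ b + m1 • φ c := by
    rw [e1, eb]; module
  have E2 : φ (a + b + c) = (l2 * sc) • φ a + m2 • φ b + (l2 * sc * tc) • φ c := by
    rw [e2, ec]; module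
  have E3 : φ (a + b + c) = l3 • φ a + (m3 * p) • φ b + (m3 * q) • φ c := by
    rw [e3, ebc]; module
  obtain ⟨c1, c2, c3⟩ := hI.coeff (E1.symm.trans E2)
  obtain ⟨d1, d2, d3⟩ := hI.coeff (E1.symm.trans E3)
  -- κ = l1 * sb
  have hκ : l1 * sb ≠ 0 := by
    intro h0
    apply hφ.ne0 _ hx0
    rw [E1, h0, c3, ← c1, h0]
    simp
  have hm3 : m3 ≠ 0 := by
    rintro rfl
    rw [zero_mul] at d2
    exact (mul_ne_zero hκ htb) d2
  apply (lift_unique hφ habc (w := lift F φ a b + lift F φ a c) (τ := m3 / (l1 * sb))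
    (s := l1 * sb) ?_ hκ ?_).symm
  · rw [hlb, hlc, ebc]
    have hp : p = l1 * sb * tb / m3 := by rw [d2]; field_simp
    have hq : q = l1 * sb * tc / m3 := by rw [c1, ← c3, d3]; field_simp
    rw [hp, hq]
    rw [smul_add, smul_smul, smul_smul]
    have hl1 : l1 ≠ 0 := left_ne_zero_of_mul hκ
    congr 2 <;> field_simp
  · rw [← add_assoc, E1, hlb, hlc, c3, ← c1]
    module


/-- additivity of the lift, general case -/
lemma lift_add (hφ : IsColl F φ) (h3 : ∃ x y z : V, Ind3 F x y z) {a b c : V}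
    (hb : Ind2 F a b) (hc : Ind2 F a c) (hbc : Ind2 F a (b + c)) :
    lift F φ a (b + c) = lift F φ a b + lift F φ a c := by
  by_cases hind : Ind3 F a b c
  · exact lift_add_ind3 hφ hind
  · -- `c ∈ ⟨a, b⟩`
    have hcin : ∃ α β : F, c = α • a + β • b := by
      by_contra hcon
      push Not at hcon
      exact hind (ind3_iff.mpr ⟨hb, hcon⟩)
    obtain ⟨α₀, β₀, hc'⟩ := hcin
    obtain ⟨d, hd⟩ := exists_out h3 a b
    -- the three independent triples
    have I1 : Ind3 F a b (c + d) := by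
      rw [ind3_iff]
      refine ⟨hb, fun α β e => hd (α - α₀) (β - β₀) ?_⟩
      have : d = (c + d) - c := by abel
      rw [this, e, hc']; module
    have I2 : Ind3 F a c d := by
      rw [ind3_iff]
      refine ⟨hc, fun α β e => hd (α + β * α₀) (β * β₀) ?_⟩
      rw [e, hc']; module
    have I3 : Ind3 F a (b + c) d := by
      rw [ind3_iff]
      refine ⟨hbc, fun α β e => hd (α + β * α₀) (β + β * β₀) ?_⟩
      rw [e, hc']; module
    have e1 : lift F φ a (b + (c + d)) = lift F φ a b + lift F φ a (c + d) :=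
      lift_add_ind3 hφ I1
    have e2 : lift F φ a (c + d) = lift F φ a c + lift F φ a d := lift_add_ind3 hφ I2
    have e3 : lift F φ a ((b + c) + d) = lift F φ a (b + c) + lift F φ a d :=
      lift_add_ind3 hφ I3
    rw [add_assoc, e1, e2, ← add_assoc] at e3
    exact (add_right_cancel e3).symm

lemma lift_neg (hφ : IsColl F φ) (h3 : ∃ x y z : V, Ind3 F x y z) {a b : V}
    (hb : Ind2 F a b) : lift F φ a (-b) = - lift F φ a b := by
  obtain ⟨d, hd⟩ := exists_ind3 h3 hb
  have hdb : Ind3 F a d b := hd.swap23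
  have e1 : lift F φ a (d + b) = lift F φ a d + lift F φ a b := lift_add_ind3 hφ hdb
  have e2 : lift F φ a ((d + b) + -b) = lift F φ a (d + b) + lift F φ a (-b) := by
    apply lift_add hφ h3 hdb.ind2_add hb.neg_right
    rw [add_neg_cancel_right]
    exact hdb.ind2
  rw [add_neg_cancel_right, e1] at e2
  have : lift F φ a b + lift F φ a (-b) = 0 := by
    have e3 : lift F φ a d + 0 = lift F φ a d + (lift F φ a b + lift F φ a (-b)) := by
      rw [add_zero, ← add_assoc]; exact e2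
    exact (add_left_cancel e3).symm
  exact eq_neg_of_add_eq_zero_right this

lemma lift_smul_exists (hφ : IsColl F φ) {a b : V} (hb : Ind2 F a b) {c : F} (hc : c ≠ 0) :
    ∃ s : F, s ≠ 0 ∧ lift F φ a (c • b) = s • lift F φ a b := by
  obtain ⟨t, ht, hl, -⟩ := lift_spec hφ hb
  obtain ⟨t', ht', hl', -⟩ := lift_spec hφ (hb.smul_right hc)
  obtain ⟨d, hd, e⟩ := hφ.smul hb.right_ne hc
  refine ⟨t' * d / t, div_ne_zero (mul_ne_zero ht' hd) ht, ?_⟩
  rw [hl', hl, e, smul_smul, smul_smul, div_mul_cancel₀ _ ht]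

lemma lift_smul_indep (hφ : IsColl F φ) {a b d : V} (h : Ind3 F a b d) {c s s' : F}
    (hc : c ≠ 0) (e : lift F φ a (c • b) = s • lift F φ a b)
    (e' : lift F φ a (c • d) = s' • lift F φ a d) : s = s' := by
  obtain ⟨s'', hs'', e''⟩ := lift_smul_exists hφ h.ind2_add hc
  have h1 : lift F φ a (c • b + c • d) = lift F φ a (c • b) + lift F φ a (c • d) :=
    lift_add_ind3 hφ (h.smul_both hc)
  rw [← smul_add, e'', lift_add_ind3 hφ h, e, e'] at h1
  obtain ⟨tb, htb, hlb, -⟩ := lift_spec hφ h.ind2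
  obtain ⟨td, htd, hld, -⟩ := lift_spec hφ h.ind2_13
  rw [hlb, hld] at h1
  have hI := hφ.ind2 h.ind2_23
  have := hI.coeff (α := s'' * tb) (β := s'' * td) (α' := s * tb) (β' := s' * td)
    (by rw [← smul_smul, ← smul_smul, ← smul_smul, ← smul_smul, ← smul_add]; exact h1)
  have h2 : s'' = s := mul_right_cancel₀ htb this.1
  have h3 : s'' = s' := mul_right_cancel₀ htd this.2
  rw [← h2, h3]

open Classical in
/-- the field endomorphism attached to the collineation -/
noncomputable def sig (F : Type*) {V : Type*} [Field F] [AddCommGroup V] [Module F V]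
    (φ : V → V) (a b₀ : V) (c : F) : F :=
  if h : c ≠ 0 ∧ ∃ s : F, lift F φ a (c • b₀) = s • lift F φ a b₀ then Classical.choose h.2 else 0

lemma sig_zero (a b₀ : V) : sig F φ a b₀ 0 = 0 := by
  unfold sig
  rw [dif_neg (fun h => h.1 rfl)]

lemma sig_spec (hφ : IsColl F φ) {a b₀ : V} (hb₀ : Ind2 F a b₀) (c : F) :
    lift F φ a (c • b₀) = sig F φ a b₀ c • lift F φ a b₀ := by
  by_cases hc : c = 0
  · subst hc
    rw [sig_zero, zero_smul, zero_smul, lift_zero]
  · obtain ⟨s, -, hs⟩ := lift_smul_exists hφ hb₀ hc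
    have hex : ∃ s : F, lift F φ a (c • b₀) = s • lift F φ a b₀ := ⟨s, hs⟩
    have : sig F φ a b₀ c = Classical.choose hex := by
      unfold sig
      rw [dif_pos ⟨hc, hex⟩]
    rw [this]
    exact Classical.choose_spec hex

lemma lift_smul (hφ : IsColl F φ) (h3 : ∃ x y z : V, Ind3 F x y z) {a b₀ b : V}
    (hb₀ : Ind2 F a b₀) (hb : Ind2 F a b) (c : F) :
    lift F φ a (c • b) = sig F φ a b₀ c • lift F φ a b := by
  by_cases hc : c = 0
  · subst hc
    rw [sig_zero, zero_smul, zero_smul, lift_zero]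
  · obtain ⟨s, -, hs⟩ := lift_smul_exists hφ hb hc
    have h0 := sig_spec hφ hb₀ c
    by_cases hind : Ind3 F a b₀ b
    · rw [hs, lift_smul_indep hφ hind hc h0 hs]
    · have hbin : ∃ α β : F, b = α • a + β • b₀ := by
        by_contra hcon
        push Not at hcon
        exact hind (ind3_iff.mpr ⟨hb₀, hcon⟩)
      obtain ⟨α₀, β₀, hb'⟩ := hbin
      obtain ⟨d, hd⟩ := exists_out h3 a b₀
      have I1 : Ind3 F a b₀ d := ind3_iff.mpr ⟨hb₀, hd⟩
      have I2 : Ind3 F a b d := by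
        rw [ind3_iff]
        refine ⟨hb, fun α β e => hd (α + β * α₀) (β * β₀) ?_⟩
        rw [e, hb']; module
      obtain ⟨s', -, hs'⟩ := lift_smul_exists hφ I1.ind2_13 hc
      rw [hs, lift_smul_indep hφ I2 hc hs hs', ← lift_smul_indep hφ I1 hc h0 hs']

lemma sig_one (hφ : IsColl F φ) {a b₀ : V} (hb₀ : Ind2 F a b₀) : sig F φ a b₀ 1 = 1 := by
  have h := sig_spec hφ hb₀ 1
  rw [one_smul] at h
  have h' : (1 : F) • lift F φ a b₀ = sig F φ a b₀ 1 • lift F φ a b₀ := by
    rw [one_smul]; exact h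
  exact (smul_left_injective F (lift_ne_zero hφ hb₀) h').symm

lemma sig_mul (hφ : IsColl F φ) (h3 : ∃ x y z : V, Ind3 F x y z) {a b₀ : V}
    (hb₀ : Ind2 F a b₀) (c c' : F) :
    sig F φ a b₀ (c * c') = sig F φ a b₀ c * sig F φ a b₀ c' := by
  by_cases hc' : c' = 0
  · subst hc'
    rw [mul_zero, sig_zero, mul_zero]
  · have h := sig_spec hφ hb₀ (c * c')
    rw [← smul_smul, lift_smul hφ h3 hb₀ (hb₀.smul_right hc') c, sig_spec hφ hb₀ c',
      smul_smul] at h
    exact (smul_left_injective F (lift_ne_zero hφ hb₀) h).symm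

lemma sig_neg (hφ : IsColl F φ) (h3 : ∃ x y z : V, Ind3 F x y z) {a b₀ : V}
    (hb₀ : Ind2 F a b₀) (c : F) : sig F φ a b₀ (-c) = - sig F φ a b₀ c := by
  by_cases hc : c = 0
  · subst hc
    rw [neg_zero, sig_zero, neg_zero]
  · have h := sig_spec hφ hb₀ (-c)
    rw [neg_smul, lift_neg hφ h3 (hb₀.smul_right hc), sig_spec hφ hb₀ c, ← neg_smul] at h
    exact (smul_left_injective F (lift_ne_zero hφ hb₀) h).symm

lemma sig_add (hφ : IsColl F φ) (h3 : ∃ x y z : V, Ind3 F x y z) {a b₀ : V}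
    (hb₀ : Ind2 F a b₀) (c c' : F) :
    sig F φ a b₀ (c + c') = sig F φ a b₀ c + sig F φ a b₀ c' := by
  by_cases hc : c = 0
  · subst hc
    rw [zero_add, sig_zero, zero_add]
  by_cases hc' : c' = 0
  · subst hc'
    rw [add_zero, sig_zero, add_zero]
  by_cases hcc : c + c' = 0
  · have : c' = -c := eq_neg_of_add_eq_zero_right hcc
    rw [hcc, sig_zero, this, sig_neg hφ h3 hb₀, add_neg_cancel]
  · have h := sig_spec hφ hb₀ (c + c')
    rw [add_smul, lift_add hφ h3 (hb₀.smul_right hc) (hb₀.smul_right hc')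
      (by rw [← add_smul]; exact hb₀.smul_right hcc), sig_spec hφ hb₀ c, sig_spec hφ hb₀ c',
      ← add_smul] at h
    exact (smul_left_injective F (lift_ne_zero hφ hb₀) h).symm

/-- the ring endomorphism of the field attached to the collineation -/
noncomputable def sigHom (hφ : IsColl F φ) (h3 : ∃ x y z : V, Ind3 F x y z) {a b₀ : V}
    (hb₀ : Ind2 F a b₀) : F →+* F where
  toFun := sig F φ a b₀
  map_one' := sig_one hφ hb₀
  map_mul' := sig_mul hφ h3 hb₀
  map_zero' := sig_zero a b₀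
  map_add' := sig_add hφ h3 hb₀

lemma sigHom_apply (hφ : IsColl F φ) (h3 : ∃ x y z : V, Ind3 F x y z) {a b₀ : V}
    (hb₀ : Ind2 F a b₀) (c : F) : sigHom hφ h3 hb₀ c = sig F φ a b₀ c := rfl

end lift

section main
variable {F V : Type*} [Field F] [AddCommGroup V] [Module F V] {φ : V → V}

/-- **Fundamental theorem of projective geometry**: a collinearity preserving and reflecting map
of a space of dimension at least three is, up to scalars, semilinear. -/
theorem ftpg (hφ : IsColl F φ) (h3 : ∃ x y z : V, Ind3 F x y z) :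
    ∃ (σ : F →+* F) (H : V → V), (∀ u v, H (u + v) = H u + H v) ∧
      (∀ (c : F) (v : V), H (c • v) = σ c • H v) ∧
      ∀ v, v ≠ 0 → ∃ c : F, c ≠ 0 ∧ φ v = c • H v := by
  obtain ⟨a, b₀, z, habz⟩ := h3
  have h3 : ∃ x y z : V, Ind3 F x y z := ⟨a, b₀, z, habz⟩
  have hb₀ : Ind2 F a b₀ := habz.ind2
  have ha : a ≠ 0 := hb₀.left_ne
  -- a functional with `ℓ a = 1`
  obtain ⟨ℓ, hℓ⟩ : ∃ ℓ : V →ₗ[F] F, ℓ a = 1 := by
    obtain ⟨ℓ₀, h0⟩ : ∃ ℓ₀ : Module.Dual F V, ℓ₀ a ≠ 0 := by
      by_contra hcon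
      push Not at hcon
      exact ha ((Module.forall_dual_apply_eq_zero_iff F a).mp hcon)
    refine ⟨(ℓ₀ a)⁻¹ • ℓ₀, ?_⟩
    rw [LinearMap.smul_apply, smul_eq_mul, inv_mul_cancel₀ h0]
  set σ := sigHom hφ h3 hb₀ with hσ
  have hσa : ∀ c, σ c = sig F φ a b₀ c := fun c => rfl
  -- vectors of the kernel of `ℓ` are independent of `a`
  have hK : ∀ w : V, ℓ w = 0 → w ≠ 0 → Ind2 F a w := by
    intro w hw hw0 α β e
    have h1 := congrArg ℓ e
    rw [map_add, map_smul, map_smul, hℓ, hw, map_zero, smul_eq_mul, smul_eq_mul, mul_one,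
      mul_zero, add_zero] at h1
    subst h1
    rw [zero_smul, zero_add] at e
    exact ⟨rfl, (smul_eq_zero.mp e).resolve_right hw0⟩
  have hLadd : ∀ w₁ w₂ : V, ℓ w₁ = 0 → ℓ w₂ = 0 →
      lift F φ a (w₁ + w₂) = lift F φ a w₁ + lift F φ a w₂ := by
    intro w₁ w₂ h1 h2
    by_cases hw1 : w₁ = 0
    · subst hw1; rw [zero_add, lift_zero, zero_add]
    by_cases hw2 : w₂ = 0
    · subst hw2; rw [add_zero, lift_zero, add_zero]
    by_cases hw12 : w₁ + w₂ = 0
    · have : w₂ = -w₁ := eq_neg_of_add_eq_zero_right hw12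
      rw [hw12, lift_zero, this, lift_neg hφ h3 (hK w₁ h1 hw1), add_neg_cancel]
    · exact lift_add hφ h3 (hK w₁ h1 hw1) (hK w₂ h2 hw2)
        (hK _ (by rw [map_add, h1, h2, add_zero]) hw12)
  have hLsmul : ∀ (c : F) (w : V), ℓ w = 0 → lift F φ a (c • w) = σ c • lift F φ a w := by
    intro c w hw
    by_cases hw0 : w = 0
    · subst hw0; rw [smul_zero, lift_zero, smul_zero]
    · exact lift_smul hφ h3 hb₀ (hK w hw hw0) c
  have hπ : ∀ v : V, ℓ (v - ℓ v • a) = 0 := by
    intro v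
    rw [map_sub, map_smul, hℓ, smul_eq_mul, mul_one, sub_self]
  refine ⟨σ, fun v => σ (ℓ v) • φ a + lift F φ a (v - ℓ v • a), ?_, ?_, ?_⟩
  · intro u v
    beta_reduce
    have e : u + v - ℓ (u + v) • a = (u - ℓ u • a) + (v - ℓ v • a) := by
      rw [map_add]; module
    rw [e, hLadd _ _ (hπ u) (hπ v), map_add, map_add, add_smul]
    abel
  · intro c v
    beta_reduce
    have e : c • v - ℓ (c • v) • a = c • (v - ℓ v • a) := by
      rw [map_smul, smul_eq_mul]; module
    rw [e, hLsmul c _ (hπ v), map_smul, smul_eq_mul, map_mul, smul_add, smul_smul]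
  · intro v hv
    beta_reduce
    by_cases hc : ℓ v = 0
    · -- `v` in the kernel
      have hv' : v - ℓ v • a = v := by rw [hc, zero_smul, sub_zero]
      obtain ⟨t, ht, hl, -⟩ := lift_spec hφ (hK v hc hv)
      refine ⟨t⁻¹, inv_ne_zero ht, ?_⟩
      rw [hv', hc, map_zero, zero_smul, zero_add, hl, smul_smul, inv_mul_cancel₀ ht, one_smul]
    · have hσc : σ (ℓ v) ≠ 0 := (map_ne_zero σ).mpr hc
      by_cases hw : v - ℓ v • a = 0
      · -- `v` a multiple of `a`
        have hv' : v = ℓ v • a := sub_eq_zero.mp hw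
        obtain ⟨d, hd, e⟩ := hφ.smul ha hc
        refine ⟨d / σ (ℓ v), div_ne_zero hd hσc, ?_⟩
        rw [hw, lift_zero, add_zero, smul_smul, div_mul_cancel₀ _ hσc, ← e, ← hv']
      · -- general case
        have hKw := hK _ (hπ v) hw
        have hKw' := hKw.smul_right (inv_ne_zero hc)
        have hv' : v = ℓ v • (a + (ℓ v)⁻¹ • (v - ℓ v • a)) := by
          rw [smul_add, smul_smul, mul_inv_cancel₀ hc, one_smul]; abel
        have hne : a + (ℓ v)⁻¹ • (v - ℓ v • a) ≠ 0 := by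
          intro e
          have := hKw' 1 1 (by rw [one_smul, one_smul]; exact e)
          exact one_ne_zero this.1
        obtain ⟨d, hd, e⟩ := hφ.smul hne hc
        obtain ⟨t, ht, hl, s, hs, es⟩ := lift_spec hφ hKw'
        refine ⟨d * s / σ (ℓ v), div_ne_zero (mul_ne_zero hd hs) hσc, ?_⟩
        have e1 : φ v = d • φ (a + (ℓ v)⁻¹ • (v - ℓ v • a)) := by
          rw [← e, ← hv']
        rw [e1, es, hLsmul _ _ (hπ v), map_inv₀]
        rw [smul_add, smul_add, smul_add, smul_smul, smul_smul, smul_smul, smul_smul]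
        congr 2
        · field_simp
        · field_simp

end main

end Cfsg.Agent.Lib.Helper43.FTPG
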