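import Cfsg.Agent.Lib.Helper43.AutPSpBasic
import Cfsg.Agent.Lib.Helper43.FTPG

set_option autoImplicit false
set_option linter.unusedSimpArgs false
set_option linter.unusedVariables false
set_option linter.unusedSectionVars false

/-! Semilinear maps preserving the perpendicularity relation of the standard symplectic form:
they are given by a matrix of the conformal symplectic group and a field automorphism. -/

namespace Cfsg.Agent.Lib.Helper43.AutPSp

open Matrix Cfsg.Agent.Lib.Helper18 Cfsg.Agent.Lib.Helper11.SpPerfect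

section
variable {F : Type*} [Field F] (m : ℕ)

local notation "V" => (Fin m ⊕ Fin m → F)
local notation "f" => Cfsg.sympForm m F
local notation "G" => Matrix.symplecticGroup (Fin m) F
local notation "Mat" => Matrix (Fin m ⊕ Fin m) (Fin m ⊕ Fin m) F

/-- a semilinear map preserving perpendicularity -/
structure SemiData (σ : F ≃+* F) (H : V → V) : Prop where
  add : ∀ u v, H (u + v) = H u + H v
  smul : ∀ (c : F) (v : V), H (c • v) = σ c • H v
  ne0 : ∀ v, v ≠ 0 → H v ≠ 0
  perp : ∀ u v, f (H u) (H v) = 0 ↔ f u v = 0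

variable {m}

theorem SemiData.zero {σ : F ≃+* F} {H : V → V} (h : SemiData m σ H) : H 0 = 0 := by
  have := h.add 0 0
  rw [add_zero] at this
  exact left_eq_add.mp this

theorem SemiData.sub {σ : F ≃+* F} {H : V → V} (h : SemiData m σ H) (u v : V) :
    H (u - v) = H u - H v := by
  have := h.add (u - v) v
  rw [sub_add_cancel] at this
  rw [this, add_sub_cancel_right]

theorem SemiData.sum {σ : F ≃+* F} {H : V → V} (h : SemiData m σ H) {ι : Type*}
    (s : Finset ι) (g : ι → V) : H (∑ i ∈ s, g i) = ∑ i ∈ s, H (g i) := by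
  classical
  induction s using Finset.induction_on with
  | empty => simp [h.zero]
  | insert a s ha ih => rw [Finset.sum_insert ha, Finset.sum_insert ha, h.add, ih]

/-- the matrix with columns `H e_j` -/
def matH (H : V → V) : Mat := Matrix.of fun i j => H (Pi.single j 1) i

theorem matH_mulVec {σ : F ≃+* F} {H : V → V} (h : SemiData m σ H) (x : V) :
    matH H *ᵥ (fun i => σ (x i)) = H x := by
  have hx : x = ∑ j, x j • (Pi.single j 1 : V) := by
    ext i
    simp [Finset.sum_apply, Pi.single_apply]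
  conv_rhs => rw [hx]
  rw [h.sum]
  ext i
  simp only [Matrix.mulVec, dotProduct, matH, Matrix.of_apply, Finset.sum_apply, h.smul,
    Pi.smul_apply, smul_eq_mul]
  apply Finset.sum_congr rfl
  intro j _
  ring

theorem matH_isUnit {σ : F ≃+* F} {H : V → V} (h : SemiData m σ H) : IsUnit (matH H) := by
  rw [← Matrix.mulVec_injective_iff_isUnit]
  intro y y' hyy
  have h0 : matH H *ᵥ (y - y') = 0 := by rw [Matrix.mulVec_sub, hyy, sub_self]
  have h1 : (fun i => σ (σ.symm ((y - y') i))) = y - y' := by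
    ext i; simp
  rw [← h1, matH_mulVec h] at h0
  have h2 : (fun i => σ.symm ((y - y') i)) = 0 := by
    by_contra hne
    exact h.ne0 _ hne h0
  have h3 : y - y' = 0 := by
    ext i
    have := congrFun h2 i
    have h4 : σ.symm ((y - y') i) = 0 := this
    rw [map_eq_zero_iff _ σ.symm.injective] at h4
    exact h4
  exact sub_eq_zero.mp h3

theorem sympForm_map (σ : F ≃+* F) (u v : V) :
    f (fun i => σ (u i)) (fun i => σ (v i)) = σ (f u v) := by
  unfold Cfsg.sympForm
  have hJ : (Matrix.J (Fin m) F).map (σ : F →+* F) = Matrix.J (Fin m) F := by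
    ext i j
    rcases i with i | i <;> rcases j with j | j <;>
      simp [Matrix.J, Matrix.fromBlocks, Matrix.one_apply]
  have h1 := RingHom.map_dotProduct (σ : F →+* F) u (Matrix.J (Fin m) F *ᵥ v)
  have h2 : (⇑(σ : F →+* F) ∘ (Matrix.J (Fin m) F *ᵥ v)) =
      Matrix.J (Fin m) F *ᵥ (⇑(σ : F →+* F) ∘ v) := by
    ext i
    have := RingHom.map_mulVec (σ : F →+* F) (Matrix.J (Fin m) F) v i
    rw [hJ] at this
    exact this
  rw [h2] at h1
  exact h1.symm

/-- the multiplier of a perpendicularity preserving semilinear map -/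
theorem SemiData.multiplier {σ : F ≃+* F} {H : V → V} (h : SemiData m σ H) (e₀ : V)
    (he₀ : e₀ ≠ 0) : ∃ c : F, c ≠ 0 ∧ ∀ u v : V, f (H u) (H v) = c * σ (f u v) := by
  -- for each `u ≠ 0` a local multiplier
  have hloc : ∀ u : V, u ≠ 0 → ∀ w : V, f u w = 1 → ∀ v : V,
      f (H u) (H v) = f (H u) (H w) * σ (f u v) := by
    intro u hu w hw v
    have h1 : f u (v - f u v • w) = 0 := by
      rw [sf_sub_right, sf_smul_right, hw, mul_one, sub_self]
    have h2 := (h.perp u (v - f u v • w)).mpr h1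
    rw [h.sub, h.smul, sf_sub_right, sf_smul_right] at h2
    linear_combination h2
  have hw : ∀ u : V, u ≠ 0 → ∃ w : V, f u w = 1 := by
    intro u hu
    obtain ⟨x, hx⟩ := exists_pair_ne_zero m hu
    refine ⟨-x, ?_⟩
    rw [sf_neg_right, sf_swap m u x, hx, neg_neg]
  -- the local multipliers agree for non-perpendicular vectors
  have hagree : ∀ u v wu wv : V, u ≠ 0 → v ≠ 0 → f u wu = 1 → f v wv = 1 → f u v ≠ 0 →
      f (H u) (H wu) = f (H v) (H wv) := by
    intro u v wu wv hu hv hwu hwv huv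
    have h1 := hloc u hu wu hwu v
    have h2 := hloc v hv wv hwv u
    rw [sf_swap m (H u) (H v), h2, sf_swap m v u, map_neg] at h1
    have h3 : σ (f u v) ≠ 0 := (map_ne_zero σ).mpr huv
    have h4 : (f (H u) (H wu) - f (H v) (H wv)) * σ (f u v) = 0 := by
      linear_combination -h1
    exact sub_eq_zero.mp ((mul_eq_zero.mp h4).resolve_right h3)
  obtain ⟨w₀, hw₀⟩ := hw e₀ he₀
  have hc : f (H e₀) (H w₀) ≠ 0 := by
    intro h0
    have := (h.perp e₀ w₀).mp h0
    rw [hw₀] at this
    exact one_ne_zero this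
  refine ⟨f (H e₀) (H w₀), hc, ?_⟩
  intro u v
  by_cases hu : u = 0
  · subst hu
    rw [h.zero, sf_zero_left, sf_zero_left, map_zero, mul_zero]
  obtain ⟨wu, hwu⟩ := hw u hu
  rw [hloc u hu wu hwu v]
  congr 1
  -- connect `u` and `e₀`
  by_cases hue : f u e₀ ≠ 0
  · exact hagree u e₀ wu w₀ hu he₀ hwu hw₀ hue
  · push Not at hue
    -- a vector not perpendicular to either
    have hwu0 : wu ≠ 0 := by
      rintro rfl
      rw [sf_zero_right] at hwu
      exact zero_ne_one hwu
    have hw00 : w₀ ≠ 0 := by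
      rintro rfl
      rw [sf_zero_right] at hw₀
      exact zero_ne_one hw₀
    obtain ⟨z, hz0, hzu, hze⟩ : ∃ z : V, z ≠ 0 ∧ f u z ≠ 0 ∧ f e₀ z ≠ 0 := by
      by_cases h1 : f e₀ wu ≠ 0
      · exact ⟨wu, hwu0, by rw [hwu]; exact one_ne_zero, h1⟩
      push Not at h1
      by_cases h2 : f u w₀ ≠ 0
      · exact ⟨w₀, hw00, h2, by rw [hw₀]; exact one_ne_zero⟩
      push Not at h2
      have hz1 : f u (wu + w₀) = 1 := by rw [sf_add_right, hwu, h2, add_zero]
      have hz2 : f e₀ (wu + w₀) = 1 := by rw [sf_add_right, h1, hw₀, zero_add]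
      refine ⟨wu + w₀, ?_, by rw [hz1]; exact one_ne_zero, by rw [hz2]; exact one_ne_zero⟩
      intro h0
      rw [h0, sf_zero_right] at hz1
      exact zero_ne_one hz1
    obtain ⟨wz, hwz⟩ := hw z hz0
    rw [hagree u z wu wz hu hz0 hwu hwz hzu, ← hagree e₀ z w₀ wz he₀ hz0 hw₀ hwz hze]

/-- the matrix of a perpendicularity preserving semilinear map is conformal symplectic -/
theorem SemiData.exists_gsp [NeZero m] {σ : F ≃+* F} {H : V → V} (h : SemiData m σ H) :
    ∃ g : GL (Fin m ⊕ Fin m) F, g ∈ Cfsg.GSp m F ∧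
      ∀ x : V, (g : Mat) *ᵥ (fun i => σ (x i)) = H x := by
  obtain ⟨g, hg⟩ := matH_isUnit h
  refine ⟨g, ?_, fun x => by rw [hg]; exact matH_mulVec h x⟩
  have he₀ : (Pi.single (Sum.inl (0 : Fin m)) 1 : V) ≠ 0 := by
    intro h0
    have := congrFun h0 (Sum.inl 0)
    simp at this
  obtain ⟨c, hc, hmul⟩ := h.multiplier _ he₀
  refine ⟨Units.mk0 c hc, fun u v => ?_⟩
  have hu : (fun i => σ (σ.symm (u i))) = u := by ext i; simp
  have hv : (fun i => σ (σ.symm (v i))) = v := by ext i; simp
  rw [Units.val_mk0]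
  have e1 : (g : Mat) *ᵥ u = H (fun i => σ.symm (u i)) := by
    rw [hg, ← matH_mulVec h]
    simp
  have e2 : (g : Mat) *ᵥ v = H (fun i => σ.symm (v i)) := by
    rw [hg, ← matH_mulVec h]
    simp
  rw [e1, e2, hmul, ← sympForm_map, hu, hv]

end

end Cfsg.Agent.Lib.Helper43.AutPSp
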