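import Cfsg.Prelude.Def_ChevAutomorphisms
import Cfsg.Prelude.Def_LieChev
import Cfsg.Prelude.Def_ChevB2
import Cfsg.Prelude.Def_ChevD4

set_option autoImplicit false

namespace Cfsg.Agent.Lib.Helper43

open Cfsg Cfsg.Lie

/-- Walking along an `r`-chain starting at `s`: every step is the first step of a chain. -/
def walkOK (D : ChevalleyDatum) (r : ℕ) : ℕ → List (ℕ × ℤ) → Bool
  | _, [] => true
  | s, (u, _) :: rest =>
    decide (s < D.nroots) && (D.chainRoot r s 1 == some u) && walkOK D r u rest

/-- Consistency of the chain table: each listed chain `s, r+s, 2r+s, …` is obtained by repeatedly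
adding `r`, as recorded by `chainRoot r · 1`. -/
def chainOK (D : ChevalleyDatum) : Bool :=
  (List.range D.nroots).all fun r =>
    (D.chain.getD r #[]).toList.all fun e => walkOK D r e.1 e.2.toList

set_option maxRecDepth 100000 in
theorem chainOK_G2 : chainOK chevG2 = true := by decide +kernel

set_option maxRecDepth 100000 in
theorem chainOK_B2 : chainOK chevB2 = true := by decide +kernel

set_option maxRecDepth 100000 in
theorem chainOK_D4 : chainOK chevD4 = true := by decide +kernel

set_option maxRecDepth 100000 in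
theorem chainOK_F4 : chainOK chevF4 = true := by decide +kernel

set_option maxRecDepth 100000 in
theorem chainOK_E6 : chainOK chevE6 = true := by decide +kernel

set_option maxRecDepth 100000 in
theorem chainOK_E7 : chainOK chevE7 = true := by decide +kernel

set_option maxRecDepth 100000 in
theorem chainOK_E8 : chainOK chevE8 = true := by decide +kernel

theorem chainOK_of_mem {D : ChevalleyDatum}
    (hD : D ∈ [chevG2, chevB2, chevD4, chevF4, chevE6, chevE7, chevE8]) : chainOK D = true := by
  simp only [List.mem_cons, List.not_mem_nil, or_false] at hD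
  rcases hD with rfl | rfl | rfl | rfl | rfl | rfl | rfl
  exacts [chainOK_G2, chainOK_B2, chainOK_D4, chainOK_F4, chainOK_E6, chainOK_E7, chainOK_E8]

/-- Along a consistent chain a root character is multiplicative. -/
theorem walk_char {F : Type*} [Field F] (D : ChevalleyDatum) (χ : ℕ → Fˣ)
    (hχ : D.IsRootCharacter χ) (r : ℕ) (hr : r < D.nroots) :
    ∀ (L : List (ℕ × ℤ)) (s : ℕ), walkOK D r s L = true →
      ∀ (q : ℕ) (uM : ℕ × ℤ), L[q]? = some uM → χ uM.1 = χ r ^ (q + 1) * χ s
  | [], _, _, q, uM, h => by simp at h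
  | (u, M) :: rest, s, hw, q, uM, h => by
    simp only [walkOK, Bool.and_eq_true, decide_eq_true_eq, beq_iff_eq] at hw
    obtain ⟨⟨hs, hroot⟩, hrest⟩ := hw
    have h1 : χ u = χ r * χ s := hχ.2 r s u hr hs hroot
    cases q with
    | zero =>
      simp only [List.getElem?_cons_zero, Option.some.injEq] at h
      subst h
      simp [h1]
    | succ q =>
      simp only [List.getElem?_cons_succ] at h
      have := walk_char D χ hχ r hr rest u hrest q uM h
      rw [this, h1, ← mul_assoc, ← pow_succ]

/-- Every term `(k, M)` of `chainCoeff r s u` satisfies `χ u = χ r ^ k * χ s`. -/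
theorem chainCoeff_char {F : Type*} [Field F] (D : ChevalleyDatum) (hok : chainOK D = true)
    (χ : ℕ → Fˣ) (hχ : D.IsRootCharacter χ) (r s u : ℕ) (hr : r < D.nroots)
    (km : ℕ × ℤ) (hkm : km ∈ D.chainCoeff r s u) : χ u = χ r ^ km.1 * χ s := by
  unfold ChevalleyDatum.chainCoeff at hkm
  rw [List.mem_flatMap] at hkm
  obtain ⟨e, he, hkm⟩ := hkm
  rw [List.mem_filter] at he
  obtain ⟨he, hes⟩ := he
  rw [List.mem_map] at hkm
  obtain ⟨qq, hqq, rfl⟩ := hkm
  rw [List.mem_filter] at hqq
  obtain ⟨hqq, hqu⟩ := hqq
  have hget : e.2.toList[qq.2]? = some qq.1 := List.mem_zipIdx_iff_getElem?.1 hqq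
  simp only [decide_eq_true_eq] at hes hqu
  unfold chainOK at hok
  rw [List.all_eq_true] at hok
  have h1 := hok r (List.mem_range.2 hr)
  rw [List.all_eq_true] at h1
  have h2 := h1 e he
  have := walk_char D χ hχ r hr e.2.toList e.1 h2 qq.2 qq.1 hget
  rw [hqu, hes] at this
  exact this

end Cfsg.Agent.Lib.Helper43
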