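import Mathlib
import Cfsg.Prelude.Def_GeometricClasses

set_option autoImplicit false
set_option linter.unusedSimpArgs false
set_option linter.unusedVariables false
set_option linter.unusedSectionVars false

/-! Membership in the stabiliser of a decomposition into two subspaces, and a bridge for
`IsMaximalIn` at the level of `GL`. -/

namespace Cfsg.Agent.Lib.Helper43.DecompTwo

open Module Matrix

variable {F : Type*} [Field F] {ι : Type} [Fintype ι] [DecidableEq ι]

theorem glv_inv_act (g : Matrix.GeneralLinearGroup ι F) (x : ι → F) :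
    g⁻¹.1 *ᵥ (g.1 *ᵥ x) = x := by
  rw [Matrix.mulVec_mulVec, ← Units.val_mul, inv_mul_cancel, Units.val_one, Matrix.one_mulVec]

theorem glv_act_inv (g : Matrix.GeneralLinearGroup ι F) (x : ι → F) :
    g.1 *ᵥ (g⁻¹.1 *ᵥ x) = x := by
  rw [Matrix.mulVec_mulVec, ← Units.val_mul, mul_inv_cancel, Units.val_one, Matrix.one_mulVec]

theorem toLin_injective (g : Matrix.GeneralLinearGroup ι F) :
    Function.Injective (Matrix.toLin' g.1) := by
  intro x y h
  rw [Matrix.toLin'_apply, Matrix.toLin'_apply] at h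
  have := congrArg (fun z => g⁻¹.1 *ᵥ z) h
  simp only [glv_inv_act] at this
  exact this

theorem map_eq_of_into (g : Matrix.GeneralLinearGroup ι F) (A B : Submodule F (ι → F))
    (h : ∀ a ∈ A, g.1 *ᵥ a ∈ B) (hfr : finrank F A = finrank F B) :
    A.map (Matrix.toLin' g.1) = B := by
  have hinj := toLin_injective g
  apply Submodule.eq_of_le_of_finrank_eq
  · rintro _ ⟨v, hv, rfl⟩
    rw [Matrix.toLin'_apply]
    exact h v hv
  · rw [← hfr]
    exact (Submodule.equivMapOfInjective (Matrix.toLin' g.1) hinj A).finrank_eq.symm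

theorem surj_of_into (g : Matrix.GeneralLinearGroup ι F) (A B : Submodule F (ι → F))
    (h : ∀ a ∈ A, g.1 *ᵥ a ∈ B) (hfr : finrank F A = finrank F B) :
    ∀ b ∈ B, ∃ a ∈ A, g.1 *ᵥ a = b := by
  have hmap := map_eq_of_into g A B h hfr
  intro b hb
  rw [← hmap] at hb
  obtain ⟨a, ha, hab⟩ := hb
  rw [Matrix.toLin'_apply] at hab
  exact ⟨a, ha, hab⟩

/-- membership in the stabiliser of a decomposition into two parts -/
theorem mem_decompStab_two_iff (D : Fin 2 → Submodule F (ι → F))
    (hfr : finrank F (D 0) = finrank F (D 1)) (g : Matrix.GeneralLinearGroup ι F) :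
    g ∈ Cfsg.Geo.decompositionStabilizer D ↔
      ((∀ u ∈ D 0, g.1 *ᵥ u ∈ D 0) ∧ (∀ u' ∈ D 1, g.1 *ᵥ u' ∈ D 1)) ∨
      ((∀ u ∈ D 0, g.1 *ᵥ u ∈ D 1) ∧ (∀ u' ∈ D 1, g.1 *ᵥ u' ∈ D 0)) := by
  constructor
  · rintro ⟨σ, hσ⟩
    have h0 := hσ 0
    have h1 := hσ 1
    have hinto : ∀ i j : Fin 2, (D i).map (Matrix.toLin' g.1) = D j →
        ∀ u ∈ D i, g.1 *ᵥ u ∈ D j := by
      intro i j h u hu
      rw [← h, ← Matrix.toLin'_apply]
      exact Submodule.mem_map_of_mem hu
    have hne : σ 0 ≠ σ 1 := fun h => by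
      have := σ.injective h
      exact absurd this (by decide)
    by_cases hc : σ 0 = 0
    · have hc1 : σ 1 = 1 := by
        rw [hc] at hne
        have h2 := (σ 1).isLt
        have h3 : (σ 1).val ≠ 0 := fun h => hne (Fin.ext h.symm)
        apply Fin.ext
        simp only [Fin.val_one]
        omega
      rw [hc] at h0
      rw [hc1] at h1
      exact Or.inl ⟨hinto 0 0 h0, hinto 1 1 h1⟩
    · have hc0 : σ 0 = 1 := by
        have h2 := (σ 0).isLt
        have h3 : (σ 0).val ≠ 0 := fun h => hc (Fin.ext h)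
        apply Fin.ext
        simp only [Fin.val_one]
        omega
      have hc1 : σ 1 = 0 := by
        rw [hc0] at hne
        have h2 := (σ 1).isLt
        have h3 : (σ 1).val ≠ 1 := fun h => hne (Fin.ext h.symm)
        apply Fin.ext
        simp only [Fin.val_zero]
        omega
      rw [hc0] at h0
      rw [hc1] at h1
      exact Or.inr ⟨hinto 0 1 h0, hinto 1 0 h1⟩
  · rintro (⟨h0, h1⟩ | ⟨h0, h1⟩)
    · refine ⟨1, fun i => ?_⟩
      fin_cases i
      · exact map_eq_of_into g _ _ h0 rfl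
      · exact map_eq_of_into g _ _ h1 rfl
    · refine ⟨Equiv.swap 0 1, fun i => ?_⟩
      fin_cases i
      · exact map_eq_of_into g _ _ h0 hfr
      · exact map_eq_of_into g _ _ h1 hfr.symm

/-- maximality inside a subgroup `I` of `GL` of `S ⊓ I` from: properness and every strictly larger
subgroup of `I` being all of `I` -/
theorem isMaximalIn_inf (S I : Subgroup (Matrix.GeneralLinearGroup ι F))
    (hne : ∃ g ∈ I, g ∉ S)
    (hmax : ∀ M : Subgroup (Matrix.GeneralLinearGroup ι F), S ⊓ I ≤ M → M ≤ I →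
      ∀ g ∈ M, g ∉ S → I ≤ M) :
    Cfsg.Geo.IsMaximalIn I (S ⊓ I) := by
  refine ⟨?_, ?_⟩
  · rw [SetLike.lt_iff_le_and_exists]
    refine ⟨inf_le_right, ?_⟩
    obtain ⟨g, hgI, hgS⟩ := hne
    exact ⟨g, hgI, fun h => hgS h.1⟩
  · intro M hHM hMI
    by_cases hle : M ≤ S
    · left
      exact le_antisymm (le_inf hle hMI) hHM
    · right
      obtain ⟨g, hgM, hgS⟩ := SetLike.not_le_iff_exists.1 hle
      exact le_antisymm hMI (hmax M hHM hMI g hgM hgS)

end Cfsg.Agent.Lib.Helper43.DecompTwo
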