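import Cfsg.Agent.Lib.Helper43.HermField

set_option autoImplicit false

/-! Orthonormal families for (possibly degenerate) hermitian forms over the field with `q^2`
elements, characteristic two. -/

namespace Cfsg.Agent.Lib.Helper43

open Module

variable {F : Type*} [Field F] [Fintype F] [CharP F 2] {q : ℕ}
variable {V : Type*} [AddCommGroup V] [Module F V]
variable {σ : F →+* F}

/-- a hermitian form which does not vanish on `W` has a vector of norm one in `W` -/
theorem exists_unit_vector (hF : Fintype.card F = q ^ 2) (hσ : ∀ x, σ x = x ^ q)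
    (B : V →ₗ[F] V →ₛₗ[σ] F) (hB : ∀ u v, σ (B u v) = B v u)
    (W : Submodule F V) (hW : ∃ u ∈ W, ∃ v ∈ W, B u v ≠ 0) : ∃ v ∈ W, B v v = 1 := by
  -- step 1: a non-isotropic vector
  have h1 : ∃ v ∈ W, B v v ≠ 0 := by
    by_contra hcon
    push Not at hcon
    obtain ⟨u, hu, v, hv, huv⟩ := hW
    obtain ⟨θ, hθ⟩ := exists_pow_q_ne hF
    set b := B u v with hb
    set c := θ * b⁻¹ with hc
    have hx : c • u + v ∈ W := W.add_mem (W.smul_mem c hu) hv
    have h0 := hcon _ hx
    have huu := hcon u hu
    have hvv := hcon v hv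
    have hvu : B v u = σ b := (hB u v).symm
    simp only [map_add, LinearMap.add_apply, map_smul, LinearMap.smul_apply, map_smulₛₗ,
      smul_eq_mul, huu, hvv, hvu, mul_zero, add_zero, zero_add, ← hb] at h0
    have hcb : c * b = θ := by rw [hc]; field_simp
    have h2 : σ c * σ b = θ ^ q := by rw [← map_mul, hcb, hσ]
    rw [hcb, h2] at h0
    apply hθ
    have : θ ^ q = -θ := by linear_combination h0
    rw [this, CharTwo.neg_eq]
  obtain ⟨v, hv, hvv⟩ := h1
  set a := B v v with ha
  have hafix : a ^ q = a := by rw [← hσ, ha, hB]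
  have hainv : (a⁻¹) ^ q = a⁻¹ := by rw [inv_pow, hafix]
  obtain ⟨c, hc⟩ := exists_norm_eq (q := q) a⁻¹ hainv
  refine ⟨c • v, W.smul_mem c hv, ?_⟩
  simp only [map_smul, LinearMap.smul_apply, map_smulₛₗ, smul_eq_mul, hσ, ← ha]
  have : c ^ q * (c * a) = c ^ (q + 1) * a := by ring
  rw [this, hc]
  exact inv_mul_cancel₀ hvv

/-- Orthonormal family exhausting `W` modulo its radical. -/
theorem exists_orthonormal_family [FiniteDimensional F V] (hF : Fintype.card F = q ^ 2)
    (hσ : ∀ x, σ x = x ^ q)
    (B : V →ₗ[F] V →ₛₗ[σ] F) (hB : ∀ u v, σ (B u v) = B v u) :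
    ∀ (d : ℕ) (W : Submodule F V), finrank F W = d →
      ∃ (k : ℕ) (u : Fin k → V), (∀ i, u i ∈ W) ∧
        (∀ i j, B (u i) (u j) = if i = j then 1 else 0) ∧
        (∀ w ∈ W, (∀ i, B w (u i) = 0) → ∀ w' ∈ W, B w' w = 0) := by
  intro d
  induction d using Nat.strong_induction_on with
  | _ d ih =>
    intro W hWd
    by_cases hW : ∃ u ∈ W, ∃ v ∈ W, B u v ≠ 0
    · obtain ⟨v, hv, hvv⟩ := exists_unit_vector hF hσ B hB W hW
      set W' : Submodule F V := W ⊓ LinearMap.ker (B.flip v) with hW'
      have hmemW' : ∀ x, x ∈ W' ↔ x ∈ W ∧ B x v = 0 := by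
        intro x
        rw [hW', Submodule.mem_inf, LinearMap.mem_ker, LinearMap.flip_apply]
      have hlt : W' < W := by
        refine lt_of_le_of_ne inf_le_left ?_
        intro heq
        have : v ∈ W' := heq ▸ hv
        rw [hmemW'] at this
        rw [hvv] at this
        exact one_ne_zero this.2
      have hfr : finrank F W' < d := by
        rw [← hWd]; exact Submodule.finrank_lt_finrank_of_lt hlt
      obtain ⟨k, u, hu, hG, hrad⟩ := ih _ hfr W' rfl
      have hvu : ∀ j, B v (u j) = 0 := by
        intro j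
        rw [← hB, ((hmemW' _).1 (hu j)).2, map_zero]
      refine ⟨k + 1, Fin.cons v u, ?_, ?_, ?_⟩
      · intro i
        refine Fin.cases ?_ (fun i => ?_) i
        · simpa using hv
        · simpa using ((hmemW' _).1 (hu i)).1
      · intro i j
        refine Fin.cases ?_ (fun i => ?_) i <;> refine Fin.cases ?_ (fun j => ?_) j
        · simp [hvv]
        · simp only [Fin.cons_zero, Fin.cons_succ, hvu]
          rw [if_neg (Fin.succ_ne_zero j).symm]
        · simp only [Fin.cons_zero, Fin.cons_succ, ((hmemW' _).1 (hu i)).2]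
          rw [if_neg (Fin.succ_ne_zero i)]
        · simp only [Fin.cons_succ, hG, Fin.succ_inj]
      · intro w hw hwu w' hw'
        have hwv : B w v = 0 := by simpa using hwu 0
        have hwW' : w ∈ W' := (hmemW' w).2 ⟨hw, hwv⟩
        have hwu' : ∀ i, B w (u i) = 0 := by
          intro i; simpa using hwu i.succ
        have h3 := hrad w hwW' hwu'
        set w'' := w' - (B w' v) • v with hw''
        have hw''W : w'' ∈ W' := by
          rw [hmemW']
          refine ⟨W.sub_mem hw' (W.smul_mem _ hv), ?_⟩
          rw [hw'', map_sub, LinearMap.sub_apply, map_smul, LinearMap.smul_apply, hvv]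
          simp
        have h4 := h3 w'' hw''W
        have hvw : B v w = 0 := by rw [← hB, hwv, map_zero]
        have h5 : w' = w'' + (B w' v) • v := by rw [hw'']; abel
        rw [h5, map_add, LinearMap.add_apply, h4, map_smul, LinearMap.smul_apply, hvw]
        simp
    · push Not at hW
      refine ⟨0, Fin.elim0, fun i => i.elim0, fun i => i.elim0, ?_⟩
      intro w hw _ w' hw'
      exact hW w' hw' w hw

end Cfsg.Agent.Lib.Helper43
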