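import Mathlib

set_option autoImplicit false

/-! Group-theoretic lemmas: commutator subgroup from commuting generators modulo a normal
subgroup; uniqueness of an index two subgroup. -/

namespace Cfsg.Agent.Lib.Helper43

open scoped commutatorElement

/-- if generators commute pairwise modulo the normal subgroup `N`, the commutator subgroup lies in
`N` -/
theorem commutator_le_of_gens_commute {G : Type*} [Group G] (N : Subgroup G) [hN : N.Normal]
    (R : Set G) (hR : Subgroup.closure R = ⊤)
    (hcomm : ∀ a ∈ R, ∀ b ∈ R, a * b * a⁻¹ * b⁻¹ ∈ N) : commutator G ≤ N := by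
  have h1 : ∀ a ∈ R, ∀ b ∈ R, (QuotientGroup.mk' N a) * (QuotientGroup.mk' N b) =
      (QuotientGroup.mk' N b) * (QuotientGroup.mk' N a) := by
    intro a ha b hb
    have h := (QuotientGroup.eq_one_iff (N := N) (a * b * a⁻¹ * b⁻¹)).2 (hcomm a ha b hb)
    have h' : (QuotientGroup.mk' N a) * (QuotientGroup.mk' N b) * (QuotientGroup.mk' N a)⁻¹ *
        (QuotientGroup.mk' N b)⁻¹ = 1 := by
      rw [← map_inv, ← map_inv, ← map_mul, ← map_mul, ← map_mul]
      exact h
    rw [mul_inv_eq_one, mul_inv_eq_iff_eq_mul] at h'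
    exact h'
  -- every element commutes with the images of the generators
  have h2 : ∀ x : G, ∀ a ∈ R, (QuotientGroup.mk' N a) * (QuotientGroup.mk' N x) =
      (QuotientGroup.mk' N x) * (QuotientGroup.mk' N a) := by
    have hle : Subgroup.closure R ≤
        (Subgroup.centralizer ((QuotientGroup.mk' N) '' R)).comap (QuotientGroup.mk' N) := by
      rw [Subgroup.closure_le]
      intro b hb
      rw [SetLike.mem_coe, Subgroup.mem_comap, Subgroup.mem_centralizer_iff]
      rintro _ ⟨a, ha, rfl⟩
      exact h1 a ha b hb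
    intro x a ha
    have hx : x ∈ Subgroup.closure R := by rw [hR]; exact Subgroup.mem_top x
    have := hle hx
    rw [Subgroup.mem_comap, Subgroup.mem_centralizer_iff] at this
    exact this _ ⟨a, ha, rfl⟩
  -- every element is central modulo `N`
  have h3 : ∀ y : G, QuotientGroup.mk' N y ∈ Subgroup.center (G ⧸ N) := by
    have hle : Subgroup.closure R ≤ (Subgroup.center (G ⧸ N)).comap (QuotientGroup.mk' N) := by
      rw [Subgroup.closure_le]
      intro a ha
      rw [SetLike.mem_coe, Subgroup.mem_comap, Subgroup.mem_center_iff]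
      intro g
      obtain ⟨x, rfl⟩ := QuotientGroup.mk'_surjective N g
      exact (h2 x a ha).symm
    intro y
    have hy : y ∈ Subgroup.closure R := by rw [hR]; exact Subgroup.mem_top y
    exact hle hy
  rw [commutator_def, Subgroup.commutator_le]
  intro x _ y _
  rw [← QuotientGroup.eq_one_iff, commutatorElement_def]
  have hxy := (Subgroup.mem_center_iff.1 (h3 y)) (QuotientGroup.mk' N x)
  have : ((x * y * x⁻¹ * y⁻¹ : G) : G ⧸ N) = (QuotientGroup.mk' N x) * (QuotientGroup.mk' N y) *
      (QuotientGroup.mk' N x)⁻¹ * (QuotientGroup.mk' N y)⁻¹ := by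
    rw [← map_inv, ← map_inv, ← map_mul, ← map_mul, ← map_mul]
    rfl
  rw [this, hxy, mul_inv_cancel_right, mul_inv_cancel]

/-- uniqueness of the subgroup of index two of `S` -/
theorem existsUnique_index_two {G : Type*} [Group G] (S K : Subgroup G) (hKS : K ≤ S)
    (hrel : K.relIndex S = 2)
    (hsq : ∀ H : Subgroup S, H.index = 2 → K.subgroupOf S ≤ H) :
    ∃! H : Subgroup S, H.index = 2 := by
  refine ⟨K.subgroupOf S, hrel, ?_⟩
  intro H hH
  have hle := hsq H hH
  have h1 := Subgroup.relIndex_mul_index hle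
  have hK : (K.subgroupOf S).index = 2 := hrel
  rw [hH, hK] at h1
  have h2 : (K.subgroupOf S).relIndex H = 1 := by omega
  exact le_antisymm (Subgroup.relIndex_eq_one.1 h2) hle

/-- squares of elements of a normal subgroup `S`, and their conjugates, lie in the image of every
index two subgroup of `S` -/
theorem normalClosure_squares_le {G : Type*} [Group G] (S : Subgroup G) [hS : S.Normal]
    (H : Subgroup S) (hH : H.index = 2) :
    Subgroup.normalClosure {y : G | ∃ x ∈ S, y = x * x} ≤ H.map S.subtype := by
  unfold Subgroup.normalClosure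
  rw [Subgroup.closure_le]
  intro a ha
  rw [Group.mem_conjugatesOfSet_iff] at ha
  obtain ⟨b, ⟨x, hx, rfl⟩, hconj⟩ := ha
  obtain ⟨c, rfl⟩ := isConj_iff.1 hconj
  have hy : c * x * c⁻¹ ∈ S := hS.conj_mem x hx c
  have h2 := Subgroup.mul_self_mem_of_index_two hH ⟨c * x * c⁻¹, hy⟩
  refine ⟨_, h2, ?_⟩
  simp only [Subgroup.coe_subtype, Subgroup.coe_mul]
  group

end Cfsg.Agent.Lib.Helper43
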