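import Cfsg.Agent.Lib.Helper43.WittQuad

set_option autoImplicit false

/-! Construction of involutions `1 + N` of a quadratic space in characteristic two from a family
of mutually orthogonal vectors: `N v = ∑ a, B v (w (σ a)) • w a`. -/

namespace Cfsg.Agent.Lib.Helper43

open Module

variable {F V : Type*} [Field F] [AddCommGroup V] [Module F V]
variable (Q : QuadraticForm F V)
variable {κ : Type*} [Fintype κ]

/-- `N v = ∑ a, B v (w (σ a)) • w a` -/
noncomputable def Nfam (w : κ → V) (σ : κ → κ) : V →ₗ[F] V :=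
  ∑ a, (LinearMap.flip (QuadraticMap.polarBilin Q) (w (σ a))).smulRight (w a)

theorem Nfam_apply (w : κ → V) (σ : κ → κ) (v : V) :
    Nfam Q w σ v = ∑ a, QuadraticMap.polarBilin Q v (w (σ a)) • w a := by
  unfold Nfam
  rw [LinearMap.sum_apply]
  refine Finset.sum_congr rfl fun a _ => ?_
  rw [LinearMap.smulRight_apply, LinearMap.flip_apply]

theorem polar_Nfam_left (w : κ → V) (σ : κ → κ) (v x : V) :
    QuadraticMap.polarBilin Q (Nfam Q w σ v) x =
      ∑ a, QuadraticMap.polarBilin Q v (w (σ a)) * QuadraticMap.polarBilin Q (w a) x := by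
  rw [Nfam_apply, map_sum, LinearMap.sum_apply]
  refine Finset.sum_congr rfl fun a _ => ?_
  rw [map_smul, LinearMap.smul_apply, smul_eq_mul]

theorem polar_Nfam_right (w : κ → V) (σ : κ → κ) (v x : V) :
    QuadraticMap.polarBilin Q x (Nfam Q w σ v) =
      ∑ a, QuadraticMap.polarBilin Q v (w (σ a)) * QuadraticMap.polarBilin Q x (w a) := by
  rw [polar_symm, polar_Nfam_left]
  refine Finset.sum_congr rfl fun a _ => ?_
  rw [polar_symm Q (w a) x]

/-- `Q` of a combination of mutually orthogonal vectors -/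
theorem Q_sum_orth [DecidableEq κ] (w : κ → V)
    (horth : ∀ a b, a ≠ b → QuadraticMap.polarBilin Q (w a) (w b) = 0) (c : κ → F)
    (s : Finset κ) : Q (∑ a ∈ s, c a • w a) = ∑ a ∈ s, c a * c a * Q (w a) := by
  induction s using Finset.induction_on with
  | empty => simp
  | insert a s ha ih =>
    rw [Finset.sum_insert ha, Finset.sum_insert ha, Q_add, Q_smul, ih]
    have : QuadraticMap.polarBilin Q (c a • w a) (∑ b ∈ s, c b • w b) = 0 := by
      rw [map_sum]
      apply Finset.sum_eq_zero
      intro b hb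
      have hab : a ≠ b := fun h => ha (h ▸ hb)
      rw [map_smul, map_smul, LinearMap.smul_apply, horth a b hab, smul_zero, smul_zero]
    rw [this, add_zero]

theorem Q_Nfam [DecidableEq κ] (w : κ → V) (σ : κ → κ)
    (horth : ∀ a b, a ≠ b → QuadraticMap.polarBilin Q (w a) (w b) = 0) (v : V) :
    Q (Nfam Q w σ v) =
      ∑ a, QuadraticMap.polarBilin Q v (w (σ a)) * QuadraticMap.polarBilin Q v (w (σ a)) *
        Q (w a) := by
  rw [Nfam_apply]
  exact Q_sum_orth Q w horth _ Finset.univ

section chartwo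

variable [CharP F 2]

theorem polar_self_zero (x : V) : QuadraticMap.polarBilin Q x x = 0 := by
  rw [polar_self', CharTwo.two_eq_zero, zero_mul]

theorem Nfam_sq [DecidableEq κ] (w : κ → V) (σ : κ → κ)
    (horth : ∀ a b, a ≠ b → QuadraticMap.polarBilin Q (w a) (w b) = 0) (v : V) :
    Nfam Q w σ (Nfam Q w σ v) = 0 := by
  rw [Nfam_apply Q w σ (Nfam Q w σ v)]
  apply Finset.sum_eq_zero
  intro c _
  rw [polar_Nfam_left]
  have : ∑ a, QuadraticMap.polarBilin Q v (w (σ a)) * QuadraticMap.polarBilin Q (w a) (w (σ c)) = 0 := by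
    apply Finset.sum_eq_zero
    intro a _
    by_cases h : a = σ c
    · rw [h, polar_self_zero, mul_zero]
    · rw [horth a (σ c) h, mul_zero]
  rw [this, zero_smul]

/-- `1 + N` is an isometry as soon as `Q (N v) + B v (N v) = 0` -/
theorem Q_add_Nfam (w : κ → V) (σ : κ → κ) (v : V)
    (h : Q (Nfam Q w σ v) + QuadraticMap.polarBilin Q v (Nfam Q w σ v) = 0) :
    Q (v + Nfam Q w σ v) = Q v := by
  rw [Q_add]
  linear_combination h

theorem finrank_range_Nfam [FiniteDimensional F V] [DecidableEq κ]
    (hQ : (QuadraticMap.polarBilin Q).Nondegenerate) (w : κ → V) (σ : κ → κ)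
    (hσ : Function.Surjective σ) (hw : LinearIndependent F w) :
    finrank F (LinearMap.range (Nfam Q w σ)) = Fintype.card κ := by
  have hker : LinearMap.ker (Nfam Q w σ) =
      LinearMap.BilinForm.orthogonal (QuadraticMap.polarBilin Q) (Submodule.span F (Set.range w)) := by
    ext v
    rw [LinearMap.mem_ker, LinearMap.BilinForm.mem_orthogonal_iff, Nfam_apply]
    constructor
    · intro h n hn
      have hcoef : ∀ a, QuadraticMap.polarBilin Q v (w (σ a)) = 0 := by
        have := Fintype.linearIndependent_iff.1 hw _ h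
        exact this
      have hall : ∀ b, QuadraticMap.polarBilin Q v (w b) = 0 := by
        intro b
        obtain ⟨a, rfl⟩ := hσ b
        exact hcoef a
      rw [polar_symm]
      induction hn using Submodule.span_induction with
      | mem x hx =>
        obtain ⟨b, rfl⟩ := hx
        exact hall b
      | zero => simp
      | add x y _ _ hx hy => rw [map_add, hx, hy, add_zero]
      | smul c x _ hx => rw [map_smul, hx, smul_zero]
    · intro h
      apply Finset.sum_eq_zero
      intro a _
      have := h (w (σ a)) (Submodule.subset_span ⟨σ a, rfl⟩)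
      rw [polar_symm] at this
      rw [this, zero_smul]
  have h1 := LinearMap.finrank_range_add_finrank_ker (Nfam Q w σ)
  have h2 := LinearMap.BilinForm.finrank_orthogonal hQ (Submodule.span F (Set.range w))
  have h3 : finrank F (Submodule.span F (Set.range w)) = Fintype.card κ :=
    finrank_span_eq_card hw
  have h4 : finrank F (Submodule.span F (Set.range w)) ≤ finrank F V := Submodule.finrank_le _
  rw [hker, h2, h3] at h1
  omega

/-- type `b/c`: `σ = id`, all `w a` of norm one -/
theorem Nfam_id_isometry [DecidableEq κ] (w : κ → V)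
    (horth : ∀ a b, a ≠ b → QuadraticMap.polarBilin Q (w a) (w b) = 0)
    (hnorm : ∀ a, Q (w a) = 1) (v : V) :
    Q (v + Nfam Q w id v) = Q v := by
  apply Q_add_Nfam
  rw [Q_Nfam Q w id horth, polar_Nfam_right, ← Finset.sum_add_distrib]
  apply Finset.sum_eq_zero
  intro a _
  rw [hnorm, mul_one, id]
  exact CharTwo.add_self_eq_zero _

/-- type `a`: `σ = swap`, all `w a` singular -/
theorem Nfam_swap_isometry {j : ℕ} (w : Fin j ⊕ Fin j → V)
    (horth : ∀ a b, a ≠ b → QuadraticMap.polarBilin Q (w a) (w b) = 0)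
    (hsing : ∀ a, Q (w a) = 0) (v : V) :
    Q (v + Nfam Q w Sum.swap v) = Q v := by
  apply Q_add_Nfam
  rw [Q_Nfam Q w Sum.swap horth, polar_Nfam_right]
  have h1 : ∑ a, QuadraticMap.polarBilin Q v (w (Sum.swap a)) *
      QuadraticMap.polarBilin Q v (w (Sum.swap a)) * Q (w a) = 0 := by
    apply Finset.sum_eq_zero
    intro a _
    rw [hsing, mul_zero]
  rw [h1, zero_add, Fintype.sum_sum_type]
  simp only [Sum.swap_inl, Sum.swap_inr]
  rw [← Finset.sum_add_distrib]
  apply Finset.sum_eq_zero
  intro i _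
  rw [mul_comm]
  exact CharTwo.add_self_eq_zero _

theorem Q_Nfam_swap_zero {j : ℕ} (w : Fin j ⊕ Fin j → V)
    (horth : ∀ a b, a ≠ b → QuadraticMap.polarBilin Q (w a) (w b) = 0)
    (hsing : ∀ a, Q (w a) = 0) (v : V) : Q (Nfam Q w Sum.swap v) = 0 := by
  rw [Q_Nfam Q w Sum.swap horth]
  apply Finset.sum_eq_zero
  intro a _
  rw [hsing, mul_zero]

/-- type `b/c` is not alternating -/
theorem exists_Q_Nfam_id_ne_zero [FiniteDimensional F V] [DecidableEq κ]
    (hQ : (QuadraticMap.polarBilin Q).Nondegenerate) (w : κ → V)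
    (horth : ∀ a b, a ≠ b → QuadraticMap.polarBilin Q (w a) (w b) = 0)
    (hnorm : ∀ a, Q (w a) = 1) (hw : LinearIndependent F w) (a0 : κ) :
    ∃ v, Q (Nfam Q w id v) ≠ 0 := by
  -- a vector dual to `w a0`
  have hnot : w a0 ∉ Submodule.span F (w '' {a | a ≠ a0}) := by
    have := hw.notMem_span_image (s := {a | a ≠ a0}) (x := a0) (by simp)
    exact this
  obtain ⟨z, hz1, hz0⟩ := exists_polar_repr Q hQ _ (w a0) hnot
  refine ⟨z, ?_⟩
  rw [Q_Nfam Q w id horth]
  have : ∑ a, QuadraticMap.polarBilin Q z (w (id a)) * QuadraticMap.polarBilin Q z (w (id a)) *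
      Q (w a) = 1 := by
    rw [Finset.sum_eq_single a0]
    · rw [id, hz1, hnorm, mul_one, mul_one]
    · intro b _ hb
      rw [id, hz0 (w b) (Submodule.subset_span ⟨b, hb, rfl⟩), zero_mul, zero_mul]
    · intro h
      exact absurd (Finset.mem_univ a0) h
  rw [this]
  exact one_ne_zero

end chartwo

end Cfsg.Agent.Lib.Helper43
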