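import Cfsg.Agent.Lib.Helper43.MaxSingularGroup
import Cfsg.Agent.Lib.Helper43.OrthSingular

set_option autoImplicit false

/-! Splitting of `O`-classes of involutions of `Ω` into `Ω`-classes, characteristic two. -/

namespace Cfsg.Agent.Lib.Helper43

open Module Matrix Cfsg.Agent.Lib.Helper19

variable {F : Type*} [Field F] {ι : Type} [Fintype ι] [DecidableEq ι]
variable (Q : QuadraticForm F (ι → F))

theorem toLin'_sub_one (t : ↥(Cfsg.isometryGroup F ⇑Q)) :
    Matrix.toLin' (((t : GL ι F) : Matrix ι ι F) - 1) = linOf Q t - LinearMap.id := by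
  unfold linOf
  rw [map_sub, Matrix.toLin'_one]

theorem linOf_apply_inv_os (c : ↥(Cfsg.isometryGroup F ⇑Q)) (v : ι → F) :
    linOf Q c (linOf Q c⁻¹ v) = v := by
  have h := linOf_mul Q c c⁻¹
  rw [mul_inv_cancel, linOf_one] at h
  exact (congrArg (fun l => l v) h).symm

theorem linOf_inv_apply' (c : ↥(Cfsg.isometryGroup F ⇑Q)) (v : ι → F) :
    linOf Q c⁻¹ (linOf Q c v) = v := by
  have h := linOf_mul Q c⁻¹ c
  rw [inv_mul_cancel, linOf_one] at h
  exact (congrArg (fun l => l v) h).symm

/-- conjugation moves the residual space -/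
theorem range_sub_one_conj (t s c : ↥(Cfsg.isometryGroup F ⇑Q)) (h : c * t * c⁻¹ = s) :
    LinearMap.range (linOf Q s - LinearMap.id) =
      (LinearMap.range (linOf Q t - LinearMap.id)).map (linOf Q c) := by
  have hs : ∀ v, linOf Q s v = linOf Q c (linOf Q t (linOf Q c⁻¹ v)) := by
    intro v
    rw [← h, linOf_mul, linOf_mul]
    rfl
  ext y
  simp only [LinearMap.mem_range, Submodule.mem_map, LinearMap.sub_apply, LinearMap.id_apply]
  constructor
  · rintro ⟨v, rfl⟩
    refine ⟨linOf Q t (linOf Q c⁻¹ v) - linOf Q c⁻¹ v, ⟨linOf Q c⁻¹ v, rfl⟩, ?_⟩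
    rw [map_sub, linOf_apply_inv_os, hs]
  · rintro ⟨x, ⟨u, rfl⟩, rfl⟩
    refine ⟨linOf Q c u, ?_⟩
    rw [hs, linOf_inv_apply', map_sub]

theorem splitting_generic [Fintype F] [CharP F 2]
    (hQ : (QuadraticMap.polarBilin Q).Nondegenerate) (hgen : ReflGenerated Q)
    (m : ℕ) (hcard : Fintype.card ι = 2 * m)
    (hns : ∀ W : Submodule F (ι → F), m < finrank F W → ∃ w ∈ W, Q w ≠ 0)
    (t s : ↥(Cfsg.isometryGroup F ⇑Q)) (ht : t * t = 1)
    (htO : t ∈ Cfsg.Omega F ⇑Q) (hconj : IsConj t s) :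
    (¬ ((((t : GL ι F) : Matrix ι ι F) - 1).rank = m ∧
        ∀ v : ι → F, Q (v + Matrix.mulVec ((t : GL ι F) : Matrix ι ι F) v) = 0) →
      ∃ g ∈ Cfsg.Omega F ⇑Q, g * t * g⁻¹ = s) ∧
    (((((t : GL ι F) : Matrix ι ι F) - 1).rank = m ∧
        ∀ v : ι → F, Q (v + Matrix.mulVec ((t : GL ι F) : Matrix ι ι F) v) = 0) →
      ((∃ g ∈ Cfsg.Omega F ⇑Q, g * t * g⁻¹ = s) ↔
        Even (finrank F ↥(LinearMap.range (Matrix.toLin' (((t : GL ι F) : Matrix ι ι F) - 1)) ⊓
          LinearMap.range (Matrix.toLin' (((s : GL ι F) : Matrix ι ι F) - 1)))))) := by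
  have hfix := card_le_two_mul_finrank_fixSpace Q t ht
  have hrk := rank_sub_one_eq ((t : GL ι F) : Matrix ι ι F)
  have hLL : ∀ v, linOf Q t (linOf Q t v) = v := by
    intro v
    have h := linOf_mul Q t t
    rw [ht, linOf_one] at h
    exact (congrArg (fun l => l v) h).symm
  have hfixle : finrank F (fixSpace (linOf Q t)) ≤ Fintype.card ι := by
    have := Submodule.finrank_le (fixSpace (linOf Q t))
    rwa [Module.finrank_fintype_fun_eq_card] at this
  change (((t : GL ι F) : Matrix ι ι F) - 1).rank =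
    Fintype.card ι - finrank F (fixSpace (linOf Q t)) at hrk
  constructor
  · intro hnot
    by_cases hr : (((t : GL ι F) : Matrix ι ι F) - 1).rank = m
    · have : ∃ v : ι → F, Q (v + Matrix.mulVec ((t : GL ι F) : Matrix ι ι F) v) ≠ 0 := by
        by_contra hcon
        push Not at hcon
        exact hnot ⟨hr, hcon⟩
      obtain ⟨v, hv⟩ := this
      rw [← linOf_apply] at hv
      refine exists_conj_mem_Omega Q hQ hgen t s hconj (v + linOf Q t v) hv ?_
      rw [map_add, hLL, add_comm]
    · obtain ⟨w, hwfix, hw⟩ := hns (fixSpace (linOf Q t)) (by omega)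
      exact exists_conj_mem_Omega Q hQ hgen t s hconj w hw ((mem_fixSpace _ _).1 hwfix)
  · rintro ⟨hr, hsing⟩
    rw [toLin'_sub_one, toLin'_sub_one]
    have hRt : IsMaxTS Q (LinearMap.range (linOf Q t - LinearMap.id)) := by
      constructor
      · rintro _ ⟨v, rfl⟩
        have hvv : v + v = 0 := by
          rw [← two_smul F v, CharTwo.two_eq_zero, zero_smul]
        have : (linOf Q t - (LinearMap.id : (ι → F) →ₗ[F] (ι → F))) v = v + linOf Q t v := by
          rw [LinearMap.sub_apply, LinearMap.id_apply]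
          calc linOf Q t v - v = linOf Q t v - v + (v + v) := by rw [hvv, add_zero]
            _ = v + linOf Q t v := by abel
        rw [this, linOf_apply]
        exact hsing v
      · rw [Module.finrank_fintype_fun_eq_card, hcard, ← toLin'_sub_one]
        have : finrank F ↥(LinearMap.range (Matrix.toLin' (((t : GL ι F) : Matrix ι ι F) - 1))) =
            (((t : GL ι F) : Matrix ι ι F) - 1).rank := rfl
        rw [this, hr]
    have hm : finrank F ↥(LinearMap.range (linOf Q t - LinearMap.id)) = m := by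
      rw [← toLin'_sub_one]
      exact hr
    have hmeven : Even m := by
      rw [← hr]
      exact (mem_Omega_iff_even_rank Q hQ hgen t).1 htO
    constructor
    · rintro ⟨g, hgO, hg⟩
      rw [range_sub_one_conj Q t s g hg]
      have h1 := (mem_Omega_iff_even_inf Q hQ hgen hRt g).1 hgO
      rw [hm] at h1
      exact (Nat.even_add.1 h1).1 hmeven
    · intro hev
      obtain ⟨c, hc⟩ := isConj_iff.1 hconj
      refine ⟨c, ?_, hc⟩
      rw [range_sub_one_conj Q t s c hc] at hev
      rw [mem_Omega_iff_even_inf Q hQ hgen hRt c, hm]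
      exact Nat.even_add.2 ⟨fun _ => hev, fun _ => hmeven⟩

end Cfsg.Agent.Lib.Helper43
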