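import Cfsg.Agent.Lib.Helper43.SympClass
import Cfsg.Agent.Lib.Helper43.OrthSplit

set_option autoImplicit false

/-! Conjugacy of involutions of the orthogonal group `O(Q)` in characteristic two: the rank of
`t - 1` and whether `Q (v + t v)` vanishes identically are complete invariants. -/

namespace Cfsg.Agent.Lib.Helper43

open Module Matrix Cfsg.Agent.Lib.Helper19

variable {F : Type*} [Field F] {ι : Type} [Fintype ι] [DecidableEq ι]
variable (Q : QuadraticForm F (ι → F))

/-- the residual map `t - 1` -/
noncomputable def resid (t : ↥(Cfsg.isometryGroup F ⇑Q)) : (ι → F) →ₗ[F] (ι → F) :=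
  linOf Q t - LinearMap.id

theorem resid_apply (t : ↥(Cfsg.isometryGroup F ⇑Q)) (v : ι → F) :
    resid Q t v = linOf Q t v - v := by
  unfold resid
  rw [LinearMap.sub_apply, LinearMap.id_apply]

theorem rank_sub_one_eq_finrank_range (t : ↥(Cfsg.isometryGroup F ⇑Q)) :
    (((t : GL ι F) : Matrix ι ι F) - 1).rank =
      finrank F (LinearMap.range (resid Q t)) := by
  unfold resid
  rw [← toLin'_sub_one]
  rfl

theorem linOf_linOf_of_sq (t : ↥(Cfsg.isometryGroup F ⇑Q)) (ht : t * t = 1) (v : ι → F) :
    linOf Q t (linOf Q t v) = v := by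
  have h := linOf_mul Q t t
  rw [ht, linOf_one] at h
  exact (congrArg (fun l => l v) h).symm

section chartwo

variable [CharP F 2]

theorem vadd_self (v : ι → F) : v + v = 0 := by
  funext i
  exact CharTwo.add_self_eq_zero (v i)

theorem sub_id_sq (t : ↥(Cfsg.isometryGroup F ⇑Q)) (ht : t * t = 1) (v : ι → F) :
    resid Q t (resid Q t v) = 0 := by
  simp only [resid_apply, map_sub, linOf_linOf_of_sq Q t ht]
  have h3 : v - linOf Q t v - (linOf Q t v - v) = (v + v) - (linOf Q t v + linOf Q t v) := by
    abel
  rw [h3, vadd_self, vadd_self, sub_zero]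

theorem polar_alt (v : ι → F) : QuadraticMap.polarBilin Q v v = 0 := by
  rw [polar_self', CharTwo.two_eq_zero, zero_mul]

theorem sub_id_selfadjoint (t : ↥(Cfsg.isometryGroup F ⇑Q)) (ht : t * t = 1) (u v : ι → F) :
    QuadraticMap.polarBilin Q (resid Q t u) v =
      QuadraticMap.polarBilin Q u (resid Q t v) := by
  simp only [resid_apply, LinearMap.sub_apply, map_sub]
  have h := polar_of_isometry Q (linOf Q t) (linOf_isometry Q t) (linOf Q t u) v
  rw [linOf_linOf_of_sq Q t ht] at h
  rw [h]

theorem polar_sub_id (t : ↥(Cfsg.isometryGroup F ⇑Q)) (v : ι → F) :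
    QuadraticMap.polarBilin Q v (resid Q t v) = Q (v + linOf Q t v) := by
  simp only [resid_apply, map_sub]
  rw [polar_alt, sub_zero, Q_add Q v (linOf Q t v), linOf_isometry]
  have : Q v + Q v = 0 := CharTwo.add_self_eq_zero _
  linear_combination -this

/-- conjugacy of involutions in `O(Q)`, characteristic two -/
theorem isConj_iff_invariants [Fintype F]
    (hQ : (QuadraticMap.polarBilin Q).Nondegenerate)
    (t s : ↥(Cfsg.isometryGroup F ⇑Q)) (ht : t * t = 1) (hs : s * s = 1) :
    IsConj t s ↔
      ((((t : GL ι F) : Matrix ι ι F) - 1).rank = (((s : GL ι F) : Matrix ι ι F) - 1).rank ∧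
        ((∀ v, Q (v + linOf Q t v) = 0) ↔ (∀ v, Q (v + linOf Q s v) = 0))) := by
  constructor
  · intro hconj
    obtain ⟨c, hc⟩ := isConj_iff.1 hconj
    have hcinj : Function.Injective (linOf Q c) :=
      isometry_injective Q hQ _ (linOf_isometry Q c)
    constructor
    · rw [rank_sub_one_eq_finrank_range, rank_sub_one_eq_finrank_range]
      unfold resid
      rw [range_sub_one_conj Q t s c hc]
      exact (Submodule.equivMapOfInjective (linOf Q c) hcinj _).finrank_eq
    · have hs' : ∀ v, linOf Q s v = linOf Q c (linOf Q t (linOf Q c⁻¹ v)) := by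
        intro v
        rw [← hc, linOf_mul, linOf_mul]
        rfl
      have key : ∀ v, Q (v + linOf Q s v) = Q (linOf Q c⁻¹ v + linOf Q t (linOf Q c⁻¹ v)) := by
        intro v
        rw [hs']
        conv_lhs => rw [← linOf_apply_inv_os Q c v]
        rw [linOf_inv_apply' Q c, ← map_add, linOf_isometry]
      constructor
      · intro h v
        rw [key]
        exact h _
      · intro h v
        have := h (linOf Q c v)
        rw [key, linOf_inv_apply'] at this
        exact this
  · rintro ⟨hrank, htype⟩
    rw [rank_sub_one_eq_finrank_range, rank_sub_one_eq_finrank_range] at hrank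
    obtain ⟨T, hTiso, hTint⟩ := exists_intertwining_of_invariants (QuadraticMap.polarBilin Q)
      (polar_alt Q) hQ.2 (resid Q t) (resid Q s)
      (sub_id_sq Q t ht) (sub_id_sq Q s hs) (sub_id_selfadjoint Q t ht) (sub_id_selfadjoint Q s hs)
      hrank (by
        constructor
        · intro h v
          rw [polar_sub_id]
          have := h v
          rw [polar_sub_id] at this
          exact htype.1 (fun w => by have := h w; rwa [polar_sub_id] at this) v
        · intro h v
          rw [polar_sub_id]
          exact htype.2 (fun w => by have := h w; rwa [polar_sub_id] at this) v)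
    -- `T` is injective
    have hTinj : Function.Injective T := by
      rw [← LinearMap.ker_eq_bot, LinearMap.ker_eq_bot']
      intro x hx
      apply hQ.2
      intro u
      rw [← hTiso, hx, map_zero]
    have hTint' : ∀ v, T (linOf Q t v) = linOf Q s (T v) := by
      intro v
      have := hTint v
      simp only [resid_apply, map_sub] at this
      exact sub_left_injective this
    obtain ⟨G, hG⟩ : ∃ G : Matrix ι ι F, G = LinearMap.toMatrix' T := ⟨_, rfl⟩
    have hGv : ∀ v, G *ᵥ v = T v := by
      intro v
      rw [hG, LinearMap.toMatrix'_mulVec]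
    have hGunit : IsUnit G := by
      apply Matrix.mulVec_injective_iff_isUnit.1
      intro x y hxy
      rw [hGv, hGv] at hxy
      exact hTinj hxy
    have hGdet : IsUnit G.det := (Matrix.isUnit_iff_isUnit_det G).1 hGunit
    have hTm : ∀ (r : ↥(Cfsg.isometryGroup F ⇑Q)), r * r = 1 →
        ((r : GL ι F) : Matrix ι ι F) * ((r : GL ι F) : Matrix ι ι F) = 1 := by
      intro r hr
      have := congrArg (fun x : ↥(Cfsg.isometryGroup F ⇑Q) => ((x : GL ι F) : Matrix ι ι F)) hr
      simpa using this
    obtain ⟨C, -, hCiso, hCTS⟩ := exists_isometry_conj_of_polar_conj Q hQ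
      ((t : GL ι F) : Matrix ι ι F) ((s : GL ι F) : Matrix ι ι F) G G⁻¹
      (Matrix.mul_nonsing_inv G hGdet) (Matrix.nonsing_inv_mul G hGdet)
      (hTm t ht) (hTm s hs)
      (fun v => by rw [← linOf_apply]; exact linOf_isometry Q t v)
      (fun v => by rw [← linOf_apply]; exact linOf_isometry Q s v)
      (fun u v => by rw [hGv, hGv]; exact hTiso u v)
      (by
        apply Matrix.toLin'.injective
        apply LinearMap.ext
        intro v
        rw [Matrix.toLin'_mul, Matrix.toLin'_mul, LinearMap.comp_apply, LinearMap.comp_apply,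
          Matrix.toLin'_apply, Matrix.toLin'_apply, Matrix.toLin'_apply, Matrix.toLin'_apply,
          hGv, hGv, ← linOf_apply, ← linOf_apply]
        exact hTint' v)
    obtain ⟨c, hc⟩ := exists_ofLin Q hQ (Matrix.toLin' C)
      (fun v => by rw [Matrix.toLin'_apply]; exact hCiso v)
    rw [isConj_iff]
    refine ⟨c, ?_⟩
    rw [mul_inv_eq_iff_eq_mul]
    apply linOf_injective
    rw [linOf_mul, linOf_mul, hc]
    unfold linOf
    rw [← Matrix.toLin'_mul, ← Matrix.toLin'_mul, hCTS]

end chartwo

end Cfsg.Agent.Lib.Helper43
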