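import Cfsg.Agent.Lib.Helper43.InvolConstruct
import Cfsg.Agent.Lib.Helper43.OrthClass

set_option autoImplicit false

/-! Counting conjugacy classes of involutions: a general counting lemma, and the count for the
orthogonal group `O(Q)` in characteristic two in terms of available orthogonal frames. -/

namespace Cfsg.Agent.Lib.Helper43

open Module Matrix Cfsg.Agent.Lib.Helper19

/-- counting lemma: complete invariants + representatives -/
theorem card_invol_classes {G : Type*} [Group G] {I : Type*} (inv : G → I) {J : Type*} [Fintype J]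
    (rep : J → G)
    (hconj : ∀ a b, orderOf a = 2 → orderOf b = 2 → (IsConj a b ↔ inv a = inv b))
    (hrep : ∀ j, orderOf (rep j) = 2)
    (hinj : ∀ j j', inv (rep j) = inv (rep j') → j = j')
    (hsurj : ∀ g, orderOf g = 2 → ∃ j, inv g = inv (rep j)) :
    Nat.card {C : ConjClasses G // ∃ g : G, ConjClasses.mk g = C ∧ orderOf g = 2} =
      Fintype.card J := by
  rw [← Nat.card_eq_fintype_card]
  symm
  apply Nat.card_congr
  refine Equiv.ofBijective (fun j => ⟨ConjClasses.mk (rep j), rep j, rfl, hrep j⟩) ⟨?_, ?_⟩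
  · intro j j' h
    have h1 : ConjClasses.mk (rep j) = ConjClasses.mk (rep j') := congrArg Subtype.val h
    rw [ConjClasses.mk_eq_mk_iff_isConj, hconj _ _ (hrep j) (hrep j')] at h1
    exact hinj j j' h1
  · rintro ⟨C, g, rfl, hg⟩
    obtain ⟨j, hj⟩ := hsurj g hg
    refine ⟨j, ?_⟩
    apply Subtype.ext
    show ConjClasses.mk (rep j) = ConjClasses.mk g
    rw [ConjClasses.mk_eq_mk_iff_isConj, hconj _ _ (hrep j) hg, hj]

theorem orderOf_eq_two_iff {G : Type*} [Group G] (g : G) : orderOf g = 2 ↔ g * g = 1 ∧ g ≠ 1 := by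
  constructor
  · intro h
    constructor
    · have := pow_orderOf_eq_one g
      rw [h, pow_two] at this
      exact this
    · intro h1
      rw [h1, orderOf_one] at h
      exact absurd h (by norm_num)
  · rintro ⟨h1, h2⟩
    exact orderOf_eq_prime (by rw [pow_two]; exact h1) h2

variable {F : Type*} [Field F] {ι : Type} [Fintype ι] [DecidableEq ι]
variable (Q : QuadraticForm F (ι → F))

section chartwo

variable [CharP F 2]

/-- an involution of `O(Q)` from a frame -/
theorem exists_invol_of_Nfam (hQ : (QuadraticMap.polarBilin Q).Nondegenerate)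
    {κ : Type} [Fintype κ] [DecidableEq κ] (w : κ → (ι → F)) (σ : κ → κ)
    (horth : ∀ a b, a ≠ b → QuadraticMap.polarBilin Q (w a) (w b) = 0)
    (hiso : ∀ v, Q (v + Nfam Q w σ v) = Q v) :
    ∃ g : ↥(Cfsg.isometryGroup F ⇑Q), resid Q g = Nfam Q w σ ∧ g * g = 1 := by
  obtain ⟨g, hg⟩ := exists_ofLin Q hQ (LinearMap.id + Nfam Q w σ) (fun v => by
    rw [LinearMap.add_apply, LinearMap.id_apply]; exact hiso v)
  refine ⟨g, ?_, ?_⟩
  · unfold resid
    rw [hg, add_sub_cancel_left]
  · apply linOf_injective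
    rw [linOf_mul, hg, linOf_one]
    apply LinearMap.ext
    intro v
    simp only [LinearMap.comp_apply, LinearMap.add_apply, LinearMap.id_apply, map_add,
      Nfam_sq Q w σ horth, add_zero]
    rw [add_assoc, vadd_self, add_zero]

theorem Q_add_linOf_eq (g : ↥(Cfsg.isometryGroup F ⇑Q)) (v : ι → F) :
    Q (v + linOf Q g v) = Q (resid Q g v) := by
  rw [resid_apply]
  congr 1
  have h : linOf Q g v - v + (v + v) = v + linOf Q g v := by abel
  rw [← h, vadd_self, add_zero]

theorem ne_one_of_rank_pos (g : ↥(Cfsg.isometryGroup F ⇑Q))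
    (h : 0 < (((g : GL ι F) : Matrix ι ι F) - 1).rank) : g ≠ 1 := by
  rintro rfl
  simp at h

theorem rank_pos_of_ne_one (g : ↥(Cfsg.isometryGroup F ⇑Q)) (h : g ≠ 1) :
    0 < (((g : GL ι F) : Matrix ι ι F) - 1).rank := by
  rw [Nat.pos_iff_ne_zero]
  intro h0
  apply h
  apply Subtype.ext
  apply Units.ext
  have h1 : LinearMap.range (((g : GL ι F) : Matrix ι ι F) - 1).mulVecLin = ⊥ :=
    Submodule.finrank_eq_zero.1 h0
  have h2 : (((g : GL ι F) : Matrix ι ι F) - 1).mulVecLin = 0 := LinearMap.range_eq_bot.1 h1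
  have : ((g : GL ι F) : Matrix ι ι F) - 1 = 0 := by
    ext i j
    have := congrFun (congrArg (fun l => l (Pi.single j 1)) h2) i
    rw [Matrix.mulVecLin_apply, Matrix.mulVec_single_one] at this
    exact this
  exact sub_eq_zero.1 this

theorem even_rank_of_alt_orth (hQ : (QuadraticMap.polarBilin Q).Nondegenerate)
    (g : ↥(Cfsg.isometryGroup F ⇑Q)) (hg2 : g * g = 1)
    (halt : ∀ v, Q (v + linOf Q g v) = 0) : Even (((g : GL ι F) : Matrix ι ι F) - 1).rank := by
  rw [rank_sub_one_eq_finrank_range]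
  apply even_rank_of_alt (QuadraticMap.polarBilin Q) (polar_alt Q) hQ.2 (resid Q g)
    (sub_id_sq Q g hg2) (sub_id_selfadjoint Q g hg2)
  intro v
  rw [polar_sub_id]
  exact halt v

theorem two_mul_rank_le_card (g : ↥(Cfsg.isometryGroup F ⇑Q)) (hg2 : g * g = 1) :
    2 * (((g : GL ι F) : Matrix ι ι F) - 1).rank ≤ Fintype.card ι := by
  have hfix := card_le_two_mul_finrank_fixSpace Q g hg2
  have hrk := rank_sub_one_eq ((g : GL ι F) : Matrix ι ι F)
  change (((g : GL ι F) : Matrix ι ι F) - 1).rank =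
    Fintype.card ι - finrank F (fixSpace (linOf Q g)) at hrk
  omega

/-- in the alternating case the residual space is totally singular -/
theorem resid_totallySingular (g : ↥(Cfsg.isometryGroup F ⇑Q))
    (halt : ∀ v, Q (v + linOf Q g v) = 0) :
    ∀ x ∈ LinearMap.range (resid Q g), Q x = 0 := by
  rintro _ ⟨v, rfl⟩
  rw [← Q_add_linOf_eq]
  exact halt v

/-- the number of classes of involutions of `O(Q)`, given frames of all admissible types -/
theorem card_invol_classes_orth [Fintype F]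
    (hQ : (QuadraticMap.polarBilin Q).Nondegenerate) (m amax : ℕ)
    (hcard : Fintype.card ι = 2 * m)
    (hbc : ∀ k : Fin m, ∃ w : Fin (k + 1) → (ι → F), LinearIndependent F w ∧
      (∀ a b, a ≠ b → QuadraticMap.polarBilin Q (w a) (w b) = 0) ∧ ∀ a, Q (w a) = 1)
    (ha : ∀ i : Fin amax, ∃ w : Fin (i + 1) ⊕ Fin (i + 1) → (ι → F), LinearIndependent F w ∧
      (∀ a b, a ≠ b → QuadraticMap.polarBilin Q (w a) (w b) = 0) ∧ ∀ a, Q (w a) = 0)
    (hbound : ∀ g : ↥(Cfsg.isometryGroup F ⇑Q), g * g = 1 →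
      (∀ v, Q (v + linOf Q g v) = 0) → (((g : GL ι F) : Matrix ι ι F) - 1).rank ≤ 2 * amax) :
    Nat.card {C : ConjClasses ↥(Cfsg.isometryGroup F ⇑Q) //
      ∃ g : ↥(Cfsg.isometryGroup F ⇑Q), ConjClasses.mk g = C ∧ orderOf g = 2} = m + amax := by
  classical
  -- representatives
  have hbc' : ∀ k : Fin m, ∃ g : ↥(Cfsg.isometryGroup F ⇑Q), g * g = 1 ∧
      (((g : GL ι F) : Matrix ι ι F) - 1).rank = k + 1 ∧ ¬ (∀ v, Q (v + linOf Q g v) = 0) := by
    intro k
    obtain ⟨w, hw, horth, hnorm⟩ := hbc k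
    obtain ⟨g, hg, hg2⟩ := exists_invol_of_Nfam Q hQ w id horth (Nfam_id_isometry Q w horth hnorm)
    refine ⟨g, hg2, ?_, ?_⟩
    · rw [rank_sub_one_eq_finrank_range, hg,
        finrank_range_Nfam Q hQ w id Function.surjective_id hw, Fintype.card_fin]
    · intro hall
      obtain ⟨v, hv⟩ := exists_Q_Nfam_id_ne_zero Q hQ w horth hnorm hw 0
      apply hv
      rw [← hg, ← Q_add_linOf_eq]
      exact hall v
  have ha' : ∀ i : Fin amax, ∃ g : ↥(Cfsg.isometryGroup F ⇑Q), g * g = 1 ∧
      (((g : GL ι F) : Matrix ι ι F) - 1).rank = 2 * (i + 1) ∧ (∀ v, Q (v + linOf Q g v) = 0) := by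
    intro i
    obtain ⟨w, hw, horth, hsing⟩ := ha i
    obtain ⟨g, hg, hg2⟩ := exists_invol_of_Nfam Q hQ w Sum.swap horth
      (Nfam_swap_isometry Q w horth hsing)
    refine ⟨g, hg2, ?_, ?_⟩
    · rw [rank_sub_one_eq_finrank_range, hg,
        finrank_range_Nfam Q hQ w Sum.swap Sum.swap_leftInverse.surjective hw, Fintype.card_sum,
        Fintype.card_fin]
      ring
    · intro v
      rw [Q_add_linOf_eq, hg]
      exact Q_Nfam_swap_zero Q w horth hsing v
  choose gb hgb2 hgbr hgbt using hbc'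
  choose ga hga2 hgar hgat using ha'
  have hcount := card_invol_classes (G := ↥(Cfsg.isometryGroup F ⇑Q))
    (fun g => ((((g : GL ι F) : Matrix ι ι F) - 1).rank, (∀ v, Q (v + linOf Q g v) = 0)))
    (Sum.elim gb ga) ?_ ?_ ?_ ?_
  · rw [hcount, Fintype.card_sum, Fintype.card_fin, Fintype.card_fin]
  · intro a b hoa hob
    rw [isConj_iff_invariants Q hQ a b ((orderOf_eq_two_iff a).1 hoa).1
      ((orderOf_eq_two_iff b).1 hob).1, Prod.mk.injEq, eq_iff_iff]
  · rintro (k | i)
    · rw [orderOf_eq_two_iff]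
      refine ⟨hgb2 k, ne_one_of_rank_pos Q _ ?_⟩
      simp only [Sum.elim_inl]
      rw [hgbr k]
      omega
    · rw [orderOf_eq_two_iff]
      refine ⟨hga2 i, ne_one_of_rank_pos Q _ ?_⟩
      simp only [Sum.elim_inr]
      rw [hgar i]
      omega
  · rintro (k | i) (k' | i') h
    · simp only [Sum.elim_inl, Prod.mk.injEq] at h
      rw [hgbr k, hgbr k'] at h
      have : (k : ℕ) = k' := by omega
      rw [Fin.ext this]
    · simp only [Sum.elim_inl, Sum.elim_inr, Prod.mk.injEq, eq_iff_iff] at h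
      exact absurd (h.2.2 (hgat i')) (hgbt k)
    · simp only [Sum.elim_inl, Sum.elim_inr, Prod.mk.injEq, eq_iff_iff] at h
      exact absurd (h.2.1 (hgat i)) (hgbt k')
    · simp only [Sum.elim_inr, Prod.mk.injEq] at h
      rw [hgar i, hgar i'] at h
      have : (i : ℕ) = i' := by omega
      rw [Fin.ext this]
  · intro g hg
    obtain ⟨hg2, hg1⟩ := (orderOf_eq_two_iff g).1 hg
    have hpos := rank_pos_of_ne_one Q g hg1
    have hfix := card_le_two_mul_finrank_fixSpace Q g hg2
    have hrk := rank_sub_one_eq ((g : GL ι F) : Matrix ι ι F)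
    change (((g : GL ι F) : Matrix ι ι F) - 1).rank =
      Fintype.card ι - finrank F (fixSpace (linOf Q g)) at hrk
    have hle : (((g : GL ι F) : Matrix ι ι F) - 1).rank ≤ m := by omega
    by_cases halt : ∀ v, Q (v + linOf Q g v) = 0
    · have hb := hbound g hg2 halt
      have hev : Even (((g : GL ι F) : Matrix ι ι F) - 1).rank := by
        rw [rank_sub_one_eq_finrank_range]
        apply even_rank_of_alt (QuadraticMap.polarBilin Q) (polar_alt Q) hQ.2 (resid Q g)
          (sub_id_sq Q g hg2) (sub_id_selfadjoint Q g hg2)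
        intro v
        rw [polar_sub_id]
        exact halt v
      obtain ⟨r, hr⟩ := hev
      have hr1 : 1 ≤ r := by omega
      have hr2 : r - 1 < amax := by omega
      refine ⟨Sum.inr ⟨r - 1, hr2⟩, ?_⟩
      simp only [Sum.elim_inr, Prod.mk.injEq, eq_iff_iff]
      refine ⟨?_, fun _ => hgat _, fun _ => halt⟩
      rw [hgar]
      simp only
      omega
    · have hk : (((g : GL ι F) : Matrix ι ι F) - 1).rank - 1 < m := by omega
      refine ⟨Sum.inl ⟨(((g : GL ι F) : Matrix ι ι F) - 1).rank - 1, hk⟩, ?_⟩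
      simp only [Sum.elim_inl, Prod.mk.injEq, eq_iff_iff]
      refine ⟨?_, fun h => absurd h halt, fun h => absurd h (hgbt _)⟩
      rw [hgbr]
      simp only
      omega

end chartwo

end Cfsg.Agent.Lib.Helper43
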