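import Cfsg.Agent.Lib.Helper43.ReflRank

set_option autoImplicit false

/-! Maximal totally singular subspaces of a hyperbolic space: a reflection changes the dimension
of the intersection with a fixed maximal totally singular subspace by exactly one. -/

namespace Cfsg.Agent.Lib.Helper43

open Module Cfsg.Agent.Lib.Helper19

variable {F V : Type*} [Field F] [AddCommGroup V] [Module F V]
variable (Q : QuadraticForm F V)

/-- `R` is totally singular of half the dimension -/
def IsMaxTS (R : Submodule F V) : Prop := (∀ x ∈ R, Q x = 0) ∧ 2 * finrank F R = finrank F V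

variable {Q}

theorem IsMaxTS.polar_eq_zero {R : Submodule F V} (hR : IsMaxTS Q R) (x y : V) (hx : x ∈ R)
    (hy : y ∈ R) : QuadraticMap.polarBilin Q x y = 0 := by
  have h := Q_add Q x y
  rw [hR.1 _ (R.add_mem hx hy), hR.1 x hx, hR.1 y hy] at h
  linear_combination -h

theorem IsMaxTS.mem_of_perp [FiniteDimensional F V]
    (hQ : (QuadraticMap.polarBilin Q).Nondegenerate) {R : Submodule F V} (hR : IsMaxTS Q R)
    (v : V) (hv : ∀ x ∈ R, QuadraticMap.polarBilin Q x v = 0) : v ∈ R := by
  have hle : R ≤ LinearMap.BilinForm.orthogonal (QuadraticMap.polarBilin Q) R := by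
    intro y hy
    rw [LinearMap.BilinForm.mem_orthogonal_iff]
    intro n hn
    exact hR.polar_eq_zero n y hn hy
  have h1 := LinearMap.BilinForm.finrank_orthogonal hQ R
  have h2 := hR.2
  have heq : R = LinearMap.BilinForm.orthogonal (QuadraticMap.polarBilin Q) R :=
    Submodule.eq_of_le_of_finrank_eq hle (by omega)
  rw [heq, LinearMap.BilinForm.mem_orthogonal_iff]
  exact hv

theorem IsMaxTS.map [FiniteDimensional F V] (hQ : (QuadraticMap.polarBilin Q).Nondegenerate)
    {R : Submodule F V} (hR : IsMaxTS Q R) (g : V →ₗ[F] V) (hg : ∀ v, Q (g v) = Q v) :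
    IsMaxTS Q (R.map g) := by
  constructor
  · rintro _ ⟨x, hx, rfl⟩
    rw [hg, hR.1 x hx]
  · have := (Submodule.equivMapOfInjective g (isometry_injective Q hQ g hg) R).finrank_eq
    rw [← this]
    exact hR.2

/-- value of `x ↦ β x w` on a reflected vector -/
theorem polar_reflLin_self (w x : V) (hw : Q w ≠ 0) :
    QuadraticMap.polarBilin Q (reflLin Q w x) w = - QuadraticMap.polarBilin Q x w := by
  rw [reflLin_apply', map_sub, LinearMap.sub_apply, map_smul, LinearMap.smul_apply, polar_self',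
    smul_eq_mul]
  field_simp
  ring

/-- A reflection changes `dim (R ∩ R')` by exactly one. -/
theorem finrank_inf_map_refl [FiniteDimensional F V]
    (hQ : (QuadraticMap.polarBilin Q).Nondegenerate) {R R' : Submodule F V}
    (hR : IsMaxTS Q R) (hR' : IsMaxTS Q R') (w : V) (hw : Q w ≠ 0) :
    finrank F ↥(R ⊓ R'.map (reflLin Q w)) + 1 = finrank F ↥(R ⊓ R') ∨
      finrank F ↥(R ⊓ R'.map (reflLin Q w)) = finrank F ↥(R ⊓ R') + 1 := by
  obtain ⟨β, hβ⟩ : ∃ β, β = QuadraticMap.polarBilin Q := ⟨_, rfl⟩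
  obtain ⟨φ, hφ⟩ : ∃ φ : Module.Dual F V, φ = LinearMap.flip β w := ⟨_, rfl⟩
  have hφa : ∀ x, φ x = QuadraticMap.polarBilin Q x w := by
    intro x; rw [hφ, hβ, LinearMap.flip_apply]
  have hrφ : ∀ x, φ (reflLin Q w x) = - φ x := by
    intro x; rw [hφa, hφa, polar_reflLin_self w x hw]
  have hrfix : ∀ x, φ x = 0 → reflLin Q w x = x := by
    intro x hx
    rw [reflLin_apply', ← hφa, hx, mul_zero, zero_smul, sub_zero]
  -- step 0
  obtain ⟨x0, hx0R, hx0⟩ : ∃ x0 ∈ R', φ x0 ≠ 0 := by
    by_contra hcon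
    push Not at hcon
    have : w ∈ R' := hR'.mem_of_perp hQ w (fun x hx => by rw [← hφa]; exact hcon x hx)
    exact hw (hR'.1 w this)
  -- the common hyperplane
  have hKeq : R ⊓ R'.map (reflLin Q w) ⊓ LinearMap.ker φ = R ⊓ R' ⊓ LinearMap.ker φ := by
    ext y
    simp only [Submodule.mem_inf, LinearMap.mem_ker, Submodule.mem_map]
    constructor
    · rintro ⟨⟨hyR, x, hx, rfl⟩, hy0⟩
      have hx0' : φ x = 0 := by
        rw [hrφ] at hy0
        exact neg_eq_zero.1 hy0
      rw [hrfix x hx0'] at hyR ⊢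
      exact ⟨⟨hyR, hx⟩, hx0'⟩
    · rintro ⟨⟨hyR, hyR'⟩, hy0⟩
      exact ⟨⟨hyR, y, hyR', hrfix y hy0⟩, hy0⟩
  by_cases hA : ∃ v ∈ R ⊓ R', φ v ≠ 0
  · by_cases hA' : ∃ v ∈ R ⊓ R'.map (reflLin Q w), φ v ≠ 0
    · -- impossible
      exfalso
      obtain ⟨x, hx, hφx⟩ := hA
      obtain ⟨y, hy, hφy⟩ := hA'
      obtain ⟨x', hx', rfl⟩ := hy.2
      have h0 : QuadraticMap.polarBilin Q x (reflLin Q w x') = 0 :=
        hR.polar_eq_zero _ _ hx.1 hy.1
      rw [reflLin_apply', map_sub, map_smul, smul_eq_mul, hR'.polar_eq_zero x x' hx.2 hx', zero_sub,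
        ← hφa, ← hφa] at h0
      rw [hrφ] at hφy
      have hφx' : φ x' ≠ 0 := fun h => hφy (by rw [h, neg_zero])
      have : (Q w)⁻¹ * φ x' * φ x ≠ 0 := mul_ne_zero (mul_ne_zero (inv_ne_zero hw) hφx') hφx
      exact this (neg_eq_zero.1 h0)
    · left
      push Not at hA'
      have h1 := finrank_inf_ker_add_one (R ⊓ R') φ hA
      have h2 : R ⊓ R'.map (reflLin Q w) ⊓ LinearMap.ker φ = R ⊓ R'.map (reflLin Q w) := by
        apply inf_eq_left.2
        intro v hv
        exact hA' v hv
      rw [← hKeq, h2] at h1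
      exact h1
  · push Not at hA
    have hPK : R ⊓ R' ⊓ LinearMap.ker φ = R ⊓ R' := by
      apply inf_eq_left.2
      intro v hv
      exact hA v hv
    by_cases hA' : ∃ v ∈ R ⊓ R'.map (reflLin Q w), φ v ≠ 0
    · right
      have h1 := finrank_inf_ker_add_one (R ⊓ R'.map (reflLin Q w)) φ hA'
      rw [hKeq, hPK] at h1
      exact h1.symm
    · -- impossible by a dimension count
      exfalso
      push Not at hA'
      obtain ⟨K, hK⟩ : ∃ K, K = R' ⊓ LinearMap.ker φ := ⟨_, rfl⟩
      have hKdim : finrank F K + 1 = finrank F R' := by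
        rw [hK]; exact finrank_inf_ker_add_one R' φ ⟨x0, hx0R, hx0⟩
      have hRK : R ⊓ K = R ⊓ R' := by
        rw [hK, ← inf_assoc, hPK]
      have h1 := LinearMap.BilinForm.finrank_orthogonal hQ K
      have h2 := LinearMap.BilinForm.finrank_orthogonal hQ (R ⊓ K)
      have hle : R ⊔ LinearMap.BilinForm.orthogonal (QuadraticMap.polarBilin Q) K ≤
          LinearMap.BilinForm.orthogonal (QuadraticMap.polarBilin Q) (R ⊓ K) := by
        apply sup_le
        · intro y hy
          rw [LinearMap.BilinForm.mem_orthogonal_iff]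
          intro n hn
          exact hR.polar_eq_zero n y hn.1 hy
        · exact LinearMap.BilinForm.orthogonal_le inf_le_right
      have h3 := Submodule.finrank_mono hle
      have h4 := Submodule.finrank_sup_add_finrank_inf_eq R
        (LinearMap.BilinForm.orthogonal (QuadraticMap.polarBilin Q) K)
      have h5 : finrank F ↥(R ⊓ K) ≤ finrank F V := Submodule.finrank_le _
      have h6 : finrank F K ≤ finrank F V := Submodule.finrank_le _
      have h7 := hR.2
      have h8 := hR'.2
      have hlt : finrank F ↥(R ⊓ K) <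
          finrank F ↥(R ⊓ LinearMap.BilinForm.orthogonal (QuadraticMap.polarBilin Q) K) := by
        omega
      have hnle : ¬ (R ⊓ LinearMap.BilinForm.orthogonal (QuadraticMap.polarBilin Q) K ≤ R ⊓ K) := by
        intro hle'
        have := Submodule.finrank_mono hle'
        omega
      obtain ⟨y, hy, hyK⟩ := Set.not_subset.1 hnle
      have hyR : y ∈ R := hy.1
      have hyperp : ∀ n ∈ K, QuadraticMap.polarBilin Q n y = 0 := by
        have : y ∈ LinearMap.BilinForm.orthogonal (QuadraticMap.polarBilin Q) K := hy.2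
        rw [LinearMap.BilinForm.mem_orthogonal_iff] at this
        exact this
      have hyK' : y ∉ K := fun h => hyK ⟨hyR, h⟩
      -- decompose `y = x + c w`
      obtain ⟨c, hc⟩ : ∃ c, c = QuadraticMap.polarBilin Q y x0 * (φ x0)⁻¹ := ⟨_, rfl⟩
      have hxR' : y - c • w ∈ R' := by
        apply hR'.mem_of_perp hQ
        intro z hz
        -- split `z`
        have hz1 : z - (φ z * (φ x0)⁻¹) • x0 ∈ K := by
          rw [hK]
          refine ⟨R'.sub_mem hz (R'.smul_mem _ hx0R), ?_⟩
          show _ ∈ LinearMap.ker φ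
          rw [LinearMap.mem_ker, map_sub, map_smul, smul_eq_mul, mul_assoc, inv_mul_cancel₀ hx0,
            mul_one, sub_self]
        have e1 : QuadraticMap.polarBilin Q (z - (φ z * (φ x0)⁻¹) • x0) (y - c • w) = 0 := by
          have hk0 : φ (z - (φ z * (φ x0)⁻¹) • x0) = 0 := by
            rw [hK] at hz1; exact hz1.2
          rw [map_sub (QuadraticMap.polarBilin Q (z - (φ z * (φ x0)⁻¹) • x0)), hyperp _ hz1,
            map_smul, ← hφa, hk0, smul_zero, sub_zero]
        have e2 : QuadraticMap.polarBilin Q x0 (y - c • w) = 0 := by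
          rw [map_sub, map_smul, ← hφa, smul_eq_mul, hc, polar_symm Q x0 y, mul_assoc,
            inv_mul_cancel₀ hx0, mul_one, sub_self]
        have e3 : z = (z - (φ z * (φ x0)⁻¹) • x0) + (φ z * (φ x0)⁻¹) • x0 := by abel
        rw [e3, map_add, LinearMap.add_apply, e1, map_smul, LinearMap.smul_apply, e2, smul_zero,
          add_zero]
      obtain ⟨x, hx⟩ : ∃ x, x = y - c • w := ⟨_, rfl⟩
      rw [← hx] at hxR'
      have hyx : y = x + c • w := by rw [hx]; abel
      have hQy : c * (c * Q w + φ x) = 0 := by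
        have h := Q_add Q x (c • w)
        rw [← hyx, hR.1 y hyR, hR'.1 x hxR', Q_smul, map_smul, smul_eq_mul, ← hφa] at h
        linear_combination -h
      rcases mul_eq_zero.1 hQy with hc0 | hc1
      · -- `y = x ∈ R'`
        rw [hc0, zero_smul, add_zero] at hyx
        have hyP : y ∈ R ⊓ R' := ⟨hyR, by rw [hyx]; exact hxR'⟩
        apply hyK'
        rw [hK]
        exact ⟨hyP.2, hA y hyP⟩
      · -- `y = r x`
        have hcval : c = - ((Q w)⁻¹ * φ x) := by
          field_simp
          linear_combination hc1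
        have hyr : y = reflLin Q w x := by
          rw [reflLin_apply', ← hφa, hyx, hcval, neg_smul, sub_eq_add_neg]
        have hyP' : y ∈ R ⊓ R'.map (reflLin Q w) := ⟨hyR, x, hxR', hyr.symm⟩
        have hφy := hA' y hyP'
        rw [hyr, hrφ] at hφy
        have hφx : φ x = 0 := neg_eq_zero.1 hφy
        have hc0 : c = 0 := by rw [hcval, hφx, mul_zero, neg_zero]
        rw [hc0, zero_smul, add_zero] at hyx
        have hyP : y ∈ R ⊓ R' := ⟨hyR, by rw [hyx]; exact hxR'⟩
        apply hyK'
        rw [hK]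
        exact ⟨hyP.2, hA y hyP⟩

end Cfsg.Agent.Lib.Helper43
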