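import Cfsg.Agent.Lib.Helper43.MaxSingular
import Cfsg.Agent.Lib.Helper43.Dickson

set_option autoImplicit false

/-! The two classes of maximal totally singular subspaces: for `g ∈ O(Q)` and `R` maximal totally
singular of half the dimension, `dim R + dim (R ∩ gR) ≡ rank (g - 1) mod 2`. -/

namespace Cfsg.Agent.Lib.Helper43

open Module Matrix Cfsg.Agent.Lib.Helper19

section abstract

variable {F V : Type*} [Field F] [AddCommGroup V] [Module F V]
variable {Q : QuadraticForm F V}

theorem parity_inf_map_prod [FiniteDimensional F V]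
    (hQ : (QuadraticMap.polarBilin Q).Nondegenerate) {R : Submodule F V} (hR : IsMaxTS Q R)
    (l : List V) (hl : ∀ u ∈ l, Q u ≠ 0) :
    (finrank F ↥(R ⊓ R.map ((l.map (reflLin Q)).prod)) + finrank F R + l.length) % 2 = 0 := by
  induction l with
  | nil =>
    have h1 : R ⊓ R.map ((([] : List V).map (reflLin Q)).prod) = R := by
      rw [List.map_nil, List.prod_nil]
      have : R.map (1 : Module.End F V) = R := Submodule.map_id R
      rw [this, inf_idem]
    rw [h1, List.length_nil]
    omega
  | cons a t ih =>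
    have ha : Q a ≠ 0 := hl a List.mem_cons_self
    have ht : ∀ u ∈ t, Q u ≠ 0 := fun u hu => hl u (List.mem_cons_of_mem _ hu)
    have ih' := ih ht
    obtain ⟨g, hg⟩ : ∃ g : V →ₗ[F] V, g = (t.map (reflLin Q)).prod := ⟨_, rfl⟩
    rw [← hg] at ih'
    have hgiso : ∀ v, Q (g v) = Q v := by rw [hg]; exact prod_isometry Q t ht
    have hprod : ((a :: t).map (reflLin Q)).prod = reflLin Q a ∘ₗ g := by
      rw [List.map_cons, List.prod_cons, hg]; rfl
    rw [hprod, Submodule.map_comp, List.length_cons]
    have hR' : IsMaxTS Q (R.map g) := hR.map hQ g hgiso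
    rcases finrank_inf_map_refl hQ hR hR' a ha with h | h <;> omega

end abstract

section matrix

variable {F : Type*} [Field F] {ι : Type} [Fintype ι] [DecidableEq ι]
variable (Q : QuadraticForm F (ι → F))

theorem linOf_prod_reflO (l : List (ι → F)) (hl : ∀ u ∈ l, Q u ≠ 0) :
    linOf Q ((l.map (reflO Q)).prod) = (l.map (reflLin Q)).prod := by
  unfold linOf
  rw [val_prod_reflO Q l hl, toLin'_prod_reflectionMatrix]

/-- the parity of `dim R + dim (R ∩ gR)` is the Dickson invariant of `g` -/
theorem parity_inf_map_linOf (hQ : (QuadraticMap.polarBilin Q).Nondegenerate)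
    (hgen : ReflGenerated Q) {R : Submodule F (ι → F)} (hR : IsMaxTS Q R)
    (g : ↥(Cfsg.isometryGroup F ⇑Q)) :
    Even (finrank F R + finrank F ↥(R ⊓ R.map (linOf Q g))) ↔
      Even (((g : GL ι F) : Matrix ι ι F) - 1).rank := by
  obtain ⟨l, hl, rfl⟩ := exists_list_reflO Q hgen g
  have h1 := parity_inf_map_prod hQ hR l hl
  have h2 := rank_parity_prod_reflO Q hQ l hl
  rw [linOf_prod_reflO Q l hl]
  rw [Nat.even_iff, Nat.even_iff]
  omega

theorem mem_Omega_iff_even_inf [Fintype F] [CharP F 2]
    (hQ : (QuadraticMap.polarBilin Q).Nondegenerate)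
    (hgen : ReflGenerated Q) {R : Submodule F (ι → F)} (hR : IsMaxTS Q R)
    (g : ↥(Cfsg.isometryGroup F ⇑Q)) :
    g ∈ Cfsg.Omega F ⇑Q ↔ Even (finrank F R + finrank F ↥(R ⊓ R.map (linOf Q g))) := by
  rw [mem_Omega_iff_even_rank Q hQ hgen, parity_inf_map_linOf Q hQ hgen hR]

end matrix

end Cfsg.Agent.Lib.Helper43
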