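import Mathlib
import Cfsg.Prelude.Def_GeometricClasses
import Cfsg.Agent.Lib.Helper43.OmegaSimple2
import Cfsg.Agent.Lib.Helper50.GeoBridge
import Cfsg.Agent.Lib.Helper36.SLMaxD2

/-!
# `Ω(Q)` preserves no orthogonal decomposition into non-degenerate subspaces (`n ≥ 7`, any `q`, any type)

Uniform argument: `v ∈ D 0` with `Q v ≠ 0`; the sum `U` of the other members has dimension `≥ 3`, so it contains a non-zero singular
`u`; `w = v + u` has the norm of `v` and lies in no member; `Ω` is transitive on the non-zero vectors of a given norm.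
-/

set_option autoImplicit false
set_option linter.unusedSectionVars false

namespace Cfsg.Agent.Lib.Helper43.OEvenN2

open Cfsg Cfsg.Geo Module
open scoped Matrix

variable {F : Type*} [Field F] [Fintype F] {n : ℕ}

theorem omegaGL_not_le_decompositionStabilizer_nondeg (hn : 7 ≤ n) (Q : (Fin n → F) → F)
    (hQ : IsNondegenerateQuadraticForm Q) {t k : ℕ} (D : Fin t → Submodule F (Fin n → F))
    (hD : IsNondegenerateMDecomposition (QuadraticMap.polar Q) k D) :
    ¬ omegaGL Q ≤ decompositionStabilizer D := by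
  classical
  intro hle
  set qf := Cfsg.Agent.Lib.Helper50.geoForm Q hQ with hqf
  have hqfQ : ∀ x, qf x = Q x := fun _ => rfl
  have hnd := Cfsg.Agent.Lib.Helper50.geoForm_nondegenerate Q hQ
  have hdec := hD.decomp
  have ht2 := hdec.two_le
  have hkpos := hdec.pos
  -- dimension count
  have hsum := Cfsg.Agent.Lib.Helper36.SLMax.finrank_eq_sum_of_indep D hdec.indep hdec.iSup_eq_top
  have htk : t * k = n := by
    rw [Module.finrank_fintype_fun_eq_card, Fintype.card_fin] at hsum
    rw [hsum]
    simp [hdec.finrank_eq]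
  have h0t : 0 < t := by omega
  let i0 : Fin t := ⟨0, h0t⟩
  set U : Submodule F (Fin n → F) := ⨆ (j : Fin t) (_ : j ≠ i0), D j with hU
  have hdisj : Disjoint (D i0) U := hdec.indep i0
  have hsup : D i0 ⊔ U = ⊤ := by
    rw [hU, ← iSup_split_single D i0, hdec.iSup_eq_top]
  have hcompl : IsCompl (D i0) U := ⟨hdisj, codisjoint_iff.2 hsup⟩
  have hfr := Submodule.finrank_add_eq_of_isCompl hcompl
  rw [Module.finrank_fintype_fun_eq_card, Fintype.card_fin, hdec.finrank_eq] at hfr
  have hU3 : 3 ≤ finrank F U := by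
    have : 2 * k ≤ t * k := Nat.mul_le_mul_right k ht2
    omega
  -- `v ∈ D i0` non-singular
  have hQ0 : Q 0 = 0 := by
    have := hQ.smul 0 0
    rw [zero_smul, zero_pow two_ne_zero, zero_mul] at this
    exact this
  obtain ⟨v, hvD, hv⟩ : ∃ v ∈ D i0, Q v ≠ 0 := by
    have hne : D i0 ≠ ⊥ := by
      intro h
      have := hdec.finrank_eq i0
      rw [h, finrank_bot] at this
      omega
    obtain ⟨w, hw, hw0⟩ := (Submodule.ne_bot_iff _).1 hne
    obtain ⟨⟨x, hx, hxw⟩, -⟩ := hD.nondegenerate i0 w hw hw0
    by_contra hcon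
    push Not at hcon
    apply hxw
    unfold QuadraticMap.polar
    rw [hcon _ ((D i0).add_mem hx hw), hcon _ hx, hcon _ hw]
    ring
  have hv0 : v ≠ 0 := fun h => hv (by rw [h]; exact hQ0)
  -- `u ∈ U` singular non-zero
  obtain ⟨u, huU, hu0', hu⟩ := Cfsg.Agent.Lib.Helper43.exists_singular_mem_notMem qf U ⊥ (by rw [finrank_bot]; omega)
  have hu0 : u ≠ 0 := fun h => hu0' (by rw [h]; exact Submodule.zero_mem _)
  have huQ : Q u = 0 := hu
  -- orthogonality
  have hpol : QuadraticMap.polar Q v u = 0 := by
    have hb := hQ.polar_bilinear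
    let K : Submodule F (Fin n → F) :=
      { carrier := {x | QuadraticMap.polar Q v x = 0}
        add_mem' := fun {a b} ha hb' => by
          show QuadraticMap.polar Q v (a + b) = 0
          rw [hb.add_right, ha, hb', add_zero]
        zero_mem' := by
          show QuadraticMap.polar Q v 0 = 0
          unfold QuadraticMap.polar
          rw [add_zero, hQ0]; ring
        smul_mem' := fun c x hx => by
          show QuadraticMap.polar Q v (c • x) = 0
          rw [hb.smul_right, hx, mul_zero] }
    have hUK : U ≤ K := by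
      rw [hU]
      refine iSup_le fun j => iSup_le fun hj => ?_
      intro x hx
      exact hD.orthogonal i0 j (Ne.symm hj) v hvD x hx
    exact hUK huU
  set w := v + u with hw
  have hwQ : Q w = Q v := by
    have : QuadraticMap.polar Q v u = Q (v + u) - Q v - Q u := rfl
    rw [hpol, huQ] at this
    rw [hw]
    linear_combination -this
  have hw0 : w ≠ 0 := by
    intro h
    have hvU : v ∈ U := by
      have : v = -u := eq_neg_of_add_eq_zero_left h
      rw [this]
      exact U.neg_mem huU
    have := Submodule.disjoint_def.1 hdisj v hvD hvU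
    exact hv0 this
  -- transitivity of `Ω`
  obtain ⟨g, hgΩ, hgv⟩ := Cfsg.Agent.Lib.Helper43.exists_Omega_map qf hnd
    (by rw [Fintype.card_fin]; exact hn) v w hv0 hw0 (by rw [hqfQ, hqfQ, hwQ])
  have hgmem : ((g : ↥(Cfsg.isometryGroup F Q)) : GL (Fin n) F) ∈ omegaGL Q :=
    Cfsg.Agent.Lib.Helper50.coe_mem_omegaGL Q g hgΩ
  obtain ⟨σ, hσ⟩ := hle hgmem
  have hgw : w ∈ D (σ i0) := by
    rw [← hσ i0]
    refine ⟨v, hvD, ?_⟩
    rw [← hgv, Cfsg.Agent.Lib.Helper43.linOf_apply, Matrix.toLin'_apply]
  by_cases hj : σ i0 = i0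
  · rw [hj] at hgw
    have huD : u ∈ D i0 := by
      have : u = w - v := by rw [hw]; abel
      rw [this]
      exact (D i0).sub_mem hgw hvD
    exact hu0 (Submodule.disjoint_def.1 hdisj u huD huU)
  · have hwU : w ∈ U := by
      rw [hU]
      exact Submodule.mem_iSup_of_mem (σ i0) (Submodule.mem_iSup_of_mem hj hgw)
    have hvU : v ∈ U := by
      have : v = w - u := by rw [hw]; abel
      rw [this]
      exact U.sub_mem hwU huU
    exact hv0 (Submodule.disjoint_def.1 hdisj v hvD hvU)

end Cfsg.Agent.Lib.Helper43.OEvenN2
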