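import Mathlib
import Cfsg.Prelude.Def_GeometricClasses
import Cfsg.Agent.Lib.Helper46.AschEDefs
import Cfsg.Agent.Lib.Helper66.OPlus10X13
import Cfsg.Agent.Lib.Helper08.OPlus10X11
import Cfsg.Agent.Lib.Helper39.OPlus10X9c
import Cfsg.Agent.Lib.Helper67.OPlus10X8
import Cfsg.Agent.Lib.Helper08.OPlus10X12
import Cfsg.Agent.Lib.Helper80.OPlus10X10
import Cfsg.Agent.Lib.Helper20.OPlus10X9d
import Cfsg.Agent.Lib.Helper68.OPlus10X9b
import Cfsg.Agent.Lib.Helper46.AschEMain
import Cfsg.Agent.Lib.Helper43.OEvenN2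
import Cfsg.Agent.Lib.Helper81.OEvenXX12
import Cfsg.Agent.Lib.Helper60.OEvenXX3
import Cfsg.Agent.Lib.Helper27.OEvenXX1
import Cfsg.Agent.Lib.Helper01.OPlus10X9a
import Cfsg.Agent.Lib.Helper04.OPlus10X7
import Cfsg.Agent.Lib.Helper94.OPlus10X2
import Cfsg.Agent.Lib.Helper09.OFamilies
import Cfsg.Agent.Lib.Helper19.OEvenType
import Cfsg.Agent.Lib.Helper51.OEvenN5
import Cfsg.Agent.Lib.Helper80.OEvenXX2
import Cfsg.Agent.Lib.Helper08.OOddMaxGlue

/-!
# Hub for the row S5847 (Omega_10^+ maximal subgroups): the leaf statements, wired to the delivered leaves.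
Spec with sketches: `notes/S5847_keystones.lean.txt`.  Row architect: helper43.
-/

set_option autoImplicit false
set_option linter.unusedSectionVars false
set_option linter.style.haveILetI false

namespace Cfsg.Agent.Lib.Helper43.OPlus10Hub

open Cfsg Cfsg.Geo Cfsg.Agent.Lib.Helper46.AschE
open scoped Matrix Kronecker MatrixGroups

variable {F : Type*} [Field F] [Fintype F] {n : ℕ}

/-! ## EXTERNAL leaves (other packs; restated here only so that the glue compiles) -/

/-- OEvenX X1 (582621). -/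
theorem exists_perp_of_isNondegenerateOn (Q : (Fin n → F) → F) (hQ : IsNondegenerateQuadraticForm Q)
    (W : Submodule F (Fin n → F)) (hW : IsNondegenerateOn (QuadraticMap.polar Q) W) :
    ∃ W' : Submodule F (Fin n → F), IsNondegenerateOn (QuadraticMap.polar Q) W' ∧
      Module.finrank F W + Module.finrank F W' = n ∧
      subspaceStabilizer W ⊓ isometryGroup F Q = subspaceStabilizer W' ⊓ isometryGroup F Q :=
  Cfsg.Agent.Lib.Helper27.OEvenX.exists_perp_of_isNondegenerateOn Q hQ W hW

/-- OEvenX X3 (582623). -/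
theorem nonmax_plusPlane_small (hn : 5 ≤ n) (Q : (Fin n → F) → F) (hQ : IsNondegenerateQuadraticForm Q)
    (hq : Fintype.card F ≤ 3) (W : Submodule F (Fin n → F)) (hdim : Module.finrank F W = 2)
    (hW : IsNondegenerateOn (QuadraticMap.polar Q) W) (hplus : IsPlusTypeOn Q W) :
    ∃ K : Subgroup (GL (Fin n) F), subspaceStabilizer W ⊓ omegaGL Q < K ∧ K < omegaGL Q :=
  Cfsg.Agent.Lib.Helper60.OEvenX.nonmax_plusPlane_small hn Q hQ hq W hdim hW hplus

/-- OEvenX X12 (582632). -/
theorem not_isSymplecticForm_of_odd {k : ℕ} (hk : Odd k) (f : (Fin k → F) → (Fin k → F) → F) :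
    ¬ IsSymplecticForm f :=
  Cfsg.Agent.Lib.Helper81.OEvenX.not_isSymplecticForm_of_odd hk f

/-- N2 for isometric orthogonal decompositions (helper43 `OEvenN2`). -/
theorem omegaGL_not_le_decompositionStabilizer_orth (hn : 7 ≤ n) (Q : (Fin n → F) → F)
    (hQ : IsNondegenerateQuadraticForm Q) {t k : ℕ} (D : Fin t → Submodule F (Fin n → F))
    (hD : IsOrthogonalMDecomposition Q k D) : ¬ omegaGL Q ≤ decompositionStabilizer D :=
  Cfsg.Agent.Lib.Helper43.OEvenN2.omegaGL_not_le_decompositionStabilizer_nondeg hn Q hQ D hD.decomp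

/-- N2 for non-degenerate pairs (helper43 `OEvenN2`). -/
theorem omegaGL_not_le_decompositionStabilizer_pair (hn : 7 ≤ n) (Q : (Fin n → F) → F)
    (hQ : IsNondegenerateQuadraticForm Q) {k : ℕ} (D : Fin 2 → Submodule F (Fin n → F))
    (hD : IsNondegenerateMDecomposition (QuadraticMap.polar Q) k D) :
    ¬ omegaGL Q ≤ decompositionStabilizer D :=
  Cfsg.Agent.Lib.Helper43.OEvenN2.omegaGL_not_le_decompositionStabilizer_nondeg hn Q hQ D hD

/-! ## ROW-SPECIFIC leaves : keystones 584701 - 584711 -/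

/-- **K-OPlus10-X2** (584701).  A non-degenerate subspace `W` of half the dimension and `W^⊥` form a decomposition `D = ![W, W^⊥]`
(`V = W ⊕ W^⊥`, both non-degenerate for `B = polar Q`, orthogonal); an isometry stabilising `W` stabilises `W^⊥`, hence `D` (trivial
permutation).  (perp: `Helper46.AschOBasic.perpQ`, helper43 `orthC`, the perp leaf OEvenX X1 of helper27.) -/
theorem half_pair (Q : (Fin n → F) → F) (hQ : IsNondegenerateQuadraticForm Q) {M : ℕ} (hn : n = 2 * M) (hM : 0 < M)
    (W : Submodule F (Fin n → F)) (hW : IsNondegenerateOn (QuadraticMap.polar Q) W) (hdim : Module.finrank F W = M) :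
    ∃ D : Fin 2 → Submodule F (Fin n → F), D 0 = W ∧ IsNondegenerateMDecomposition (QuadraticMap.polar Q) M D ∧
      subspaceStabilizer W ⊓ isometryGroup F Q ≤ decompositionStabilizer D :=
  Cfsg.Agent.Lib.Helper94.OPlus10.half_pair Q hQ hn hM W hW hdim

/-- **K-OPlus10-X7** (584702).  `q` odd, `n = 2 M`, `M` odd, plus type: two orthogonal non-degenerate `M`-spaces are isometric iff
`q ≡ 1 mod 4`.  (⇒: `Helper19.OEvenType.isPlusTypeOn_top_iff_of_even_decomposition_of_odd` with `t = 2`.  ⇐: non-degenerate quadratic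
spaces of the same dimension over a finite field of odd order are isometric iff their discriminants agree modulo squares
(`Helper50.IsometryDisc`); if `D 0`, `D 1` are not isometric then `disc Q = disc (D 0) * disc (D 1)` is a non-square, so
(`isPlusTypeOn_top_iff_gram` in an adapted basis) plus type forces `(-1)^M = -1` to be a non-square, i.e. `q ≡ 3 mod 4`.) -/
theorem pair_isometric_iff (h2 : (2 : F) ≠ 0) {M : ℕ} (hn : n = 2 * M) (hM : Odd M) (Q : (Fin n → F) → F)
    (hQ : IsNondegenerateQuadraticForm Q) (hplus : IsPlusTypeOn Q ⊤)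
    (D : Fin 2 → Submodule F (Fin n → F)) (hD : IsNondegenerateMDecomposition (QuadraticMap.polar Q) M D) :
    AreIsometricFor Q (D 0) (D 1) ↔ Fintype.card F % 4 = 1 :=
  Cfsg.Agent.Lib.Helper04.OPlus10.pair_isometric_iff h2 hn hM Q hQ hplus D hD

/-- **K-OPlus10-X8** (584703).  Any `q`.  An orthogonal sum of an ODD number `t` of isometric non-degenerate planes is of plus type only
if the planes are of plus type.  (If the planes are anisotropic: two isometric anisotropic planes `N ⊥ N` form a hyperbolic 4-space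
(Witt index 2), so `t = 2 s + 1` of them have Witt index `t - 1`: not plus.  `Helper19.OEvenType.not_plus_of_minusType`,
`Helper50.WittMain`.  `q` odd alternative: discriminants, `isPlusTypeOn_top_iff_gram` + `exists_basis_gram_pow`.) -/
theorem planes_plus_of_odd_decomposition (Q : (Fin n → F) → F) (hQ : IsNondegenerateQuadraticForm Q) {t : ℕ} (ht : Odd t)
    (D : Fin t → Submodule F (Fin n → F)) (hD : IsOrthogonalMDecomposition Q 2 D) (hplus : IsPlusTypeOn Q ⊤) :
    ∀ i, IsPlusTypeOn Q (D i) :=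
  Cfsg.Agent.Lib.Helper67.OPlus10.planes_plus_of_odd_decomposition Q hQ ht D hD hplus

/-- **K-OPlus10-X9a** (584704).  `q = 2`, `t` odd hyperbolic planes: each `D i = ⟨e, f⟩` (`Q e = Q f = 0`, `B e f = 1`) has exactly one
non-singular vector `n i = e + f`; an isometry permuting the `D i` permutes the `n i`, so it fixes `v = ∑ i, n i`, and
`Q v = t = 1` (the `n i` are pairwise orthogonal). -/
theorem planes_two (hq : Fintype.card F = 2) (Q : (Fin n → F) → F) (hQ : IsNondegenerateQuadraticForm Q) {t : ℕ} (ht : Odd t)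
    (D : Fin t → Submodule F (Fin n → F)) (hD : IsOrthogonalMDecomposition Q 2 D) (hplus : ∀ i, IsPlusTypeOn Q (D i)) :
    ∃ v : Fin n → F, Q v ≠ 0 ∧
      decompositionStabilizer D ⊓ isometryGroup F Q ≤ subspaceStabilizer (Submodule.span F {v}) :=
  Cfsg.Agent.Lib.Helper01.OPlus10.planes_two hq Q hQ ht D hD hplus

/-- **K-OPlus10-X9b** (584705).  `q = 3`, `t` odd hyperbolic planes `D i = ⟨e i, f i⟩`: the vectors of `D i` with `Q = 1` are
`± (e i + f i)`, those with `Q = -1` are `± (e i - f i)`.  `W₊ := span {w ∈ ⋃ D i | Q w = 1}`, `W₋ := span {w ∈ ⋃ D i | Q w = -1}`: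
orthogonal, non-degenerate of dimension `t` each, `W₊ ⊕ W₋ = V`, preserved by every isometry permuting the `D i`.  Not isometric:
`W₊ ≅ t⟨1⟩`, `W₋ ≅ t⟨-1⟩`, discriminants differ by `(-1)^t = -1`, a non-square in `F₃` (`Helper50.IsometryDisc`; or: an isometry
`W₊ ≃ W₋` would make `IsOrthogonalMDecomposition Q t ![W₊, W₋]`, and then `Helper19.OEvenType.isPlusTypeOn_top_iff_of_even_decomposition_of_odd`
(`n = 2 t`, `t` odd, `Q` is plus by `plus_of_decomposition_plus` / directly) gives `3 % 4 ≠ 3`). -/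
theorem planes_three (hq : Fintype.card F = 3) (Q : (Fin n → F) → F) (hQ : IsNondegenerateQuadraticForm Q) {t : ℕ} (ht : Odd t)
    (D : Fin t → Submodule F (Fin n → F)) (hD : IsOrthogonalMDecomposition Q 2 D) (hplus : ∀ i, IsPlusTypeOn Q (D i)) :
    ∃ D' : Fin 2 → Submodule F (Fin n → F), IsNondegenerateMDecomposition (QuadraticMap.polar Q) t D' ∧
      ¬ AreIsometricFor Q (D' 0) (D' 1) ∧
      decompositionStabilizer D ⊓ isometryGroup F Q ≤ decompositionStabilizer D' :=
  Cfsg.Agent.Lib.Helper68.OPlus10.planes_three hq Q hQ ht D hD hplus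

/-- **K-OPlus10-X9c** (584706).  `q = 4`, hyperbolic planes `D i = ⟨e i, f i⟩` (`Q (a e + b f) = a b`): the vectors of `D i` with `Q = 1`
are `e + f`, `ω e + ω² f`, `ω² e + ω f`; with `0` they form an `F₂`-plane `L i` (their sum is `0`), spanning `D i` over `F`, on which `Q`
takes values in `F₂ = {0, 1}`.  `V₀ = ⨁ L i` is an `F₂`-form of `V` with `Q (V₀) ⊆ F₂` (orthogonal sum); an isometry permuting the `D i`
permutes the sets `{w ∈ D i | Q w = 1}`, so it preserves `V₀`: it is `P g₀ P⁻¹` with `g₀ ∈ GL_n(F₂)`, columns of `P` = an `F₂`-basis of `V₀`.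
`F₀ :=` the prime subfield (`⊥ : Subfield F`, `Nat.card = 2`). -/
theorem planes_four (hq : Fintype.card F = 4) (Q : (Fin n → F) → F) (hQ : IsNondegenerateQuadraticForm Q) {t : ℕ}
    (D : Fin t → Submodule F (Fin n → F)) (hD : IsOrthogonalMDecomposition Q 2 D) (hplus : ∀ i, IsPlusTypeOn Q (D i)) :
    ∃ (F₀ : Subfield F) (P : GL (Fin n) F), Nat.card F₀ = 2 ∧
      IsQuadFormRationalStructure (fun v : Fin n → F => (1 : F) * Q v) F₀ P ∧
      decompositionStabilizer D ⊓ isometryGroup F Q ≤ subfieldSubgroup F₀ P :=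
  Cfsg.Agent.Lib.Helper39.OPlus10.planes_four hq Q hQ D hD hplus

/-- **K-OPlus10-X9d** (584707).  `q = 5`, hyperbolic planes `D i = ⟨e i, f i⟩`: the vectors of `D i` with `Q = 1` are `± (e + f)`,
`± (2 e + 3 f)`, two orthogonal lines (`B (e + f) (2 e + 3 f) = 3 + 2 = 0`).  `D'` := these `2 t` lines: pairwise orthogonal,
non-degenerate, isometric (each spanned by a vector of norm 1), independent, spanning; an isometry permuting the `D i` permutes the
sets `{w ∈ D i | Q w = 1}`, hence the lines. -/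
theorem planes_five (hq : Fintype.card F = 5) (Q : (Fin n → F) → F) (hQ : IsNondegenerateQuadraticForm Q) {t : ℕ}
    (D : Fin t → Submodule F (Fin n → F)) (hD : IsOrthogonalMDecomposition Q 2 D) (hplus : ∀ i, IsPlusTypeOn Q (D i)) :
    ∃ D' : Fin (t * 2) → Submodule F (Fin n → F), IsOrthogonalMDecomposition Q 1 D' ∧
      decompositionStabilizer D ⊓ isometryGroup F Q ≤ decompositionStabilizer D' :=
  Cfsg.Agent.Lib.Helper20.OPlus10.planes_five hq Q hQ D hD hplus

/-- **K-OPlus10-X10** (584708).  Characteristic 2: a self-adjoint quadratic field forces `4 ∣ n` (so none when `n / 2` is odd).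
Sketch.  `B = polar Q` is alternating.  Pick `θ ∈ E` not scalar, `θ² = a θ + b` with `x² + a x + b` irreducible over `F`, `a ≠ 0`, `b ≠ 0`.
`ψ x := B (θ x) x` is additive (`B (θ x) y + B (θ y) x = 2 B (θ x) y = 0`) with `ψ (c x) = c² ψ x`, and
`ψ (θ x) = B (θ² x) (θ x) = b ψ x`; computing `ψ (θ² x)` as `ψ (θ (θ x)) = b² ψ x` and as `ψ (a θ x + b x) = a² b ψ x + b² ψ x` gives
`ψ = 0`.  Induction on `E`-stable subspaces `W` on which `B` is non-degenerate (`4 ∣ finrank W`): for `x ≠ 0` in `W` pick `y ∈ W` with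
`B x y = 1`; on `P = span {x, θ x, y, θ y}` the Gram matrix of `B` has Pfaffian `s² + a s + b ≠ 0` (`s = B (θ x) y`), so `P` is `E`-stable,
4-dimensional, non-degenerate, and `W = P ⊕ (P^⊥ ∩ W)` with `P^⊥ ∩ W` again `E`-stable (self-adjointness) and non-degenerate. -/
theorem four_dvd_of_selfAdjoint_quadratic_char_two (h2 : (2 : F) = 0) (Q : (Fin n → F) → F)
    (hQ : IsNondegenerateQuadraticForm Q) (E : Subalgebra F (Matrix (Fin n) (Fin n) F)) (hE : IsFieldSubalgebra 2 E)
    (hsa : IsSelfAdjointFor (QuadraticMap.polar Q) E) : 4 ∣ n :=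
  Cfsg.Agent.Lib.Helper80.OPlus10.four_dvd_of_selfAdjoint_quadratic_char_two h2 Q hQ E hE hsa

/-- **K-OPlus10-X11** (584709).  `n = 10`, any `q`, `E ≅ F_{q^5}` self-adjoint for `B = polar Q`, `Q` of plus type: the normaliser of `E`
in the isometry group permutes two complementary totally singular 5-spaces (the two singular `E`-lines of the hyperbolic
`E`-plane `V`).
Sketch.  `V` is 2-dimensional over `E`.  `S := {x | ∀ λ ∈ E, Q (λ x) = 0}` is stable under `E` and under `N(E) ∩ I` (`g λ g⁻¹ ∈ E`).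
For `x ∈ S`, `x ≠ 0`, `E x` is a totally singular 5-space.  (i) `S ≠ {0}`: otherwise count singular vectors: every `E`-line `E x`
(there are `q^5 + 1`) carries the form `λ ↦ Q (λ x)`, which has exactly `q^4 - 1` non-zero zeros [`q` odd: its polar form is
`(λ, μ) ↦ B (λ μ x) x = Tr(λ μ c)`, non-degenerate on the 5-dim space `E` unless identically zero; `q` even: every `E`-line is totally
isotropic for `B` (as in X10: `ψ_λ x := B (λ x) x` is additive, and `Tr`-type argument / `r` odd gives `ψ_λ = 0`), so `λ ↦ Q (λ x)` is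
additive and `c²`-homogeneous, non-zero, with kernel a hyperplane]; total `(q^5 + 1)(q^4 - 1)`, but a plus-type form on `F^10` has
`(q^5 - 1)(q^4 + 1)` non-zero singular vectors (`Helper08.QuadCount`).  (ii) take `x ∈ S`, `x ≠ 0`, `L₁ = E x = L₁^⊥`; the same count
forces `|S| = 2 q^5 - 1 > q^5`, so there is `z ∈ S ∖ L₁`; `L₂ = E z`, `L₁ ∩ L₂ = 0` (distinct `E`-lines), `S = L₁ ∪ L₂` and `N(E) ∩ I`
permutes `{L₁, L₂}`.  (Alternative for (ii): for `y ∉ L₁` solve `y + λ x ∈ S`: `λ ↦ (μ ↦ B (μ λ x) y)` is a bijection `E → Hom_F(E, F)`.) -/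
theorem field_five_le_tsPair (Q : (Fin 10 → F) → F) (hQ : IsNondegenerateQuadraticForm Q) (hplus : IsPlusTypeOn Q ⊤)
    (E : Subalgebra F (Matrix (Fin 10) (Fin 10) F)) (hE : IsFieldSubalgebra 5 E)
    (hsa : IsSelfAdjointFor (QuadraticMap.polar Q) E) :
    ∃ D : Fin 2 → Submodule F (Fin 10 → F), IsMDecomposition 5 D ∧ (∀ i, IsTotallySingularQuad Q (D i)) ∧
      subalgebraNormalizer E ⊓ isometryGroup F Q ≤ decompositionStabilizer D :=
  Cfsg.Agent.Lib.Helper08.OPlus10.field_five_le_tsPair Q hQ hplus E hE hsa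

/-- **K-OPlus10-X12** (584710).  Unitary type: `E` quadratic, the adjoint induces the non-trivial automorphism, every `k ∈ E` is a
similarity of `Q`.  Then `Q` is an orthogonal sum of `n / 2` anisotropic planes `E x` (`Q (λ x) = c(λ) Q x`, `c(λ) ≠ 0` for `λ ≠ 0`; pick `x`
with `Q x ≠ 0`, `E x` is non-degenerate and `E`-stable, so is `(E x)^⊥` by adjoint-closedness; induct), hence (two anisotropic planes make
a hyperbolic 4-space; all anisotropic planes over a finite field are isometric) of plus type iff `n / 2` is even.  Only the direction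
below is needed for S5847.  (Alternative: count singular vectors.) -/
theorem not_plus_of_unitary_type {M : ℕ} (hn : n = 2 * M) (hM : Odd M) (Q : (Fin n → F) → F)
    (hQ : IsNondegenerateQuadraticForm Q) (E : Subalgebra F (Matrix (Fin n) (Fin n) F)) (hE : IsFieldSubalgebra 2 E)
    (hac : IsAdjointClosedFor (QuadraticMap.polar Q) E) (hnsa : ¬ IsSelfAdjointFor (QuadraticMap.polar Q) E)
    (hsim : ∀ k ∈ E, ∃ c : F, ∀ v : Fin n → F, Q (k *ᵥ v) = c * Q v) : ¬ IsPlusTypeOn Q ⊤ :=
  Cfsg.Agent.Lib.Helper08.OPlus10.not_plus_of_unitary_type hn hM Q hQ E hE hac hnsa hsim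

/-- **K-OPlus10-X13** (584711).  `q` odd, `polar Q ≅ c • f₁ ⊗ f₂` with `f₁` symmetric on `F²`, `f₂` symmetric on `F⁵`, `Q` of plus type.
`disc Q = c^10 disc(f₁)^5 disc(f₂)^2`, so plus type (`isPlusTypeOn_top_iff_gram`, `M = 5`) forces `- disc f₁` to be a square: `f₁` has
exactly two isotropic lines `⟨x₁⟩, ⟨x₂⟩`.  `D i := P (x i ⊗ F⁵)` (transported along `e`): totally singular (`2 Q v = B v v`),
5-dimensional, complementary.  An element of the tensor subgroup is `P (A ⊗ₖ B) P⁻¹` (reindexed); if it is an isometry of `Q` then `A` is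
a similarity of `f₁` (compare Gram matrices, `f₂ ≠ 0`; cf. the SpAsch / AschO tensor leaves `KronSim`), so `A` permutes the two
isotropic lines and the element permutes `D 0, D 1`. -/
theorem tensor_two_five_le_tsPair (h2 : (2 : F) ≠ 0) (Q : (Fin 10 → F) → F) (hQ : IsNondegenerateQuadraticForm Q)
    (hplus : IsPlusTypeOn Q ⊤) (e : Fin 10 ≃ Fin 2 × Fin 5) (P : GL (Fin 10) F)
    (f₁ : (Fin 2 → F) → (Fin 2 → F) → F) (f₂ : (Fin 5 → F) → (Fin 5 → F) → F)
    (h₁ : IsSymmetricForm f₁) (h₂ : IsSymmetricForm f₂)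
    (hT : IsTensorFormStructure id (QuadraticMap.polar Q) f₁ f₂ e P) :
    ∃ D : Fin 2 → Submodule F (Fin 10 → F), IsMDecomposition 5 D ∧ (∀ i, IsTotallySingularQuad Q (D i)) ∧
      tensorProductSubgroup 2 5 e P ⊓ isometryGroup F Q ≤ decompositionStabilizer D :=
  Cfsg.Agent.Lib.Helper66.OPlus10.tensor_two_five_le_tsPair h2 Q hQ hplus e P f₁ f₂ h₁ h₂ hT



end Cfsg.Agent.Lib.Helper43.OPlus10Hub
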