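import Mathlib
import Cfsg.Prelude.Def_GeometricClasses
import Cfsg.Agent.Lib.Helper43.OPlus10Hub

/-!
# Glue for the row S5847 (maximal subgroups of Omega_10^+(q)).  Row architect: helper43.
-/

set_option autoImplicit false
set_option linter.unusedSectionVars false
set_option linter.style.haveILetI false

namespace Cfsg.Agent.Lib.Helper43.OPlus10

open Cfsg Cfsg.Geo Cfsg.Agent.Lib.Helper46.AschE Cfsg.Agent.Lib.Helper43.OPlus10Hub
open scoped Matrix Kronecker MatrixGroups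

variable {F : Type*} [Field F] [Fintype F] {n : ℕ}

/-! ## GLUE -/

open Cfsg.Agent.Lib.Helper08.OOddMax (eq_inf_of_le false_of_le_nonmax omegaGL_le_isometryGroup)
open Cfsg.Agent.Lib.Helper51.OEvenN (omegaGL_not_le_subspaceStabilizer omegaGL_not_le_subalgebraNormalizer
  omegaGL_not_le_subfieldSubgroup)
open Cfsg.Agent.Lib.Helper80.OEvenX (odd_card_of_odd_finrank)
open Cfsg.Agent.Lib.Helper09.OFam (tsPair_stabilizer_le eq_stabilizer_of_maximal_of_le maximal_ts_codim_one)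

/-- The conclusion of S5847. -/
def Goal (Q : (Fin 10 → F) → F) (H : Subgroup (GL (Fin 10) F)) : Prop :=
    (∃ W : Submodule F (Fin 10 → F), W ≠ ⊥ ∧ Cfsg.Geo.IsTotallySingularQuad Q W ∧ Module.finrank F W ≠ 4 ∧ H = Cfsg.Geo.subspaceStabilizer W ⊓ Cfsg.Geo.omegaGL Q) ∨
    (Odd (Fintype.card F) ∧ ∃ W : Submodule F (Fin 10 → F), W ≠ ⊥ ∧ W ≠ ⊤ ∧ Odd (Module.finrank F W) ∧ 2 * Module.finrank F W ≠ 10 ∧ Cfsg.Geo.IsNondegenerateOn (QuadraticMap.polar Q) W ∧ H = Cfsg.Geo.subspaceStabilizer W ⊓ Cfsg.Geo.omegaGL Q) ∨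
    (∃ W : Submodule F (Fin 10 → F), Module.finrank F W = 2 ∧ Cfsg.Geo.IsNondegenerateOn (QuadraticMap.polar Q) W ∧ ¬ Cfsg.Geo.IsPlusTypeOn Q W ∧ H = Cfsg.Geo.subspaceStabilizer W ⊓ Cfsg.Geo.omegaGL Q) ∨
    (4 ≤ Fintype.card F ∧ ∃ W : Submodule F (Fin 10 → F), Module.finrank F W = 2 ∧ Cfsg.Geo.IsNondegenerateOn (QuadraticMap.polar Q) W ∧ Cfsg.Geo.IsPlusTypeOn Q W ∧ H = Cfsg.Geo.subspaceStabilizer W ⊓ Cfsg.Geo.omegaGL Q) ∨
    (∃ W : Submodule F (Fin 10 → F), Module.finrank F W = 4 ∧ Cfsg.Geo.IsNondegenerateOn (QuadraticMap.polar Q) W ∧ H = Cfsg.Geo.subspaceStabilizer W ⊓ Cfsg.Geo.omegaGL Q) ∨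
    (¬ Odd (Fintype.card F) ∧ ∃ v : (Fin 10 → F), Q v ≠ 0 ∧ H = Cfsg.Geo.subspaceStabilizer (Submodule.span F {v}) ⊓ Cfsg.Geo.omegaGL Q) ∨
    ((∃ p : ℕ, p.Prime ∧ Fintype.card F = p ∧ (p % 4 = 1)) ∧ ∃ D : Fin 10 → Submodule F (Fin 10 → F), Cfsg.Geo.IsOrthogonalMDecomposition Q 1 D ∧ H = Cfsg.Geo.decompositionStabilizer D ⊓ Cfsg.Geo.omegaGL Q) ∨
    (7 ≤ Fintype.card F ∧ ∃ D : Fin 5 → Submodule F (Fin 10 → F), Cfsg.Geo.IsOrthogonalMDecomposition Q 2 D ∧ H = Cfsg.Geo.decompositionStabilizer D ⊓ Cfsg.Geo.omegaGL Q) ∨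
    (Fintype.card F % 4 = 1 ∧ ∃ D : Fin 2 → Submodule F (Fin 10 → F), Cfsg.Geo.IsOrthogonalMDecomposition Q 5 D ∧ H = Cfsg.Geo.decompositionStabilizer D ⊓ Cfsg.Geo.omegaGL Q) ∨
    (Fintype.card F % 4 = 3 ∧ ∃ D : Fin 2 → Submodule F (Fin 10 → F), Cfsg.Geo.IsNondegenerateMDecomposition (QuadraticMap.polar Q) 5 D ∧ ¬ Cfsg.Geo.AreIsometricFor Q (D 0) (D 1) ∧ H = Cfsg.Geo.decompositionStabilizer D ⊓ Cfsg.Geo.omegaGL Q) ∨
    (Odd (Fintype.card F) ∧ ∃ K : Subalgebra F (Matrix (Fin 10) (Fin 10) F), Cfsg.Geo.IsFieldSubalgebra 2 K ∧ Cfsg.Geo.IsSelfAdjointFor (QuadraticMap.polar Q) K ∧ H = Cfsg.Geo.subalgebraNormalizer K ⊓ Cfsg.Geo.omegaGL Q) ∨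
    (∃ (F₀ : Subfield F) (r : ℕ) (P : Matrix.GeneralLinearGroup (Fin 10) F) (ζ : F), r.Prime ∧ Fintype.card F = Nat.card F₀ ^ r ∧ ζ ≠ 0 ∧ Cfsg.Geo.IsQuadFormRationalStructure (fun v : Fin 10 → F => ζ * Q v) F₀ P ∧ H = Cfsg.Geo.subfieldSubgroup F₀ P ⊓ Cfsg.Geo.omegaGL Q) ∨
    Cfsg.Geo.InOrthogonalResidualClass H

section goals
variable {Q : (Fin 10 → F) → F} {H : Subgroup (GL (Fin 10) F)}
theorem goal1 (h : ∃ W : Submodule F (Fin 10 → F), W ≠ ⊥ ∧ IsTotallySingularQuad Q W ∧ Module.finrank F W ≠ 4 ∧ H = subspaceStabilizer W ⊓ omegaGL Q) : Goal Q H := Or.inl h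
theorem goal2 (h : Odd (Fintype.card F) ∧ ∃ W : Submodule F (Fin 10 → F), W ≠ ⊥ ∧ W ≠ ⊤ ∧ Odd (Module.finrank F W) ∧ 2 * Module.finrank F W ≠ 10 ∧ IsNondegenerateOn (QuadraticMap.polar Q) W ∧ H = subspaceStabilizer W ⊓ omegaGL Q) : Goal Q H := Or.inr (Or.inl h)
theorem goal3 (h : ∃ W : Submodule F (Fin 10 → F), Module.finrank F W = 2 ∧ IsNondegenerateOn (QuadraticMap.polar Q) W ∧ ¬ IsPlusTypeOn Q W ∧ H = subspaceStabilizer W ⊓ omegaGL Q) : Goal Q H := Or.inr (Or.inr (Or.inl h))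
theorem goal4 (h : 4 ≤ Fintype.card F ∧ ∃ W : Submodule F (Fin 10 → F), Module.finrank F W = 2 ∧ IsNondegenerateOn (QuadraticMap.polar Q) W ∧ IsPlusTypeOn Q W ∧ H = subspaceStabilizer W ⊓ omegaGL Q) : Goal Q H := Or.inr (Or.inr (Or.inr (Or.inl h)))
theorem goal5 (h : ∃ W : Submodule F (Fin 10 → F), Module.finrank F W = 4 ∧ IsNondegenerateOn (QuadraticMap.polar Q) W ∧ H = subspaceStabilizer W ⊓ omegaGL Q) : Goal Q H := Or.inr (Or.inr (Or.inr (Or.inr (Or.inl h))))
theorem goal6 (h : ¬ Odd (Fintype.card F) ∧ ∃ v : (Fin 10 → F), Q v ≠ 0 ∧ H = subspaceStabilizer (Submodule.span F {v}) ⊓ omegaGL Q) : Goal Q H := Or.inr (Or.inr (Or.inr (Or.inr (Or.inr (Or.inl h)))))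
theorem goal7 (h : (∃ p : ℕ, p.Prime ∧ Fintype.card F = p ∧ (p % 4 = 1)) ∧ ∃ D : Fin 10 → Submodule F (Fin 10 → F), IsOrthogonalMDecomposition Q 1 D ∧ H = decompositionStabilizer D ⊓ omegaGL Q) : Goal Q H := Or.inr (Or.inr (Or.inr (Or.inr (Or.inr (Or.inr (Or.inl h))))))
theorem goal8 (h : 7 ≤ Fintype.card F ∧ ∃ D : Fin 5 → Submodule F (Fin 10 → F), IsOrthogonalMDecomposition Q 2 D ∧ H = decompositionStabilizer D ⊓ omegaGL Q) : Goal Q H := Or.inr (Or.inr (Or.inr (Or.inr (Or.inr (Or.inr (Or.inr (Or.inl h)))))))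
theorem goal9 (h : Fintype.card F % 4 = 1 ∧ ∃ D : Fin 2 → Submodule F (Fin 10 → F), IsOrthogonalMDecomposition Q 5 D ∧ H = decompositionStabilizer D ⊓ omegaGL Q) : Goal Q H := Or.inr (Or.inr (Or.inr (Or.inr (Or.inr (Or.inr (Or.inr (Or.inr (Or.inl h))))))))
theorem goal10 (h : Fintype.card F % 4 = 3 ∧ ∃ D : Fin 2 → Submodule F (Fin 10 → F), IsNondegenerateMDecomposition (QuadraticMap.polar Q) 5 D ∧ ¬ AreIsometricFor Q (D 0) (D 1) ∧ H = decompositionStabilizer D ⊓ omegaGL Q) : Goal Q H := Or.inr (Or.inr (Or.inr (Or.inr (Or.inr (Or.inr (Or.inr (Or.inr (Or.inr (Or.inl h)))))))))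
theorem goal11 (h : Odd (Fintype.card F) ∧ ∃ K : Subalgebra F (Matrix (Fin 10) (Fin 10) F), IsFieldSubalgebra 2 K ∧ IsSelfAdjointFor (QuadraticMap.polar Q) K ∧ H = subalgebraNormalizer K ⊓ omegaGL Q) : Goal Q H := Or.inr (Or.inr (Or.inr (Or.inr (Or.inr (Or.inr (Or.inr (Or.inr (Or.inr (Or.inr (Or.inl h))))))))))
theorem goal12 (h : ∃ (F₀ : Subfield F) (r : ℕ) (P : Matrix.GeneralLinearGroup (Fin 10) F) (ζ : F), r.Prime ∧ Fintype.card F = Nat.card F₀ ^ r ∧ ζ ≠ 0 ∧ IsQuadFormRationalStructure (fun v : Fin 10 → F => ζ * Q v) F₀ P ∧ H = subfieldSubgroup F₀ P ⊓ omegaGL Q) : Goal Q H := Or.inr (Or.inr (Or.inr (Or.inr (Or.inr (Or.inr (Or.inr (Or.inr (Or.inr (Or.inr (Or.inr (Or.inl h)))))))))))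
theorem goal13 (h : InOrthogonalResidualClass H) : Goal Q H := Or.inr (Or.inr (Or.inr (Or.inr (Or.inr (Or.inr (Or.inr (Or.inr (Or.inr (Or.inr (Or.inr (Or.inr h)))))))))))
end goals

/-! ### small facts -/

theorem two_ne_zero_of_odd_card (h : Odd (Fintype.card F)) : (2 : F) ≠ 0 := by
  intro h2
  have hc : ringChar F = 2 := CharP.ringChar_of_prime_eq_zero Nat.prime_two (by exact_mod_cast h2)
  rw [FiniteField.even_card_iff_char_two] at hc
  rcases h with ⟨k, hk⟩
  omega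

theorem two_eq_zero_of_not_odd_card (h : ¬ Odd (Fintype.card F)) : (2 : F) = 0 := by
  rw [Nat.not_odd_iff_even, Nat.even_iff, ← FiniteField.even_card_iff_char_two] at h
  have := CharP.cast_eq_zero F (ringChar F)
  rw [h] at this
  exact_mod_cast this

theorem card_ne_six : Fintype.card F ≠ 6 := by
  intro h
  obtain ⟨p, -, k, hp, hk⟩ := FiniteField.card' F
  rw [h] at hk
  have h2 : 2 ∣ (p : ℕ) ^ (k : ℕ) := ⟨3, by rw [← hk]⟩
  have h3 : 3 ∣ (p : ℕ) ^ (k : ℕ) := ⟨2, by rw [← hk]⟩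
  have e2 := (Nat.prime_dvd_prime_iff_eq Nat.prime_two hp).1 (Nat.Prime.dvd_of_dvd_pow Nat.prime_two h2)
  have e3 := (Nat.prime_dvd_prime_iff_eq Nat.prime_three hp).1 (Nat.Prime.dvd_of_dvd_pow Nat.prime_three h3)
  omega

theorem areIsometricFor_refl (Q : (Fin n → F) → F) (W : Submodule F (Fin n → F)) : AreIsometricFor Q W W :=
  ⟨LinearEquiv.refl F W, fun _ => rfl⟩

theorem areIsometricFor_symm {Q : (Fin n → F) → F} {W W' : Submodule F (Fin n → F)} (h : AreIsometricFor Q W W') :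
    AreIsometricFor Q W' W := by
  obtain ⟨e, he⟩ := h
  refine ⟨e.symm, fun w => ?_⟩
  have := he (e.symm w)
  rw [LinearEquiv.apply_symm_apply] at this
  exact this.symm

theorem Q_zero {Q : (Fin n → F) → F} (hQ : IsNondegenerateQuadraticForm Q) : Q 0 = 0 := by
  have := hQ.smul 0 0
  rw [zero_smul, zero_pow two_ne_zero, zero_mul] at this
  exact this

theorem finrank_fun10 : Module.finrank F (Fin 10 → F) = 10 := by
  rw [Module.finrank_fintype_fun_eq_card, Fintype.card_fin]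

theorem ne_bot_of_finrank_pos {W : Submodule F (Fin n → F)} (h : 0 < Module.finrank F W) : W ≠ ⊥ := by
  rintro rfl
  rw [finrank_bot] at h
  exact lt_irrefl _ h

theorem ne_top_of_finrank_lt {W : Submodule F (Fin 10 → F)} (h : Module.finrank F W < 10) : W ≠ ⊤ := by
  rintro rfl
  rw [finrank_top, finrank_fun10] at h
  exact lt_irrefl _ h

theorem mul_eq_of_isMDecomposition {t k : ℕ} (D : Fin t → Submodule F (Fin 10 → F)) (hD : IsMDecomposition k D) :
    t * k = 10 := by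
  have h := Cfsg.Agent.Lib.Helper36.SLMax.finrank_eq_sum_of_indep D hD.indep hD.iSup_eq_top
  rw [finrank_fun10] at h
  rw [h]
  simp [hD.finrank_eq]

theorem dvd_of_isFieldSubalgebra {r : ℕ} (K : Subalgebra F (Matrix (Fin 10) (Fin 10) F)) (hK : IsFieldSubalgebra r K) :
    r ∣ 10 := by
  have hfield : IsField K :=
    { exists_pair_ne := ⟨0, 1, zero_ne_one⟩
      mul_comm := fun x y => Subtype.ext (hK.comm x x.2 y y.2)
      mul_inv_cancel := fun {a} ha => by
        obtain ⟨y, hy, hxy⟩ := hK.inv a a.2 (fun h => ha (Subtype.ext h))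
        exact ⟨⟨y, hy⟩, Subtype.ext hxy⟩ }
  letI : Field K := hfield.toField
  have h1 := Cfsg.Agent.Lib.Helper63.SLMax.finrank_dvd_of_algHom (F := F) (L := K) (V := Fin 10 → F)
    ((Matrix.toLinAlgEquiv' : Matrix (Fin 10) (Fin 10) F ≃ₐ[F] Module.End F (Fin 10 → F)).toAlgHom.comp K.val)
  rw [hK.finrank_eq, finrank_fun10] at h1
  exact h1

/-- the stabiliser of a pair of totally singular 5-spaces -/
theorem goal_of_tsPair (Q : (Fin 10 → F) → F) (hQ : IsNondegenerateQuadraticForm Q)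
    (H : Subgroup (GL (Fin 10) F)) (hH : IsMaximalIn (omegaGL Q) H)
    (D : Fin 2 → Submodule F (Fin 10 → F)) (hD : IsMDecomposition 5 D) (hts : ∀ i, IsTotallySingularQuad Q (D i))
    (hle : H ≤ decompositionStabilizer D) : Goal Q H := by
  have hn : 7 ≤ Fintype.card (Fin 10) := by simp
  have h24 : Fintype.card F ≠ 2 ∨ Fintype.card (Fin 10) ≠ 4 := Or.inr (by simp)
  have h1 := tsPair_stabilizer_le Q hQ h24 5 (by decide) D hD hts
  have hD0 : D 0 ≠ ⊥ := ne_bot_of_finrank_pos (by rw [hD.finrank_eq]; norm_num)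
  have := eq_stabilizer_of_maximal_of_le Q hQ hn H hH (D 0) hD0 (hts 0) ((le_inf hle hH.1.le).trans h1)
  exact goal1 ⟨D 0, hD0, hts 0, by rw [hD.finrank_eq]; norm_num, this⟩

/-- a non-degenerate plane -/
theorem goal_of_plane (Q : (Fin 10 → F) → F) (hQ : IsNondegenerateQuadraticForm Q)
    (H : Subgroup (GL (Fin 10) F)) (hH : IsMaximalIn (omegaGL Q) H)
    (W : Submodule F (Fin 10 → F)) (hdim : Module.finrank F W = 2) (hW : IsNondegenerateOn (QuadraticMap.polar Q) W)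
    (hle : H ≤ subspaceStabilizer W) : Goal Q H := by
  have h0 : W ≠ ⊥ := ne_bot_of_finrank_pos (by rw [hdim]; norm_num)
  have h1 : W ≠ ⊤ := ne_top_of_finrank_lt (by rw [hdim]; norm_num)
  have hHW := eq_inf_of_le hH hle (omegaGL_not_le_subspaceStabilizer (by norm_num) Q hQ W h0 h1)
  by_cases hp : IsPlusTypeOn Q W
  · by_cases hq : 4 ≤ Fintype.card F
    · exact goal4 ⟨hq, W, hdim, hW, hp, hHW⟩
    · exfalso
      obtain ⟨K, hK1, hK2⟩ := nonmax_plusPlane_small (by norm_num) Q hQ (by omega) W hdim hW hp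
      exact false_of_le_nonmax hH (le_inf hle hH.1.le) ⟨K, hK1, hK2⟩
  · exact goal3 ⟨W, hdim, hW, hp, hHW⟩

theorem row (Q : (Fin 10 → F) → F) (hQ : IsNondegenerateQuadraticForm Q) (hplus : IsPlusTypeOn Q ⊤)
    (H : Subgroup (GL (Fin 10) F)) (hH : IsMaximalIn (omegaGL Q) H) : Goal Q H := by
  have hn7 : (7 : ℕ) ≤ 10 := by norm_num
  have hcard10 : 7 ≤ Fintype.card (Fin 10) := by simp
  have hΩI : omegaGL Q ≤ isometryGroup F Q := omegaGL_le_isometryGroup Q
  have hHI : H ≤ isometryGroup F Q := hH.1.le.trans hΩI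
  have key_sub : ∀ W : Submodule F (Fin 10 → F), W ≠ ⊥ → W ≠ ⊤ → H ≤ subspaceStabilizer W →
      H = subspaceStabilizer W ⊓ omegaGL Q := fun W h0 h1 hle =>
    eq_inf_of_le hH hle (omegaGL_not_le_subspaceStabilizer hn7 Q hQ W h0 h1)
  rcases Cfsg.Agent.Lib.Helper46.AschE.aschbacher_orth_even (by norm_num) Q hQ H hHI with ⟨X, hX, hHX⟩ | hres
  swap
  · exact goal13 hres
  have hle : H ≤ X := le_sup_left.trans hHX
  have hleI : H ≤ X ⊓ isometryGroup F Q := le_inf hle hHI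
  rcases hX with ⟨W, hW0, hW, rfl⟩ | ⟨W, hW0, hW1, hW, rfl⟩ | ⟨v, h2, hv, rfl⟩ | ⟨t, k, D, ht, hk1, hD, rfl⟩ |
    ⟨k, D, hD, hts, rfl⟩ | ⟨r, E, hr, hE, hsa, rfl⟩ | ⟨E, hE, hac, hnsa, hsim, rfl⟩ |
    ⟨n₁, n₂, e, P, f₁, f₂, hn₁, hn₁₂, hf, hT, rfl⟩ | ⟨F₀, r, P, ζ, hr, hF, hζ, hrat, rfl⟩ |
    ⟨R, r, m, hRΔ, hspan, hR, hrq, htr, hexp, hm, hnrm, hcen, hcard, rfl⟩ | ⟨m, t, e, P, hm, ht, hm2, rfl⟩
  · -- (1a) totally singular
    have hHW := eq_stabilizer_of_maximal_of_le Q hQ hcard10 H hH W hW0 hW hle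
    by_cases hd : Module.finrank F W = 4
    · obtain ⟨W', hW'0, hW', hdim', hHW'⟩ := maximal_ts_codim_one Q hQ hcard10 hplus H hH W hW
        (by rw [hd]; simp) hHW
      refine goal1 ⟨W', hW'0, hW', ?_, hHW'⟩
      rw [Fintype.card_fin] at hdim'
      omega
    · exact goal1 ⟨W, hW0, hW, hd, hHW⟩
  · -- (1b) non-degenerate
    have hd1 : 0 < Module.finrank F W := by
      rw [Module.finrank_pos_iff_exists_ne_zero]
      obtain ⟨w, hw, hw0⟩ := (Submodule.ne_bot_iff W).1 hW0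
      exact ⟨⟨w, hw⟩, fun h => hw0 (congrArg Subtype.val h)⟩
    have hd9 : Module.finrank F W < 10 := by
      have := Submodule.finrank_lt hW1
      rwa [finrank_fun10] at this
    rcases Nat.even_or_odd (Module.finrank F W) with hev | hodd
    · -- even dimension
      obtain ⟨W', hW', hsum, hst⟩ := exists_perp_of_isNondegenerateOn Q hQ W hW
      have hle' : H ≤ subspaceStabilizer W' := by
        have : H ≤ subspaceStabilizer W' ⊓ isometryGroup F Q := by rw [← hst]; exact hleI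
        exact this.trans inf_le_left
      obtain ⟨c, hc⟩ := hev
      have hc' : c = 1 ∨ c = 2 ∨ c = 3 ∨ c = 4 := by omega
      rcases hc' with rfl | rfl | rfl | rfl
      · exact goal_of_plane Q hQ H hH W (by omega) hW hle
      · exact goal5 ⟨W, by omega, hW, key_sub W hW0 hW1 hle⟩
      · have hd' : Module.finrank F W' = 4 := by omega
        exact goal5 ⟨W', hd', hW', key_sub W' (ne_bot_of_finrank_pos (by omega)) (ne_top_of_finrank_lt (by omega)) hle'⟩
      · exact goal_of_plane Q hQ H hH W' (by omega) hW' hle'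
    · -- odd dimension
      have hqodd := odd_card_of_odd_finrank Q hQ W hW hodd
      by_cases h5 : 2 * Module.finrank F W = 10
      · have hdim5 : Module.finrank F W = 5 := by omega
        obtain ⟨D, hD0, hD, hst⟩ := half_pair Q hQ (M := 5) (by norm_num) (by norm_num) W hW hdim5
        have hleD : H ≤ decompositionStabilizer D := hleI.trans hst
        have hN := omegaGL_not_le_decompositionStabilizer_pair hn7 Q hQ D hD
        have hHD := eq_inf_of_le hH hleD hN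
        have hiff := pair_isometric_iff (two_ne_zero_of_odd_card hqodd) (M := 5) (by norm_num) (by decide) Q hQ hplus D hD
        by_cases hiso : AreIsometricFor Q (D 0) (D 1)
        · have hq1 := hiff.1 hiso
          have hOD : IsOrthogonalMDecomposition Q 5 D := by
            refine ⟨hD, fun i j => ?_⟩
            fin_cases i <;> fin_cases j
            · exact areIsometricFor_refl Q _
            · exact hiso
            · exact areIsometricFor_symm hiso
            · exact areIsometricFor_refl Q _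
          exact goal9 ⟨hq1, D, hOD, hHD⟩
        · have hq3 : Fintype.card F % 4 = 3 := by
            have h1 : ¬ Fintype.card F % 4 = 1 := fun h => hiso (hiff.2 h)
            rcases hqodd with ⟨k, hk⟩
            omega
          exact goal10 ⟨hq3, D, hD, hiso, hHD⟩
      · exact goal2 ⟨hqodd, W, hW0, hW1, hodd, h5, hW, key_sub W hW0 hW1 hle⟩
  · -- (1c) non-singular point
    have hv0 : v ≠ 0 := fun h => hv (by rw [h]; exact Q_zero hQ)
    have hs0 : Submodule.span F {v} ≠ ⊥ := by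
      rw [Ne, Submodule.span_singleton_eq_bot]; exact hv0
    have hs1 : Submodule.span F {v} ≠ ⊤ := ne_top_of_finrank_lt (by rw [finrank_span_singleton hv0]; norm_num)
    refine goal6 ⟨?_, v, hv, key_sub _ hs0 hs1 hle⟩
    intro hodd
    exact two_ne_zero_of_odd_card hodd h2
  · -- (2a) orthogonal decomposition
    have htk := mul_eq_of_isMDecomposition D hD.decomp.decomp
    have hkpos := hD.decomp.decomp.pos
    have hHD := eq_inf_of_le hH hle (omegaGL_not_le_decompositionStabilizer_orth hn7 Q hQ D hD)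
    have ht10 : t ≤ 10 := Nat.le_of_dvd (by norm_num) ⟨k, htk.symm⟩
    have hcases : (t = 10 ∧ k = 1) ∨ (t = 5 ∧ k = 2) ∨ (t = 2 ∧ k = 5) := by
      interval_cases t <;> omega
    rcases hcases with ⟨rfl, rfl⟩ | ⟨rfl, rfl⟩ | ⟨rfl, rfl⟩
    · -- ten lines
      have hqodd := odd_card_of_odd_finrank Q hQ (D 0) (hD.decomp.nondegenerate 0)
        (by rw [hD.decomp.decomp.finrank_eq]; decide)
      have h2 := two_ne_zero_of_odd_card hqodd
      have hiff := Cfsg.Agent.Lib.Helper19.OEvenType.isPlusTypeOn_top_iff_of_even_decomposition_of_odd Q hQ h2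
        (M := 5) (by norm_num) (by decide) D hD (by decide)
      have h3 := hiff.1 hplus
      have hq1 : Fintype.card F % 4 = 1 := by
        rcases hqodd with ⟨j, hj⟩
        omega
      exact goal7 ⟨⟨Fintype.card F, hk1 rfl, rfl, hq1⟩, D, hD, hHD⟩
    · -- five planes
      have hpl := planes_plus_of_odd_decomposition Q hQ (by decide) D hD hplus
      by_cases hq7 : 7 ≤ Fintype.card F
      · exact goal8 ⟨hq7, D, hD, hHD⟩
      · have hq2 : 2 ≤ Fintype.card F := by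
          have := Fintype.one_lt_card (α := F)
          omega
        have hq6 := card_ne_six (F := F)
        have hq : Fintype.card F = 2 ∨ Fintype.card F = 3 ∨ Fintype.card F = 4 ∨ Fintype.card F = 5 := by omega
        rcases hq with hq | hq | hq | hq
        · obtain ⟨v, hv, hst⟩ := planes_two hq Q hQ (by decide) D hD hpl
          have hv0 : v ≠ 0 := fun h => hv (by rw [h]; exact Q_zero hQ)
          have hs0 : Submodule.span F {v} ≠ ⊥ := by
            rw [Ne, Submodule.span_singleton_eq_bot]; exact hv0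
          have hs1 : Submodule.span F {v} ≠ ⊤ :=
            ne_top_of_finrank_lt (by rw [finrank_span_singleton hv0]; norm_num)
          refine goal6 ⟨by rw [hq]; decide, v, hv, key_sub _ hs0 hs1 (hleI.trans hst)⟩
        · obtain ⟨D', hD', hniso, hst⟩ := planes_three hq Q hQ (by decide) D hD hpl
          have hN := omegaGL_not_le_decompositionStabilizer_pair hn7 Q hQ D' hD'
          exact goal10 ⟨by rw [hq], D', hD', hniso, eq_inf_of_le hH (hleI.trans hst) hN⟩
        · obtain ⟨F₀, P, hF₀, hrat, hst⟩ := planes_four hq Q hQ D hD hpl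
          have hF : Fintype.card F = Nat.card F₀ ^ 2 := by rw [hq, hF₀]; norm_num
          have hN := omegaGL_not_le_subfieldSubgroup hn7 Q hQ F₀ 2 Nat.prime_two hF P
          exact goal12 ⟨F₀, 2, P, 1, Nat.prime_two, hF, one_ne_zero, hrat, eq_inf_of_le hH (hleI.trans hst) hN⟩
        · obtain ⟨D', hD', hst⟩ := planes_five hq Q hQ D hD hpl
          have hN := omegaGL_not_le_decompositionStabilizer_orth hn7 Q hQ D' hD'
          exact goal7 ⟨⟨5, by norm_num, hq, by norm_num⟩, D', hD', eq_inf_of_le hH (hleI.trans hst) hN⟩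
    · -- two isometric 5-spaces
      have hqodd := odd_card_of_odd_finrank Q hQ (D 0) (hD.decomp.nondegenerate 0)
        (by rw [hD.decomp.decomp.finrank_eq]; decide)
      have h2 := two_ne_zero_of_odd_card hqodd
      have hiff := Cfsg.Agent.Lib.Helper19.OEvenType.isPlusTypeOn_top_iff_of_even_decomposition_of_odd Q hQ h2
        (M := 5) (by norm_num) (by decide) D hD (by decide)
      have h3 := hiff.1 hplus
      have hq1 : Fintype.card F % 4 = 1 := by
        rcases hqodd with ⟨j, hj⟩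
        omega
      exact goal9 ⟨hq1, D, hD, hHD⟩
  · -- (2b) totally singular pair
    have h2k := mul_eq_of_isMDecomposition D hD
    obtain rfl : k = 5 := by omega
    exact goal_of_tsPair Q hQ H hH D hD hts hle
  · -- (3a) self-adjoint field
    have hdvd := dvd_of_isFieldSubalgebra E hE
    have hr10 : r ≤ 10 := Nat.le_of_dvd (by norm_num) hdvd
    have hr25 : r = 2 ∨ r = 5 := by
      interval_cases r <;> first | omega | (exfalso; revert hr; decide)
    rcases hr25 with rfl | rfl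
    · by_cases hqodd : Odd (Fintype.card F)
      · exact goal11 ⟨hqodd, E, hE, hsa,
          eq_inf_of_le hH hle (omegaGL_not_le_subalgebraNormalizer hn7 Q hQ (le_refl 2) E hE)⟩
      · exfalso
        have := four_dvd_of_selfAdjoint_quadratic_char_two (two_eq_zero_of_not_odd_card hqodd) Q hQ E hE hsa
        omega
    · obtain ⟨D, hD, hts, hst⟩ := field_five_le_tsPair Q hQ hplus E hE hsa
      exact goal_of_tsPair Q hQ H hH D hD hts (hleI.trans hst)
  · -- (3b) unitary type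
    exact absurd hplus (not_plus_of_unitary_type (M := 5) (by norm_num) (by decide) Q hQ E hE hac hnsa hsim)
  · -- (4) tensor product
    have hcard : 10 = n₁ * n₂ := by
      have := Fintype.card_congr e
      simpa using this
    have hn1 : n₁ = 2 ∧ n₂ = 5 := by
      have h1 : n₁ ≤ 3 := by nlinarith
      interval_cases n₁ <;> omega
    obtain ⟨rfl, rfl⟩ := hn1
    rcases hf with ⟨h₁, h₂, h2⟩ | ⟨h₁, h₂, -⟩
    · obtain ⟨D, hD, hts, hst⟩ := tensor_two_five_le_tsPair h2 Q hQ hplus e P f₁ f₂ h₁ h₂ hT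
      exact goal_of_tsPair Q hQ H hH D hD hts (hleI.trans hst)
    · exact absurd h₂ (not_isSymplecticForm_of_odd (by decide) f₂)
  · -- (5) subfield
    exact goal12 ⟨F₀, r, P, ζ, hr, hF, hζ, hrat,
      eq_inf_of_le hH hle (omegaGL_not_le_subfieldSubgroup hn7 Q hQ F₀ r hr hF P)⟩
  · -- (6) `10 = r ^ m`
    exfalso
    have hp := hR.prime
    have h2 : 2 ∣ r ^ m := ⟨5, by rw [← hnrm]⟩
    have h5 : 5 ∣ r ^ m := ⟨2, by rw [← hnrm]⟩
    have e2 := (Nat.prime_dvd_prime_iff_eq Nat.prime_two hp).1 (Nat.Prime.dvd_of_dvd_pow Nat.prime_two h2)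
    have e5 := (Nat.prime_dvd_prime_iff_eq Nat.prime_five hp).1 (Nat.Prime.dvd_of_dvd_pow Nat.prime_five h5)
    omega
  · -- (7) `10 = m ^ t`
    exfalso
    have hcard : 10 = m ^ t := by
      have := Fintype.card_congr e
      simpa using this
    have h2 : 2 ∣ m := Nat.Prime.dvd_of_dvd_pow Nat.prime_two ⟨5, by rw [← hcard]⟩
    have h5 : 5 ∣ m := Nat.Prime.dvd_of_dvd_pow Nat.prime_five ⟨2, by rw [← hcard]⟩
    have h10 : 10 ∣ m := Nat.Coprime.mul_dvd_of_dvd_of_dvd (by norm_num) h2 h5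
    have hm10 : 10 ≤ m := Nat.le_of_dvd (by omega) h10
    have : m ^ 2 ≤ m ^ t := Nat.pow_le_pow_right (by omega) ht
    nlinarith


end Cfsg.Agent.Lib.Helper43.OPlus10
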