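import Cfsg.Agent.Lib.Helper43.OmegaCount

set_option autoImplicit false

/-! Counting classes of involutions in `Ω⁺(Q)` (characteristic two), where the class of
involutions `t` with `t - 1` of rank `m` and totally singular image splits. -/

namespace Cfsg.Agent.Lib.Helper43

open Module Matrix Cfsg.Agent.Lib.Helper19

variable {F : Type*} [Field F] {ι : Type} [Fintype ι] [DecidableEq ι]
variable (Q : QuadraticForm F (ι → F))

section chartwo

variable [Fintype F] [CharP F 2]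

theorem reflO_notMem_Omega (hQ : (QuadraticMap.polarBilin Q).Nondegenerate)
    (hgen : ReflGenerated Q) (u : ι → F) (hu : Q u ≠ 0) : reflO Q u ∉ Cfsg.Omega F ⇑Q := by
  rw [Omega_eq_ker_dickson Q hQ hgen, MonoidHom.mem_ker, dickson_reflO Q hQ hgen u hu]
  decide

theorem mul_inv_mem_Omega_of_notMem (hQ : (QuadraticMap.polarBilin Q).Nondegenerate)
    (hgen : ReflGenerated Q) (c c' : ↥(Cfsg.isometryGroup F ⇑Q))
    (hc : c ∉ Cfsg.Omega F ⇑Q) (hc' : c' ∉ Cfsg.Omega F ⇑Q) :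
    c' * c⁻¹ ∈ Cfsg.Omega F ⇑Q := by
  rw [Omega_eq_ker_dickson Q hQ hgen, MonoidHom.mem_ker] at hc hc' ⊢
  have h01 : ∀ y : Multiplicative (ZMod 2), y ≠ 1 → y = Multiplicative.ofAdd 1 := by decide
  rw [map_mul, map_inv, h01 _ hc, h01 _ hc']
  decide

/-- the centralizer of an involution with maximal totally singular residual space lies in `Ω` -/
theorem centralizer_le_Omega (hQ : (QuadraticMap.polarBilin Q).Nondegenerate)
    (hgen : ReflGenerated Q) (m : ℕ) (hcard : Fintype.card ι = 2 * m)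
    (t0 : ↥(Cfsg.isometryGroup F ⇑Q))
    (hr : (((t0 : GL ι F) : Matrix ι ι F) - 1).rank = m)
    (halt : ∀ v, Q (v + linOf Q t0 v) = 0)
    (c : ↥(Cfsg.isometryGroup F ⇑Q)) (hc : c * t0 * c⁻¹ = t0) : c ∈ Cfsg.Omega F ⇑Q := by
  have hR : IsMaxTS Q (LinearMap.range (resid Q t0)) := by
    constructor
    · exact resid_totallySingular Q t0 halt
    · rw [← rank_sub_one_eq_finrank_range, hr, Module.finrank_fintype_fun_eq_card, hcard]
  rw [mem_Omega_iff_even_inf Q hQ hgen hR c]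
  have h1 : LinearMap.range (resid Q t0) = (LinearMap.range (resid Q t0)).map (linOf Q c) := by
    unfold resid
    exact range_sub_one_conj Q t0 t0 c hc
  rw [← h1, inf_idem]
  exact ⟨_, rfl⟩

theorem card_invol_classes_Omega_split
    (hQ : (QuadraticMap.polarBilin Q).Nondegenerate) (hgen : ReflGenerated Q)
    (m : ℕ) (hcard : Fintype.card ι = 2 * m) [Nonempty ι]
    (hns : ∀ W : Submodule F (ι → F), m < finrank F W → ∃ w ∈ W, Q w ≠ 0)
    (hc : ∀ k : Fin (m / 2), ∃ g : ↥(Cfsg.isometryGroup F ⇑Q), g * g = 1 ∧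
      (((g : GL ι F) : Matrix ι ι F) - 1).rank = 2 * (k + 1) ∧ ¬ (∀ v, Q (v + linOf Q g v) = 0))
    (ha : ∀ i : Fin (m / 2), ∃ g : ↥(Cfsg.isometryGroup F ⇑Q), g * g = 1 ∧
      (((g : GL ι F) : Matrix ι ι F) - 1).rank = 2 * (i + 1) ∧ (∀ v, Q (v + linOf Q g v) = 0)) :
    Nat.card {C : ConjClasses ↥(Cfsg.Omega F ⇑Q) //
      ∃ g : ↥(Cfsg.Omega F ⇑Q), ConjClasses.mk g = C ∧ orderOf g = 2} =
      2 * (m / 2) + (if Even m then 1 else 0) := by
  classical
  choose gc hgc2 hgcr hgct using hc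
  choose ga hga2 hgar hgat using ha
  have hmemc : ∀ k, gc k ∈ Cfsg.Omega F ⇑Q := by
    intro k
    rw [mem_Omega_iff_even_rank Q hQ hgen, hgcr]
    exact ⟨k + 1, by ring⟩
  have hmema : ∀ i, ga i ∈ Cfsg.Omega F ⇑Q := by
    intro i
    rw [mem_Omega_iff_even_rank Q hQ hgen, hgar]
    exact ⟨i + 1, by ring⟩
  -- the reference involution of rank `m`
  obtain ⟨t0, ht0⟩ : ∃ t0 : ↥(Cfsg.isometryGroup F ⇑Q),
      ∀ h : 0 < m / 2, t0 = ga ⟨m / 2 - 1, by omega⟩ :=
    ⟨if h : 0 < m / 2 then ga ⟨m / 2 - 1, by omega⟩ else 1, fun h => by rw [dif_pos h]⟩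
  have ht0_props : Even m → 2 ≤ m → t0 * t0 = 1 ∧
      (((t0 : GL ι F) : Matrix ι ι F) - 1).rank = m ∧ (∀ v, Q (v + linOf Q t0 v) = 0) ∧
      t0 ∈ Cfsg.Omega F ⇑Q := by
    rintro ⟨r, hr⟩ h2
    have hpos : 0 < m / 2 := by omega
    rw [ht0 hpos]
    refine ⟨hga2 _, ?_, hgat _, hmema _⟩
    rw [hgar]
    simp only
    omega
  -- a reflection
  obtain ⟨u, hu⟩ := exists_nonsingular Q hQ
  have hrO := reflO_notMem_Omega Q hQ hgen u hu
  obtain ⟨t1, ht1⟩ : ∃ t1, t1 = reflO Q u * t0 * (reflO Q u)⁻¹ := ⟨_, rfl⟩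
  have hnormal : (Cfsg.Omega F ⇑Q).Normal := by
    unfold Cfsg.Omega
    infer_instance
  have ht1_props : Even m → 2 ≤ m → t1 * t1 = 1 ∧
      (((t1 : GL ι F) : Matrix ι ι F) - 1).rank = m ∧ (∀ v, Q (v + linOf Q t1 v) = 0) ∧
      t1 ∈ Cfsg.Omega F ⇑Q ∧ ¬ ∃ g ∈ Cfsg.Omega F ⇑Q, g * t0 * g⁻¹ = t1 := by
    intro hev h2
    obtain ⟨h02, h0r, h0t, h0O⟩ := ht0_props hev h2
    have h12 : t1 * t1 = 1 := by
      rw [ht1]
      calc reflO Q u * t0 * (reflO Q u)⁻¹ * (reflO Q u * t0 * (reflO Q u)⁻¹)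
          = reflO Q u * (t0 * t0) * (reflO Q u)⁻¹ := by group
        _ = 1 := by rw [h02]; group
    have hconj : IsConj t0 t1 := isConj_iff.2 ⟨reflO Q u, ht1.symm⟩
    have hinv := (isConj_iff_invariants Q hQ t0 t1 h02 h12).1 hconj
    refine ⟨h12, by rw [← hinv.1]; exact h0r, hinv.2.1 h0t, ?_, ?_⟩
    · rw [ht1]
      exact hnormal.conj_mem t0 h0O _
    · rintro ⟨g, hgO, hg⟩
      have hcent : ((reflO Q u)⁻¹ * g) * t0 * ((reflO Q u)⁻¹ * g)⁻¹ = t0 := by
        rw [_root_.mul_inv_rev, inv_inv]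
        calc (reflO Q u)⁻¹ * g * t0 * (g⁻¹ * reflO Q u)
            = (reflO Q u)⁻¹ * (g * t0 * g⁻¹) * reflO Q u := by group
          _ = t0 := by rw [hg, ht1]; group
      have hmem := centralizer_le_Omega Q hQ hgen m hcard t0 h0r h0t _ hcent
      have h3 : (reflO Q u)⁻¹ ∈ Cfsg.Omega F ⇑Q := by
        have := Subgroup.mul_mem _ hmem (Subgroup.inv_mem _ hgO)
        rwa [mul_inv_cancel_right] at this
      exact hrO (by simpa using Subgroup.inv_mem _ h3)
  -- the third invariant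
  have hcount := card_invol_classes (G := ↥(Cfsg.Omega F ⇑Q))
    (fun x => (((((x : ↥(Cfsg.isometryGroup F ⇑Q)) : GL ι F) : Matrix ι ι F) - 1).rank,
      (∀ v, Q (v + linOf Q (x : ↥(Cfsg.isometryGroup F ⇑Q)) v) = 0),
      (((((x : ↥(Cfsg.isometryGroup F ⇑Q)) : GL ι F) : Matrix ι ι F) - 1).rank = m ∧
        (∀ v, Q (v + linOf Q (x : ↥(Cfsg.isometryGroup F ⇑Q)) v) = 0) ∧
        ∃ g ∈ Cfsg.Omega F ⇑Q, g * t0 * g⁻¹ = (x : ↥(Cfsg.isometryGroup F ⇑Q)))))
    (Sum.elim (fun k => ⟨gc k, hmemc k⟩)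
      (Sum.elim (fun i => ⟨ga i, hmema i⟩)
        (fun j : Fin (if Even m then 1 else 0) =>
          if h : Even m ∧ 2 ≤ m then ⟨t1, (ht1_props h.1 h.2).2.2.2.1⟩ else 1))) ?_ ?_ ?_ ?_
  · rw [hcount, Fintype.card_sum, Fintype.card_sum, Fintype.card_fin, Fintype.card_fin]
    ring
  · -- complete invariants
    intro x y hox hoy
    obtain ⟨hx2, -⟩ := (Cfsg.Agent.Lib.Helper43.orderOf_eq_two_iff x).1 hox
    obtain ⟨hy2, -⟩ := (Cfsg.Agent.Lib.Helper43.orderOf_eq_two_iff y).1 hoy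
    have hx2' : (x : ↥(Cfsg.isometryGroup F ⇑Q)) * x = 1 := congrArg Subtype.val hx2
    have hy2' : (y : ↥(Cfsg.isometryGroup F ⇑Q)) * y = 1 := congrArg Subtype.val hy2
    rw [Prod.mk.injEq, Prod.mk.injEq, eq_iff_iff, eq_iff_iff]
    constructor
    · intro h
      obtain ⟨c, hc⟩ := isConj_iff.1 h
      have hc' : (c : ↥(Cfsg.isometryGroup F ⇑Q)) * x * (c : ↥(Cfsg.isometryGroup F ⇑Q))⁻¹ = y :=
        congrArg Subtype.val hc
      have hO : IsConj (x : ↥(Cfsg.isometryGroup F ⇑Q)) y := isConj_iff.2 ⟨_, hc'⟩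
      have hinv := (isConj_iff_invariants Q hQ _ _ hx2' hy2').1 hO
      refine ⟨hinv.1, hinv.2, ?_⟩
      constructor
      · rintro ⟨h1, h2, g, hgO, hg⟩
        refine ⟨by rw [← hinv.1]; exact h1, hinv.2.1 h2, (c : ↥(Cfsg.isometryGroup F ⇑Q)) * g,
          Subgroup.mul_mem _ c.2 hgO, ?_⟩
        rw [← hc', ← hg]
        group
      · rintro ⟨h1, h2, g, hgO, hg⟩
        refine ⟨by rw [hinv.1]; exact h1, hinv.2.2 h2, (c : ↥(Cfsg.isometryGroup F ⇑Q))⁻¹ * g,
          Subgroup.mul_mem _ (Subgroup.inv_mem _ c.2) hgO, ?_⟩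
        have : (x : ↥(Cfsg.isometryGroup F ⇑Q)) =
            (c : ↥(Cfsg.isometryGroup F ⇑Q))⁻¹ * y * (c : ↥(Cfsg.isometryGroup F ⇑Q)) := by
          rw [← hc']; group
        rw [this, ← hg]
        group
    · rintro ⟨hrank, htype, hP⟩
      have hO : IsConj (x : ↥(Cfsg.isometryGroup F ⇑Q)) y :=
        (isConj_iff_invariants Q hQ _ _ hx2' hy2').2 ⟨hrank, htype⟩
      by_cases hsplit : ((((x : ↥(Cfsg.isometryGroup F ⇑Q)) : GL ι F) : Matrix ι ι F) - 1).rank = m ∧
          ∀ v, Q (v + linOf Q (x : ↥(Cfsg.isometryGroup F ⇑Q)) v) = 0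
      · -- the splitting class
        obtain ⟨hxr, hxt⟩ := hsplit
        have hev : Even m := by
          rw [← hxr]
          exact (mem_Omega_iff_even_rank Q hQ hgen _).1 x.2
        have hx1 : (x : ↥(Cfsg.isometryGroup F ⇑Q)) ≠ 1 := by
          intro h1
          have hx1' : x = 1 := Subtype.ext h1
          rw [hx1', orderOf_one] at hox
          exact absurd hox (by norm_num)
        have hpos := rank_pos_of_ne_one Q _ hx1
        have h2 : 2 ≤ m := by
          obtain ⟨r, hr⟩ := hev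
          omega
        obtain ⟨h02, h0r, h0t, h0O⟩ := ht0_props hev h2
        have hyr : ((((y : ↥(Cfsg.isometryGroup F ⇑Q)) : GL ι F) : Matrix ι ι F) - 1).rank = m := by
          rw [← hrank]; exact hxr
        have hyt := htype.1 hxt
        by_cases hPx : ∃ g ∈ Cfsg.Omega F ⇑Q, g * t0 * g⁻¹ = (x : ↥(Cfsg.isometryGroup F ⇑Q))
        · obtain ⟨g, hgO, hg⟩ := hPx
          obtain ⟨-, -, g', hg'O, hg'⟩ := hP.1 ⟨hxr, hxt, g, hgO, hg⟩
          refine isConj_iff.2 ⟨⟨g' * g⁻¹, Subgroup.mul_mem _ hg'O (Subgroup.inv_mem _ hgO)⟩, ?_⟩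
          apply Subtype.ext
          show g' * g⁻¹ * (x : ↥(Cfsg.isometryGroup F ⇑Q)) * (g' * g⁻¹)⁻¹ = y
          rw [← hg, ← hg']
          group
        · have hPy : ¬ ∃ g ∈ Cfsg.Omega F ⇑Q, g * t0 * g⁻¹ = (y : ↥(Cfsg.isometryGroup F ⇑Q)) := by
            rintro ⟨g, hgO, hg⟩
            obtain ⟨-, -, h⟩ := hP.2 ⟨hyr, hyt, g, hgO, hg⟩
            exact hPx h
          -- both are conjugate to `t0` by elements outside `Ω`
          have hOx : IsConj t0 (x : ↥(Cfsg.isometryGroup F ⇑Q)) :=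
            (isConj_iff_invariants Q hQ _ _ h02 hx2').2
              ⟨by rw [h0r, hxr], fun _ => hxt, fun _ => h0t⟩
          have hOy : IsConj t0 (y : ↥(Cfsg.isometryGroup F ⇑Q)) :=
            (isConj_iff_invariants Q hQ _ _ h02 hy2').2
              ⟨by rw [h0r, hyr], fun _ => hyt, fun _ => h0t⟩
          obtain ⟨c, hc⟩ := isConj_iff.1 hOx
          obtain ⟨c', hc'⟩ := isConj_iff.1 hOy
          have hcO : c ∉ Cfsg.Omega F ⇑Q := fun h => hPx ⟨c, h, hc⟩
          have hc'O : c' ∉ Cfsg.Omega F ⇑Q := fun h => hPy ⟨c', h, hc'⟩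
          refine isConj_iff.2 ⟨⟨c' * c⁻¹, mul_inv_mem_Omega_of_notMem Q hQ hgen c c' hcO hc'O⟩, ?_⟩
          apply Subtype.ext
          show c' * c⁻¹ * (x : ↥(Cfsg.isometryGroup F ⇑Q)) * (c' * c⁻¹)⁻¹ = y
          rw [← hc, ← hc']
          group
      · -- no splitting: a nonsingular fixed vector
        have hsp := (splitting_generic Q hQ hgen m hcard hns _ _ hx2' x.2 hO).1
        obtain ⟨g, hgO, hg⟩ := hsp (by
          rintro ⟨h1, h2⟩
          exact hsplit ⟨h1, fun v => by rw [linOf_apply]; exact h2 v⟩)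
        exact isConj_iff.2 ⟨⟨g, hgO⟩, Subtype.ext hg⟩
  · -- representatives are involutions
    rintro (k | i | j)
    · rw [Cfsg.Agent.Lib.Helper43.orderOf_eq_two_iff]
      refine ⟨Subtype.ext (hgc2 k), ?_⟩
      intro h
      have h' : gc k = 1 := congrArg Subtype.val h
      refine ne_one_of_rank_pos Q (gc k) ?_ h'
      rw [hgcr k]
      omega
    · rw [Cfsg.Agent.Lib.Helper43.orderOf_eq_two_iff]
      refine ⟨Subtype.ext (hga2 i), ?_⟩
      intro h
      have h' : ga i = 1 := congrArg Subtype.val h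
      refine ne_one_of_rank_pos Q (ga i) ?_ h'
      rw [hgar i]
      omega
    · have hev : Even m := by
        by_contra hne
        rw [if_neg hne] at j
        exact j.elim0
      have h2 : 2 ≤ m := by
        by_contra hlt
        obtain ⟨r, hr⟩ := hev
        have hm0 : m = 0 := by omega
        have : Fintype.card ι = 0 := by rw [hcard, hm0]
        exact (Fintype.card_eq_zero_iff.1 this).elim (Classical.arbitrary ι)
      simp only [Sum.elim_inr, dif_pos (And.intro hev h2)]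
      obtain ⟨h12, h1r, -, -, -⟩ := ht1_props hev h2
      rw [Cfsg.Agent.Lib.Helper43.orderOf_eq_two_iff]
      refine ⟨Subtype.ext h12, ?_⟩
      intro h
      have h' : t1 = 1 := congrArg Subtype.val h
      refine ne_one_of_rank_pos Q t1 ?_ h'
      rw [h1r]
      omega
  · -- distinct invariants
    have hevj : ∀ j : Fin (if Even m then 1 else 0), Even m ∧ 2 ≤ m := by
      intro j
      have hev : Even m := by
        by_contra hne
        rw [if_neg hne] at j
        exact j.elim0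
      refine ⟨hev, ?_⟩
      by_contra hlt
      obtain ⟨r, hr⟩ := hev
      have hm0 : m = 0 := by omega
      have : Fintype.card ι = 0 := by rw [hcard, hm0]
      exact (Fintype.card_eq_zero_iff.1 this).elim (Classical.arbitrary ι)
    rintro (k | i | j) (k' | i' | j') h
    · simp only [Sum.elim_inl, Prod.mk.injEq] at h
      rw [hgcr k, hgcr k'] at h
      have : (k : ℕ) = k' := by omega
      rw [Fin.ext this]
    · simp only [Sum.elim_inl, Sum.elim_inr, Prod.mk.injEq, eq_iff_iff] at h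
      exact absurd (h.2.1.2 (hgat i')) (hgct k)
    · obtain ⟨hev, h2⟩ := hevj j'
      simp only [Sum.elim_inl, Sum.elim_inr, dif_pos (And.intro hev h2), Prod.mk.injEq,
        eq_iff_iff] at h
      exact absurd (h.2.1.2 (ht1_props hev h2).2.2.1) (hgct k)
    · simp only [Sum.elim_inl, Sum.elim_inr, Prod.mk.injEq, eq_iff_iff] at h
      exact absurd (h.2.1.1 (hgat i)) (hgct k')
    · simp only [Sum.elim_inl, Sum.elim_inr, Prod.mk.injEq] at h
      rw [hgar i, hgar i'] at h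
      have : (i : ℕ) = i' := by omega
      rw [Fin.ext this]
    · exfalso
      obtain ⟨hev, h2⟩ := hevj j'
      simp only [Sum.elim_inl, Sum.elim_inr, dif_pos (And.intro hev h2), Prod.mk.injEq,
        eq_iff_iff] at h
      obtain ⟨h12, h1r, h1t, h1O, h1P⟩ := ht1_props hev h2
      have hir : 2 * ((i : ℕ) + 1) = m := by rw [← hgar i, h.1, h1r]
      have hpos : 0 < m / 2 := by omega
      have hi : i = ⟨m / 2 - 1, by omega⟩ := by
        apply Fin.ext
        simp only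
        omega
      have hP0 : ∃ g ∈ Cfsg.Omega F ⇑Q, g * t0 * g⁻¹ = ga i := by
        refine ⟨1, Subgroup.one_mem _, ?_⟩
        rw [ht0 hpos, hi]
        group
      obtain ⟨-, -, hP1⟩ := h.2.2.1 ⟨by rw [hgar i]; exact hir, hgat i, hP0⟩
      exact h1P hP1
    · obtain ⟨hev, h2⟩ := hevj j
      simp only [Sum.elim_inl, Sum.elim_inr, dif_pos (And.intro hev h2), Prod.mk.injEq,
        eq_iff_iff] at h
      exact absurd (h.2.1.1 (ht1_props hev h2).2.2.1) (hgct k')
    · exfalso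
      obtain ⟨hev, h2⟩ := hevj j
      simp only [Sum.elim_inl, Sum.elim_inr, dif_pos (And.intro hev h2), Prod.mk.injEq,
        eq_iff_iff] at h
      obtain ⟨h12, h1r, h1t, h1O, h1P⟩ := ht1_props hev h2
      have hir : 2 * ((i' : ℕ) + 1) = m := by rw [← hgar i', ← h.1, h1r]
      have hpos : 0 < m / 2 := by omega
      have hi : i' = ⟨m / 2 - 1, by omega⟩ := by
        apply Fin.ext
        simp only
        omega
      have hP0 : ∃ g ∈ Cfsg.Omega F ⇑Q, g * t0 * g⁻¹ = ga i' := by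
        refine ⟨1, Subgroup.one_mem _, ?_⟩
        rw [ht0 hpos, hi]
        group
      obtain ⟨-, -, hP1⟩ := h.2.2.2 ⟨by rw [hgar i']; exact hir, hgat i', hP0⟩
      exact h1P hP1
    · have : j = j' := by
        obtain ⟨hev, -⟩ := hevj j
        have hsub : Subsingleton (Fin (if Even m then 1 else 0)) := by
          rw [if_pos hev]
          infer_instance
        exact Subsingleton.elim _ _
      rw [this]
  · -- every involution has the invariants of a representative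
    intro x hx
    obtain ⟨hx2, hx1⟩ := (Cfsg.Agent.Lib.Helper43.orderOf_eq_two_iff x).1 hx
    have hx2' : (x : ↥(Cfsg.isometryGroup F ⇑Q)) * x = 1 := congrArg Subtype.val hx2
    have hpos := coe_rank_pos_of_ne_one Q x hx1
    obtain ⟨r, hr⟩ := (mem_Omega_iff_even_rank Q hQ hgen (x : ↥(Cfsg.isometryGroup F ⇑Q))).1 x.2
    have hle := two_mul_rank_le_card Q (x : ↥(Cfsg.isometryGroup F ⇑Q)) hx2'
    rw [hcard] at hle
    have hr2 : r - 1 < m / 2 := by omega
    by_cases halt : ∀ v, Q (v + linOf Q (x : ↥(Cfsg.isometryGroup F ⇑Q)) v) = 0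
    · by_cases hP : ((((x : ↥(Cfsg.isometryGroup F ⇑Q)) : GL ι F) : Matrix ι ι F) - 1).rank = m ∧
          ¬ ∃ g ∈ Cfsg.Omega F ⇑Q, g * t0 * g⁻¹ = (x : ↥(Cfsg.isometryGroup F ⇑Q))
      · -- the second class
        obtain ⟨hxr, hxP⟩ := hP
        have hev : Even m := ⟨r, by omega⟩
        have h2 : 2 ≤ m := by omega
        obtain ⟨h12, h1r, h1t, h1O, h1P⟩ := ht1_props hev h2
        have hj : 0 < (if Even m then 1 else 0) := by rw [if_pos hev]; exact Nat.one_pos
        refine ⟨Sum.inr (Sum.inr ⟨0, hj⟩), ?_⟩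
        simp only [Sum.elim_inr, dif_pos (And.intro hev h2), Prod.mk.injEq, eq_iff_iff]
        refine ⟨by rw [hxr, h1r], ⟨fun _ => h1t, fun _ => halt⟩, ?_, ?_⟩
        · rintro ⟨-, -, h⟩
          exact absurd h hxP
        · rintro ⟨-, -, h⟩
          exact absurd h h1P
      · refine ⟨Sum.inr (Sum.inl ⟨r - 1, hr2⟩), ?_⟩
        simp only [Sum.elim_inr, Sum.elim_inl, Prod.mk.injEq, eq_iff_iff]
        have hrk : (((ga ⟨r - 1, hr2⟩ : GL ι F) : Matrix ι ι F) - 1).rank =
            ((((x : ↥(Cfsg.isometryGroup F ⇑Q)) : GL ι F) : Matrix ι ι F) - 1).rank := by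
          rw [hgar]
          simp only
          omega
        refine ⟨hrk.symm, ⟨fun _ => hgat _, fun _ => halt⟩, ?_, ?_⟩
        · rintro ⟨hxr, -, hxP⟩
          have hpos' : 0 < m / 2 := by omega
          have hi : (⟨r - 1, hr2⟩ : Fin (m / 2)) = ⟨m / 2 - 1, by omega⟩ := by
            apply Fin.ext
            simp only
            omega
          refine ⟨by rw [hrk]; exact hxr, hgat _, 1, Subgroup.one_mem _, ?_⟩
          rw [ht0 hpos', hi]
          group
        · rintro ⟨hgr, -, -⟩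
          have hxr : ((((x : ↥(Cfsg.isometryGroup F ⇑Q)) : GL ι F) : Matrix ι ι F) - 1).rank = m := by
            rw [← hrk]; exact hgr
          refine ⟨hxr, halt, ?_⟩
          by_contra hno
          exact hP ⟨hxr, hno⟩
    · refine ⟨Sum.inl ⟨r - 1, hr2⟩, ?_⟩
      simp only [Sum.elim_inl, Prod.mk.injEq, eq_iff_iff]
      refine ⟨?_, ⟨fun h => absurd h halt, fun h => absurd h (hgct _)⟩, ?_, ?_⟩
      · rw [hgcr]
        simp only
        omega
      · rintro ⟨-, h, -⟩
        exact absurd h halt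
      · rintro ⟨-, h, -⟩
        exact absurd h (hgct _)

end chartwo

end Cfsg.Agent.Lib.Helper43
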