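import Cfsg.Agent.Lib.Helper43.OmegaNondeg1

set_option autoImplicit false
set_option linter.unusedSimpArgs false
set_option linter.unusedVariables false
set_option linter.unusedSectionVars false

/-! Correcting an isometry to an element of `Ω` by reflections in a universal subspace. -/

namespace Cfsg.Agent.Lib.Helper43

open Module Matrix Cfsg.Agent.Lib.Helper19

variable {F : Type*} [Field F] {ι : Type} [Fintype ι] [DecidableEq ι]
variable (Q : QuadraticForm F (ι → F))

section finite

variable [Fintype F]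

/-- every product of reflections agrees modulo `Ω` with a product of reflections in vectors of a
universal subspace `P` -/
theorem exists_fix_of_eq_sub (hQ : (QuadraticMap.polarBilin Q).Nondegenerate)
    (P : Submodule F (ι → F)) (hP : ∀ γ : F, ∃ c ∈ P, Q c = γ)
    (l : List (ι → F)) (hl : ∀ u ∈ l, Q u ≠ 0) :
    ∃ s : ↥(Cfsg.isometryGroup F ⇑Q),
      (∀ v, (∀ c ∈ P, QuadraticMap.polarBilin Q c v = 0) → linOf Q s v = v) ∧
      (∀ v, linOf Q s v - v ∈ P) ∧
      (Abelianization.of ((l.map (reflO Q)).prod) : Abelianization ↥(Cfsg.isometryGroup F ⇑Q)) =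
        Abelianization.of s := by
  induction l with
  | nil =>
    refine ⟨1, ?_, ?_, ?_⟩
    · intro v _; rw [linOf_one]; rfl
    · intro v; rw [linOf_one]; simp
    · simp
  | cons c t ih =>
    have hc : Q c ≠ 0 := hl c List.mem_cons_self
    have ht : ∀ u ∈ t, Q u ≠ 0 := fun u hu => hl u (List.mem_cons_of_mem _ hu)
    obtain ⟨s, hs1, hs2, hs⟩ := ih ht
    obtain ⟨y, hyP, hy⟩ := hP (Q c)
    have hy0 : Q y ≠ 0 := by rw [hy]; exact hc
    refine ⟨reflO Q y * s, ?_, ?_, ?_⟩
    · intro v hv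
      rw [linOf_mul, LinearMap.comp_apply, hs1 v hv]
      exact linOf_reflO_fix Q y v hy0 (hv y hyP)
    · intro v
      rw [linOf_mul, LinearMap.comp_apply, linOf_reflO Q y hy0, reflLin_apply']
      have h1 := hs2 v
      have h2 : linOf Q s v - ((Q y)⁻¹ * QuadraticMap.polarBilin Q (linOf Q s v) y) • y - v =
          (linOf Q s v - v) - ((Q y)⁻¹ * QuadraticMap.polarBilin Q (linOf Q s v) y) • y := by abel
      rw [h2]
      exact P.sub_mem h1 (P.smul_mem _ hyP)
    · rw [List.map_cons, List.prod_cons, map_mul, map_mul, hs, of_reflO_eq Q hQ c y hc hy.symm]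

/-- correcting an isometry to an element of `Ω` without changing it on `P^⊥` -/
theorem exists_Omega_of_isometry (hQ : (QuadraticMap.polarBilin Q).Nondegenerate)
    (hn : 7 ≤ Fintype.card ι) (P : Submodule F (ι → F)) (hP : ∀ γ : F, ∃ c ∈ P, Q c = γ)
    (g : ↥(Cfsg.isometryGroup F ⇑Q)) :
    ∃ h ∈ Cfsg.Omega F ⇑Q,
      (∀ v, (∀ c ∈ P, QuadraticMap.polarBilin Q c v = 0) → linOf Q h v = linOf Q g v) ∧
      (∀ v, ∃ p ∈ P, linOf Q h v = linOf Q g (v + p)) := by
  have hgen : ReflGenerated Q := reflGenerated_finite Q hQ (Or.inr (by omega))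
  obtain ⟨l, hl, rfl⟩ := exists_list_reflO Q hgen g
  obtain ⟨s, hs1, hs2, hs⟩ := exists_fix_of_eq_sub Q hQ P hP l hl
  refine ⟨(l.map (reflO Q)).prod * s⁻¹, ?_, ?_, ?_⟩
  · rw [mem_Omega_iff_of, map_mul, map_inv, hs, mul_inv_cancel]
  · intro v hv
    rw [linOf_mul, LinearMap.comp_apply]
    congr 1
    have h := linOf_inv_apply Q s v
    rw [hs1 v hv] at h
    exact h
  · intro v
    refine ⟨linOf Q s⁻¹ v - v, ?_, ?_⟩
    · have h := hs2 (linOf Q s⁻¹ v)
      rw [linOf_apply_inv] at h
      have h2 : linOf Q s⁻¹ v - v = -(v - linOf Q s⁻¹ v) := by abel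
      rw [h2]
      exact P.neg_mem h
    · rw [linOf_mul, LinearMap.comp_apply]
      congr 1
      abel

end finite

end Cfsg.Agent.Lib.Helper43
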