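import Cfsg.Agent.Lib.Helper43.OmegaNondeg2

set_option autoImplicit false
set_option linter.unusedSimpArgs false
set_option linter.unusedVariables false
set_option linter.unusedSectionVars false

/-! Elements of the stabiliser in `Ω` of a non-degenerate subspace `Y` fixing a vector `x ∈ Y` and
acting on `Y^⊥` as a reflection or as a Witt extension. -/

namespace Cfsg.Agent.Lib.Helper43

open Module Matrix Cfsg.Agent.Lib.Helper19

variable {F : Type*} [Field F] {ι : Type} [Fintype ι] [DecidableEq ι]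
variable (Q : QuadraticForm F (ι → F))

section finite

variable [Fintype F]

theorem linOf_injective_apply (g : ↥(Cfsg.isometryGroup F ⇑Q)) (v w : ι → F)
    (h : linOf Q g v = linOf Q g w) : v = w := by
  have h1 := linOf_inv_apply Q g v
  rw [h, linOf_inv_apply] at h1
  exact h1.symm

/-- elements of the stabiliser of `Y` preserve `Y^⊥` -/
theorem lo_mem_orthC_of_mem_subStab (Y : Submodule F (ι → F)) (h : ↥(Cfsg.Omega F ⇑Q))
    (hh : h ∈ subStab Q Y) (w : ι → F) (hw : w ∈ orthC Q Y) : lo Q h w ∈ orthC Q Y := by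
  rw [mem_orthC] at hw ⊢
  intro y hy
  have h1 : lo Q h⁻¹ y ∈ Y := ((mem_subStab Q Y h⁻¹).1 ((subStab Q Y).inv_mem hh) y).1 hy
  have h2 := lo_polar Q h (lo Q h⁻¹ y) w
  rw [lo_apply_inv] at h2
  rw [h2]
  exact hw _ h1

/-- membership in the stabiliser for a corrected isometry -/
theorem mem_subStab_of_corrected (Y P : Submodule F (ι → F)) (hPY : P ≤ Y)
    (g : ↥(Cfsg.isometryGroup F ⇑Q)) (hg : ∀ v, v ∈ Y ↔ linOf Q g v ∈ Y)
    (h : ↥(Cfsg.Omega F ⇑Q)) (hh : ∀ v, ∃ p ∈ P, lo Q h v = linOf Q g (v + p)) :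
    h ∈ subStab Q Y := by
  rw [mem_subStab]
  intro v
  obtain ⟨p, hp, hv⟩ := hh v
  rw [hv, ← hg]
  constructor
  · intro h1; exact Y.add_mem h1 (hPY hp)
  · intro h1
    have := Y.sub_mem h1 (hPY hp)
    simpa using this

theorem relOrth_le (hQ : (QuadraticMap.polarBilin Q).Nondegenerate) (Y S : Submodule F (ι → F)) :
    relOrth Q Y S ≤ Y := fun v hv => ((mem_relOrth Q hQ Y S v).1 hv).1

/-- an element of the stabiliser of `Y` in `Ω` fixing `x ∈ Y` and acting on `Y^⊥` as the reflection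
in the non-singular vector `b ∈ Y^⊥` -/
theorem exists_reflElt (hQ : (QuadraticMap.polarBilin Q).Nondegenerate)
    (hn : 7 ≤ Fintype.card ι) (Y : Submodule F (ι → F)) (hd : Disjoint Y (orthC Q Y))
    (hY : 5 ≤ finrank F Y) (x : ι → F) (hx : x ∈ Y) (b : ι → F) (hb : b ∈ orthC Q Y)
    (hbQ : Q b ≠ 0) :
    ∃ h : ↥(Cfsg.Omega F ⇑Q), h ∈ subStab Q Y ∧ lo Q h x = x ∧
      ∀ a ∈ orthC Q Y, lo Q h a = reflLin Q b a := by
  set P := relOrth Q Y (Submodule.span F {x}) with hP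
  have hS : 2 * finrank F (Submodule.span F {x}) + 3 ≤ finrank F Y := by
    have := finrank_span_singleton_le x
    omega
  have hPu : ∀ γ : F, ∃ c ∈ P, Q c = γ := exists_value_rel Q hQ Y _ hd hS
  obtain ⟨h, hhΩ, hh1, hh2⟩ := exists_Omega_of_isometry Q hQ hn P hPu (reflO Q b)
  have hbY : ∀ y ∈ Y, QuadraticMap.polarBilin Q y b = 0 := (mem_orthC Q Y b).1 hb
  have hfix : ∀ y ∈ Y, linOf Q (reflO Q b) y = y := by
    intro y hy
    exact linOf_reflO_fix Q b y hbQ (by rw [polar_symm]; exact hbY y hy)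
  have hg : ∀ v, v ∈ Y ↔ linOf Q (reflO Q b) v ∈ Y := by
    intro v
    constructor
    · intro hv; rw [hfix v hv]; exact hv
    · intro hv
      have h1 := hfix _ hv
      have h2 := linOf_injective_apply Q _ _ _ h1
      rw [← h2]; exact hv
  refine ⟨⟨h, hhΩ⟩, mem_subStab_of_corrected Q Y P (relOrth_le Q hQ Y _) (reflO Q b) hg ⟨h, hhΩ⟩ hh2,
    ?_, ?_⟩
  · have h1 : ∀ c ∈ P, QuadraticMap.polarBilin Q c x = 0 := by
      intro c hc
      rw [polar_symm]
      exact ((mem_relOrth Q hQ Y _ c).1 hc).2 x (Submodule.mem_span_singleton_self x)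
    have h2 := hh1 x h1
    rw [hfix x hx] at h2
    exact h2
  · intro a ha
    have h1 : ∀ c ∈ P, QuadraticMap.polarBilin Q c a = 0 := by
      intro c hc
      exact (mem_orthC Q Y a).1 ha c (relOrth_le Q hQ Y _ hc)
    have h2 := hh1 a h1
    rw [linOf_reflO Q b hbQ] at h2
    exact h2

/-- an element of the stabiliser of `Y` in `Ω` fixing `x ∈ Y` and moving `a ∈ Y^⊥` to a given
vector `a' ∈ Y^⊥` of the same norm -/
theorem exists_wittElt (hQ : (QuadraticMap.polarBilin Q).Nondegenerate)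
    (hn : 7 ≤ Fintype.card ι) (Y : Submodule F (ι → F)) (hd : Disjoint Y (orthC Q Y))
    (hY : 5 ≤ finrank F Y) (x : ι → F) (hx : x ∈ Y) (a a' : ι → F) (ha : a ∈ orthC Q Y)
    (ha' : a' ∈ orthC Q Y) (ha0 : a ≠ 0) (ha'0 : a' ≠ 0) (haa' : Q a = Q a') :
    ∃ h : ↥(Cfsg.Omega F ⇑Q), h ∈ subStab Q Y ∧ lo Q h x = x ∧ lo Q h a = a' := by
  set P := relOrth Q Y (Submodule.span F {x}) with hP
  have hS : 2 * finrank F (Submodule.span F {x}) + 3 ≤ finrank F Y := by
    have := finrank_span_singleton_le x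
    omega
  have hPu : ∀ γ : F, ∃ c ∈ P, Q c = γ := exists_value_rel Q hQ Y _ hd hS
  have haY : a ∉ Y := fun h => ha0 (eq_zero_of_mem_of_mem_orthC Q Y hd a h ha)
  obtain ⟨z, hza, hzY⟩ := exists_polar_repr Q hQ Y a haY
  have hYa : ∀ y ∈ Y, QuadraticMap.polarBilin Q y a = 0 := (mem_orthC Q Y a).1 ha
  have hYa' : ∀ y ∈ Y, QuadraticMap.polarBilin Q y a' = 0 := (mem_orthC Q Y a').1 ha'
  set f : (ι → F) →ₗ[F] (ι → F) :=
    LinearMap.id + (QuadraticMap.polarBilin Q z).smulRight (a' - a) with hf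
  have hfU : ∀ u ∈ Y ⊔ Submodule.span F {a}, ∃ y ∈ Y, ∃ c : F, u = y + c • a ∧ f u = y + c • a' := by
    intro u hu
    obtain ⟨y, hy, t, ht, rfl⟩ := Submodule.mem_sup.1 hu
    obtain ⟨c, rfl⟩ := Submodule.mem_span_singleton.1 ht
    refine ⟨y, hy, c, rfl, ?_⟩
    rw [hf, LinearMap.add_apply, LinearMap.id_apply, LinearMap.smulRight_apply, map_add, map_smul,
      hzY y hy, hza]
    simp only [smul_eq_mul, mul_one, zero_add, smul_sub]
    abel
  have hfQ : ∀ u ∈ Y ⊔ Submodule.span F {a}, Q (f u) = Q u := by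
    intro u hu
    obtain ⟨y, hy, c, rfl, hfu⟩ := hfU u hu
    rw [hfu, Q_add, Q_add, Q_smul, Q_smul, map_smul, map_smul, hYa y hy, hYa' y hy, haa']
  have hfinj : ∀ u ∈ Y ⊔ Submodule.span F {a}, f u = 0 → u = 0 := by
    intro u hu h0
    obtain ⟨y, hy, c, rfl, hfu⟩ := hfU u hu
    rw [hfu] at h0
    have h1 : y = -(c • a') := eq_neg_of_add_eq_zero_left h0
    have h2 : y ∈ orthC Q Y := by
      rw [h1]
      exact (orthC Q Y).neg_mem ((orthC Q Y).smul_mem c ha')
    have h3 := eq_zero_of_mem_of_mem_orthC Q Y hd y hy h2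
    rw [h3, zero_add] at h0
    rcases smul_eq_zero.1 h0 with h4 | h4
    · rw [h3, h4, zero_smul, add_zero]
    · exact absurd h4 ha'0
  obtain ⟨g, hg⟩ := witt_O Q hQ (Y ⊔ Submodule.span F {a}) f hfQ hfinj
  have hgY : ∀ y ∈ Y, linOf Q g y = y := by
    intro y hy
    rw [hg y (Submodule.mem_sup_left hy), hf, LinearMap.add_apply, LinearMap.id_apply,
      LinearMap.smulRight_apply, hzY y hy, zero_smul, add_zero]
  have hga : linOf Q g a = a' := by
    rw [hg a (Submodule.mem_sup_right (Submodule.mem_span_singleton_self a)), hf,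
      LinearMap.add_apply, LinearMap.id_apply, LinearMap.smulRight_apply, hza, one_smul]
    abel
  have hgstab : ∀ v, v ∈ Y ↔ linOf Q g v ∈ Y := by
    intro v
    constructor
    · intro hv; rw [hgY v hv]; exact hv
    · intro hv
      have h1 := hgY _ hv
      have h2 := linOf_injective_apply Q _ _ _ h1
      rw [← h2]; exact hv
  obtain ⟨h, hhΩ, hh1, hh2⟩ := exists_Omega_of_isometry Q hQ hn P hPu g
  refine ⟨⟨h, hhΩ⟩, mem_subStab_of_corrected Q Y P (relOrth_le Q hQ Y _) g hgstab ⟨h, hhΩ⟩ hh2,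
    ?_, ?_⟩
  · have h1 : ∀ c ∈ P, QuadraticMap.polarBilin Q c x = 0 := by
      intro c hc
      rw [polar_symm]
      exact ((mem_relOrth Q hQ Y _ c).1 hc).2 x (Submodule.mem_span_singleton_self x)
    have h2 := hh1 x h1
    rw [hgY x hx] at h2
    exact h2
  · have h1 : ∀ c ∈ P, QuadraticMap.polarBilin Q c a = 0 := by
      intro c hc
      exact hYa c (relOrth_le Q hQ Y _ hc)
    have h2 := hh1 a h1
    rw [hga] at h2
    exact h2

end finite

end Cfsg.Agent.Lib.Helper43
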