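import Cfsg.Agent.Lib.Helper43.OmegaNondeg3

set_option autoImplicit false
set_option linter.unusedSimpArgs false
set_option linter.unusedVariables false
set_option linter.unusedSectionVars false

/-! Irreducibility of the action of the stabiliser of a non-degenerate subspace `Y` (and of a vector
of `Y`) on `Y^⊥`, except when `Y^⊥` is a hyperbolic plane over a field with at most 3 elements. -/

namespace Cfsg.Agent.Lib.Helper43

open Module Matrix Cfsg.Agent.Lib.Helper19

variable {F : Type*} [Field F] {ι : Type} [Fintype ι] [DecidableEq ι]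
variable (Q : QuadraticForm F (ι → F))

section finite

variable [Fintype F]

/-- a non-singular vector of `Y^⊥` perpendicular to a hyperbolic pair `z, c`, given a non-zero
vector perpendicular to it -/
theorem exists_nonsingular_perp_pair (hQ : (QuadraticMap.polarBilin Q).Nondegenerate)
    (Y : Submodule F (ι → F)) (hd : Disjoint Y (orthC Q Y)) (z c d : ι → F)
    (hz : z ∈ orthC Q Y) (hc : c ∈ orthC Q Y) (hdW : d ∈ orthC Q Y) (hzQ : Q z = 0)
    (hzc : QuadraticMap.polarBilin Q z c ≠ 0) (hd0 : d ≠ 0)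
    (hdz : QuadraticMap.polarBilin Q d z = 0) (hdc : QuadraticMap.polarBilin Q d c = 0) :
    ∃ d' ∈ orthC Q Y, Q d' ≠ 0 ∧ QuadraticMap.polarBilin Q d' z = 0 ∧
      QuadraticMap.polarBilin Q d' c = 0 := by
  by_cases hdQ : Q d ≠ 0
  · exact ⟨d, hdW, hdQ, hdz, hdc⟩
  rw [not_not] at hdQ
  have hdX : d ∉ Y ⊔ Submodule.span F {z, c} := by
    intro h
    obtain ⟨y, hy, t, ht, hyt⟩ := Submodule.mem_sup.1 h
    obtain ⟨α, β, rfl⟩ := Submodule.mem_span_pair.1 ht
    have hyW : y ∈ orthC Q Y := by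
      have : y = d - (α • z + β • c) := by rw [← hyt]; abel
      rw [this]
      exact (orthC Q Y).sub_mem hdW ((orthC Q Y).add_mem ((orthC Q Y).smul_mem α hz)
        ((orthC Q Y).smul_mem β hc))
    have hy0 := eq_zero_of_mem_of_mem_orthC Q Y hd y hy hyW
    rw [hy0, zero_add] at hyt
    have hzz : QuadraticMap.polarBilin Q z z = 0 := by rw [polar_self', hzQ, mul_zero]
    have e1 := hdz
    rw [← hyt] at e1
    simp only [map_add, map_smul, LinearMap.add_apply, LinearMap.smul_apply, smul_eq_mul, hzz,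
      mul_zero, zero_add, polar_symm Q c z] at e1
    have hβ : β = 0 := by
      rcases mul_eq_zero.1 e1 with h1 | h1
      · exact h1
      · exact absurd h1 hzc
    have e2 := hdc
    rw [← hyt, hβ] at e2
    simp only [map_add, map_smul, LinearMap.add_apply, LinearMap.smul_apply, smul_eq_mul,
      zero_mul, add_zero, zero_smul, map_zero, LinearMap.zero_apply] at e2
    have hα : α = 0 := by
      rcases mul_eq_zero.1 e2 with h1 | h1
      · exact h1
      · exact absurd h1 hzc
    apply hd0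
    rw [← hyt, hα, hβ]
    simp
  obtain ⟨e, hed, heX⟩ := exists_polar_repr Q hQ _ d hdX
  have heW : e ∈ orthC Q Y := by
    rw [mem_orthC]
    intro y hy
    rw [polar_symm]
    exact heX y (Submodule.mem_sup_left hy)
  have hez : QuadraticMap.polarBilin Q e z = 0 :=
    heX z (Submodule.mem_sup_right (Submodule.subset_span (by simp)))
  have hec : QuadraticMap.polarBilin Q e c = 0 :=
    heX c (Submodule.mem_sup_right (Submodule.subset_span (by simp)))
  by_cases heQ : Q e ≠ 0
  · exact ⟨e, heW, heQ, hez, hec⟩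
  rw [not_not] at heQ
  refine ⟨d + e, (orthC Q Y).add_mem hdW heW, ?_, ?_, ?_⟩
  · rw [Q_add, hdQ, heQ, polar_symm Q d e, hed]
    simp
  · rw [map_add, LinearMap.add_apply, hdz, hez, add_zero]
  · rw [map_add, LinearMap.add_apply, hdc, hec, add_zero]

/-- every proper subspace of `Y^⊥` misses some non-singular vector of `Y^⊥` -/
theorem exists_nonsingular_notMem (hQ : (QuadraticMap.polarBilin Q).Nondegenerate)
    (Y : Submodule F (ι → F)) (hd : Disjoint Y (orthC Q Y))
    (hex : Fintype.card F ≤ 3 → ∀ z c : ι → F, z ∈ orthC Q Y → c ∈ orthC Q Y → Q z = 0 →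
      QuadraticMap.polarBilin Q z c ≠ 0 → ∃ d ∈ orthC Q Y, d ≠ 0 ∧
        QuadraticMap.polarBilin Q d z = 0 ∧ QuadraticMap.polarBilin Q d c = 0)
    (A : Submodule F (ι → F)) (hAW : A ≤ orthC Q Y) (hA : A ≠ orthC Q Y) :
    ∃ b ∈ orthC Q Y, Q b ≠ 0 ∧ b ∉ A := by
  classical
  have hlt : ¬ orthC Q Y ≤ A := fun h => hA (le_antisymm hAW h)
  obtain ⟨z, hzW, hzA⟩ := SetLike.not_le_iff_exists.1 hlt
  by_cases hzQ : Q z ≠ 0
  · exact ⟨z, hzW, hzQ, hzA⟩
  rw [not_not] at hzQ
  have hz0 : z ≠ 0 := by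
    rintro rfl
    exact hzA A.zero_mem
  obtain ⟨w, hwW, hzw⟩ : ∃ w ∈ orthC Q Y, QuadraticMap.polarBilin Q z w ≠ 0 := by
    by_contra hcon
    push Not at hcon
    have hzY : z ∈ Y := by
      rw [← orthC_orthC Q hQ Y, mem_orthC]
      intro w hw
      rw [polar_symm]
      exact hcon w hw
    exact hz0 (eq_zero_of_mem_of_mem_orthC Q Y hd z hzY hzW)
  by_cases hq : Fintype.card F ≤ 2
  · obtain ⟨d, hdW, hd0, hdz, hdc⟩ := hex (by omega) z w hzW hwW hzQ hzw
    obtain ⟨d', hd'W, hd'Q, hd'z, -⟩ :=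
      exists_nonsingular_perp_pair Q hQ Y hd z w d hzW hwW hdW hzQ hzw hd0 hdz hdc
    by_cases h1 : d' ∈ A
    · refine ⟨d' + z, (orthC Q Y).add_mem hd'W hzW, ?_, ?_⟩
      · rw [Q_add, hzQ, hd'z, add_zero, add_zero]
        exact hd'Q
      · intro h2
        apply hzA
        have := A.sub_mem h2 h1
        simpa using this
    · exact ⟨d', hd'W, hd'Q, h1⟩
  · -- at least three scalars
    set α0 : F := -Q w / QuadraticMap.polarBilin Q z w with hα0
    have hcard : 1 < (Finset.univ.erase α0).card := by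
      rw [Finset.card_erase_of_mem (Finset.mem_univ _), Finset.card_univ]
      omega
    obtain ⟨α1, hα1, α2, hα2, h12⟩ := Finset.one_lt_card.1 hcard
    have hα1' : α1 ≠ α0 := (Finset.mem_erase.1 hα1).1
    have hα2' : α2 ≠ α0 := (Finset.mem_erase.1 hα2).1
    have hval : ∀ α : F, α ≠ α0 → Q (α • z + w) ≠ 0 := by
      intro α hα h0
      apply hα
      rw [Q_add, Q_smul, hzQ, map_smul, LinearMap.smul_apply, smul_eq_mul, mul_zero, zero_add] at h0
      rw [hα0, eq_div_iff hzw]
      linear_combination h0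
    by_cases h1 : α1 • z + w ∈ A
    · refine ⟨α2 • z + w, (orthC Q Y).add_mem ((orthC Q Y).smul_mem _ hzW) hwW, hval α2 hα2', ?_⟩
      intro h2
      apply hzA
      have h3 := A.sub_mem h1 h2
      have h4 : α1 • z + w - (α2 • z + w) = (α1 - α2) • z := by
        rw [sub_smul]; abel
      rw [h4] at h3
      have h5 := A.smul_mem (α1 - α2)⁻¹ h3
      rw [smul_smul, inv_mul_cancel₀ (sub_ne_zero.2 h12), one_smul] at h5
      exact h5
    · exact ⟨α1 • z + w, (orthC Q Y).add_mem ((orthC Q Y).smul_mem _ hzW) hwW, hval α1 hα1', h1⟩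

theorem eq_or_eq_neg_of_card_three (h3 : Fintype.card F = 3) (h2 : (2 : F) ≠ 0) (γ a : F)
    (hγ : γ ≠ 0) (ha : a ≠ 0) : a = γ ∨ a = -γ := by
  classical
  have hne : γ ≠ -γ := by
    intro h
    have h4 : 2 * γ = 0 := by linear_combination h
    rcases mul_eq_zero.1 h4 with h5 | h5
    · exact h2 h5
    · exact hγ h5
  have hS : ({0, γ, -γ} : Finset F) = Finset.univ := by
    apply Finset.eq_univ_of_card
    rw [Finset.card_insert_of_notMem, Finset.card_insert_of_notMem, Finset.card_singleton, h3]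
    · rw [Finset.mem_singleton]; exact hne
    · rw [Finset.mem_insert, Finset.mem_singleton]
      rintro (h | h)
      · exact hγ h.symm
      · exact hγ (neg_eq_zero.1 h.symm)
  have hmem : a ∈ ({0, γ, -γ} : Finset F) := by rw [hS]; exact Finset.mem_univ _
  rw [Finset.mem_insert, Finset.mem_insert, Finset.mem_singleton] at hmem
  rcases hmem with h | h | h
  · exact absurd h ha
  · exact Or.inl h
  · exact Or.inr h

/-- **irreducibility**: a non-zero subspace of `Y^⊥` invariant under the elements of the stabiliser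
of `Y` in `Ω` fixing `x ∈ Y` is all of `Y^⊥` -/
theorem irreducible_orthC (hQ : (QuadraticMap.polarBilin Q).Nondegenerate)
    (hn : 7 ≤ Fintype.card ι) (Y : Submodule F (ι → F)) (hd : Disjoint Y (orthC Q Y))
    (hY : 5 ≤ finrank F Y) (x : ι → F) (hx : x ∈ Y)
    (hex : Fintype.card F ≤ 3 → ∀ z c : ι → F, z ∈ orthC Q Y → c ∈ orthC Q Y → Q z = 0 →
      QuadraticMap.polarBilin Q z c ≠ 0 → ∃ d ∈ orthC Q Y, d ≠ 0 ∧
        QuadraticMap.polarBilin Q d z = 0 ∧ QuadraticMap.polarBilin Q d c = 0)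
    (A : Submodule F (ι → F)) (hAW : A ≤ orthC Q Y) (hA0 : A ≠ ⊥)
    (hinv : ∀ h ∈ subStab Q Y, lo Q h x = x → ∀ a ∈ A, lo Q h a ∈ A) : A = orthC Q Y := by
  classical
  by_contra hA
  set A' : Submodule F (ι → F) := orthC Q Y ⊓ orthC Q A with hA'
  have F1 : ∀ b ∈ orthC Q Y, Q b ≠ 0 → b ∈ A ∨ b ∈ A' := by
    intro b hbW hbQ
    by_cases hbA : b ∈ A
    · left; exact hbA
    right
    refine Submodule.mem_inf.2 ⟨hbW, ?_⟩
    rw [mem_orthC]
    intro a ha
    obtain ⟨h, hh, hhx, hact⟩ := exists_reflElt Q hQ hn Y hd hY x hx b hbW hbQ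
    have h1 := hinv h hh hhx a ha
    rw [hact a (hAW ha), reflLin_apply'] at h1
    by_contra hab
    apply hbA
    have h2 : ((Q b)⁻¹ * QuadraticMap.polarBilin Q a b) • b ∈ A := by
      have := A.sub_mem ha h1
      simpa using this
    have h3 := A.smul_mem ((Q b)⁻¹ * QuadraticMap.polarBilin Q a b)⁻¹ h2
    rw [smul_smul, inv_mul_cancel₀ (mul_ne_zero (inv_ne_zero hbQ) hab), one_smul] at h3
    exact h3
  have F2 : ∀ a ∈ A, a ≠ 0 → ∀ a' ∈ orthC Q Y, a' ≠ 0 → Q a = Q a' → a' ∈ A := by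
    intro a ha ha0 a' ha'W ha'0 hQa
    obtain ⟨h, hh, hhx, hha⟩ :=
      exists_wittElt Q hQ hn Y hd hY x hx a a' (hAW ha) ha'W ha0 ha'0 hQa
    rw [← hha]
    exact hinv h hh hhx a ha
  have F2' : ∀ a ∈ A', a ≠ 0 → ∀ a' ∈ orthC Q Y, a' ≠ 0 → Q a = Q a' → a' ∈ A' := by
    intro a ha ha0 a' ha'W ha'0 hQa
    obtain ⟨h, hh, hhx, hha⟩ :=
      exists_wittElt Q hQ hn Y hd hY x hx a a' ha.1 ha'W ha0 ha'0 hQa
    refine Submodule.mem_inf.2 ⟨ha'W, ?_⟩
    rw [mem_orthC]
    intro e he
    have hhx' : lo Q h⁻¹ x = x := by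
      have := lo_inv_apply Q h x
      rw [hhx] at this
      exact this
    have hinvmem : lo Q h⁻¹ e ∈ A := hinv h⁻¹ ((subStab Q Y).inv_mem hh) hhx' e he
    have h1 := lo_polar Q h (lo Q h⁻¹ e) a
    rw [lo_apply_inv, hha] at h1
    rw [h1]
    exact (mem_orthC Q A a).1 ha.2 _ hinvmem
  have hA'W : A' ≤ orthC Q Y := inf_le_left
  have hA'ne : A' ≠ orthC Q Y := by
    intro h
    apply hA0
    rw [eq_bot_iff]
    intro a ha
    have haY : a ∈ Y := by
      rw [← orthC_orthC Q hQ Y, mem_orthC]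
      intro w hw
      have hw' : w ∈ A' := by rw [h]; exact hw
      rw [polar_symm]
      exact (mem_orthC Q A w).1 hw'.2 a ha
    rw [Submodule.mem_bot]
    exact eq_zero_of_mem_of_mem_orthC Q Y hd a haY (hAW ha)
  obtain ⟨b1, hb1W, hb1Q, hb1A⟩ := exists_nonsingular_notMem Q hQ Y hd hex A hAW hA
  obtain ⟨b2, hb2W, hb2Q, hb2A'⟩ := exists_nonsingular_notMem Q hQ Y hd hex A' hA'W hA'ne
  have hb1A' : b1 ∈ A' := (F1 b1 hb1W hb1Q).resolve_left hb1A
  have hb2A : b2 ∈ A := (F1 b2 hb2W hb2Q).resolve_right hb2A'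
  have hb21 : QuadraticMap.polarBilin Q b2 b1 = 0 := (mem_orthC Q A b1).1 hb1A'.2 b2 hb2A
  have hb1_0 : b1 ≠ 0 := by
    rintro rfl
    exact hb1Q (map_zero Q)
  have hb2_0 : b2 ≠ 0 := by
    rintro rfl
    exact hb2Q (map_zero Q)
  have hne : Q b1 ≠ Q b2 := fun h => hb1A (F2 b2 hb2A hb2_0 b1 hb1W hb1_0 h.symm)
  have F5 : ∀ t : F, t ≠ 0 → Q b1 + t ^ 2 * Q b2 = 0 := by
    intro t ht
    by_contra h0
    have hmem : b1 + t • b2 ∈ orthC Q Y :=
      (orthC Q Y).add_mem hb1W ((orthC Q Y).smul_mem t hb2W)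
    have hQ' : Q (b1 + t • b2) ≠ 0 := by
      rw [Q_add, Q_smul, map_smul, polar_symm Q b1 b2, hb21, smul_zero, add_zero, ← pow_two]
      exact h0
    rcases F1 _ hmem hQ' with h1 | h1
    · apply hb1A
      have := A.sub_mem h1 (A.smul_mem t hb2A)
      simpa using this
    · apply hb2A'
      have h2 := A'.sub_mem h1 hb1A'
      have h3 : b1 + t • b2 - b1 = t • b2 := by abel
      rw [h3] at h2
      have h4 := A'.smul_mem t⁻¹ h2
      rw [smul_smul, inv_mul_cancel₀ ht, one_smul] at h4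
      exact h4
  have h1 := F5 1 one_ne_zero
  rw [one_pow, one_mul] at h1
  by_cases h2 : (2 : F) = 0
  · apply hne
    have h3 : Q b2 + Q b2 = 0 := by rw [← two_mul, h2, zero_mul]
    linear_combination h1 - h3
  have hcard2 : Fintype.card F ≠ 2 := by
    intro h
    apply h2
    have := FiniteField.cast_card_eq_zero F
    rw [h] at this
    exact_mod_cast this
  by_cases h3 : Fintype.card F = 3
  · have h30 : (3 : F) = 0 := by
      have := FiniteField.cast_card_eq_zero F
      rw [h3] at this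
      exact_mod_cast this
    have hQb2 : Q b2 = -Q b1 := by linear_combination h1
    have hzQ : Q (b1 + b2) = 0 := by
      rw [Q_add, polar_symm Q b1 b2, hb21, hQb2]
      ring
    have hzc : QuadraticMap.polarBilin Q (b1 + b2) b1 ≠ 0 := by
      rw [map_add, LinearMap.add_apply, polar_self', hb21, add_zero]
      exact mul_ne_zero h2 hb1Q
    obtain ⟨d, hdW, hd0, hdz, hdc⟩ :=
      hex (by omega) (b1 + b2) b1 ((orthC Q Y).add_mem hb1W hb2W) hb1W hzQ hzc
    obtain ⟨d', hd'W, hd'Q, hd'z, hd'c⟩ := exists_nonsingular_perp_pair Q hQ Y hd (b1 + b2) b1 d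
      ((orthC Q Y).add_mem hb1W hb2W) hb1W hdW hzQ hzc hd0 hdz hdc
    have hd'0 : d' ≠ 0 := by
      rintro rfl
      exact hd'Q (map_zero Q)
    have hd'2 : QuadraticMap.polarBilin Q d' b2 = 0 := by
      have := hd'z
      rw [map_add, hd'c, zero_add] at this
      exact this
    rcases eq_or_eq_neg_of_card_three h3 h2 (Q b1) (Q d') hb1Q hd'Q with h | h
    · have hd'A' : d' ∈ A' := F2' b1 hb1A' hb1_0 d' hd'W hd'0 h.symm
      have hn1 : Q (b1 + d') = Q b2 := by
        rw [Q_add, polar_symm Q b1 d', hd'c, h, hQb2]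
        linear_combination Q b1 * h30
      have hn2 : Q (b1 - d') = Q b2 := by
        rw [Q_sub, polar_symm Q b1 d', hd'c, h, hQb2]
        linear_combination Q b1 * h30
      have hm1 : b1 + d' ∈ A := by
        apply F2 b2 hb2A hb2_0 _ ((orthC Q Y).add_mem hb1W hd'W) _ hn1.symm
        intro h0
        rw [h0, map_zero] at hn1
        exact hb2Q hn1.symm
      have hm2 : b1 - d' ∈ A := by
        apply F2 b2 hb2A hb2_0 _ ((orthC Q Y).sub_mem hb1W hd'W) _ hn2.symm
        intro h0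
        rw [h0, map_zero] at hn2
        exact hb2Q hn2.symm
      have h4 := A.add_mem hm1 hm2
      have h5 : b1 + d' + (b1 - d') = (2 : F) • b1 := by rw [two_smul]; abel
      rw [h5] at h4
      have h6 := A.smul_mem (2 : F)⁻¹ h4
      rw [smul_smul, inv_mul_cancel₀ h2, one_smul] at h6
      exact hb1A h6
    · have hd'A : d' ∈ A := F2 b2 hb2A hb2_0 d' hd'W hd'0 (by rw [h, hQb2])
      have hn1 : Q (b2 + d') = Q b1 := by
        rw [Q_add, polar_symm Q b2 d', hd'2, h, hQb2]
        linear_combination -Q b1 * h30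
      have hn2 : Q (b2 - d') = Q b1 := by
        rw [Q_sub, polar_symm Q b2 d', hd'2, h, hQb2]
        linear_combination -Q b1 * h30
      have hm1 : b2 + d' ∈ A' := by
        apply F2' b1 hb1A' hb1_0 _ ((orthC Q Y).add_mem hb2W hd'W) _ hn1.symm
        intro h0
        rw [h0, map_zero] at hn1
        exact hb1Q hn1.symm
      have hm2 : b2 - d' ∈ A' := by
        apply F2' b1 hb1A' hb1_0 _ ((orthC Q Y).sub_mem hb2W hd'W) _ hn2.symm
        intro h0
        rw [h0, map_zero] at hn2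
        exact hb1Q hn2.symm
      have h4 := A'.add_mem hm1 hm2
      have h5 : b2 + d' + (b2 - d') = (2 : F) • b2 := by rw [two_smul]; abel
      rw [h5] at h4
      have h6 := A'.smul_mem (2 : F)⁻¹ h4
      rw [smul_smul, inv_mul_cancel₀ h2, one_smul] at h6
      exact hb2A' h6
  · have hcard : 3 < Fintype.card F := by
      have := Fintype.one_lt_card (α := F)
      omega
    obtain ⟨t, ht⟩ : ∃ t : F, t ∉ ({0, 1, -1} : Finset F) := by
      by_contra hcon
      push Not at hcon
      have hsub : (Finset.univ : Finset F) ⊆ ({0, 1, -1} : Finset F) := fun t _ => hcon t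
      have h4 := Finset.card_le_card hsub
      have h5 : ({0, 1, -1} : Finset F).card ≤ 3 := Finset.card_le_three
      rw [Finset.card_univ] at h4
      omega
    rw [Finset.mem_insert, Finset.mem_insert, Finset.mem_singleton] at ht
    push Not at ht
    obtain ⟨ht0, ht1, ht2⟩ := ht
    have h4 := F5 t ht0
    have h5 : (t - 1) * (t + 1) * Q b2 = 0 := by linear_combination h4 - h1
    rcases mul_eq_zero.1 h5 with h6 | h6
    · rcases mul_eq_zero.1 h6 with h7 | h7
      · exact ht1 (sub_eq_zero.1 h7)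
      · exact ht2 (eq_neg_of_add_eq_zero_left h7)
    · exact hb2Q h6

end finite

end Cfsg.Agent.Lib.Helper43
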