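import Cfsg.Agent.Lib.Helper43.OmegaNondeg4

set_option autoImplicit false
set_option linter.unusedSimpArgs false
set_option linter.unusedVariables false
set_option linter.unusedSectionVars false

/-! An element of `Ω` not stabilising the non-degenerate subspace `Y` conjugates some Siegel
transformation internal to `Y` to an element not stabilising `Y`. -/

namespace Cfsg.Agent.Lib.Helper43

open Module Matrix Cfsg.Agent.Lib.Helper19

variable {F : Type*} [Field F] {ι : Type} [Fintype ι] [DecidableEq ι]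
variable (Q : QuadraticForm F (ι → F))

section finite

variable [Fintype F]

/-- an element of `Ω` mapping `Y` into `Y` stabilises `Y` -/
theorem mem_subStab_of_map_le (Y : Submodule F (ι → F)) (g : ↥(Cfsg.Omega F ⇑Q))
    (h : ∀ y ∈ Y, lo Q g y ∈ Y) : g ∈ subStab Q Y := by
  rw [mem_subStab]
  intro v
  refine ⟨h v, fun hv => ?_⟩
  set f : Y →ₗ[F] Y := (lo Q g).restrict h with hf
  have hinj : Function.Injective f := by
    intro a b hab
    apply Subtype.ext
    have h1 : lo Q g (a : ι → F) = lo Q g (b : ι → F) := congrArg Subtype.val hab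
    have h2 := lo_inv_apply Q g (a : ι → F)
    rw [h1, lo_inv_apply] at h2
    exact h2.symm
  have hsurj : Function.Surjective f := LinearMap.injective_iff_surjective.1 hinj
  obtain ⟨y, hy⟩ := hsurj ⟨lo Q g v, hv⟩
  have h1 : lo Q g (y : ι → F) = lo Q g v := congrArg Subtype.val hy
  have h2 := lo_inv_apply Q g (y : ι → F)
  rw [h1, lo_inv_apply] at h2
  rw [h2]
  exact y.2

/-- the key closure property: if all conjugates by `g` of the long root elements internal to `Y`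
stabilise `Y`, then `g⁻¹ Y` is closed under the maps `z ↦ f(z,v) u - f(z,u) v` -/
theorem comap_closed (hQ : (QuadraticMap.polarBilin Q).Nondegenerate) (hn : 7 ≤ Fintype.card ι)
    (Y : Submodule F (ι → F)) (g : ↥(Cfsg.Omega F ⇑Q))
    (hall : ∀ (u v : ι → F) (hu : Q u = 0) (huv : QuadraticMap.polarBilin Q u v = 0),
      u ∈ Y → v ∈ Y → g * sO Q hQ hn u v hu huv * g⁻¹ ∈ subStab Q Y)
    (z : ι → F) (hz : lo Q g z ∈ Y) (u v : ι → F) (hu : Q u = 0) (hv : Q v = 0)
    (huv : QuadraticMap.polarBilin Q u v = 0) (huY : u ∈ Y) (hvY : v ∈ Y) :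
    lo Q g (QuadraticMap.polarBilin Q z v • u - QuadraticMap.polarBilin Q z u • v) ∈ Y := by
  have h1 := hall u v hu huv huY hvY
  have h2 := ((mem_subStab Q Y _).1 h1 (lo Q g z)).1 hz
  rw [lo_mul_apply, lo_mul_apply, lo_inv_apply, lo_sO, siegelLin_apply, hv, zero_mul, sub_zero] at h2
  have h3 : lo Q g (QuadraticMap.polarBilin Q z v • u - QuadraticMap.polarBilin Q z u • v) =
      lo Q g (z + QuadraticMap.polarBilin Q z v • u + (-QuadraticMap.polarBilin Q z u) • v) -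
        lo Q g z := by
    rw [← map_sub]
    congr 1
    rw [neg_smul]
    abel
  rw [h3]
  exact Y.sub_mem h2 hz

/-- a subspace `Z` closed under `z ↦ f(z,v) u - f(z,u) v` (`u, v` a totally singular pair of `Y`)
contains `Y ∩ z^⊥` for each `z ∈ Z` not perpendicular to `Y` -/
theorem perp_le_of_closed (hQ : (QuadraticMap.polarBilin Q).Nondegenerate)
    (Y Z : Submodule F (ι → F)) (hd : Disjoint Y (orthC Q Y)) (hY : 5 ≤ finrank F Y)
    (hcl : ∀ z ∈ Z, ∀ u v : ι → F, Q u = 0 → Q v = 0 → QuadraticMap.polarBilin Q u v = 0 →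
      u ∈ Y → v ∈ Y →
      QuadraticMap.polarBilin Q z v • u - QuadraticMap.polarBilin Q z u • v ∈ Z)
    (z : ι → F) (hz : z ∈ Z) (y₀ : ι → F) (hy₀ : y₀ ∈ Y)
    (hzy : QuadraticMap.polarBilin Q z y₀ ≠ 0) :
    ∀ m ∈ Y, QuadraticMap.polarBilin Q z m = 0 → m ∈ Z := by
  intro m hmY hzm
  by_contra hmZ
  obtain ⟨ψ, hψm, hψZ⟩ := Submodule.exists_dual_map_eq_bot_of_notMem hmZ inferInstance
  have hψ0 : ∀ v ∈ Z, ψ v = 0 := by
    intro v hv
    have : ψ v ∈ Z.map ψ := Submodule.mem_map_of_mem hv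
    rw [hψZ, Submodule.mem_bot] at this
    exact this
  have hS1 : ∀ a : ι → F, 2 * finrank F (Submodule.span F {a}) + 3 ≤ finrank F Y := by
    intro a
    have := finrank_span_singleton_le a
    omega
  -- good vectors lie in `Z`
  have G : ∀ v ∈ Y, Q v = 0 → QuadraticMap.polarBilin Q z v = 0 →
      (∃ u ∈ Y, Q u = 0 ∧ QuadraticMap.polarBilin Q u v = 0 ∧ QuadraticMap.polarBilin Q z u ≠ 0) →
      v ∈ Z := by
    rintro v hvY hvQ hzv ⟨u, huY, huQ, huv, hzu⟩
    have h1 := hcl z hz u v huQ hvQ huv huY hvY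
    rw [hzv, zero_smul, zero_sub] at h1
    have h2 := Z.smul_mem (-(QuadraticMap.polarBilin Q z u)⁻¹) h1
    rw [smul_neg, neg_smul, neg_neg, smul_smul, inv_mul_cancel₀ hzu, one_smul] at h2
    exact h2
  -- vectors which are not good
  have L1 : ∀ v ∈ Y, Q v = 0 →
      (¬ ∃ u ∈ Y, Q u = 0 ∧ QuadraticMap.polarBilin Q u v = 0 ∧
        QuadraticMap.polarBilin Q z u ≠ 0) →
      ∀ y ∈ Y, QuadraticMap.polarBilin Q v y = 0 → QuadraticMap.polarBilin Q z y = 0 := by
    intro v hvY hvQ hbad y hyY hvy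
    by_contra hzy'
    apply hbad
    obtain ⟨s, x1, hsN, hx1N, hsQ, hsx1⟩ :=
      exists_singular_pair_rel Q hQ Y (Submodule.span F {v}) hd (hS1 v)
    have hyN : y ∈ relOrth Q Y (Submodule.span F {v}) := by
      rw [mem_relOrth Q hQ]
      refine ⟨hyY, fun t ht => ?_⟩
      obtain ⟨c, rfl⟩ := Submodule.mem_span_singleton.1 ht
      rw [map_smul, LinearMap.smul_apply, hvy, smul_zero]
    obtain ⟨s', hs'N, hs'Q, hs'⟩ := exists_singular_functional_ne Q _ s x1 hsN hx1N hsQ hsx1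
      (QuadraticMap.polarBilin Q z) y hyN hzy'
    have hs'2 := (mem_relOrth Q hQ Y _ s').1 hs'N
    refine ⟨s', hs'2.1, hs'Q, ?_, hs'⟩
    rw [polar_symm]
    exact hs'2.2 v (Submodule.mem_span_singleton_self v)
  -- a singular vector of `Y ∩ z^⊥` on which `ψ` does not vanish
  obtain ⟨s, x1, hsM, hx1M, hsQ, hsx1⟩ :=
    exists_singular_pair_rel Q hQ Y (Submodule.span F {z}) hd (hS1 z)
  have hmM : m ∈ relOrth Q Y (Submodule.span F {z}) := by
    rw [mem_relOrth Q hQ]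
    refine ⟨hmY, fun t ht => ?_⟩
    obtain ⟨c, rfl⟩ := Submodule.mem_span_singleton.1 ht
    rw [map_smul, LinearMap.smul_apply, hzm, smul_zero]
  obtain ⟨s', hs'M, hs'Q, hψs'⟩ :=
    exists_singular_functional_ne Q _ s x1 hsM hx1M hsQ hsx1 ψ m hmM hψm
  have hs'2 := (mem_relOrth Q hQ Y _ s').1 hs'M
  have hs'Y : s' ∈ Y := hs'2.1
  have hzs' : QuadraticMap.polarBilin Q z s' = 0 := hs'2.2 z (Submodule.mem_span_singleton_self z)
  have hs'bad : ¬ ∃ u ∈ Y, Q u = 0 ∧ QuadraticMap.polarBilin Q u s' = 0 ∧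
      QuadraticMap.polarBilin Q z u ≠ 0 := by
    intro hgood
    exact hψs' (hψ0 s' (G s' hs'Y hs'Q hzs' hgood))
  have L1s' := L1 s' hs'Y hs'Q hs'bad
  obtain ⟨v1, x2, hv1N, hx2N, hv1Q, hv1x2⟩ :=
    exists_singular_pair_rel Q hQ Y (Submodule.span F {s'}) hd (hS1 s')
  have hv1' := (mem_relOrth Q hQ Y _ v1).1 hv1N
  have hx2' := (mem_relOrth Q hQ Y _ x2).1 hx2N
  have hs'v1 : QuadraticMap.polarBilin Q s' v1 = 0 :=
    hv1'.2 s' (Submodule.mem_span_singleton_self s')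
  have hs'x2 : QuadraticMap.polarBilin Q s' x2 = 0 :=
    hx2'.2 s' (Submodule.mem_span_singleton_self s')
  have hzx2 : QuadraticMap.polarBilin Q z x2 = 0 := L1s' x2 hx2'.1 hs'x2
  -- singular vectors of `Y` not perpendicular to `x2` are good
  have L3 : ∀ w ∈ Y, Q w = 0 → QuadraticMap.polarBilin Q w x2 ≠ 0 →
      ∃ u ∈ Y, Q u = 0 ∧ QuadraticMap.polarBilin Q u w = 0 ∧
        QuadraticMap.polarBilin Q z u ≠ 0 := by
    intro w hwY hwQ hwx2
    by_contra hbad
    have L1w := L1 w hwY hwQ hbad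
    apply hzy
    set t := QuadraticMap.polarBilin Q w y₀ / QuadraticMap.polarBilin Q w x2 with ht
    have h1 : QuadraticMap.polarBilin Q z (y₀ - t • x2) = 0 := by
      apply L1w _ (Y.sub_mem hy₀ (Y.smul_mem t hx2'.1))
      rw [map_sub, map_smul, smul_eq_mul, ht, div_mul_cancel₀ _ hwx2, sub_self]
    rw [map_sub, map_smul, hzx2, smul_zero, sub_zero] at h1
    exact h1
  have hzv1 : QuadraticMap.polarBilin Q z v1 = 0 := L1s' v1 hv1'.1 hs'v1
  have hv1Z : v1 ∈ Z := G v1 hv1'.1 hv1Q hzv1 (L3 v1 hv1'.1 hv1Q hv1x2)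
  have hsumQ : Q (s' + v1) = 0 := by
    rw [Q_add, hs'Q, hv1Q, hs'v1]
    simp
  have hsumx2 : QuadraticMap.polarBilin Q (s' + v1) x2 ≠ 0 := by
    rw [map_add, LinearMap.add_apply, hs'x2, zero_add]
    exact hv1x2
  have hzsum : QuadraticMap.polarBilin Q z (s' + v1) = 0 := by
    rw [map_add, hzs', hzv1, add_zero]
  have hsumZ : s' + v1 ∈ Z :=
    G _ (Y.add_mem hs'Y hv1'.1) hsumQ hzsum (L3 _ (Y.add_mem hs'Y hv1'.1) hsumQ hsumx2)
  apply hψs'
  have h1 := hψ0 _ hsumZ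
  rw [map_add, hψ0 v1 hv1Z, add_zero] at h1
  exact h1

/-- under the same closure property, `Y ≤ Z` as soon as `Z` is not perpendicular to `Y` -/
theorem le_of_closed (hQ : (QuadraticMap.polarBilin Q).Nondegenerate)
    (Y Z : Submodule F (ι → F)) (hd : Disjoint Y (orthC Q Y)) (hY : 5 ≤ finrank F Y)
    (hcl : ∀ z ∈ Z, ∀ u v : ι → F, Q u = 0 → Q v = 0 → QuadraticMap.polarBilin Q u v = 0 →
      u ∈ Y → v ∈ Y →
      QuadraticMap.polarBilin Q z v • u - QuadraticMap.polarBilin Q z u • v ∈ Z)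
    (z : ι → F) (hz : z ∈ Z) (y₀ : ι → F) (hy₀ : y₀ ∈ Y)
    (hzy : QuadraticMap.polarBilin Q z y₀ ≠ 0) : Y ≤ Z := by
  have B2 := perp_le_of_closed Q hQ Y Z hd hY hcl z hz y₀ hy₀ hzy
  have hS1 : 2 * finrank F (Submodule.span F {z}) + 3 ≤ finrank F Y := by
    have := finrank_span_singleton_le z
    omega
  obtain ⟨s, x1, hsM, hx1M, hsQ, hsx1⟩ :=
    exists_singular_pair_rel Q hQ Y (Submodule.span F {z}) hd hS1
  have hs' := (mem_relOrth Q hQ Y _ s).1 hsM
  have hx1' := (mem_relOrth Q hQ Y _ x1).1 hx1M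
  have hsZ : s ∈ Z := B2 s hs'.1 (hs'.2 z (Submodule.mem_span_singleton_self z))
  have hx1Z : x1 ∈ Z := B2 x1 hx1'.1 (hx1'.2 z (Submodule.mem_span_singleton_self z))
  have B2s := perp_le_of_closed Q hQ Y Z hd hY hcl s hsZ x1 hx1'.1 hsx1
  intro y hy
  set t := QuadraticMap.polarBilin Q s y / QuadraticMap.polarBilin Q s x1 with ht
  have h1 : y - t • x1 ∈ Z := by
    apply B2s _ (Y.sub_mem hy (Y.smul_mem t hx1'.1))
    rw [map_sub, map_smul, smul_eq_mul, ht, div_mul_cancel₀ _ hsx1, sub_self]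
  have h2 := Z.add_mem h1 (Z.smul_mem t hx1Z)
  simpa using h2

/-- **Step 0**: an element of `Ω` not stabilising `Y` conjugates some long root element
internal to `Y` outside the stabiliser of `Y` -/
theorem exists_siegel_conj_notMem (hQ : (QuadraticMap.polarBilin Q).Nondegenerate)
    (hn : 7 ≤ Fintype.card ι) (Y : Submodule F (ι → F)) (hd : Disjoint Y (orthC Q Y))
    (hY : 5 ≤ finrank F Y)
    (hns : ∀ g : ↥(Cfsg.Omega F ⇑Q), ¬ ∀ v ∈ Y, lo Q g v ∈ orthC Q Y)
    (g : ↥(Cfsg.Omega F ⇑Q)) (hg : g ∉ subStab Q Y) :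
    ∃ (u v : ι → F) (hu : Q u = 0) (huv : QuadraticMap.polarBilin Q u v = 0),
      u ∈ Y ∧ v ∈ Y ∧ Q v = 0 ∧ g * sO Q hQ hn u v hu huv * g⁻¹ ∉ subStab Q Y := by
  by_contra hcon
  have hall : ∀ (u v : ι → F) (hu : Q u = 0) (huv : QuadraticMap.polarBilin Q u v = 0),
      u ∈ Y → v ∈ Y → Q v = 0 → g * sO Q hQ hn u v hu huv * g⁻¹ ∈ subStab Q Y := by
    intro u v hu huv huY hvY hvQ
    by_contra h
    exact hcon ⟨u, v, hu, huv, huY, hvY, hvQ, h⟩
  set Z : Submodule F (ι → F) := Y.comap (lo Q g) with hZ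
  have hcl : ∀ z ∈ Z, ∀ u v : ι → F, Q u = 0 → Q v = 0 → QuadraticMap.polarBilin Q u v = 0 →
      u ∈ Y → v ∈ Y →
      QuadraticMap.polarBilin Q z v • u - QuadraticMap.polarBilin Q z u • v ∈ Z := by
    intro z hz u v hu hv huv huY hvY
    rw [hZ, Submodule.mem_comap]
    have hz' : lo Q g z ∈ Y := hz
    have h1 := hall u v hu huv huY hvY hv
    have h2 := ((mem_subStab Q Y _).1 h1 (lo Q g z)).1 hz'
    rw [lo_mul_apply, lo_mul_apply, lo_inv_apply, lo_sO, siegelLin_apply, hv, zero_mul,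
      sub_zero] at h2
    have h3 : lo Q g (QuadraticMap.polarBilin Q z v • u - QuadraticMap.polarBilin Q z u • v) =
        lo Q g (z + QuadraticMap.polarBilin Q z v • u + (-QuadraticMap.polarBilin Q z u) • v) -
          lo Q g z := by
      rw [← map_sub]
      congr 1
      rw [neg_smul]
      abel
    rw [h3]
    exact Y.sub_mem h2 hz'
  by_cases hex : ∃ z ∈ Z, ∃ y₀ ∈ Y, QuadraticMap.polarBilin Q z y₀ ≠ 0
  · obtain ⟨z, hz, y₀, hy₀, hzy⟩ := hex
    have hle := le_of_closed Q hQ Y Z hd hY hcl z hz y₀ hy₀ hzy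
    apply hg
    apply mem_subStab_of_map_le
    intro y hy
    exact hle hy
  · push Not at hex
    apply hns g⁻¹
    intro v hv
    rw [mem_orthC]
    intro y hy
    rw [polar_symm]
    apply hex _ _ y hy
    rw [hZ, Submodule.mem_comap, lo_apply_inv]
    exact hv

end finite

end Cfsg.Agent.Lib.Helper43
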