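import Cfsg.Agent.Lib.Helper43.OmegaNondeg5

set_option autoImplicit false
set_option linter.unusedSimpArgs false
set_option linter.unusedVariables false
set_option linter.unusedSectionVars false

/-! Maximality of the stabiliser in `Ω` of a non-degenerate subspace `Y` (with `Y` not mapped
into `Y^⊥` by `Ω`). -/

namespace Cfsg.Agent.Lib.Helper43

open Module Matrix Cfsg.Agent.Lib.Helper19

variable {F : Type*} [Field F] {ι : Type} [Fintype ι] [DecidableEq ι]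
variable (Q : QuadraticForm F (ι → F))

section finite

variable [Fintype F]

open Classical in
/-- the Siegel transformation as an element of `Ω`, without proof arguments -/
noncomputable def sOf (hQ : (QuadraticMap.polarBilin Q).Nondegenerate) (hn : 7 ≤ Fintype.card ι)
    (u v : ι → F) : ↥(Cfsg.Omega F ⇑Q) :=
  if h : Q u = 0 ∧ QuadraticMap.polarBilin Q u v = 0 then sO Q hQ hn u v h.1 h.2 else 1

theorem sOf_eq (hQ : (QuadraticMap.polarBilin Q).Nondegenerate) (hn : 7 ≤ Fintype.card ι)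
    (u v : ι → F) (hu : Q u = 0) (huv : QuadraticMap.polarBilin Q u v = 0) :
    sOf Q hQ hn u v = sO Q hQ hn u v hu huv := by
  unfold sOf
  rw [dif_pos ⟨hu, huv⟩]

theorem lo_sOf (hQ : (QuadraticMap.polarBilin Q).Nondegenerate) (hn : 7 ≤ Fintype.card ι)
    (u v : ι → F) (hu : Q u = 0) (huv : QuadraticMap.polarBilin Q u v = 0) :
    lo Q (sOf Q hQ hn u v) = siegelLin Q u v := by
  rw [sOf_eq Q hQ hn u v hu huv, lo_sO]

theorem sOf_conj (hQ : (QuadraticMap.polarBilin Q).Nondegenerate) (hn : 7 ≤ Fintype.card ι)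
    (k : ↥(Cfsg.Omega F ⇑Q)) (u v : ι → F) (hu : Q u = 0)
    (huv : QuadraticMap.polarBilin Q u v = 0) :
    k * sOf Q hQ hn u v * k⁻¹ = sOf Q hQ hn (lo Q k u) (lo Q k v) := by
  have hu' : Q (lo Q k u) = 0 := by rw [lo_isometry]; exact hu
  have huv' : QuadraticMap.polarBilin Q (lo Q k u) (lo Q k v) = 0 := by rw [lo_polar]; exact huv
  rw [sOf_eq Q hQ hn u v hu huv, sOf_eq Q hQ hn _ _ hu' huv']
  apply Subtype.ext
  rw [Subgroup.coe_mul, Subgroup.coe_mul, Subgroup.coe_inv]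
  unfold sO
  simp only
  rw [siegelO_conj Q hQ _ u v hu huv]
  rfl

theorem sOf_mul (hQ : (QuadraticMap.polarBilin Q).Nondegenerate) (hn : 7 ≤ Fintype.card ι)
    (u v w : ι → F) (hu : Q u = 0) (huv : QuadraticMap.polarBilin Q u v = 0)
    (huw : QuadraticMap.polarBilin Q u w = 0) :
    sOf Q hQ hn u v * sOf Q hQ hn u w = sOf Q hQ hn u (v + w) := by
  have h : QuadraticMap.polarBilin Q u (v + w) = 0 := by rw [map_add, huv, huw, add_zero]
  apply lo_injective Q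
  apply LinearMap.ext
  intro y
  rw [lo_mul_apply, lo_sOf Q hQ hn u v hu huv, lo_sOf Q hQ hn u w hu huw,
    lo_sOf Q hQ hn u (v + w) hu h, ← LinearMap.comp_apply, siegelLin_comp Q u v w hu huv huw]

theorem sOf_zero (hQ : (QuadraticMap.polarBilin Q).Nondegenerate) (hn : 7 ≤ Fintype.card ι)
    (u : ι → F) (hu : Q u = 0) : sOf Q hQ hn u 0 = 1 := by
  apply lo_injective Q
  apply LinearMap.ext
  intro y
  rw [lo_sOf Q hQ hn u 0 hu (by simp), siegelLin_zero_right, lo_one_apply]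

theorem sOf_mem_subStab (hQ : (QuadraticMap.polarBilin Q).Nondegenerate)
    (hn : 7 ≤ Fintype.card ι) (Y : Submodule F (ι → F)) (u v : ι → F) (hu : Q u = 0)
    (huv : QuadraticMap.polarBilin Q u v = 0) (huY : u ∈ Y) (hvY : v ∈ Y) :
    sOf Q hQ hn u v ∈ subStab Q Y := by
  rw [sOf_eq Q hQ hn u v hu huv]
  apply sO_mem_subStab
  · intro x hx
    rw [siegelLin_apply]
    exact Y.add_mem (Y.add_mem hx (Y.smul_mem _ huY)) (Y.smul_mem _ hvY)
  · intro x hx
    rw [siegelLin_apply]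
    exact Y.add_mem (Y.add_mem hx (Y.smul_mem _ huY)) (Y.smul_mem _ (Y.neg_mem hvY))

theorem SiegIn_iff_sOf (hQ : (QuadraticMap.polarBilin Q).Nondegenerate)
    (hn : 7 ≤ Fintype.card ι) (K : Subgroup ↥(Cfsg.Omega F ⇑Q)) (u : ι → F) (hu : Q u = 0) :
    SiegIn Q hQ hn K u ↔ ∀ v : ι → F, QuadraticMap.polarBilin Q u v = 0 → sOf Q hQ hn u v ∈ K := by
  constructor
  · rintro ⟨hu', h⟩ v hv
    rw [sOf_eq Q hQ hn u v hu hv]
    exact h v hv
  · intro h
    refine ⟨hu, fun v hv => ?_⟩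
    rw [← sOf_eq Q hQ hn u v hu hv]
    exact h v hv

/-- **Lemma B**: if `K` contains the stabiliser of `Y` and an element `τ` fixing the singular vector
`x ∈ Y` and moving some `y₁ ∈ Y ∩ x^⊥` out of `Y`, then `K` contains the whole Siegel group centred
at `x`. -/
theorem SiegIn_of_moved (hQ : (QuadraticMap.polarBilin Q).Nondegenerate)
    (hn : 7 ≤ Fintype.card ι) (Y : Submodule F (ι → F)) (hd : Disjoint Y (orthC Q Y))
    (hY : 5 ≤ finrank F Y)
    (hex : Fintype.card F ≤ 3 → ∀ z c : ι → F, z ∈ orthC Q Y → c ∈ orthC Q Y → Q z = 0 →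
      QuadraticMap.polarBilin Q z c ≠ 0 → ∃ d ∈ orthC Q Y, d ≠ 0 ∧
        QuadraticMap.polarBilin Q d z = 0 ∧ QuadraticMap.polarBilin Q d c = 0)
    (K : Subgroup ↥(Cfsg.Omega F ⇑Q)) (hHK : subStab Q Y ≤ K)
    (x : ι → F) (hxY : x ∈ Y) (hxQ : Q x = 0)
    (τ : ↥(Cfsg.Omega F ⇑Q)) (hτK : τ ∈ K) (hτx : lo Q τ x = x)
    (y₁ : ι → F) (hy₁ : y₁ ∈ Y) (hxy₁ : QuadraticMap.polarBilin Q x y₁ = 0)
    (hτy₁ : lo Q τ y₁ ∉ Y) : SiegIn Q hQ hn K x := by
  have hxW : ∀ a ∈ orthC Q Y, QuadraticMap.polarBilin Q x a = 0 := by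
    intro a ha
    exact (mem_orthC Q Y a).1 ha x hxY
  -- the subspace of `Y^⊥` of all `a` with `ρ_{x, c a} ∈ K` for all `c`
  let A : Submodule F (ι → F) :=
    { carrier := {a | a ∈ orthC Q Y ∧ ∀ c : F, sOf Q hQ hn x (c • a) ∈ K}
      add_mem' := by
        rintro a b ⟨ha, ha'⟩ ⟨hb, hb'⟩
        refine ⟨(orthC Q Y).add_mem ha hb, fun c => ?_⟩
        rw [smul_add, ← sOf_mul Q hQ hn x (c • a) (c • b) hxQ
          (by rw [map_smul, hxW a ha, smul_zero]) (by rw [map_smul, hxW b hb, smul_zero])]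
        exact K.mul_mem (ha' c) (hb' c)
      zero_mem' := by
        refine ⟨(orthC Q Y).zero_mem, fun c => ?_⟩
        rw [smul_zero, sOf_zero Q hQ hn x hxQ]
        exact K.one_mem
      smul_mem' := by
        rintro d a ⟨ha, ha'⟩
        refine ⟨(orthC Q Y).smul_mem d ha, fun c => ?_⟩
        rw [smul_smul]
        exact ha' (c * d) }
  have hAmem : ∀ a, a ∈ A ↔ a ∈ orthC Q Y ∧ ∀ c : F, sOf Q hQ hn x (c • a) ∈ K := fun a => Iff.rfl
  have hAW : A ≤ orthC Q Y := fun a ha => ((hAmem a).1 ha).1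
  -- the vector `c₂`
  set c₀ := lo Q τ y₁ - y₁ with hc₀
  obtain ⟨c₁, hc₁Y, c₂, hc₂W, hc₀eq⟩ := exists_decomp Q Y hd c₀
  have hc₂0 : c₂ ≠ 0 := by
    intro h
    apply hτy₁
    have h1 : lo Q τ y₁ = c₁ + y₁ := by
      rw [h, add_zero] at hc₀eq
      rw [← hc₀eq, hc₀]
      abel
    rw [h1]
    exact Y.add_mem hc₁Y hy₁
  have hxτy : QuadraticMap.polarBilin Q x (lo Q τ y₁) = 0 := by
    have := lo_polar Q τ x y₁
    rw [hτx] at this
    rw [this]
    exact hxy₁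
  have hxc₀ : QuadraticMap.polarBilin Q x c₀ = 0 := by
    rw [hc₀, map_sub, hxτy, hxy₁, sub_zero]
  have hxc₂ : QuadraticMap.polarBilin Q x c₂ = 0 := hxW c₂ hc₂W
  have hxc₁ : QuadraticMap.polarBilin Q x c₁ = 0 := by
    have := hxc₀
    rw [hc₀eq, map_add, hxc₂, add_zero] at this
    exact this
  have hc₂A : c₂ ∈ A := by
    rw [hAmem]
    refine ⟨hc₂W, fun c => ?_⟩
    -- `ρ_{x, c c₀} ∈ K`
    have h1 : sOf Q hQ hn x (c • c₀) ∈ K := by
      have e1 : c • c₀ = lo Q τ (c • y₁) + (-(c • y₁)) := by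
        rw [hc₀, map_smul, smul_sub]
        abel
      have hx1 : QuadraticMap.polarBilin Q x (c • y₁) = 0 := by
        rw [map_smul, hxy₁, smul_zero]
      have hx2 : QuadraticMap.polarBilin Q x (lo Q τ (c • y₁)) = 0 := by
        rw [map_smul, map_smul, hxτy, smul_zero]
      have hx3 : QuadraticMap.polarBilin Q x (-(c • y₁)) = 0 := by
        rw [map_neg, hx1, neg_zero]
      rw [e1, ← sOf_mul Q hQ hn x _ _ hxQ hx2 hx3]
      apply K.mul_mem
      · have h2 := sOf_conj Q hQ hn τ x (c • y₁) hxQ hx1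
        rw [hτx] at h2
        rw [← h2]
        exact K.mul_mem (K.mul_mem hτK
          (hHK (sOf_mem_subStab Q hQ hn Y x _ hxQ hx1 hxY (Y.smul_mem c hy₁)))) (K.inv_mem hτK)
      · exact hHK (sOf_mem_subStab Q hQ hn Y x _ hxQ hx3 hxY (Y.neg_mem (Y.smul_mem c hy₁)))
    have e2 : c • c₂ = -(c • c₁) + c • c₀ := by
      rw [hc₀eq, smul_add]
      abel
    have hx4 : QuadraticMap.polarBilin Q x (-(c • c₁)) = 0 := by
      rw [map_neg, map_smul, hxc₁, smul_zero, neg_zero]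
    have hx5 : QuadraticMap.polarBilin Q x (c • c₀) = 0 := by
      rw [map_smul, hxc₀, smul_zero]
    rw [e2, ← sOf_mul Q hQ hn x _ _ hxQ hx4 hx5]
    exact K.mul_mem
      (hHK (sOf_mem_subStab Q hQ hn Y x _ hxQ hx4 hxY (Y.neg_mem (Y.smul_mem c hc₁Y)))) h1
  have hA0 : A ≠ ⊥ := by
    intro h
    apply hc₂0
    have := hc₂A
    rw [h, Submodule.mem_bot] at this
    exact this
  have hinv : ∀ h ∈ subStab Q Y, lo Q h x = x → ∀ a ∈ A, lo Q h a ∈ A := by
    intro h hh hhx a ha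
    obtain ⟨haW, ha'⟩ := (hAmem a).1 ha
    rw [hAmem]
    refine ⟨lo_mem_orthC_of_mem_subStab Q Y h hh a haW, fun c => ?_⟩
    have h2 := sOf_conj Q hQ hn h x (c • a) hxQ (by rw [map_smul, hxW a haW, smul_zero])
    rw [hhx, map_smul] at h2
    rw [← h2]
    exact K.mul_mem (K.mul_mem (hHK hh) (ha' c)) (K.inv_mem (hHK hh))
  have hAeq := irreducible_orthC Q hQ hn Y hd hY x hxY hex A hAW hA0 hinv
  rw [SiegIn_iff_sOf Q hQ hn K x hxQ]
  intro v hv
  obtain ⟨v₁, hv₁Y, v₂, hv₂W, rfl⟩ := exists_decomp Q Y hd v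
  have hxv₂ : QuadraticMap.polarBilin Q x v₂ = 0 := hxW v₂ hv₂W
  have hxv₁ : QuadraticMap.polarBilin Q x v₁ = 0 := by
    rw [map_add, hxv₂, add_zero] at hv
    exact hv
  rw [← sOf_mul Q hQ hn x v₁ v₂ hxQ hxv₁ hxv₂]
  apply K.mul_mem
  · exact hHK (sOf_mem_subStab Q hQ hn Y x v₁ hxQ hxv₁ hxY hv₁Y)
  · have h1 : v₂ ∈ A := by rw [hAeq]; exact hv₂W
    have h2 := ((hAmem v₂).1 h1).2 1
    rw [one_smul] at h2
    exact h2

/-- **maximality of the stabiliser of a non-degenerate subspace** -/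
theorem nondeg_maximal (hQ : (QuadraticMap.polarBilin Q).Nondegenerate)
    (hn : 7 ≤ Fintype.card ι) (Y : Submodule F (ι → F)) (hd : Disjoint Y (orthC Q Y))
    (hY : 7 ≤ finrank F Y)
    (hns : ∀ g : ↥(Cfsg.Omega F ⇑Q), ¬ ∀ v ∈ Y, lo Q g v ∈ orthC Q Y)
    (hex : Fintype.card F ≤ 3 → ∀ z c : ι → F, z ∈ orthC Q Y → c ∈ orthC Q Y → Q z = 0 →
      QuadraticMap.polarBilin Q z c ≠ 0 → ∃ d ∈ orthC Q Y, d ≠ 0 ∧
        QuadraticMap.polarBilin Q d z = 0 ∧ QuadraticMap.polarBilin Q d c = 0)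
    (K : Subgroup ↥(Cfsg.Omega F ⇑Q)) (hHK : subStab Q Y ≤ K) :
    K = subStab Q Y ∨ K = ⊤ := by
  by_cases hK : K ≤ subStab Q Y
  · exact Or.inl (le_antisymm hK hHK)
  right
  obtain ⟨g, hgK, hg⟩ := SetLike.not_le_iff_exists.1 hK
  obtain ⟨u, v, hu, huv, huY, hvY, hvQ, hτ⟩ :=
    exists_siegel_conj_notMem Q hQ hn Y hd (by omega) hns g hg
  rw [← sOf_eq Q hQ hn u v hu huv, sOf_conj Q hQ hn g u v hu huv] at hτ
  have hτK : sOf Q hQ hn (lo Q g u) (lo Q g v) ∈ K := by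
    rw [← sOf_conj Q hQ hn g u v hu huv]
    exact K.mul_mem (K.mul_mem hgK (hHK (sOf_mem_subStab Q hQ hn Y u v hu huv huY hvY)))
      (K.inv_mem hgK)
  set u' := lo Q g u with hu'
  set v' := lo Q g v with hv'
  set τ := sOf Q hQ hn u' v' with hτdef
  have hu'Q : Q u' = 0 := by rw [hu', lo_isometry]; exact hu
  have hv'Q : Q v' = 0 := by rw [hv', lo_isometry]; exact hvQ
  have huv' : QuadraticMap.polarBilin Q u' v' = 0 := by rw [hu', hv', lo_polar]; exact huv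
  have hloτ : ∀ y, lo Q τ y = y + QuadraticMap.polarBilin Q y v' • u' +
      (-QuadraticMap.polarBilin Q y u') • v' := by
    intro y
    rw [hτdef, lo_sOf Q hQ hn u' v' hu'Q huv', siegelLin_apply, hv'Q, zero_mul, sub_zero]
  have hS : 2 * finrank F (Submodule.span F {u', v'}) + 3 ≤ finrank F Y := by
    have := finrank_span_pair_le u' v'
    omega
  obtain ⟨x, x', hxN, hx'N, hxQ, hx'Q, hxx'⟩ :=
    exists_hyperbolic_pair_rel Q hQ Y (Submodule.span F {u', v'}) hd hS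
  obtain ⟨hxY, hxS⟩ := (mem_relOrth Q hQ Y _ x).1 hxN
  obtain ⟨hx'Y, hx'S⟩ := (mem_relOrth Q hQ Y _ x').1 hx'N
  have hu'S : u' ∈ Submodule.span F {u', v'} := Submodule.subset_span (by simp)
  have hv'S : v' ∈ Submodule.span F {u', v'} := Submodule.subset_span (by simp)
  have hτx : lo Q τ x = x := by
    rw [hloτ, polar_symm Q x v', polar_symm Q x u', hxS v' hv'S, hxS u' hu'S]
    simp
  have hτx' : lo Q τ x' = x' := by
    rw [hloτ, polar_symm Q x' v', polar_symm Q x' u', hx'S v' hv'S, hx'S u' hu'S]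
    simp
  -- a vector of `Y` moved outside `Y`
  obtain ⟨y₀, hy₀Y, hy₀⟩ : ∃ y₀ ∈ Y, lo Q τ y₀ ∉ Y := by
    by_contra hcon
    push Not at hcon
    exact hτ (mem_subStab_of_map_le Q Y τ hcon)
  have hx'x : QuadraticMap.polarBilin Q x' x ≠ 0 := by rw [polar_symm]; exact hxx'
  set a := QuadraticMap.polarBilin Q y₀ x' / QuadraticMap.polarBilin Q x x' with ha
  set b := QuadraticMap.polarBilin Q y₀ x / QuadraticMap.polarBilin Q x' x with hb
  set y₁ := y₀ - a • x - b • x' with hy₁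
  have hy₁Y : y₁ ∈ Y := Y.sub_mem (Y.sub_mem hy₀Y (Y.smul_mem a hxY)) (Y.smul_mem b hx'Y)
  have hxy₁ : QuadraticMap.polarBilin Q x y₁ = 0 := by
    rw [hy₁, map_sub, map_sub, map_smul, map_smul, polar_self', hxQ, smul_eq_mul, smul_eq_mul,
      hb, polar_symm Q x x', div_mul_cancel₀ _ hx'x, polar_symm Q x y₀]
    ring
  have hx'y₁ : QuadraticMap.polarBilin Q x' y₁ = 0 := by
    rw [hy₁, map_sub, map_sub, map_smul, map_smul, polar_self', hx'Q, smul_eq_mul, smul_eq_mul,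
      ha, polar_symm Q x' x, div_mul_cancel₀ _ hxx', polar_symm Q x' y₀]
    ring
  have hτy₁ : lo Q τ y₁ ∉ Y := by
    intro h
    apply hy₀
    have e : lo Q τ y₀ = lo Q τ y₁ + a • x + b • x' := by
      rw [hy₁, map_sub, map_sub, map_smul, map_smul, hτx, hτx']
      abel
    rw [e]
    exact Y.add_mem (Y.add_mem h (Y.smul_mem a hxY)) (Y.smul_mem b hx'Y)
  have h1 := SiegIn_of_moved Q hQ hn Y hd (by omega) hex K hHK x hxY hxQ τ hτK hτx y₁ hy₁Y hxy₁ hτy₁
  have h2 := SiegIn_of_moved Q hQ hn Y hd (by omega) hex K hHK x' hx'Y hx'Q τ hτK hτx' y₁ hy₁Y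
    hx'y₁ hτy₁
  exact eq_top_of_SiegIn_pair K x x' h1 h2 hxx'

end finite

end Cfsg.Agent.Lib.Helper43
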