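import Cfsg.Agent.Lib.Helper43.OmegaNondeg6

set_option autoImplicit false
set_option linter.unusedSimpArgs false
set_option linter.unusedVariables false
set_option linter.unusedSectionVars false

/-! Maximality of the stabiliser in `Ω` of a non-degenerate subspace: properness, the complement,
and the statement in the vocabulary of `Cfsg.Geo`. -/

namespace Cfsg.Agent.Lib.Helper43

open Module Matrix Cfsg.Agent.Lib.Helper19

variable {F : Type*} [Field F] {ι : Type} [Fintype ι] [DecidableEq ι]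
variable (Q : QuadraticForm F (ι → F))

section finite

variable [Fintype F]

theorem subStab_le_subStab_orthC (Y : Submodule F (ι → F)) :
    subStab Q Y ≤ subStab Q (orthC Q Y) := by
  intro h hh
  apply mem_subStab_of_map_le
  intro w hw
  exact lo_mem_orthC_of_mem_subStab Q Y h hh w hw

/-- an isometry stabilises `Y` iff it stabilises `Y^⊥` -/
theorem subStab_orthC (hQ : (QuadraticMap.polarBilin Q).Nondegenerate)
    (Y : Submodule F (ι → F)) : subStab Q (orthC Q Y) = subStab Q Y := by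
  apply le_antisymm
  · have := subStab_le_subStab_orthC Q (orthC Q Y)
    rw [orthC_orthC Q hQ] at this
    exact this
  · exact subStab_le_subStab_orthC Q Y

theorem disjoint_orthC_orthC (hQ : (QuadraticMap.polarBilin Q).Nondegenerate)
    (Y : Submodule F (ι → F)) (hd : Disjoint Y (orthC Q Y)) :
    Disjoint (orthC Q Y) (orthC Q (orthC Q Y)) := by
  rw [orthC_orthC Q hQ]
  exact hd.symm

/-- the stabiliser of a non-degenerate proper subspace of dimension at least 3 is proper -/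
theorem nondeg_subStab_ne_top (hQ : (QuadraticMap.polarBilin Q).Nondegenerate)
    (hn : 7 ≤ Fintype.card ι) (Y : Submodule F (ι → F)) (hd : Disjoint Y (orthC Q Y))
    (hY : 3 ≤ finrank F Y) (hW : orthC Q Y ≠ ⊥) :
    ∃ g : ↥(Cfsg.Omega F ⇑Q), g ∉ subStab Q Y := by
  obtain ⟨a, haW, ha0⟩ := (Submodule.ne_bot_iff _).1 hW
  have hS : 2 * finrank F (⊥ : Submodule F (ι → F)) + 3 ≤ finrank F Y := by
    rw [finrank_bot]
    omega
  obtain ⟨x, y, hxN, hyN, hxQ, hxy⟩ := exists_singular_pair_rel Q hQ Y ⊥ hd hS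
  have hxY : x ∈ Y := ((mem_relOrth Q hQ Y _ x).1 hxN).1
  have hyY : y ∈ Y := ((mem_relOrth Q hQ Y _ y).1 hyN).1
  have hxa : QuadraticMap.polarBilin Q x a = 0 := (mem_orthC Q Y a).1 haW x hxY
  refine ⟨sOf Q hQ hn x a, fun hmem => ?_⟩
  have h1 := ((mem_subStab Q Y _).1 hmem y).1 hyY
  rw [lo_sOf Q hQ hn x a hxQ hxa, siegelLin_apply] at h1
  have h2 : (-QuadraticMap.polarBilin Q y x) • a ∈ Y := by
    have := Y.sub_mem h1 (Y.add_mem hyY (Y.smul_mem
      (QuadraticMap.polarBilin Q y a - Q a * QuadraticMap.polarBilin Q y x) hxY))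
    simpa using this
  have hyx : -QuadraticMap.polarBilin Q y x ≠ 0 := by
    rw [polar_symm, neg_ne_zero]
    exact hxy
  have h3 := Y.smul_mem (-QuadraticMap.polarBilin Q y x)⁻¹ h2
  rw [smul_smul, inv_mul_cancel₀ hyx, one_smul] at h3
  exact ha0 (eq_zero_of_mem_of_mem_orthC Q Y hd a h3 haW)

/-- no element of `Ω` maps `Y` into `Y^⊥` when `Y` has larger dimension -/
theorem hns_of_finrank_lt (Y : Submodule F (ι → F))
    (h : finrank F (orthC Q Y) < finrank F Y) :
    ∀ g : ↥(Cfsg.Omega F ⇑Q), ¬ ∀ v ∈ Y, lo Q g v ∈ orthC Q Y := by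
  intro g hg
  have hinj : Function.Injective (lo Q g) := by
    intro a b hab
    have h2 := lo_inv_apply Q g a
    rw [hab, lo_inv_apply] at h2
    exact h2.symm
  have h1 : Y.map (lo Q g) ≤ orthC Q Y := by
    rintro _ ⟨v, hv, rfl⟩
    exact hg v hv
  have h2 := Submodule.finrank_mono h1
  have h3 : finrank F ↥(Y.map (lo Q g)) = finrank F Y :=
    (Submodule.equivMapOfInjective (lo Q g) hinj Y).finrank_eq.symm
  omega

/-- a non-zero vector of `U` perpendicular to two given vectors, when `dim U ≥ 3` -/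
theorem exists_perp_of_finrank (hQ : (QuadraticMap.polarBilin Q).Nondegenerate)
    (U : Submodule F (ι → F)) (z c : ι → F) (h3 : 3 ≤ finrank F U) :
    ∃ d ∈ U, d ≠ 0 ∧ QuadraticMap.polarBilin Q d z = 0 ∧ QuadraticMap.polarBilin Q d c = 0 := by
  have h1 := finrank_relOrth_ge Q hQ U (Submodule.span F {z, c})
  have h2 := finrank_span_pair_le z c
  have h4 : 0 < finrank F (relOrth Q U (Submodule.span F {z, c})) := by omega
  have h5 : relOrth Q U (Submodule.span F {z, c}) ≠ ⊥ := by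
    intro h
    rw [h, finrank_bot] at h4
    exact lt_irrefl _ h4
  obtain ⟨d, hd, hd0⟩ := (Submodule.ne_bot_iff _).1 h5
  obtain ⟨hdU, hdS⟩ := (mem_relOrth Q hQ U _ d).1 hd
  refine ⟨d, hdU, hd0, ?_, ?_⟩
  · rw [polar_symm]
    exact hdS z (Submodule.subset_span (by simp))
  · rw [polar_symm]
    exact hdS c (Submodule.subset_span (by simp))

/-- a subspace containing a singular vector `z` and a vector `c` not perpendicular to `z` has
dimension at least 2 -/
theorem two_le_finrank_of_pair (U : Submodule F (ι → F)) (z c : ι → F) (hz : z ∈ U) (hc : c ∈ U)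
    (hzQ : Q z = 0) (hzc : QuadraticMap.polarBilin Q z c ≠ 0) : 2 ≤ finrank F U := by
  by_contra hlt
  have h1 : finrank F U ≤ 1 := by omega
  obtain ⟨e, he⟩ := finrank_le_one_iff.1 h1
  obtain ⟨α, hα⟩ := he ⟨z, hz⟩
  obtain ⟨β, hβ⟩ := he ⟨c, hc⟩
  have hα' : z = α • (e : ι → F) := by
    have := congrArg Subtype.val hα
    simpa using this.symm
  have hβ' : c = β • (e : ι → F) := by
    have := congrArg Subtype.val hβ
    simpa using this.symm
  have hα0 : α ≠ 0 := by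
    rintro rfl
    apply hzc
    rw [hα', zero_smul]
    simp
  have heQ : Q (e : ι → F) = 0 := by
    rw [hα', Q_smul] at hzQ
    rcases mul_eq_zero.1 hzQ with h | h
    · rcases mul_eq_zero.1 h with h | h <;> exact absurd h hα0
    · exact h
  apply hzc
  rw [hα', hβ', map_smul, map_smul, LinearMap.smul_apply, polar_self', heQ]
  simp

/-- if no non-zero vector of `U` is perpendicular to both `z` and `c` then `dim U = 2` -/
theorem finrank_eq_two_of_no_perp (hQ : (QuadraticMap.polarBilin Q).Nondegenerate)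
    (U : Submodule F (ι → F)) (z c : ι → F) (hz : z ∈ U) (hc : c ∈ U)
    (hzQ : Q z = 0) (hzc : QuadraticMap.polarBilin Q z c ≠ 0)
    (hno : ¬ ∃ d ∈ U, d ≠ 0 ∧ QuadraticMap.polarBilin Q d z = 0 ∧
      QuadraticMap.polarBilin Q d c = 0) : finrank F U = 2 := by
  have h1 := two_le_finrank_of_pair Q U z c hz hc hzQ hzc
  by_contra h2
  exact hno (exists_perp_of_finrank Q hQ U z c (by omega))

theorem isPlusTypeOn_of_singular (U : Submodule F (ι → F)) (hU : finrank F U = 2)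
    (z : ι → F) (hz : z ∈ U) (hz0 : z ≠ 0) (hzQ : Q z = 0) : Cfsg.Geo.IsPlusTypeOn ⇑Q U := by
  refine ⟨Submodule.span F {z}, ?_, ?_, ?_⟩
  · rw [Submodule.span_le]
    intro t ht
    rw [Set.mem_singleton_iff] at ht
    rw [ht]
    exact hz
  · intro t ht
    obtain ⟨c, rfl⟩ := Submodule.mem_span_singleton.1 ht
    rw [Q_smul, hzQ, mul_zero]
  · rw [finrank_span_singleton hz0, hU]

theorem isNondegenerateOn_of_disjoint (U : Submodule F (ι → F))
    (hd : Disjoint U (orthC Q U)) :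
    Cfsg.Geo.IsNondegenerateOn (QuadraticMap.polar ⇑Q) U := by
  intro w hw hw0
  have h1 : w ∉ orthC Q U := fun h => hw0 (eq_zero_of_mem_of_mem_orthC Q U hd w hw h)
  rw [mem_orthC] at h1
  push Not at h1
  obtain ⟨x, hx, hxw⟩ := h1
  refine ⟨⟨x, hx, hxw⟩, ⟨x, hx, ?_⟩⟩
  have := polar_symm Q w x
  rw [QuadraticMap.polarBilin_apply_apply, QuadraticMap.polarBilin_apply_apply] at this
  rw [this]
  exact hxw

theorem disjoint_of_isNondegenerateOn (U : Submodule F (ι → F))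
    (h : Cfsg.Geo.IsNondegenerateOn (QuadraticMap.polar ⇑Q) U) : Disjoint U (orthC Q U) := by
  rw [Submodule.disjoint_def]
  intro w hw hw'
  by_contra hw0
  obtain ⟨⟨x, hx, hxw⟩, -⟩ := h w hw hw0
  apply hxw
  exact (mem_orthC Q U w).1 hw' x hx

/-- the derived "no exceptional plane" hypothesis -/
theorem hex_of_not_plane (hQ : (QuadraticMap.polarBilin Q).Nondegenerate)
    (U : Submodule F (ι → F))
    (hno : Fintype.card F ≤ 3 → ¬ (finrank F U = 2 ∧ ∃ z ∈ U, z ≠ 0 ∧ Q z = 0)) :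
    Fintype.card F ≤ 3 → ∀ z c : ι → F, z ∈ U → c ∈ U → Q z = 0 →
      QuadraticMap.polarBilin Q z c ≠ 0 → ∃ d ∈ U, d ≠ 0 ∧
        QuadraticMap.polarBilin Q d z = 0 ∧ QuadraticMap.polarBilin Q d c = 0 := by
  intro hcard z c hz hc hzQ hzc
  by_contra hcon
  apply hno hcard
  refine ⟨finrank_eq_two_of_no_perp Q hQ U z c hz hc hzQ hzc hcon, z, hz, ?_, hzQ⟩
  rintro rfl
  apply hzc
  simp

/-- bridge to the vocabulary of `Cfsg.Geo` -/
theorem isMaximalIn_of_subStab (W : Submodule F (ι → F))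
    (hne : ∃ g : ↥(Cfsg.Omega F ⇑Q), g ∉ subStab Q W)
    (hmax : ∀ K : Subgroup ↥(Cfsg.Omega F ⇑Q), subStab Q W ≤ K → K = subStab Q W ∨ K = ⊤) :
    Cfsg.Geo.IsMaximalIn (Cfsg.Geo.omegaGL ⇑Q)
      (Cfsg.Geo.subspaceStabilizer W ⊓ Cfsg.Geo.omegaGL ⇑Q) := by
  have hmemS : ∀ g : ↥(Cfsg.Omega F ⇑Q), g ∈ subStab Q W ↔
      ((g : ↥(Cfsg.isometryGroup F ⇑Q)) : GL ι F) ∈ Cfsg.Geo.subspaceStabilizer W :=
    fun g => Iff.rfl
  refine ⟨?_, ?_⟩
  · rw [SetLike.lt_iff_le_and_exists]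
    refine ⟨inf_le_right, ?_⟩
    obtain ⟨g, hg⟩ := hne
    refine ⟨((g : ↥(Cfsg.isometryGroup F ⇑Q)) : GL ι F),
      (mem_omegaGL_iff43 _ _).2 ⟨g.1.2, g.2⟩, ?_⟩
    rintro ⟨h1, -⟩
    exact hg ((hmemS g).2 h1)
  · intro M hHM hMΩ
    set K : Subgroup ↥(Cfsg.Omega F ⇑Q) :=
      M.comap ((Cfsg.isometryGroup F ⇑Q).subtype.comp (Cfsg.Omega F ⇑Q).subtype) with hK
    have hmemK : ∀ g : ↥(Cfsg.Omega F ⇑Q),
        g ∈ K ↔ ((g : ↥(Cfsg.isometryGroup F ⇑Q)) : GL ι F) ∈ M := fun g => Iff.rfl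
    have hle : subStab Q W ≤ K := by
      intro g hg
      rw [hmemK]
      apply hHM
      exact ⟨(hmemS g).1 hg, (mem_omegaGL_iff43 _ _).2 ⟨g.1.2, g.2⟩⟩
    rcases hmax K hle with h | h
    · left
      apply le_antisymm
      · intro x hx
        have hxΩ := hMΩ hx
        obtain ⟨hiso, hΩ⟩ := (mem_omegaGL_iff43 _ _).1 hxΩ
        refine ⟨?_, hxΩ⟩
        have hmem : (⟨⟨x, hiso⟩, hΩ⟩ : ↥(Cfsg.Omega F ⇑Q)) ∈ K := (hmemK _).2 hx
        rw [h] at hmem
        exact (hmemS ⟨⟨x, hiso⟩, hΩ⟩).1 hmem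
      · exact hHM
    · right
      apply le_antisymm hMΩ
      intro x hx
      obtain ⟨hiso, hΩ⟩ := (mem_omegaGL_iff43 _ _).1 hx
      have hmem : (⟨⟨x, hiso⟩, hΩ⟩ : ↥(Cfsg.Omega F ⇑Q)) ∈ K := by
        rw [h]; exact Subgroup.mem_top _
      exact (hmemK _).1 hmem

/-- **maximality of the stabiliser of a non-degenerate subspace `W`**: here `Y` is `W` or `W^⊥`,
whichever is convenient (of dimension at least 7 and not mapped into its complement by `Ω`) -/
theorem nondeg_maximal_geo (hQ : (QuadraticMap.polarBilin Q).Nondegenerate)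
    (hn : 7 ≤ Fintype.card ι) (W Y : Submodule F (ι → F)) (hWY : Y = W ∨ Y = orthC Q W)
    (hd : Disjoint Y (orthC Q Y)) (hY : 7 ≤ finrank F Y) (hW : orthC Q Y ≠ ⊥)
    (hns : ∀ g : ↥(Cfsg.Omega F ⇑Q), ¬ ∀ v ∈ Y, lo Q g v ∈ orthC Q Y)
    (hno : Fintype.card F ≤ 3 →
      ¬ (finrank F (orthC Q Y) = 2 ∧ ∃ z ∈ orthC Q Y, z ≠ 0 ∧ Q z = 0)) :
    Cfsg.Geo.IsMaximalIn (Cfsg.Geo.omegaGL ⇑Q)
      (Cfsg.Geo.subspaceStabilizer W ⊓ Cfsg.Geo.omegaGL ⇑Q) := by
  have hstab : subStab Q W = subStab Q Y := by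
    rcases hWY with h | h
    · rw [h]
    · rw [h, subStab_orthC Q hQ]
  apply isMaximalIn_of_subStab
  · rw [hstab]
    exact nondeg_subStab_ne_top Q hQ hn Y hd (by omega) hW
  · rw [hstab]
    intro K hK
    exact nondeg_maximal Q hQ hn Y hd hY hns (hex_of_not_plane Q hQ _ hno) K hK

end finite

end Cfsg.Agent.Lib.Helper43
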