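import Cfsg.Agent.Lib.Helper43.OmegaNondeg7

set_option autoImplicit false
set_option linter.unusedSimpArgs false
set_option linter.unusedVariables false
set_option linter.unusedSectionVars false

/-! The stabiliser in `Ω` of a decomposition into two non-isometric non-degenerate halves. -/

namespace Cfsg.Agent.Lib.Helper43

open Module Matrix Cfsg.Agent.Lib.Helper19

variable {F : Type*} [Field F] {ι : Type} [Fintype ι] [DecidableEq ι]
variable (Q : QuadraticForm F (ι → F))

section finite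

variable [Fintype F]

theorem lo_injective_apply (g : ↥(Cfsg.Omega F ⇑Q)) : Function.Injective (lo Q g) := by
  intro a b hab
  have h2 := lo_inv_apply Q g a
  rw [hab, lo_inv_apply] at h2
  exact h2.symm

theorem map_lo_eq_of_mem_subStab (Y : Submodule F (ι → F)) (g : ↥(Cfsg.Omega F ⇑Q))
    (hg : g ∈ subStab Q Y) : Y.map (lo Q g) = Y := by
  apply le_antisymm
  · rintro _ ⟨v, hv, rfl⟩
    exact ((mem_subStab Q Y g).1 hg v).1 hv
  · intro v hv
    refine ⟨lo Q g⁻¹ v, ?_, lo_apply_inv Q g v⟩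
    exact ((mem_subStab Q Y g⁻¹).1 ((subStab Q Y).inv_mem hg) v).1 hv

/-- an element of `Ω` mapping `Y` into `Y'` of the same dimension is an isometry of `Y` onto `Y'` -/
theorem areIsometricFor_of_map_le (Y Y' : Submodule F (ι → F)) (g : ↥(Cfsg.Omega F ⇑Q))
    (h : ∀ v ∈ Y, lo Q g v ∈ Y') (hfr : finrank F Y = finrank F Y') :
    Cfsg.Geo.AreIsometricFor ⇑Q Y Y' := by
  have hinj := lo_injective_apply Q g
  have hmap : Y.map (lo Q g) = Y' := by
    apply Submodule.eq_of_le_of_finrank_eq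
    · rintro _ ⟨v, hv, rfl⟩
      exact h v hv
    · rw [← hfr]
      exact (Submodule.equivMapOfInjective (lo Q g) hinj Y).finrank_eq.symm
  refine ⟨(Submodule.equivMapOfInjective (lo Q g) hinj Y).trans (LinearEquiv.ofEq _ _ hmap), ?_⟩
  intro w
  rw [LinearEquiv.trans_apply, LinearEquiv.coe_ofEq_apply,
    Submodule.coe_equivMapOfInjective_apply]
  exact lo_isometry Q g w

/-- for two non-isometric halves, stabilising the decomposition in `Ω` means stabilising the first
half -/
theorem decompStab_inf_omegaGL_eq (hQ : (QuadraticMap.polarBilin Q).Nondegenerate)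
    (D : Fin 2 → Submodule F (ι → F)) (h1 : D 1 = orthC Q (D 0))
    (hfr : finrank F (D 0) = finrank F (D 1))
    (hni : ¬ Cfsg.Geo.AreIsometricFor ⇑Q (D 0) (D 1)) :
    Cfsg.Geo.decompositionStabilizer D ⊓ Cfsg.Geo.omegaGL ⇑Q =
      Cfsg.Geo.subspaceStabilizer (D 0) ⊓ Cfsg.Geo.omegaGL ⇑Q := by
  ext x
  constructor
  · rintro ⟨⟨σ, hσ⟩, hxΩ⟩
    refine ⟨?_, hxΩ⟩
    obtain ⟨hiso, hΩ⟩ := (mem_omegaGL_iff43 _ _).1 hxΩ
    set g : ↥(Cfsg.Omega F ⇑Q) := ⟨⟨x, hiso⟩, hΩ⟩ with hg
    have hlo : lo Q g = Matrix.toLin' (x : Matrix ι ι F) := rfl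
    by_cases h0 : σ 0 = 0
    · have hm := hσ 0
      rw [h0] at hm
      have hgs : g ∈ subStab Q (D 0) := by
        apply mem_subStab_of_map_le
        intro y hy
        rw [hlo, ← hm]
        exact Submodule.mem_map_of_mem hy
      exact hgs
    · exfalso
      have h01 : σ 0 = 1 := by
        have h2 := (σ 0).isLt
        have h0' : (σ 0).val ≠ 0 := fun h => h0 (Fin.ext h)
        apply Fin.ext
        simp only [Fin.val_one]
        omega
      apply hni
      have hm := hσ 0
      rw [h01] at hm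
      apply areIsometricFor_of_map_le Q (D 0) (D 1) g _ hfr
      intro v hv
      rw [hlo, ← hm]
      exact Submodule.mem_map_of_mem hv
  · rintro ⟨hxS, hxΩ⟩
    refine ⟨?_, hxΩ⟩
    obtain ⟨hiso, hΩ⟩ := (mem_omegaGL_iff43 _ _).1 hxΩ
    set g : ↥(Cfsg.Omega F ⇑Q) := ⟨⟨x, hiso⟩, hΩ⟩ with hg
    have hlo : lo Q g = Matrix.toLin' (x : Matrix ι ι F) := rfl
    have hgs : g ∈ subStab Q (D 0) := hxS
    have hgs1 : g ∈ subStab Q (D 1) := by
      rw [h1, subStab_orthC Q hQ]
      exact hgs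
    refine ⟨1, fun i => ?_⟩
    rw [← hlo]
    fin_cases i
    · exact map_lo_eq_of_mem_subStab Q (D 0) g hgs
    · exact map_lo_eq_of_mem_subStab Q (D 1) g hgs1

end finite

end Cfsg.Agent.Lib.Helper43
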