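import Cfsg.Agent.Lib.Helper43.OmegaNondeg8

set_option autoImplicit false
set_option linter.unusedSimpArgs false
set_option linter.unusedVariables false
set_option linter.unusedSectionVars false

/-! The orthogonal sum of two isometric non-degenerate subspaces of even dimension contains a totally
singular subspace of half its dimension (it is of plus type). -/

namespace Cfsg.Agent.Lib.Helper43

open Module Matrix Polynomial Cfsg.Agent.Lib.Helper19

variable {F : Type*} [Field F] {ι : Type} [Fintype ι] [DecidableEq ι]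
variable (Q : QuadraticForm F (ι → F))

theorem exists_nonsingular_of_disjoint (U : Submodule F (ι → F)) (hd : Disjoint U (orthC Q U))
    (hU : U ≠ ⊥) : ∃ v ∈ U, Q v ≠ 0 := by
  obtain ⟨u, huU, hu0⟩ := (Submodule.ne_bot_iff U).1 hU
  by_cases huQ : Q u ≠ 0
  · exact ⟨u, huU, huQ⟩
  push Not at huQ
  have h1 : u ∉ orthC Q U := fun h => hu0 (eq_zero_of_mem_of_mem_orthC Q U hd u huU h)
  rw [mem_orthC] at h1
  push Not at h1
  obtain ⟨x, hxU, hxu⟩ := h1
  by_cases hxQ : Q x ≠ 0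
  · exact ⟨x, hxU, hxQ⟩
  push Not at hxQ
  refine ⟨x + u, U.add_mem hxU huU, ?_⟩
  rw [Q_add, hxQ, huQ, zero_add, zero_add]
  exact hxu

theorem orthC_relOrth (hQ : (QuadraticMap.polarBilin Q).Nondegenerate)
    (Y S : Submodule F (ι → F)) : orthC Q (relOrth Q Y S) = orthC Q Y ⊔ S := by
  unfold relOrth
  exact orthC_orthC Q hQ _

theorem disjoint_relOrth (hQ : (QuadraticMap.polarBilin Q).Nondegenerate)
    (Y S : Submodule F (ι → F)) (hd : Disjoint Y (orthC Q Y)) (hSY : S ≤ Y)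
    (hdS : Disjoint S (orthC Q S)) :
    Disjoint (relOrth Q Y S) (orthC Q (relOrth Q Y S)) := by
  rw [orthC_relOrth Q hQ, Submodule.disjoint_def]
  intro w hw hw'
  obtain ⟨hwY, hwS⟩ := (mem_relOrth Q hQ Y S w).1 hw
  obtain ⟨t, ht, s, hs, rfl⟩ := Submodule.mem_sup.1 hw'
  have ht0 : t = 0 := by
    apply eq_zero_of_mem_of_mem_orthC Q Y hd t _ ht
    have := Y.sub_mem hwY (hSY hs)
    simpa using this
  rw [ht0, zero_add] at hwS ⊢
  exact eq_zero_of_mem_of_mem_orthC Q S hdS s hs ((mem_orthC Q S s).2 hwS)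

section finite

variable [Fintype F]

theorem finrank_relOrth_add (hQ : (QuadraticMap.polarBilin Q).Nondegenerate)
    (Y S : Submodule F (ι → F)) (hSY : S ≤ Y) (hdS : Disjoint S (orthC Q S)) :
    finrank F (relOrth Q Y S) + finrank F S = finrank F Y := by
  apply le_antisymm
  · have hdis : Disjoint (relOrth Q Y S) S := by
      rw [Submodule.disjoint_def]
      intro w hw hwS
      exact eq_zero_of_mem_of_mem_orthC Q S hdS w hwS
        ((mem_orthC Q S w).2 ((mem_relOrth Q hQ Y S w).1 hw).2)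
    have h1 := Submodule.finrank_sup_add_finrank_inf_eq (relOrth Q Y S) S
    rw [hdis.eq_bot, finrank_bot, add_zero] at h1
    have h2 : relOrth Q Y S ⊔ S ≤ Y := sup_le (relOrth_le Q hQ Y S) hSY
    have h3 := Submodule.finrank_mono h2
    omega
  · exact finrank_relOrth_ge Q hQ Y S

end finite

theorem disjoint_span_singleton (h2 : (2 : F) ≠ 0) (v : ι → F) (hv : Q v ≠ 0) :
    Disjoint (Submodule.span F {v}) (orthC Q (Submodule.span F {v})) := by
  rw [Submodule.disjoint_def]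
  intro w hw hw'
  obtain ⟨c, rfl⟩ := Submodule.mem_span_singleton.1 hw
  have := (mem_orthC Q _ _).1 hw' v (Submodule.mem_span_singleton_self v)
  rw [map_smul, smul_eq_mul, polar_self'] at this
  rcases mul_eq_zero.1 this with h | h
  · rw [h, zero_smul]
  · exfalso
    rcases mul_eq_zero.1 h with h | h
    · exact h2 h
    · exact hv h

theorem Q_lin3 (x y z : ι → F) (a d : F) :
    Q (x + a • y + d • z) = Q x + a * a * Q y + d * d * Q z + a * QuadraticMap.polarBilin Q x y +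
      d * QuadraticMap.polarBilin Q x z + a * d * QuadraticMap.polarBilin Q y z := by
  simp only [Q_add, Q_smul, map_add, map_smul, LinearMap.add_apply, LinearMap.smul_apply,
    smul_eq_mul]
  ring

theorem B_lin3 (x y z x' : ι → F) (a d c e : F) :
    QuadraticMap.polarBilin Q (x + a • y + d • z) (x' + c • y + e • z) =
      QuadraticMap.polarBilin Q x x' + c * QuadraticMap.polarBilin Q x y +
      e * QuadraticMap.polarBilin Q x z + a * QuadraticMap.polarBilin Q y x' +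
      a * c * QuadraticMap.polarBilin Q y y + a * e * QuadraticMap.polarBilin Q y z +
      d * QuadraticMap.polarBilin Q z x' + d * c * QuadraticMap.polarBilin Q z y +
      d * e * QuadraticMap.polarBilin Q z z := by
  simp only [map_add, map_smul, LinearMap.add_apply, LinearMap.smul_apply, smul_eq_mul]
  ring

section finite

variable [Fintype F]

theorem exists_sq_sum (h2 : (2 : F) ≠ 0) (α β : F) (hα : α ≠ 0) (hβ : β ≠ 0) :
    ∃ a d : F, α * (1 + a * a) + β * (d * d) = 0 := by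
  have hc : Fintype.card F % 2 = 1 := by
    apply FiniteField.odd_card_of_char_ne_two
    intro h
    apply h2
    have := CharP.cast_eq_zero F (ringChar F)
    rw [h] at this
    exact_mod_cast this
  have hf : degree (C α * X ^ 2 + C 0 * X + C α : F[X]) = 2 := degree_quadratic hα
  have hg : degree (C β * X ^ 2 + C 0 * X + C 0 : F[X]) = 2 := degree_quadratic hβ
  obtain ⟨a, d, h⟩ := FiniteField.exists_root_sum_quadratic hf hg hc
  refine ⟨a, d, ?_⟩
  simp at h
  linear_combination h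

/-- odd characteristic: if the isometry `g` maps the non-degenerate `Y₀` into `Y₀^⊥`, every
non-degenerate subspace `Y ≤ Y₀` of even dimension `2r` gives a totally singular subspace of
dimension `2r` inside `Y + gY` -/
theorem exists_ts_double (hQ : (QuadraticMap.polarBilin Q).Nondegenerate) (h2 : (2 : F) ≠ 0)
    (Y₀ : Submodule F (ι → F)) (g : (ι → F) →ₗ[F] (ι → F)) (hgQ : ∀ v, Q (g v) = Q v)
    (hg : ∀ y ∈ Y₀, g y ∈ orthC Q Y₀) :
    ∀ r : ℕ, ∀ Y : Submodule F (ι → F), Y ≤ Y₀ → Disjoint Y (orthC Q Y) → finrank F Y = 2 * r →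
      ∃ U : Submodule F (ι → F), U ≤ Y ⊔ Y.map g ∧ (∀ u ∈ U, Q u = 0) ∧ finrank F U = 2 * r := by
  intro r
  induction r with
  | zero =>
    intro Y _ _ _
    refine ⟨⊥, bot_le, fun u hu => ?_, by rw [finrank_bot]⟩
    rw [(Submodule.mem_bot F).1 hu, map_zero]
  | succ r ih =>
    intro Y hYY₀ hdY hfr
    have hB : ∀ x y, QuadraticMap.polarBilin Q (g x) (g y) = QuadraticMap.polarBilin Q x y :=
      polar_of_isometry Q g hgQ
    have hYgY : ∀ y ∈ Y₀, ∀ y' ∈ Y₀, QuadraticMap.polarBilin Q y (g y') = 0 :=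
      fun y hy y' hy' => (mem_orthC Q Y₀ _).1 (hg y' hy') y hy
    have hY0 : Y ≠ ⊥ := by
      intro h
      rw [h, finrank_bot] at hfr
      omega
    obtain ⟨v₁, hv₁Y, hv₁Q⟩ := exists_nonsingular_of_disjoint Q Y hdY hY0
    have hv₁0 : v₁ ≠ 0 := by
      rintro rfl
      exact hv₁Q (map_zero Q)
    have hS₁Y : Submodule.span F {v₁} ≤ Y := by
      rw [Submodule.span_le]
      intro t ht
      rw [Set.mem_singleton_iff.1 ht]
      exact hv₁Y
    have hdS₁ := disjoint_span_singleton Q h2 v₁ hv₁Q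
    set Y₁ := relOrth Q Y (Submodule.span F {v₁}) with hY₁
    have hdY₁ : Disjoint Y₁ (orthC Q Y₁) := disjoint_relOrth Q hQ Y _ hdY hS₁Y hdS₁
    have hfr₁ : finrank F Y₁ + 1 = 2 * (r + 1) := by
      have := finrank_relOrth_add Q hQ Y _ hS₁Y hdS₁
      rw [finrank_span_singleton hv₁0, hfr] at this
      exact this
    have hY₁0 : Y₁ ≠ ⊥ := by
      intro h
      rw [h, finrank_bot] at hfr₁
      omega
    have hY₁Y : Y₁ ≤ Y := relOrth_le Q hQ Y _
    obtain ⟨v₂, hv₂Y₁, hv₂Q⟩ := exists_nonsingular_of_disjoint Q Y₁ hdY₁ hY₁0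
    have hv₂0 : v₂ ≠ 0 := by
      rintro rfl
      exact hv₂Q (map_zero Q)
    have hS₂Y₁ : Submodule.span F {v₂} ≤ Y₁ := by
      rw [Submodule.span_le]
      intro t ht
      rw [Set.mem_singleton_iff.1 ht]
      exact hv₂Y₁
    have hdS₂ := disjoint_span_singleton Q h2 v₂ hv₂Q
    set Y₂ := relOrth Q Y₁ (Submodule.span F {v₂}) with hY₂
    have hdY₂ : Disjoint Y₂ (orthC Q Y₂) := disjoint_relOrth Q hQ Y₁ _ hdY₁ hS₂Y₁ hdS₂
    have hfr₂ : finrank F Y₂ = 2 * r := by
      have h3 := finrank_relOrth_add Q hQ Y₁ _ hS₂Y₁ hdS₂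
      rw [finrank_span_singleton hv₂0] at h3
      have h4 : finrank F ↥Y₂ + 1 = finrank F ↥Y₁ := h3
      omega
    have hY₂Y₁ : Y₂ ≤ Y₁ := relOrth_le Q hQ Y₁ _
    have hY₂Y : Y₂ ≤ Y := le_trans hY₂Y₁ hY₁Y
    obtain ⟨U₂, hU₂le, hU₂ts, hU₂fr⟩ := ih Y₂ (le_trans hY₂Y hYY₀) hdY₂ hfr₂
    have hv₂Y : v₂ ∈ Y := hY₁Y hv₂Y₁
    have hv₁Y₀ : v₁ ∈ Y₀ := hYY₀ hv₁Y
    have hv₂Y₀ : v₂ ∈ Y₀ := hYY₀ hv₂Y
    have f12 : QuadraticMap.polarBilin Q v₁ v₂ = 0 :=
      ((mem_relOrth Q hQ Y _ v₂).1 hv₂Y₁).2 v₁ (Submodule.mem_span_singleton_self v₁)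
    have f1g1 : QuadraticMap.polarBilin Q v₁ (g v₁) = 0 := hYgY v₁ hv₁Y₀ v₁ hv₁Y₀
    have f1g2 : QuadraticMap.polarBilin Q v₁ (g v₂) = 0 := hYgY v₁ hv₁Y₀ v₂ hv₂Y₀
    have f2g1 : QuadraticMap.polarBilin Q v₂ (g v₁) = 0 := hYgY v₂ hv₂Y₀ v₁ hv₁Y₀
    have f2g2 : QuadraticMap.polarBilin Q v₂ (g v₂) = 0 := hYgY v₂ hv₂Y₀ v₂ hv₂Y₀
    have fg12 : QuadraticMap.polarBilin Q (g v₁) (g v₂) = 0 := by rw [hB]; exact f12
    have fg11 : QuadraticMap.polarBilin Q (g v₁) (g v₁) = 2 * Q v₁ := by rw [hB, polar_self']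
    have fg22 : QuadraticMap.polarBilin Q (g v₂) (g v₂) = 2 * Q v₂ := by rw [hB, polar_self']
    -- `U₂` is perpendicular to `v₁, v₂, g v₁, g v₂`
    have hU₂perp : ∀ u ∈ U₂, QuadraticMap.polarBilin Q u v₁ = 0 ∧
        QuadraticMap.polarBilin Q u v₂ = 0 ∧ QuadraticMap.polarBilin Q u (g v₁) = 0 ∧
        QuadraticMap.polarBilin Q u (g v₂) = 0 := by
      intro u hu
      obtain ⟨y, hy, t, ht, rfl⟩ := Submodule.mem_sup.1 (hU₂le hu)
      obtain ⟨y', hy', rfl⟩ := ht
      have hyY₀ : y ∈ Y₀ := hYY₀ (hY₂Y hy)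
      have hy'Y₀ : y' ∈ Y₀ := hYY₀ (hY₂Y hy')
      have e1 : QuadraticMap.polarBilin Q v₁ y = 0 :=
        ((mem_relOrth Q hQ Y _ y).1 (hY₂Y₁ hy)).2 v₁ (Submodule.mem_span_singleton_self v₁)
      have e2 : QuadraticMap.polarBilin Q v₂ y = 0 :=
        ((mem_relOrth Q hQ Y₁ _ y).1 hy).2 v₂ (Submodule.mem_span_singleton_self v₂)
      have e1' : QuadraticMap.polarBilin Q v₁ y' = 0 :=
        ((mem_relOrth Q hQ Y _ y').1 (hY₂Y₁ hy')).2 v₁ (Submodule.mem_span_singleton_self v₁)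
      have e2' : QuadraticMap.polarBilin Q v₂ y' = 0 :=
        ((mem_relOrth Q hQ Y₁ _ y').1 hy').2 v₂ (Submodule.mem_span_singleton_self v₂)
      refine ⟨?_, ?_, ?_, ?_⟩
      · rw [map_add, LinearMap.add_apply, polar_symm Q y v₁, e1, zero_add, polar_symm]
        exact hYgY v₁ hv₁Y₀ y' hy'Y₀
      · rw [map_add, LinearMap.add_apply, polar_symm Q y v₂, e2, zero_add, polar_symm]
        exact hYgY v₂ hv₂Y₀ y' hy'Y₀
      · rw [map_add, LinearMap.add_apply, hYgY y hyY₀ v₁ hv₁Y₀, zero_add, hB, polar_symm]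
        exact e1'
      · rw [map_add, LinearMap.add_apply, hYgY y hyY₀ v₂ hv₂Y₀, zero_add, hB, polar_symm]
        exact e2'
    obtain ⟨a, d, had⟩ := exists_sq_sum h2 (Q v₁) (Q v₂) hv₁Q hv₂Q
    set w₁ := v₁ + a • g v₁ + d • g v₂ with hw₁
    set w₂ := Q v₁ • v₂ + (-(Q v₂ * d)) • g v₁ + (Q v₁ * a) • g v₂ with hw₂
    have hw₁Q : Q w₁ = 0 := by
      rw [hw₁, Q_lin3, hgQ, hgQ, f1g1, f1g2, fg12]
      linear_combination had
    have hw₂Q : Q w₂ = 0 := by
      rw [hw₂, Q_lin3, hgQ, hgQ, Q_smul, fg12]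
      simp only [map_smul, LinearMap.smul_apply, f2g1, f2g2, smul_eq_mul]
      linear_combination (Q v₁ * Q v₂) * had
    have hw₁w₂ : QuadraticMap.polarBilin Q w₁ w₂ = 0 := by
      rw [hw₁, hw₂, B_lin3, fg11, fg22, fg12, polar_symm Q (g v₂) (g v₁), fg12, f1g1, f1g2,
        map_smul, map_smul, map_smul, f12, polar_symm Q (g v₁) v₂, f2g1,
        polar_symm Q (g v₂) v₂, f2g2]
      simp only [smul_eq_mul]
      ring
    have hw₁v₁ : QuadraticMap.polarBilin Q w₁ v₁ = 2 * Q v₁ := by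
      rw [hw₁, map_add, map_add, map_smul, map_smul, LinearMap.add_apply, LinearMap.add_apply,
        LinearMap.smul_apply, LinearMap.smul_apply, polar_self', polar_symm Q (g v₁) v₁, f1g1,
        polar_symm Q (g v₂) v₁, f1g2]
      simp
    have hw₁v₂ : QuadraticMap.polarBilin Q w₁ v₂ = 0 := by
      rw [hw₁, map_add, map_add, map_smul, map_smul, LinearMap.add_apply, LinearMap.add_apply,
        LinearMap.smul_apply, LinearMap.smul_apply, f12, polar_symm Q (g v₁) v₂, f2g1,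
        polar_symm Q (g v₂) v₂, f2g2]
      simp
    have hw₂v₂ : QuadraticMap.polarBilin Q w₂ v₂ = Q v₁ * (2 * Q v₂) := by
      rw [hw₂, map_add, map_add, map_smul, map_smul, map_smul, LinearMap.add_apply,
        LinearMap.add_apply, LinearMap.smul_apply, LinearMap.smul_apply, LinearMap.smul_apply,
        polar_self', polar_symm Q (g v₁) v₂, f2g1, polar_symm Q (g v₂) v₂, f2g2]
      simp
    -- first extension
    have hw₁U₂ : w₁ ∉ U₂ := by
      intro h
      have := (hU₂perp w₁ h).1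
      rw [hw₁v₁] at this
      rcases mul_eq_zero.1 this with h | h
      · exact h2 h
      · exact hv₁Q h
    have hU₂w₁ : ∀ u ∈ U₂, QuadraticMap.polarBilin Q u w₁ = 0 := by
      intro u hu
      obtain ⟨p1, p2, p3, p4⟩ := hU₂perp u hu
      rw [hw₁, map_add, map_add, map_smul, map_smul, p1, p3, p4]
      simp
    obtain ⟨hts1, hfr1⟩ := ts_extend Q U₂ hU₂ts w₁ hw₁U₂ hw₁Q hU₂w₁
    -- second extension
    have hperp2 : ∀ t ∈ U₂ ⊔ Submodule.span F {w₁}, QuadraticMap.polarBilin Q t v₂ = 0 := by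
      intro t ht
      obtain ⟨u, hu, s, hs, rfl⟩ := Submodule.mem_sup.1 ht
      obtain ⟨c, rfl⟩ := Submodule.mem_span_singleton.1 hs
      rw [map_add, LinearMap.add_apply, (hU₂perp u hu).2.1, map_smul, LinearMap.smul_apply, hw₁v₂]
      simp
    have hw₂U : w₂ ∉ U₂ ⊔ Submodule.span F {w₁} := by
      intro h
      have := hperp2 w₂ h
      rw [hw₂v₂] at this
      rcases mul_eq_zero.1 this with h | h
      · exact hv₁Q h
      · rcases mul_eq_zero.1 h with h | h
        · exact h2 h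
        · exact hv₂Q h
    have hU₂w₂ : ∀ u ∈ U₂, QuadraticMap.polarBilin Q u w₂ = 0 := by
      intro u hu
      obtain ⟨p1, p2, p3, p4⟩ := hU₂perp u hu
      rw [hw₂, map_add, map_add, map_smul, map_smul, map_smul, p2, p3, p4]
      simp
    have hUw₂ : ∀ t ∈ U₂ ⊔ Submodule.span F {w₁}, QuadraticMap.polarBilin Q t w₂ = 0 := by
      intro t ht
      obtain ⟨u, hu, s, hs, rfl⟩ := Submodule.mem_sup.1 ht
      obtain ⟨c, rfl⟩ := Submodule.mem_span_singleton.1 hs
      rw [LinearMap.map_add₂, LinearMap.map_smul₂, hU₂w₂ u hu, hw₁w₂]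
      simp
    obtain ⟨hts2, hfr2⟩ := ts_extend Q _ hts1 w₂ hw₂U hw₂Q hUw₂
    refine ⟨U₂ ⊔ Submodule.span F {w₁} ⊔ Submodule.span F {w₂}, ?_, hts2, by omega⟩
    have hgv₁ : g v₁ ∈ Y.map g := Submodule.mem_map_of_mem hv₁Y
    have hgv₂ : g v₂ ∈ Y.map g := Submodule.mem_map_of_mem hv₂Y
    apply sup_le (sup_le ?_ ?_) ?_
    · exact le_trans hU₂le (sup_le_sup hY₂Y (Submodule.map_mono hY₂Y))
    · rw [Submodule.span_le]
      intro t ht
      rw [Set.mem_singleton_iff.1 ht, hw₁, add_assoc]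
      exact Submodule.add_mem_sup hv₁Y
        (Submodule.add_mem _ (Submodule.smul_mem _ _ hgv₁) (Submodule.smul_mem _ _ hgv₂))
    · rw [Submodule.span_le]
      intro t ht
      rw [Set.mem_singleton_iff.1 ht, hw₂, add_assoc]
      exact Submodule.add_mem_sup (Y.smul_mem _ hv₂Y)
        (Submodule.add_mem _ (Submodule.smul_mem _ _ hgv₁) (Submodule.smul_mem _ _ hgv₂))

/-- characteristic 2: the graph of an isometry of `Y` into `Y^⊥` is totally singular -/
theorem exists_ts_double_char_two (h2 : (2 : F) = 0) (Y : Submodule F (ι → F))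
    (hd : Disjoint Y (orthC Q Y)) (g : (ι → F) →ₗ[F] (ι → F)) (hgQ : ∀ v, Q (g v) = Q v)
    (hg : ∀ y ∈ Y, g y ∈ orthC Q Y) :
    ∃ U : Submodule F (ι → F), (∀ u ∈ U, Q u = 0) ∧ finrank F U = finrank F Y := by
  refine ⟨Y.map (LinearMap.id + g), ?_, ?_⟩
  · rintro _ ⟨y, hy, rfl⟩
    rw [LinearMap.add_apply, LinearMap.id_apply, Q_add, hgQ,
      (mem_orthC Q Y _).1 (hg y hy) y hy, add_zero, ← two_mul, h2, zero_mul]
  · rw [← LinearMap.range_domRestrict]
    apply LinearMap.finrank_range_of_inj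
    intro y y' hyy'
    apply Subtype.ext
    have h1 : ((y : ι → F) - y') + g ((y : ι → F) - y') = 0 := by
      have h3 : (y : ι → F) + g y = (y' : ι → F) + g y' := hyy'
      rw [map_sub]
      linear_combination (exp := 1) h3
    have h4 : (y : ι → F) - y' ∈ Y := Y.sub_mem y.2 y'.2
    have h5 : (y : ι → F) - y' ∈ orthC Q Y := by
      have := hg _ h4
      have e : (y : ι → F) - y' = -(g ((y : ι → F) - y')) := eq_neg_of_add_eq_zero_left h1
      rw [e]
      exact Submodule.neg_mem _ this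
    have := eq_zero_of_mem_of_mem_orthC Q Y hd _ h4 h5
    exact sub_eq_zero.1 this

end finite

end Cfsg.Agent.Lib.Helper43
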