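import Cfsg.Agent.Lib.Helper43.OmegaSimple5
import Cfsg.Prelude.Def_GeometricClasses

set_option autoImplicit false
set_option linter.unusedSimpArgs false
set_option linter.unusedVariables false
set_option linter.unusedSectionVars false

/-! Characteristic two: the stabiliser of a non-singular vector is a maximal subgroup of `Ω`
(finite field, non-degenerate polar form, dimension at least 9). Bridge to the vocabulary of
`Cfsg.Geo`. -/

namespace Cfsg.Agent.Lib.Helper43

open Module Matrix Cfsg.Agent.Lib.Helper19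
open scoped commutatorElement

section geometry

variable {F V : Type*} [Field F] [Finite F] [AddCommGroup V] [Module F V] [FiniteDimensional F V]
variable (Q : QuadraticForm F V)

/-- version of `exists_singular_pair_orth2` for three vectors, dimension at least 9 -/
theorem exists_singular_pair_orth3 (hQ : (QuadraticMap.polarBilin Q).Nondegenerate)
    (hn : 9 ≤ finrank F V) (a b c : V) :
    ∃ s x : V, QuadraticMap.polarBilin Q a s = 0 ∧ QuadraticMap.polarBilin Q b s = 0 ∧
      QuadraticMap.polarBilin Q c s = 0 ∧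
      QuadraticMap.polarBilin Q a x = 0 ∧ QuadraticMap.polarBilin Q b x = 0 ∧
      QuadraticMap.polarBilin Q c x = 0 ∧ Q s = 0 ∧
      QuadraticMap.polarBilin Q s x ≠ 0 := by
  classical
  have hU : finrank F (Submodule.span F (({a, b, c} : Finset V) : Set V)) ≤ 3 := by
    refine le_trans (finrank_span_finset_le_card _) ?_
    exact Finset.card_le_three
  obtain ⟨s, x, h1, h2, h3, h4⟩ :=
    exists_singular_pair_orth Q hQ (Submodule.span F (({a, b, c} : Finset V) : Set V)) (by omega)
  have ha : a ∈ Submodule.span F (({a, b, c} : Finset V) : Set V) :=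
    Submodule.subset_span (by simp)
  have hb : b ∈ Submodule.span F (({a, b, c} : Finset V) : Set V) :=
    Submodule.subset_span (by simp)
  have hc : c ∈ Submodule.span F (({a, b, c} : Finset V) : Set V) :=
    Submodule.subset_span (by simp)
  exact ⟨s, x, h1 a ha, h1 b hb, h1 c hc, h2 a ha, h2 b hb, h2 c hc, h3, h4⟩

/-- a vector of prescribed norm perpendicular to three given vectors, together with a witness
that it does not lie in their span -/
theorem exists_orth_value3 (hQ : (QuadraticMap.polarBilin Q).Nondegenerate)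
    (hn : 9 ≤ finrank F V) (a b c : V) (d : F) :
    ∃ w s : V, QuadraticMap.polarBilin Q a w = 0 ∧ QuadraticMap.polarBilin Q b w = 0 ∧
      QuadraticMap.polarBilin Q c w = 0 ∧ Q w = d ∧
      QuadraticMap.polarBilin Q a s = 0 ∧ QuadraticMap.polarBilin Q b s = 0 ∧
      QuadraticMap.polarBilin Q c s = 0 ∧ QuadraticMap.polarBilin Q s w ≠ 0 := by
  obtain ⟨s, x, h1, h2, h3, h4, h5, h6, hs, hsx⟩ := exists_singular_pair_orth3 Q hQ hn a b c
  obtain ⟨t, ht⟩ := exists_value Q s x hs hsx d
  refine ⟨x + t • s, s, ?_, ?_, ?_, ht, h1, h2, h3, ?_⟩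
  · rw [map_add, map_smul, h4, h1, smul_zero, add_zero]
  · rw [map_add, map_smul, h5, h2, smul_zero, add_zero]
  · rw [map_add, map_smul, h6, h3, smul_zero, add_zero]
  · rw [map_add, map_smul, polar_self', hs]
    simpa using hsx

end geometry

variable {F : Type*} [Field F] {ι : Type} [Fintype ι] [DecidableEq ι]
variable (Q : QuadraticForm F (ι → F))

section finite

variable [Fintype F]

/-- in characteristic two, the stabiliser of a non-singular vector is a maximal subgroup of `Ω` -/
theorem nonsingStab_maximal (h2 : (2 : F) = 0) (hQ : (QuadraticMap.polarBilin Q).Nondegenerate)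
    (hn : 9 ≤ Fintype.card ι) (a : ι → F) (ha0 : a ≠ 0) (ha : Q a ≠ 0)
    (K : Subgroup ↥(Cfsg.Omega F ⇑Q)) (hHK : lineStab Q a ha0 ≤ K) :
    K = lineStab Q a ha0 ∨ K = ⊤ := by
  have hn' : 9 ≤ finrank F (ι → F) := by
    rw [Module.finrank_fintype_fun_eq_card]; exact hn
  have hn7 : 7 ≤ Fintype.card ι := by omega
  have hchar : CharP F 2 := CharTwo.of_one_ne_zero_of_two_eq_zero one_ne_zero h2
  by_cases hK : K ≤ lineStab Q a ha0
  · exact Or.inl (le_antisymm hK hHK)
  right
  obtain ⟨k, hkK, hkH⟩ := SetLike.not_le_iff_exists.1 hK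
  rw [mem_lineStab] at hkH
  set b0 := lo Q k a with hb0
  have hb0Q : Q b0 = Q a := by rw [hb0, lo_isometry]
  have hb0a : b0 ≠ a := by
    intro h
    exact hkH ⟨1, by rw [one_smul]; exact h⟩
  -- vectors of the same norm as `a` are independent of `a` unless equal
  have hind : ∀ x y : ι → F, Q x = Q a → Q y = Q a → y ≠ x →
      ∀ α β : F, α • x + β • y = 0 → α = 0 ∧ β = 0 := by
    intro x y hx hy hyx
    have hx0 : x ≠ 0 := by
      rintro rfl
      rw [map_zero] at hx
      exact ha hx.symm
    apply indep_of_not_smul x y hx0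
    rintro ⟨c, hc⟩
    have h1 : Q y = c * c * Q x := by rw [hc, Q_smul]
    rw [hy, hx] at h1
    have h3 : c * c = 1 := by
      have := mul_right_cancel₀ ha (a := c * c) (c := 1) (by rw [one_mul]; exact h1.symm)
      exact this
    have h4 : (c + 1) * (c + 1) = 0 := by
      have : (c + 1) * (c + 1) = c * c + 2 * c + 1 := by ring
      rw [this, h3, h2]
      have h5 : (1 : F) + 1 = 0 := by
        have : (1 : F) + 1 = 2 := by norm_num
        rw [this, h2]
      rw [zero_mul, add_zero]
      exact h5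
    have h5 : c + 1 = 0 := by
      rcases mul_eq_zero.1 h4 with h | h <;> exact h
    have h6 : c = 1 := by
      have h7 : c = -1 := eq_neg_of_add_eq_zero_left h5
      rw [h7]
      exact CharTwo.neg_eq (1 : F)
    apply hyx
    rw [hc, h6, one_smul]
  have hPK : ∀ x : ι → F, (∃ k' ∈ K, lo Q k' a = x) → ∀ k'' ∈ K,
      ∃ k' ∈ K, lo Q k' a = lo Q k'' x := by
    rintro x ⟨k', hk', rfl⟩ k'' hk''
    exact ⟨k'' * k', K.mul_mem hk'' hk', lo_mul_apply Q k'' k' a⟩
  have hPb0 : ∃ k' ∈ K, lo Q k' a = b0 := ⟨k, hkK, rfl⟩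
  have htop : (∀ x : ι → F, Q x = Q a → ∃ k' ∈ K, lo Q k' a = x) → K = ⊤ := by
    intro hall
    rw [eq_top_iff]
    intro g _
    obtain ⟨k', hk', hk'u⟩ := hall (lo Q g a) (lo_isometry Q g a)
    have hmem : k'⁻¹ * g ∈ K := by
      apply hHK
      rw [mem_lineStab]
      refine ⟨1, ?_⟩
      rw [lo_mul_apply, ← hk'u, lo_inv_apply, one_smul]
    have : g = k' * (k'⁻¹ * g) := by group
    rw [this]
    exact K.mul_mem hk' hmem
  set τ := QuadraticMap.polarBilin Q a b0 with hτ
  have D : ∀ b : ι → F, Q b = Q a → b ≠ a → QuadraticMap.polarBilin Q a b = τ →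
      ∃ k' ∈ K, lo Q k' a = b := by
    intro b hb hba hab
    obtain ⟨h, hh, hha, hhb⟩ := exists_Omega_pair Q hQ hn7 a b0 a b
      (hind a b0 rfl hb0Q hb0a) (hind a b rfl hb hba) rfl (by rw [hb0Q, hb]) (by rw [hab])
    have hmem : (⟨h, hh⟩ : ↥(Cfsg.Omega F ⇑Q)) ∈ K := by
      apply hHK
      rw [mem_lineStab]
      exact ⟨1, by rw [one_smul]; exact hha⟩
    have := hPK b0 hPb0 ⟨h, hh⟩ hmem
    have e : lo Q ⟨h, hh⟩ b0 = b := hhb
    rw [e] at this
    exact this
  have D' : ∀ x : ι → F, (∃ k' ∈ K, lo Q k' a = x) → ∀ b : ι → F, Q b = Q a → b ≠ x →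
      QuadraticMap.polarBilin Q x b = τ → ∃ k' ∈ K, lo Q k' a = b := by
    rintro x ⟨k', hk', rfl⟩ b hb hbx hxb
    have h1 : ∃ k'' ∈ K, lo Q k'' a = lo Q k'⁻¹ b := by
      apply D
      · rw [lo_isometry, hb]
      · intro h
        apply hbx
        have := congrArg (lo Q k') h
        rw [lo_apply_inv] at this
        exact this
      · rw [← lo_polar Q k', lo_apply_inv]
        exact hxb
    have h3 := hPK _ h1 k' hk'
    rw [lo_apply_inv] at h3
    exact h3
  apply htop
  intro b hb
  by_cases hba : b = a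
  · rw [hba]
    exact ⟨1, K.one_mem, lo_one_apply Q a⟩
  -- a two-step path from `a` to `b`
  have hindab := hind a b rfl hb hba
  have ha_span : a ∉ Submodule.span F {b} := by
    intro h
    obtain ⟨t, ht⟩ := Submodule.mem_span_singleton.1 h
    have := (hindab 1 (-t) (by rw [one_smul, neg_smul, ht, add_neg_cancel])).1
    exact one_ne_zero this
  have hb_span : b ∉ Submodule.span F {a} := by
    intro h
    obtain ⟨t, ht⟩ := Submodule.mem_span_singleton.1 h
    have := (hindab (-t) 1 (by rw [one_smul, neg_smul, ht, neg_add_cancel])).2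
    exact one_ne_zero this
  obtain ⟨z1, hz1, hz1'⟩ := exists_polar_repr Q hQ _ a ha_span
  obtain ⟨z2, hz2, hz2'⟩ := exists_polar_repr Q hQ _ b hb_span
  have hz1b : QuadraticMap.polarBilin Q z1 b = 0 := hz1' b (Submodule.mem_span_singleton_self b)
  have hz2a : QuadraticMap.polarBilin Q z2 a = 0 := hz2' a (Submodule.mem_span_singleton_self a)
  set c0 := τ • z1 + τ • z2 with hc0
  have hac0 : QuadraticMap.polarBilin Q a c0 = τ := by
    rw [hc0, map_add, map_smul, map_smul, polar_symm Q a z1, polar_symm Q a z2, hz1, hz2a]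
    simp
  have hbc0 : QuadraticMap.polarBilin Q b c0 = τ := by
    rw [hc0, map_add, map_smul, map_smul, polar_symm Q b z1, polar_symm Q b z2, hz1b, hz2]
    simp
  obtain ⟨w, s, hw1, hw2, hw3, hwQ, hs1, hs2, hs3, hsw⟩ :=
    exists_orth_value3 Q hQ hn' a b c0 (Q a - Q c0)
  set c := c0 + w with hc
  have hcQ : Q c = Q a := by
    rw [hc, Q_add, hwQ, hw3]
    ring
  have hac : QuadraticMap.polarBilin Q a c = τ := by rw [hc, map_add, hac0, hw1, add_zero]
  have hbc : QuadraticMap.polarBilin Q b c = τ := by rw [hc, map_add, hbc0, hw2, add_zero]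
  have hca : c ≠ a := by
    intro h
    apply hsw
    have : w = a - c0 := by rw [← h, hc]; abel
    rw [this, map_sub, polar_symm Q s a, polar_symm Q s c0, hs1, hs3, sub_zero]
  have hcb : c ≠ b := by
    intro h
    apply hsw
    have : w = b - c0 := by rw [← h, hc]; abel
    rw [this, map_sub, polar_symm Q s b, polar_symm Q s c0, hs2, hs3, sub_zero]
  have hPc := D c hcQ hca hac
  exact D' c hPc b hb (Ne.symm hcb) (by rw [polar_symm]; exact hbc)

/-- `Ω` moves every non-singular vector -/
theorem exists_Omega_move (hQ : (QuadraticMap.polarBilin Q).Nondegenerate)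
    (hn : 7 ≤ Fintype.card ι) (a : ι → F) (ha0 : a ≠ 0) :
    ∃ g ∈ Cfsg.Omega F ⇑Q, ∀ c : F, linOf Q g a ≠ c • a := by
  have hn' : 7 ≤ finrank F (ι → F) := by
    rw [Module.finrank_fintype_fun_eq_card]; exact hn
  obtain ⟨s, x, has, _, hax, _, hs, hsx⟩ := exists_singular_pair_orth2 Q hQ hn' a a
  have hs0 : s ≠ 0 := by
    rintro rfl
    apply hsx
    simp
  have hQas : Q (a + s) = Q a := by rw [Q_add, hs, has]; simp
  have has0 : a + s ≠ 0 := by
    intro h
    have : s = -a := eq_neg_of_add_eq_zero_right h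
    apply hsx
    rw [this, map_neg, LinearMap.neg_apply, hax, neg_zero]
  obtain ⟨g, hg, hga⟩ := exists_Omega_map Q hQ hn a (a + s) ha0 has0 hQas.symm
  refine ⟨g, hg, ?_⟩
  intro c hc
  rw [hga] at hc
  -- `s = (c - 1) • a` contradicts `B(s, x) ≠ 0`
  have : s = (c - 1) • a := by
    rw [sub_smul, one_smul, ← hc]
    abel
  apply hsx
  rw [this, map_smul, LinearMap.smul_apply, hax, smul_zero]

end finite

end Cfsg.Agent.Lib.Helper43
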