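import Cfsg.Agent.Lib.Helper43.OmegaNondeg9

set_option autoImplicit false
set_option linter.unusedSimpArgs false
set_option linter.unusedVariables false
set_option linter.unusedSectionVars false

/-! Overgroups in `Ω` of the stabiliser of a pair of complementary totally singular subspaces. -/

namespace Cfsg.Agent.Lib.Helper43

open Module Matrix Cfsg.Agent.Lib.Helper19

variable {F : Type*} [Field F] {ι : Type} [Fintype ι] [DecidableEq ι]
variable (Q : QuadraticForm F (ι → F))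

/-- a pair of complementary totally singular subspaces -/
structure TSPair (U U' : Submodule F (ι → F)) : Prop where
  tsU : ∀ u ∈ U, Q u = 0
  tsU' : ∀ u ∈ U', Q u = 0
  disj : Disjoint U U'
  sup : U ⊔ U' = ⊤

namespace TSPair

variable {Q} {U U' : Submodule F (ι → F)} [Fintype F]

theorem symm (h : TSPair Q U U') : TSPair Q U' U :=
  ⟨h.tsU', h.tsU, h.disj.symm, by rw [sup_comm]; exact h.sup⟩

theorem polarU (h : TSPair Q U U') (a b : ι → F) (ha : a ∈ U) (hb : b ∈ U) :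
    QuadraticMap.polarBilin Q a b = 0 := polar_eq_zero_of_ts Q U h.tsU a b ha hb

theorem polarU' (h : TSPair Q U U') (a b : ι → F) (ha : a ∈ U') (hb : b ∈ U') :
    QuadraticMap.polarBilin Q a b = 0 := polar_eq_zero_of_ts Q U' h.tsU' a b ha hb

theorem decomp (h : TSPair Q U U') (v : ι → F) : ∃ a ∈ U, ∃ b ∈ U', v = a + b := by
  have : v ∈ U ⊔ U' := by rw [h.sup]; exact Submodule.mem_top
  obtain ⟨a, ha, b, hb, rfl⟩ := Submodule.mem_sup.1 this
  exact ⟨a, ha, b, hb, rfl⟩

theorem eq_zero_of_mem (h : TSPair Q U U') (v : ι → F) (h1 : v ∈ U) (h2 : v ∈ U') : v = 0 := by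
  have : v ∈ U ⊓ U' := ⟨h1, h2⟩
  rw [h.disj.eq_bot] at this
  exact (Submodule.mem_bot F).1 this

/-- the pairing between `U` and `U'` is perfect -/
theorem pairing (hQ : (QuadraticMap.polarBilin Q).Nondegenerate) (h : TSPair Q U U')
    (u : ι → F) (hu : u ∈ U) (hu0 : u ≠ 0) : ∃ u' ∈ U', QuadraticMap.polarBilin Q u u' ≠ 0 := by
  by_contra hcon
  push Not at hcon
  apply hu0
  apply hQ.1 u
  intro v
  obtain ⟨a, ha, b, hb, rfl⟩ := h.decomp v
  rw [map_add, h.polarU u a hu ha, hcon b hb, add_zero]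

/-- a vector of `U'` perpendicular to `a` and pairing to `1` with `b`, for independent `a, b ∈ U` -/
theorem exists_dual (hQ : (QuadraticMap.polarBilin Q).Nondegenerate) (h : TSPair Q U U')
    (a b : ι → F) (ha : a ∈ U) (hb : b ∈ U) (hab : b ∉ Submodule.span F {a}) :
    ∃ y ∈ U', QuadraticMap.polarBilin Q y a = 0 ∧ QuadraticMap.polarBilin Q y b = 1 := by
  have hb0 : b ≠ 0 := by
    rintro rfl
    exact hab (Submodule.zero_mem _)
  -- it suffices to find `y` with non-zero pairing with `b`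
  suffices hs : ∃ y ∈ U', QuadraticMap.polarBilin Q y a = 0 ∧ QuadraticMap.polarBilin Q y b ≠ 0 by
    obtain ⟨y, hy, hya, hyb⟩ := hs
    refine ⟨(QuadraticMap.polarBilin Q y b)⁻¹ • y, U'.smul_mem _ hy, ?_, ?_⟩
    · rw [map_smul, LinearMap.smul_apply, hya, smul_zero]
    · rw [map_smul, LinearMap.smul_apply, smul_eq_mul, inv_mul_cancel₀ hyb]
  obtain ⟨y₁, hy₁, hby₁⟩ := h.pairing hQ b hb hb0
  have hy₁b : QuadraticMap.polarBilin Q y₁ b ≠ 0 := by rw [polar_symm]; exact hby₁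
  by_cases hy₁a : QuadraticMap.polarBilin Q y₁ a = 0
  · exact ⟨y₁, hy₁, hy₁a, hy₁b⟩
  set c := QuadraticMap.polarBilin Q y₁ b • a - QuadraticMap.polarBilin Q y₁ a • b with hc
  have hcU : c ∈ U := U.sub_mem (U.smul_mem _ ha) (U.smul_mem _ hb)
  have hc0 : c ≠ 0 := by
    intro h0
    apply hab
    have e : b = ((QuadraticMap.polarBilin Q y₁ a)⁻¹ * QuadraticMap.polarBilin Q y₁ b) • a := by
      have h1 : QuadraticMap.polarBilin Q y₁ a • b = QuadraticMap.polarBilin Q y₁ b • a := by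
        rw [hc, sub_eq_zero] at h0
        exact h0.symm
      rw [mul_smul, ← h1, smul_smul, inv_mul_cancel₀ hy₁a, one_smul]
    rw [e]
    exact Submodule.smul_mem _ _ (Submodule.mem_span_singleton_self a)
  obtain ⟨y₂, hy₂, hcy₂⟩ := h.pairing hQ c hcU hc0
  refine ⟨QuadraticMap.polarBilin Q y₂ a • y₁ - QuadraticMap.polarBilin Q y₁ a • y₂,
    U'.sub_mem (U'.smul_mem _ hy₁) (U'.smul_mem _ hy₂), ?_, ?_⟩
  · rw [map_sub, map_smul, map_smul, LinearMap.sub_apply, LinearMap.smul_apply,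
      LinearMap.smul_apply, smul_eq_mul, smul_eq_mul]
    ring
  · intro h0
    apply hcy₂
    rw [polar_symm, hc, map_sub, map_smul, map_smul, smul_eq_mul, smul_eq_mul]
    rw [map_sub, map_smul, map_smul, LinearMap.sub_apply, LinearMap.smul_apply,
      LinearMap.smul_apply, smul_eq_mul, smul_eq_mul] at h0
    linear_combination h0

end TSPair

section finite

variable [Fintype F]

/-- `K` contains the root elements `ρ_{a,b}` with `a ∈ V₁`, `b ∈ V₂` perpendicular -/
def TransIn (hQ : (QuadraticMap.polarBilin Q).Nondegenerate) (hn : 7 ≤ Fintype.card ι)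
    (K : Subgroup ↥(Cfsg.Omega F ⇑Q)) (V₁ V₂ : Submodule F (ι → F)) : Prop :=
  ∀ a ∈ V₁, ∀ b ∈ V₂, QuadraticMap.polarBilin Q a b = 0 → sOf Q hQ hn a b ∈ K

/-- `K` contains a one-parameter group of root elements `ρ_{x, t c}` with `x, c ∈ V₁` independent -/
def RootIn (hQ : (QuadraticMap.polarBilin Q).Nondegenerate) (hn : 7 ≤ Fintype.card ι)
    (K : Subgroup ↥(Cfsg.Omega F ⇑Q)) (V₁ : Submodule F (ι → F)) : Prop :=
  ∃ x ∈ V₁, ∃ c ∈ V₁, x ≠ 0 ∧ c ∉ Submodule.span F {x} ∧ ∀ t : F, sOf Q hQ hn x (t • c) ∈ K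

theorem mem_span_of_eq_smul {x c : ι → F} {l : F} (hl : l ≠ 0) (h : c = l • x) :
    x ∈ Submodule.span F {c} := by
  have : x = l⁻¹ • c := by rw [h, smul_smul, inv_mul_cancel₀ hl, one_smul]
  rw [this]
  exact Submodule.smul_mem _ _ (Submodule.mem_span_singleton_self c)

theorem root_from (hQ : (QuadraticMap.polarBilin Q).Nondegenerate) (hn : 7 ≤ Fintype.card ι)
    {V₁ V₂ : Submodule F (ι → F)} (hp : TSPair Q V₁ V₂) (hk : 5 ≤ finrank F V₁)
    (K : Subgroup ↥(Cfsg.Omega F ⇑Q)) (hK : TransIn Q hQ hn K V₁ V₂)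
    (p r : ι → F) (hpQ : Q p = 0) (hrQ : Q r = 0) (hpr : QuadraticMap.polarBilin Q p r = 0)
    (hτ : sOf Q hQ hn p r ∈ K) (a b r₁ r₂ : ι → F) (ha : a ∈ V₁) (hb : b ∈ V₂) (hr₁ : r₁ ∈ V₁)
    (hr₂ : r₂ ∈ V₂) (hpab : p = a + b) (hrr : r = r₁ + r₂) (ha0 : a ≠ 0)
    (hr₁a : r₁ ∉ Submodule.span F {a}) : RootIn Q hQ hn K V₁ := by
  -- the vector `x`
  have hfr := finrank_relOrth_ge Q hQ V₁ (Submodule.span F {p, r})
  have hfr2 := finrank_span_pair_le p r
  have hfr3 := finrank_span_pair_le a r₁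
  have hnle : ¬ relOrth Q V₁ (Submodule.span F {p, r}) ≤ Submodule.span F {a, r₁} := by
    intro hle
    have := Submodule.finrank_mono hle
    omega
  obtain ⟨x, hxN, hxS⟩ := SetLike.not_le_iff_exists.1 hnle
  obtain ⟨hxV, hxperp⟩ := (mem_relOrth Q hQ V₁ _ x).1 hxN
  have hxp : QuadraticMap.polarBilin Q x p = 0 := by
    rw [polar_symm]; exact hxperp p (Submodule.subset_span (by simp))
  have hxr : QuadraticMap.polarBilin Q x r = 0 := by
    rw [polar_symm]; exact hxperp r (Submodule.subset_span (by simp))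
  have hxQ : Q x = 0 := hp.tsU x hxV
  have hx0 : x ≠ 0 := by
    rintro rfl
    exact hxS (Submodule.zero_mem _)
  have haS : a ∈ Submodule.span F {a, r₁} := Submodule.subset_span (by simp)
  have hr₁S : r₁ ∈ Submodule.span F {a, r₁} := Submodule.subset_span (by simp)
  have hax : a ∉ Submodule.span F {x} := by
    intro h
    obtain ⟨l, hl⟩ := Submodule.mem_span_singleton.1 h
    have hl0 : l ≠ 0 := by
      rintro rfl
      rw [zero_smul] at hl
      exact ha0 hl.symm
    apply hxS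
    have : x = l⁻¹ • a := by rw [← hl, smul_smul, inv_mul_cancel₀ hl0, one_smul]
    rw [this]
    exact Submodule.smul_mem _ _ haS
  obtain ⟨y, hyV, hyx, hya⟩ := hp.exists_dual hQ x a hxV ha hax
  have hxy : QuadraticMap.polarBilin Q x y = 0 := by rw [polar_symm]; exact hyx
  set β := QuadraticMap.polarBilin Q y r₁ with hβ
  set c₁ := β • a - r₁ with hc₁
  set c₂ := β • b - r₂ with hc₂
  have hc₁V : c₁ ∈ V₁ := V₁.sub_mem (V₁.smul_mem _ ha) hr₁
  have hc₂V : c₂ ∈ V₂ := V₂.sub_mem (V₂.smul_mem _ hb) hr₂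
  have hyr : QuadraticMap.polarBilin Q y r = β := by
    rw [hrr, map_add, hp.polarU' y r₂ hyV hr₂, add_zero]
  have hyp : QuadraticMap.polarBilin Q y p = 1 := by
    rw [hpab, map_add, hp.polarU' y b hyV hb, add_zero, hya]
  have hτx : lo Q (sOf Q hQ hn p r) x = x := by
    rw [lo_sOf Q hQ hn p r hpQ hpr, siegelLin_apply, hxr, hxp]
    simp
  have hτy : ∀ t : F, lo Q (sOf Q hQ hn p r) (t • y) = t • y + t • c₁ + t • c₂ := by
    intro t
    rw [lo_sOf Q hQ hn p r hpQ hpr, siegelLin_apply, hrQ]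
    simp only [map_smul, LinearMap.smul_apply, hyr, hyp, smul_eq_mul, zero_mul, sub_zero, mul_one]
    rw [hc₁, hc₂, hpab, hrr]
    simp only [smul_add, smul_sub, smul_smul, neg_smul]
    abel
  have hxc₁ : QuadraticMap.polarBilin Q x c₁ = 0 := hp.polarU x c₁ hxV hc₁V
  have hxb : QuadraticMap.polarBilin Q x b = 0 := by
    have := hxp
    rw [hpab, map_add, hp.polarU x a hxV ha, zero_add] at this
    exact this
  have hxr₂ : QuadraticMap.polarBilin Q x r₂ = 0 := by
    have := hxr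
    rw [hrr, map_add, hp.polarU x r₁ hxV hr₁, zero_add] at this
    exact this
  have hxc₂ : QuadraticMap.polarBilin Q x c₂ = 0 := by
    rw [hc₂, map_sub, map_smul, hxb, hxr₂]
    simp
  refine ⟨x, hxV, c₁, hc₁V, hx0, ?_, ?_⟩
  · intro h
    obtain ⟨l, hl⟩ := Submodule.mem_span_singleton.1 h
    by_cases hl0 : l = 0
    · rw [hl0, zero_smul] at hl
      apply hr₁a
      have : r₁ = β • a := by
        rw [hc₁] at hl
        exact (sub_eq_zero.1 hl.symm).symm
      rw [this]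
      exact Submodule.smul_mem _ _ (Submodule.mem_span_singleton_self a)
    · apply hxS
      have : x = l⁻¹ • c₁ := by rw [← hl, smul_smul, inv_mul_cancel₀ hl0, one_smul]
      rw [this]
      exact Submodule.smul_mem _ _ (Submodule.sub_mem _ (Submodule.smul_mem _ _ haS) hr₁S)
  · intro t
    have h1 : QuadraticMap.polarBilin Q x (t • y) = 0 := by rw [map_smul, hxy, smul_zero]
    have h2 : QuadraticMap.polarBilin Q x (t • c₁) = 0 := by rw [map_smul, hxc₁, smul_zero]
    have h3 : QuadraticMap.polarBilin Q x (t • c₂) = 0 := by rw [map_smul, hxc₂, smul_zero]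
    have h12 : QuadraticMap.polarBilin Q x (t • y + t • c₁) = 0 := by
      rw [map_add, h1, h2, add_zero]
    have hconj := sOf_conj Q hQ hn (sOf Q hQ hn p r) x (t • y) hxQ h1
    rw [hτx, hτy t] at hconj
    have e : sOf Q hQ hn x (t • y) * sOf Q hQ hn x (t • c₁) * sOf Q hQ hn x (t • c₂) =
        sOf Q hQ hn x (t • y + t • c₁ + t • c₂) := by
      rw [sOf_mul Q hQ hn x _ _ hxQ h1 h2, sOf_mul Q hQ hn x _ _ hxQ h12 h3]
    have hA : sOf Q hQ hn x (t • y) ∈ K := hK x hxV (t • y) (V₂.smul_mem t hyV) h1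
    have hC : sOf Q hQ hn x (t • c₂) ∈ K := hK x hxV (t • c₂) (V₂.smul_mem t hc₂V) h3
    have hB : sOf Q hQ hn x (t • y + t • c₁ + t • c₂) ∈ K := by
      rw [← hconj]
      exact K.mul_mem (K.mul_mem hτ hA) (K.inv_mem hτ)
    have e2 : sOf Q hQ hn x (t • c₁) = (sOf Q hQ hn x (t • y))⁻¹ *
        sOf Q hQ hn x (t • y + t • c₁ + t • c₂) * (sOf Q hQ hn x (t • c₂))⁻¹ := by
      rw [← e]
      group
    rw [e2]
    exact K.mul_mem (K.mul_mem (K.inv_mem hA) hB) (K.inv_mem hC)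

end finite

end Cfsg.Agent.Lib.Helper43
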