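import Cfsg.Agent.Lib.Helper43.OmegaPair1

set_option autoImplicit false
set_option linter.unusedSimpArgs false
set_option linter.unusedVariables false
set_option linter.unusedSectionVars false

/-! Overgroups in `Ω` of the stabiliser of a pair of complementary totally singular subspaces,
continued: from an element outside the stabiliser to all root elements of the radicals. -/

namespace Cfsg.Agent.Lib.Helper43

open Module Matrix Cfsg.Agent.Lib.Helper19

variable {F : Type*} [Field F] {ι : Type} [Fintype ι] [DecidableEq ι]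
variable (Q : QuadraticForm F (ι → F))

section finite

variable [Fintype F]

theorem root_of_moved (hQ : (QuadraticMap.polarBilin Q).Nondegenerate) (hn : 7 ≤ Fintype.card ι)
    {V₁ V₂ : Submodule F (ι → F)} (hp : TSPair Q V₁ V₂) (hk₁ : 5 ≤ finrank F V₁)
    (hk₂ : 5 ≤ finrank F V₂) (K : Subgroup ↥(Cfsg.Omega F ⇑Q))
    (hK₁ : TransIn Q hQ hn K V₁ V₂) (hK₂ : TransIn Q hQ hn K V₂ V₁)
    (g : ↥(Cfsg.Omega F ⇑Q)) (hgK : g ∈ K) (v₀ : ι → F) (hv₀ : v₀ ∈ V₁)
    (h1 : lo Q g v₀ ∉ V₁) (h2 : lo Q g v₀ ∉ V₂) :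
    RootIn Q hQ hn K V₁ ∨ RootIn Q hQ hn K V₂ := by
  obtain ⟨a, ha, b, hb, hpab⟩ := hp.decomp (lo Q g v₀)
  have ha0 : a ≠ 0 := by
    rintro rfl
    rw [zero_add] at hpab
    rw [hpab] at h2
    exact h2 hb
  have hb0 : b ≠ 0 := by
    rintro rfl
    rw [add_zero] at hpab
    rw [hpab] at h1
    exact h1 ha
  -- the vector `w`
  have hfr := finrank_relOrth_ge Q hQ V₂ (Submodule.span F {v₀})
  have hfr2 := finrank_span_singleton_le v₀
  have hfr3 := finrank_span_pair_le a b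
  have hinj := lo_injective_apply Q g
  have hnle : ¬ (relOrth Q V₂ (Submodule.span F {v₀})).map (lo Q g) ≤ Submodule.span F {a, b} := by
    intro hle
    have := Submodule.finrank_mono hle
    have h3 : finrank F ↥((relOrth Q V₂ (Submodule.span F {v₀})).map (lo Q g)) =
        finrank F (relOrth Q V₂ (Submodule.span F {v₀})) :=
      (Submodule.equivMapOfInjective (lo Q g) hinj _).finrank_eq.symm
    omega
  obtain ⟨r, hrN, hrS⟩ := SetLike.not_le_iff_exists.1 hnle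
  obtain ⟨w, hwN, rfl⟩ := hrN
  obtain ⟨hwV, hwperp⟩ := (mem_relOrth Q hQ V₂ _ w).1 hwN
  have hv₀w : QuadraticMap.polarBilin Q v₀ w = 0 :=
    hwperp v₀ (Submodule.mem_span_singleton_self v₀)
  have hv₀Q : Q v₀ = 0 := hp.tsU v₀ hv₀
  have hwQ : Q w = 0 := hp.tsU' w hwV
  have hpQ : Q (lo Q g v₀) = 0 := by rw [lo_isometry]; exact hv₀Q
  have hrQ : Q (lo Q g w) = 0 := by rw [lo_isometry]; exact hwQ
  have hpr : QuadraticMap.polarBilin Q (lo Q g v₀) (lo Q g w) = 0 := by rw [lo_polar]; exact hv₀w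
  have hτ : sOf Q hQ hn (lo Q g v₀) (lo Q g w) ∈ K := by
    rw [← sOf_conj Q hQ hn g v₀ w hv₀Q hv₀w]
    exact K.mul_mem (K.mul_mem hgK (hK₁ v₀ hv₀ w hwV hv₀w)) (K.inv_mem hgK)
  obtain ⟨r₁, hr₁, r₂, hr₂, hrr⟩ := hp.decomp (lo Q g w)
  by_cases hc : r₁ ∉ Submodule.span F {a}
  · left
    exact root_from Q hQ hn hp hk₁ K hK₁ _ _ hpQ hrQ hpr hτ a b r₁ r₂ ha hb hr₁ hr₂ hpab hrr ha0 hc
  · right
    push Not at hc
    have hc2 : r₂ ∉ Submodule.span F {b} := by
      intro hc2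
      apply hrS
      rw [hrr]
      obtain ⟨l, hl⟩ := Submodule.mem_span_singleton.1 hc
      obtain ⟨m, hm⟩ := Submodule.mem_span_singleton.1 hc2
      rw [← hl, ← hm]
      exact Submodule.add_mem _ (Submodule.smul_mem _ _ (Submodule.subset_span (by simp)))
        (Submodule.smul_mem _ _ (Submodule.subset_span (by simp)))
    exact root_from Q hQ hn hp.symm hk₂ K hK₂ _ _ hpQ hrQ hpr hτ b a r₂ r₁ hb ha hr₂ hr₁
      (by rw [hpab, add_comm]) (by rw [hrr, add_comm]) hb0 hc2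

/-- `ρ_{b, t a} = ρ_{a, -t b}` for singular perpendicular `a, b` -/
theorem sOf_swap (hQ : (QuadraticMap.polarBilin Q).Nondegenerate) (hn : 7 ≤ Fintype.card ι)
    (a b : ι → F) (ha : Q a = 0) (hb : Q b = 0) (hab : QuadraticMap.polarBilin Q a b = 0) (t : F) :
    sOf Q hQ hn b (t • a) = sOf Q hQ hn a ((-t) • b) := by
  have hba : QuadraticMap.polarBilin Q b a = 0 := by rw [polar_symm]; exact hab
  apply lo_injective Q
  apply LinearMap.ext
  intro v
  rw [lo_sOf Q hQ hn b (t • a) hb (by rw [map_smul, hba, smul_zero]),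
    lo_sOf Q hQ hn a ((-t) • b) ha (by rw [map_smul, hab, smul_zero]), siegelLin_apply,
    siegelLin_apply, Q_smul, Q_smul, ha, hb]
  simp only [map_smul, smul_eq_mul, mul_zero, zero_mul, sub_zero]
  module

theorem sOf_zero_left (hQ : (QuadraticMap.polarBilin Q).Nondegenerate) (hn : 7 ≤ Fintype.card ι)
    (v : ι → F) : sOf Q hQ hn 0 v = 1 := by
  apply lo_injective Q
  apply LinearMap.ext
  intro y
  rw [lo_sOf Q hQ hn 0 v (map_zero Q) (by simp), siegelLin_apply, lo_one_apply]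
  simp

/-- the set of `b ∈ V₁` with `ρ_{a, t b} ∈ K` for all `t` -/
def rootSet (hQ : (QuadraticMap.polarBilin Q).Nondegenerate) (hn : 7 ≤ Fintype.card ι)
    (K : Subgroup ↥(Cfsg.Omega F ⇑Q)) (V₁ : Submodule F (ι → F)) (a : ι → F) : Set (ι → F) :=
  {b | b ∈ V₁ ∧ ∀ t : F, sOf Q hQ hn a (t • b) ∈ K}

theorem rootSet_add (hQ : (QuadraticMap.polarBilin Q).Nondegenerate) (hn : 7 ≤ Fintype.card ι)
    {V₁ V₂ : Submodule F (ι → F)} (hp : TSPair Q V₁ V₂) (K : Subgroup ↥(Cfsg.Omega F ⇑Q))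
    (a : ι → F) (ha : a ∈ V₁) (b c : ι → F) (hb : b ∈ rootSet Q hQ hn K V₁ a)
    (hc : c ∈ rootSet Q hQ hn K V₁ a) : b + c ∈ rootSet Q hQ hn K V₁ a := by
  refine ⟨V₁.add_mem hb.1 hc.1, fun t => ?_⟩
  rw [smul_add, ← sOf_mul Q hQ hn a _ _ (hp.tsU a ha)
    (by rw [map_smul, hp.polarU a b ha hb.1, smul_zero])
    (by rw [map_smul, hp.polarU a c ha hc.1, smul_zero])]
  exact K.mul_mem (hb.2 t) (hc.2 t)

theorem rootSet_smul (hQ : (QuadraticMap.polarBilin Q).Nondegenerate) (hn : 7 ≤ Fintype.card ι)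
    (K : Subgroup ↥(Cfsg.Omega F ⇑Q)) (V₁ : Submodule F (ι → F))
    (a : ι → F) (b : ι → F) (hb : b ∈ rootSet Q hQ hn K V₁ a) (d : F) :
    d • b ∈ rootSet Q hQ hn K V₁ a := by
  refine ⟨V₁.smul_mem d hb.1, fun t => ?_⟩
  rw [smul_smul]
  exact hb.2 (t * d)

/-- if the root set of `a` contains a vector outside `⟨a⟩` it is all of `V₁` -/
theorem rootSet_full (hQ : (QuadraticMap.polarBilin Q).Nondegenerate) (hn : 7 ≤ Fintype.card ι)
    {V₁ V₂ : Submodule F (ι → F)} (hp : TSPair Q V₁ V₂) (K : Subgroup ↥(Cfsg.Omega F ⇑Q))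
    (hK₁ : TransIn Q hQ hn K V₁ V₂) (a : ι → F) (ha : a ∈ V₁) (b : ι → F)
    (hb : b ∈ rootSet Q hQ hn K V₁ a) (hba : b ∉ Submodule.span F {a}) :
    ∀ v ∈ V₁, v ∈ rootSet Q hQ hn K V₁ a := by
  obtain ⟨u', hu'V, hu'a, hu'b⟩ := hp.exists_dual hQ a b ha hb.1 hba
  have haQ : Q a = 0 := hp.tsU a ha
  -- vectors of `V₁` perpendicular to `u'`
  have hperp : ∀ u ∈ V₁, QuadraticMap.polarBilin Q u u' = 0 → u ∈ rootSet Q hQ hn K V₁ a := by
    intro u hu huu'
    have huQ : Q u = 0 := hp.tsU u hu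
    have hT : sOf Q hQ hn u u' ∈ K := hK₁ u hu u' hu'V huu'
    have hTa : lo Q (sOf Q hQ hn u u') a = a := by
      rw [lo_sOf Q hQ hn u u' huQ huu', siegelLin_apply, polar_symm Q a u', hu'a,
        hp.polarU a u ha hu]
      simp
    have hTb : ∀ t : F, lo Q (sOf Q hQ hn u u') (t • b) = t • b + t • u := by
      intro t
      rw [lo_sOf Q hQ hn u u' huQ huu', siegelLin_apply]
      simp only [map_smul, LinearMap.smul_apply, polar_symm Q b u', hu'b, hp.polarU b u hb.1 hu,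
        smul_eq_mul, mul_zero, mul_one, sub_zero, neg_zero, zero_smul, add_zero]
    have hsum : b + u ∈ rootSet Q hQ hn K V₁ a := by
      refine ⟨V₁.add_mem hb.1 hu, fun t => ?_⟩
      have hconj := sOf_conj Q hQ hn (sOf Q hQ hn u u') a (t • b) haQ
        (by rw [map_smul, hp.polarU a b ha hb.1, smul_zero])
      rw [hTa, hTb t] at hconj
      rw [smul_add, ← hconj]
      exact K.mul_mem (K.mul_mem hT (hb.2 t)) (K.inv_mem hT)
    have hneg := rootSet_smul Q hQ hn K V₁ a b hb (-1)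
    have := rootSet_add Q hQ hn hp K a ha _ _ hsum hneg
    have e : b + u + (-1 : F) • b = u := by
      rw [neg_smul, one_smul]
      abel
    rw [e] at this
    exact this
  intro v hv
  have h1 : v - QuadraticMap.polarBilin Q v u' • b ∈ rootSet Q hQ hn K V₁ a := by
    apply hperp _ (V₁.sub_mem hv (V₁.smul_mem _ hb.1))
    rw [map_sub, map_smul, LinearMap.sub_apply, LinearMap.smul_apply, polar_symm Q b u', hu'b]
    simp
  have h2 := rootSet_smul Q hQ hn K V₁ a b hb (QuadraticMap.polarBilin Q v u')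
  have := rootSet_add Q hQ hn hp K a ha _ _ h1 h2
  rw [sub_add_cancel] at this
  exact this

/-- symmetry of the root sets -/
theorem rootSet_symm (hQ : (QuadraticMap.polarBilin Q).Nondegenerate) (hn : 7 ≤ Fintype.card ι)
    {V₁ V₂ : Submodule F (ι → F)} (hp : TSPair Q V₁ V₂) (K : Subgroup ↥(Cfsg.Omega F ⇑Q))
    (a b : ι → F) (ha : a ∈ V₁) (hb : b ∈ rootSet Q hQ hn K V₁ a) :
    a ∈ rootSet Q hQ hn K V₁ b := by
  refine ⟨ha, fun t => ?_⟩
  rw [sOf_swap Q hQ hn a b (hp.tsU a ha) (hp.tsU b hb.1) (hp.polarU a b ha hb.1)]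
  exact hb.2 (-t)

/-- a full root set propagates to every vector outside the line -/
theorem rootSet_full_of_full (hQ : (QuadraticMap.polarBilin Q).Nondegenerate)
    (hn : 7 ≤ Fintype.card ι) {V₁ V₂ : Submodule F (ι → F)} (hp : TSPair Q V₁ V₂)
    (K : Subgroup ↥(Cfsg.Omega F ⇑Q)) (hK₁ : TransIn Q hQ hn K V₁ V₂) (x : ι → F) (hx : x ∈ V₁)
    (hx0 : x ≠ 0) (hfull : ∀ v ∈ V₁, v ∈ rootSet Q hQ hn K V₁ x) (a : ι → F) (ha : a ∈ V₁)
    (hax : a ∉ Submodule.span F {x}) : ∀ v ∈ V₁, v ∈ rootSet Q hQ hn K V₁ a := by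
  have h1 : x ∈ rootSet Q hQ hn K V₁ a := rootSet_symm Q hQ hn hp K x a hx (hfull a ha)
  have h2 : x ∉ Submodule.span F {a} := by
    intro h
    obtain ⟨l, hl⟩ := Submodule.mem_span_singleton.1 h
    have hl0 : l ≠ 0 := by
      rintro rfl
      rw [zero_smul] at hl
      exact hx0 hl.symm
    exact hax (mem_span_of_eq_smul hl0 hl.symm)
  exact rootSet_full Q hQ hn hp K hK₁ a ha x h1 h2

/-- all the root elements of the radical of the stabiliser of `V₁` lie in `K` -/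
theorem all_root (hQ : (QuadraticMap.polarBilin Q).Nondegenerate) (hn : 7 ≤ Fintype.card ι)
    {V₁ V₂ : Submodule F (ι → F)} (hp : TSPair Q V₁ V₂) (K : Subgroup ↥(Cfsg.Omega F ⇑Q))
    (hK₁ : TransIn Q hQ hn K V₁ V₂) (hroot : RootIn Q hQ hn K V₁) :
    ∀ a ∈ V₁, ∀ b ∈ V₁, sOf Q hQ hn a b ∈ K := by
  obtain ⟨x, hx, c, hc, hx0, hcx, hroot⟩ := hroot
  have hc0 : c ≠ 0 := by
    rintro rfl
    exact hcx (Submodule.zero_mem _)
  have hcset : c ∈ rootSet Q hQ hn K V₁ x := ⟨hc, hroot⟩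
  have hfx := rootSet_full Q hQ hn hp K hK₁ x hx c hcset hcx
  have hfc := rootSet_full_of_full Q hQ hn hp K hK₁ x hx hx0 hfx c hc hcx
  intro a ha b hb
  by_cases ha0 : a = 0
  · rw [ha0, sOf_zero_left]
    exact K.one_mem
  have hfa : ∀ v ∈ V₁, v ∈ rootSet Q hQ hn K V₁ a := by
    by_cases hax : a ∈ Submodule.span F {x}
    · apply rootSet_full_of_full Q hQ hn hp K hK₁ c hc hc0 hfc a ha
      intro hac
      obtain ⟨l, hl⟩ := Submodule.mem_span_singleton.1 hax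
      obtain ⟨m, hm⟩ := Submodule.mem_span_singleton.1 hac
      have hm0 : m ≠ 0 := by
        rintro rfl
        rw [zero_smul] at hm
        exact ha0 hm.symm
      apply hcx
      have : c = (m⁻¹ * l) • x := by
        rw [mul_smul, hl, ← hm, smul_smul, inv_mul_cancel₀ hm0, one_smul]
      rw [this]
      exact Submodule.smul_mem _ _ (Submodule.mem_span_singleton_self x)
    · exact rootSet_full_of_full Q hQ hn hp K hK₁ x hx hx0 hfx a ha hax
  have := (hfa b hb).2 1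
  rw [one_smul] at this
  exact this

/-- hence the whole Siegel group of every vector of `V₁` lies in `K` -/
theorem siegIn_of_all_root (hQ : (QuadraticMap.polarBilin Q).Nondegenerate)
    (hn : 7 ≤ Fintype.card ι) {V₁ V₂ : Submodule F (ι → F)} (hp : TSPair Q V₁ V₂)
    (K : Subgroup ↥(Cfsg.Omega F ⇑Q)) (hK₁ : TransIn Q hQ hn K V₁ V₂)
    (hall : ∀ a ∈ V₁, ∀ b ∈ V₁, sOf Q hQ hn a b ∈ K) (a : ι → F) (ha : a ∈ V₁) :
    SiegIn Q hQ hn K a := by
  have haQ : Q a = 0 := hp.tsU a ha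
  rw [SiegIn_iff_sOf Q hQ hn K a haQ]
  intro v hv
  obtain ⟨v₁, hv₁, v₂, hv₂, rfl⟩ := hp.decomp v
  have h1 : QuadraticMap.polarBilin Q a v₁ = 0 := hp.polarU a v₁ ha hv₁
  have h2 : QuadraticMap.polarBilin Q a v₂ = 0 := by
    rw [map_add, h1, zero_add] at hv
    exact hv
  rw [← sOf_mul Q hQ hn a v₁ v₂ haQ h1 h2]
  exact K.mul_mem (hall a ha v₁ hv₁) (hK₁ a ha v₂ hv₂ h2)

end finite

end Cfsg.Agent.Lib.Helper43
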