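import Cfsg.Agent.Lib.Helper43.OmegaPair2

set_option autoImplicit false
set_option linter.unusedSimpArgs false
set_option linter.unusedVariables false
set_option linter.unusedSectionVars false

/-! Overgroups in `Ω` of the stabiliser of a pair of complementary totally singular subspaces:
the main theorem. -/

namespace Cfsg.Agent.Lib.Helper43

open Module Matrix Cfsg.Agent.Lib.Helper19

variable {F : Type*} [Field F] {ι : Type} [Fintype ι] [DecidableEq ι]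
variable (Q : QuadraticForm F (ι → F))

theorem into_one_of_two (V A B : Submodule F (ι → F)) (f : (ι → F) →ₗ[F] (ι → F))
    (h : ∀ v ∈ V, f v ∉ A → f v ∈ B) : (∀ v ∈ V, f v ∈ A) ∨ (∀ v ∈ V, f v ∈ B) := by
  by_contra hc
  push Not at hc
  obtain ⟨⟨u₁, hu₁, h1⟩, ⟨u₂, hu₂, h2⟩⟩ := hc
  have h1' : f u₁ ∈ B := h u₁ hu₁ h1
  have h2' : f u₂ ∈ A := by
    by_contra hh
    exact h2 (h u₂ hu₂ hh)
  by_cases h3 : f (u₁ + u₂) ∈ A
  · apply h1
    have := A.sub_mem h3 h2'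
    rw [map_add, add_sub_cancel_right] at this
    exact this
  · have h3' := h _ (V.add_mem hu₁ hu₂) h3
    apply h2
    have := B.sub_mem h3' h1'
    rw [map_add, add_sub_cancel_left] at this
    exact this

section finite

variable [Fintype F]

theorem exists_moved {U U' : Submodule F (ι → F)} (hp : TSPair Q U U') (hU0 : U ≠ ⊥)
    (hU'0 : U' ≠ ⊥) (g : ↥(Cfsg.Omega F ⇑Q))
    (hg₁ : ¬ ((∀ u ∈ U, lo Q g u ∈ U) ∧ (∀ u' ∈ U', lo Q g u' ∈ U')))
    (hg₂ : ¬ ((∀ u ∈ U, lo Q g u ∈ U') ∧ (∀ u' ∈ U', lo Q g u' ∈ U))) :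
    (∃ v₀ ∈ U, lo Q g v₀ ∉ U ∧ lo Q g v₀ ∉ U') ∨ (∃ v₀ ∈ U', lo Q g v₀ ∉ U' ∧ lo Q g v₀ ∉ U) := by
  by_contra hcon
  push Not at hcon
  obtain ⟨h₁, h₂⟩ := hcon
  have hall : ∀ (A : Submodule F (ι → F)), (∀ u ∈ U, lo Q g u ∈ A) → (∀ u' ∈ U', lo Q g u' ∈ A) →
      ∀ v, v ∈ A := by
    intro A hA hA' v
    obtain ⟨a, ha, b, hb, hab⟩ := hp.decomp (lo Q g⁻¹ v)
    have := A.add_mem (hA a ha) (hA' b hb)
    rw [← map_add, ← hab, lo_apply_inv] at this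
    exact this
  rcases into_one_of_two U U U' (lo Q g) h₁ with hA | hA
  · rcases into_one_of_two U' U' U (lo Q g) h₂ with hB | hB
    · exact hg₁ ⟨hA, hB⟩
    · obtain ⟨u', hu', hu'0⟩ := (Submodule.ne_bot_iff U').1 hU'0
      exact hu'0 (hp.eq_zero_of_mem u' (hall U hA hB u') hu')
  · rcases into_one_of_two U' U' U (lo Q g) h₂ with hB | hB
    · obtain ⟨u, hu, hu0⟩ := (Submodule.ne_bot_iff U).1 hU0
      exact hu0 (hp.eq_zero_of_mem u hu (hall U' hA hB u))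
    · exact hg₂ ⟨hA, hB⟩

theorem surj_of_map_into (s : ↥(Cfsg.Omega F ⇑Q)) (A B : Submodule F (ι → F))
    (h : ∀ a ∈ A, lo Q s a ∈ B) (hfr : finrank F A = finrank F B) :
    ∀ b ∈ B, ∃ a ∈ A, lo Q s a = b := by
  have hinj := lo_injective_apply Q s
  have hmap : A.map (lo Q s) = B := by
    apply Submodule.eq_of_le_of_finrank_eq
    · rintro _ ⟨v, hv, rfl⟩
      exact h v hv
    · rw [← hfr]
      exact (Submodule.equivMapOfInjective (lo Q s) hinj A).finrank_eq.symm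
  intro b hb
  rw [← hmap] at hb
  obtain ⟨a, ha, hab⟩ := hb
  exact ⟨a, ha, hab⟩

theorem ne_bot_of_finrank_pos (A : Submodule F (ι → F)) (h : 0 < finrank F A) : A ≠ ⊥ := by
  intro h0
  rw [h0, finrank_bot] at h
  exact lt_irrefl _ h

/-- **overgroups of the stabiliser of a pair of complementary totally singular subspaces** -/
theorem pair_maximal (hQ : (QuadraticMap.polarBilin Q).Nondegenerate) (hn : 7 ≤ Fintype.card ι)
    {U U' : Submodule F (ι → F)} (hp : TSPair Q U U') (hk : 5 ≤ finrank F U)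
    (hfr : finrank F U = finrank F U') (K : Subgroup ↥(Cfsg.Omega F ⇑Q))
    (hK₁ : TransIn Q hQ hn K U U') (hK₂ : TransIn Q hQ hn K U' U)
    (s : ↥(Cfsg.Omega F ⇑Q)) (hsK : s ∈ K) (hs₁ : ∀ u ∈ U, lo Q s u ∈ U')
    (hs₂ : ∀ u' ∈ U', lo Q s u' ∈ U) (g : ↥(Cfsg.Omega F ⇑Q)) (hgK : g ∈ K)
    (hg₁ : ¬ ((∀ u ∈ U, lo Q g u ∈ U) ∧ (∀ u' ∈ U', lo Q g u' ∈ U')))
    (hg₂ : ¬ ((∀ u ∈ U, lo Q g u ∈ U') ∧ (∀ u' ∈ U', lo Q g u' ∈ U))) : K = ⊤ := by
  have hk' : 5 ≤ finrank F U' := by omega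
  have hU0 : U ≠ ⊥ := ne_bot_of_finrank_pos U (by omega)
  have hU'0 : U' ≠ ⊥ := ne_bot_of_finrank_pos U' (by omega)
  have hroot : RootIn Q hQ hn K U ∨ RootIn Q hQ hn K U' := by
    rcases exists_moved Q hp hU0 hU'0 g hg₁ hg₂ with ⟨v₀, hv₀, h1, h2⟩ | ⟨v₀, hv₀, h1, h2⟩
    · exact root_of_moved Q hQ hn hp hk hk' K hK₁ hK₂ g hgK v₀ hv₀ h1 h2
    · exact (root_of_moved Q hQ hn hp.symm hk' hk K hK₂ hK₁ g hgK v₀ hv₀ h1 h2).symm
  have hboth : (∀ a ∈ U, SiegIn Q hQ hn K a) ∧ (∀ a' ∈ U', SiegIn Q hQ hn K a') := by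
    rcases hroot with hr | hr
    · have hall := all_root Q hQ hn hp K hK₁ hr
      have hS := siegIn_of_all_root Q hQ hn hp K hK₁ hall
      refine ⟨hS, fun a' ha' => ?_⟩
      obtain ⟨a, ha, rfl⟩ := surj_of_map_into Q s U U' hs₁ hfr a' ha'
      exact (hS a ha).conj s hsK
    · have hall := all_root Q hQ hn hp.symm K hK₂ hr
      have hS := siegIn_of_all_root Q hQ hn hp.symm K hK₂ hall
      refine ⟨fun a ha => ?_, hS⟩
      obtain ⟨a', ha', rfl⟩ := surj_of_map_into Q s U' U hs₂ hfr.symm a ha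
      exact (hS a' ha').conj s hsK
  obtain ⟨x, hx, hx0⟩ := (Submodule.ne_bot_iff U).1 hU0
  obtain ⟨x', hx', hxx'⟩ := hp.pairing hQ x hx hx0
  exact eq_top_of_SiegIn_pair K x x' (hboth.1 x hx) (hboth.2 x' hx') hxx'

/-- the transversal root elements stabilise both subspaces -/
theorem sOf_trans_maps (hQ : (QuadraticMap.polarBilin Q).Nondegenerate) (hn : 7 ≤ Fintype.card ι)
    {U U' : Submodule F (ι → F)} (hp : TSPair Q U U') (u u' : ι → F) (hu : u ∈ U) (hu' : u' ∈ U')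
    (huu' : QuadraticMap.polarBilin Q u u' = 0) :
    (∀ x ∈ U, lo Q (sOf Q hQ hn u u') x ∈ U) ∧ (∀ x ∈ U', lo Q (sOf Q hQ hn u u') x ∈ U') := by
  have huQ : Q u = 0 := hp.tsU u hu
  have hu'Q : Q u' = 0 := hp.tsU' u' hu'
  constructor
  · intro x hx
    rw [lo_sOf Q hQ hn u u' huQ huu', siegelLin_apply, hp.polarU x u hx hu]
    simp only [neg_zero, zero_smul, add_zero]
    exact U.add_mem hx (U.smul_mem _ hu)
  · intro x hx
    rw [lo_sOf Q hQ hn u u' huQ huu', siegelLin_apply, hp.polarU' x u' hx hu', hu'Q]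
    simp only [zero_mul, sub_zero, zero_smul, add_zero]
    exact U'.add_mem hx (U'.smul_mem _ hu')

theorem sOf_trans_maps' (hQ : (QuadraticMap.polarBilin Q).Nondegenerate) (hn : 7 ≤ Fintype.card ι)
    {U U' : Submodule F (ι → F)} (hp : TSPair Q U U') (u u' : ι → F) (hu : u ∈ U) (hu' : u' ∈ U')
    (hu'u : QuadraticMap.polarBilin Q u' u = 0) :
    (∀ x ∈ U, lo Q (sOf Q hQ hn u' u) x ∈ U) ∧ (∀ x ∈ U', lo Q (sOf Q hQ hn u' u) x ∈ U') := by
  have h := sOf_trans_maps Q hQ hn hp.symm u' u hu' hu hu'u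
  exact ⟨h.2, h.1⟩

end finite

end Cfsg.Agent.Lib.Helper43
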