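import Cfsg.Agent.Lib.Helper43.OmegaPair3

set_option autoImplicit false
set_option linter.unusedSimpArgs false
set_option linter.unusedVariables false
set_option linter.unusedSectionVars false

/-! An element of `Ω` interchanging two complementary totally singular subspaces of even
dimension. -/

namespace Cfsg.Agent.Lib.Helper43

open Module Matrix Cfsg.Agent.Lib.Helper19
open scoped commutatorElement

variable {F : Type*} [Field F] {ι : Type} [Fintype ι] [DecidableEq ι]
variable (Q : QuadraticForm F (ι → F))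

section finite

variable [Fintype F]

/-- the product of two reflections in vectors of the same norm is a commutator -/
theorem reflO_mul_reflO_mem_of_eq (hQ : (QuadraticMap.polarBilin Q).Nondegenerate)
    (a b : ι → F) (ha : Q a ≠ 0) (hab : Q a = Q b) :
    reflO Q a * reflO Q b ∈ Cfsg.Omega F ⇑Q := by
  have hb : Q b ≠ 0 := by rw [← hab]; exact ha
  have ha0 : a ≠ 0 := by
    rintro rfl
    exact ha (map_zero Q)
  have hb0 : b ≠ 0 := by
    rintro rfl
    exact hb (map_zero Q)
  obtain ⟨σ, hσ⟩ := exists_isometry_map Q hQ a b ha0 hb0 hab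
  have hconj := reflO_conj Q σ a ha
  rw [hσ] at hconj
  have hinv : (reflO Q a)⁻¹ = reflO Q a := inv_eq_of_mul_eq_one_right (reflO_mul_self Q a ha)
  have hb' : reflO Q b = σ * reflO Q a * σ⁻¹ := by
    rw [hconj, mul_inv_cancel_right]
  have : reflO Q a * reflO Q b = ⁅reflO Q a, σ⁆ := by
    rw [commutatorElement_def, hinv, hb']
    group
  rw [this]
  show _ ∈ commutator _
  rw [commutator_def]
  exact Subgroup.commutator_mem_commutator (Subgroup.mem_top _) (Subgroup.mem_top _)

theorem prod_even_same_norm (hQ : (QuadraticMap.polarBilin Q).Nondegenerate) (c : F)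
    (hc : c ≠ 0) :
    ∀ (n : ℕ) (l : List (ι → F)), (∀ u ∈ l, Q u = c) → l.length = 2 * n →
      (l.map (reflO Q)).prod ∈ Cfsg.Omega F ⇑Q := by
  intro n
  induction n with
  | zero =>
    intro l _ hlen
    have : l = [] := List.length_eq_zero_iff.1 (by omega)
    subst this
    simp only [List.map_nil, List.prod_nil]
    exact Subgroup.one_mem _
  | succ n ih =>
    intro l hl hlen
    match l, hl, hlen with
    | [], _, hlen => simp at hlen
    | [a], _, hlen => simp at hlen; omega
    | a :: b :: t, hl, hlen =>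
      have ha : Q a = c := hl a (by simp)
      have hb : Q b = c := hl b (by simp)
      have ht : ∀ u ∈ t, Q u = c := fun u hu => hl u (by simp [hu])
      have hlen' : t.length = 2 * n := by
        simp only [List.length_cons] at hlen
        omega
      rw [List.map_cons, List.map_cons, List.prod_cons, List.prod_cons, ← mul_assoc]
      exact Subgroup.mul_mem _
        (reflO_mul_reflO_mem_of_eq Q hQ a b (by rw [ha]; exact hc) (by rw [ha, hb])) (ih t ht hlen')

/-- a product of `j` reflections interchanging two totally singular subspaces of dimension `j` in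
perfect duality -/
theorem exists_swap_list (hQ : (QuadraticMap.polarBilin Q).Nondegenerate) :
    ∀ (j : ℕ) (U U' : Submodule F (ι → F)), (∀ u ∈ U, Q u = 0) → (∀ u ∈ U', Q u = 0) →
      (∀ u ∈ U, (∀ u' ∈ U', QuadraticMap.polarBilin Q u u' = 0) → u = 0) →
      (∀ u' ∈ U', (∀ u ∈ U, QuadraticMap.polarBilin Q u u' = 0) → u' = 0) →
      finrank F U = j →
      ∃ l : List (ι → F), l.length = j ∧ (∀ v ∈ l, Q v = -1) ∧
        (∀ u ∈ U, linOf Q ((l.map (reflO Q)).prod) u ∈ U') ∧
        (∀ u' ∈ U', linOf Q ((l.map (reflO Q)).prod) u' ∈ U) ∧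
        (∀ v, (∀ u ∈ U, QuadraticMap.polarBilin Q u v = 0) →
          (∀ u' ∈ U', QuadraticMap.polarBilin Q u' v = 0) →
          linOf Q ((l.map (reflO Q)).prod) v = v) := by
  intro j
  induction j with
  | zero =>
    intro U U' hU hU' hp₁ hp₂ hfr
    have hU0 : U = ⊥ := Submodule.finrank_eq_zero.1 hfr
    have hU'0 : ∀ u' ∈ U', u' = 0 := by
      intro u' hu'
      apply hp₂ u' hu'
      intro u hu
      rw [hU0, Submodule.mem_bot] at hu
      rw [hu]
      simp
    refine ⟨[], rfl, fun v hv => absurd hv (List.not_mem_nil), ?_, ?_, ?_⟩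
    · intro u hu
      rw [hU0, Submodule.mem_bot] at hu
      rw [hu, map_zero]
      exact U'.zero_mem
    · intro u' hu'
      rw [hU'0 u' hu', map_zero]
      exact U.zero_mem
    · intro v _ _
      rw [List.map_nil, List.prod_nil, linOf_one]
      rfl
  | succ j ih =>
    intro U U' hU hU' hp₁ hp₂ hfr
    have hUU := polar_eq_zero_of_ts Q U hU
    have hUU' := polar_eq_zero_of_ts Q U' hU'
    have hUne : U ≠ ⊥ := by
      intro h
      rw [h, finrank_bot] at hfr
      omega
    obtain ⟨e, heU, he0⟩ := (Submodule.ne_bot_iff U).1 hUne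
    obtain ⟨f₀, hf₀U, hef₀⟩ : ∃ f₀ ∈ U', QuadraticMap.polarBilin Q e f₀ ≠ 0 := by
      by_contra hcon
      push Not at hcon
      exact he0 (hp₁ e heU hcon)
    obtain ⟨f, hfU, hef⟩ : ∃ f ∈ U', QuadraticMap.polarBilin Q e f = 1 := by
      refine ⟨(QuadraticMap.polarBilin Q e f₀)⁻¹ • f₀, U'.smul_mem _ hf₀U, ?_⟩
      rw [map_smul, smul_eq_mul, inv_mul_cancel₀ hef₀]
    have hfe : QuadraticMap.polarBilin Q f e = 1 := by rw [polar_symm]; exact hef
    obtain ⟨U₁, hU₁⟩ : ∃ U₁ : Submodule F (ι → F),
        U₁ = U ⊓ LinearMap.ker (QuadraticMap.polarBilin Q f) := ⟨_, rfl⟩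
    obtain ⟨U₁', hU₁'⟩ : ∃ U₁' : Submodule F (ι → F),
        U₁' = U' ⊓ LinearMap.ker (QuadraticMap.polarBilin Q e) := ⟨_, rfl⟩
    have hmem₁ : ∀ v, v ∈ U₁ ↔ v ∈ U ∧ QuadraticMap.polarBilin Q f v = 0 := by
      intro v
      rw [hU₁, Submodule.mem_inf, LinearMap.mem_ker]
    have hmem₁' : ∀ v, v ∈ U₁' ↔ v ∈ U' ∧ QuadraticMap.polarBilin Q e v = 0 := by
      intro v
      rw [hU₁', Submodule.mem_inf, LinearMap.mem_ker]
    have hfr₁ : finrank F U₁ = j := by
      have := finrank_inf_ker_add_one U (QuadraticMap.polarBilin Q f) ⟨e, heU, by rw [hfe]; exact one_ne_zero⟩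
      rw [← hU₁] at this
      omega
    have hp₁' : ∀ u ∈ U₁, (∀ u' ∈ U₁', QuadraticMap.polarBilin Q u u' = 0) → u = 0 := by
      intro u hu h
      obtain ⟨huU, hfu⟩ := (hmem₁ u).1 hu
      apply hp₁ u huU
      intro u' hu'
      have h1 : u' - QuadraticMap.polarBilin Q e u' • f ∈ U₁' := by
        rw [hmem₁']
        refine ⟨U'.sub_mem hu' (U'.smul_mem _ hfU), ?_⟩
        rw [map_sub, map_smul, hef]
        simp
      have h2 := h _ h1
      rw [map_sub, map_smul, polar_symm Q u f, hfu] at h2
      simpa using h2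
    have hp₂' : ∀ u' ∈ U₁', (∀ u ∈ U₁, QuadraticMap.polarBilin Q u u' = 0) → u' = 0 := by
      intro u' hu' h
      obtain ⟨hu'U, heu'⟩ := (hmem₁' u').1 hu'
      apply hp₂ u' hu'U
      intro u hu
      have h1 : u - QuadraticMap.polarBilin Q f u • e ∈ U₁ := by
        rw [hmem₁]
        refine ⟨U.sub_mem hu (U.smul_mem _ heU), ?_⟩
        rw [map_sub, map_smul, hfe]
        simp
      have h2 := h _ h1
      rw [map_sub, map_smul, LinearMap.sub_apply, LinearMap.smul_apply, heu'] at h2
      simpa using h2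
    obtain ⟨l₁, hlen, hnorm, hm₁, hm₂, hfix⟩ := ih U₁ U₁' (fun u hu => hU u ((hmem₁ u).1 hu).1)
      (fun u hu => hU' u ((hmem₁' u).1 hu).1) hp₁' hp₂' hfr₁
    obtain ⟨h₁, hh₁⟩ : ∃ h₁ : Module.End F (ι → F), h₁ = linOf Q ((l₁.map (reflO Q)).prod) :=
      ⟨_, rfl⟩
    rw [← hh₁] at hm₁ hm₂ hfix
    obtain ⟨a, ha⟩ : ∃ a : ι → F, a = e - f := ⟨_, rfl⟩
    have haQ : Q a = -1 := by
      rw [ha, Q_sub, hU e heU, hU' f hfU, hef]
      ring
    have haQ0 : Q a ≠ 0 := by
      rw [haQ]
      exact neg_ne_zero.2 one_ne_zero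
    have hee : QuadraticMap.polarBilin Q e e = 0 := hUU e e heU heU
    have hff : QuadraticMap.polarBilin Q f f = 0 := hUU' f f hfU hfU
    -- `h₁` fixes `e` and `f`
    have hh₁e : h₁ e = e := by
      apply hfix
      · intro u hu
        exact hUU u e ((hmem₁ u).1 hu).1 heU
      · intro u' hu'
        rw [polar_symm]
        exact ((hmem₁' u').1 hu').2
    have hh₁f : h₁ f = f := by
      apply hfix
      · intro u hu
        rw [polar_symm]
        exact ((hmem₁ u).1 hu).2
      · intro u' hu'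
        exact hUU' u' f ((hmem₁' u').1 hu').1 hfU
    have hea : QuadraticMap.polarBilin Q e a = -1 := by
      rw [ha, map_sub, hee, hef]
      ring
    have hfa : QuadraticMap.polarBilin Q f a = 1 := by
      rw [ha, map_sub, hff, hfe]
      ring
    have hre : reflLin Q a e = f := by
      rw [reflLin_apply', haQ, hea, ha]
      simp
    have hrf : reflLin Q a f = e := by
      rw [reflLin_apply', haQ, hfa, ha]
      simp
    have hrfix : ∀ y, QuadraticMap.polarBilin Q y e = 0 → QuadraticMap.polarBilin Q y f = 0 →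
        reflLin Q a y = y := by
      intro y hye hyf
      have hya : QuadraticMap.polarBilin Q y a = 0 := by
        rw [ha, map_sub, hye, hyf, sub_zero]
      rw [reflLin_apply', hya]
      simp
    have hlin : ∀ v, linOf Q (((a :: l₁).map (reflO Q)).prod) v = reflLin Q a (h₁ v) := by
      intro v
      rw [List.map_cons, List.prod_cons, linOf_mul, linOf_reflO Q a haQ0, hh₁]
      rfl
    refine ⟨a :: l₁, by rw [List.length_cons, hlen], ?_, ?_, ?_, ?_⟩
    · intro v hv
      rcases List.mem_cons.1 hv with h | h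
      · rw [h]; exact haQ
      · exact hnorm v h
    · intro u hu
      rw [hlin]
      set α := QuadraticMap.polarBilin Q f u with hα
      have hu₁ : u - α • e ∈ U₁ := by
        rw [hmem₁]
        refine ⟨U.sub_mem hu (U.smul_mem _ heU), ?_⟩
        rw [map_sub, map_smul, hfe]
        simp [hα]
      have hdec : u = α • e + (u - α • e) := by abel
      have hy := hm₁ _ hu₁
      obtain ⟨hyU', hye⟩ := (hmem₁' _).1 hy
      rw [hdec, map_add, map_smul, hh₁e, map_add, map_smul, hre,
        hrfix _ (by rw [polar_symm]; exact hye) (hUU' _ f hyU' hfU)]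
      exact U'.add_mem (U'.smul_mem _ hfU) hyU'
    · intro u' hu'
      rw [hlin]
      set α := QuadraticMap.polarBilin Q e u' with hα
      have hu₁ : u' - α • f ∈ U₁' := by
        rw [hmem₁']
        refine ⟨U'.sub_mem hu' (U'.smul_mem _ hfU), ?_⟩
        rw [map_sub, map_smul, hef]
        simp [hα]
      have hdec : u' = α • f + (u' - α • f) := by abel
      have hy := hm₂ _ hu₁
      obtain ⟨hyU, hyf⟩ := (hmem₁ _).1 hy
      rw [hdec, map_add, map_smul, hh₁f, map_add, map_smul, hrf,
        hrfix _ (hUU _ e hyU heU) (by rw [polar_symm]; exact hyf)]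
      exact U.add_mem (U.smul_mem _ heU) hyU
    · intro v hvU hvU'
      rw [hlin]
      have h1 : h₁ v = v := by
        apply hfix
        · intro u hu
          exact hvU u ((hmem₁ u).1 hu).1
        · intro u' hu'
          exact hvU' u' ((hmem₁' u').1 hu').1
      rw [h1]
      apply hrfix
      · rw [polar_symm]; exact hvU e heU
      · rw [polar_symm]; exact hvU' f hfU

/-- an element of `Ω` interchanging two complementary totally singular subspaces of even
dimension -/
theorem exists_swap_Omega (hQ : (QuadraticMap.polarBilin Q).Nondegenerate)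
    {U U' : Submodule F (ι → F)} (hp : TSPair Q U U') (r : ℕ) (hfr : finrank F U = 2 * r) :
    ∃ s : ↥(Cfsg.Omega F ⇑Q), (∀ u ∈ U, lo Q s u ∈ U') ∧ (∀ u' ∈ U', lo Q s u' ∈ U) := by
  have hp₁ : ∀ u ∈ U, (∀ u' ∈ U', QuadraticMap.polarBilin Q u u' = 0) → u = 0 := by
    intro u hu h
    by_contra hu0
    obtain ⟨u', hu', hne⟩ := hp.pairing hQ u hu hu0
    exact hne (h u' hu')
  have hp₂ : ∀ u' ∈ U', (∀ u ∈ U, QuadraticMap.polarBilin Q u u' = 0) → u' = 0 := by
    intro u' hu' h
    by_contra hu0
    obtain ⟨u, hu, hne⟩ := hp.symm.pairing hQ u' hu' hu0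
    apply hne
    rw [polar_symm]
    exact h u hu
  obtain ⟨l, hlen, hnorm, hm₁, hm₂, -⟩ := exists_swap_list Q hQ (2 * r) U U' hp.tsU hp.tsU' hp₁ hp₂ hfr
  have hmem := prod_even_same_norm Q hQ (-1) (neg_ne_zero.2 one_ne_zero) r l hnorm hlen
  exact ⟨⟨_, hmem⟩, hm₁, hm₂⟩

end finite

end Cfsg.Agent.Lib.Helper43
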