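import Cfsg.Agent.Lib.Helper43.OmegaPair4

set_option autoImplicit false
set_option linter.unusedSimpArgs false
set_option linter.unusedVariables false
set_option linter.unusedSectionVars false

/-! The stabiliser in `Ω` of a pair of complementary totally singular subspaces of even dimension
is maximal: statement in the vocabulary of `Cfsg.Geo`. -/

namespace Cfsg.Agent.Lib.Helper43

open Module Matrix Cfsg.Agent.Lib.Helper19

variable {F : Type*} [Field F] {ι : Type} [Fintype ι] [DecidableEq ι]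
variable (Q : QuadraticForm F (ι → F))

section finite

variable [Fintype F]

/-- bridge to the vocabulary of `Cfsg.Geo`, for an arbitrary subgroup of `GL` -/
theorem isMaximalIn_of_comap (S : Subgroup (GL ι F))
    (hne : ∃ g : ↥(Cfsg.Omega F ⇑Q), ((g : ↥(Cfsg.isometryGroup F ⇑Q)) : GL ι F) ∉ S)
    (hmax : ∀ K : Subgroup ↥(Cfsg.Omega F ⇑Q),
      S.comap ((Cfsg.isometryGroup F ⇑Q).subtype.comp (Cfsg.Omega F ⇑Q).subtype) ≤ K →
      K = S.comap ((Cfsg.isometryGroup F ⇑Q).subtype.comp (Cfsg.Omega F ⇑Q).subtype) ∨ K = ⊤) :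
    Cfsg.Geo.IsMaximalIn (Cfsg.Geo.omegaGL ⇑Q) (S ⊓ Cfsg.Geo.omegaGL ⇑Q) := by
  set H : Subgroup ↥(Cfsg.Omega F ⇑Q) :=
    S.comap ((Cfsg.isometryGroup F ⇑Q).subtype.comp (Cfsg.Omega F ⇑Q).subtype) with hH
  have hmemS : ∀ g : ↥(Cfsg.Omega F ⇑Q), g ∈ H ↔
      ((g : ↥(Cfsg.isometryGroup F ⇑Q)) : GL ι F) ∈ S := fun g => Iff.rfl
  refine ⟨?_, ?_⟩
  · rw [SetLike.lt_iff_le_and_exists]
    refine ⟨inf_le_right, ?_⟩
    obtain ⟨g, hg⟩ := hne
    refine ⟨((g : ↥(Cfsg.isometryGroup F ⇑Q)) : GL ι F),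
      (mem_omegaGL_iff43 _ _).2 ⟨g.1.2, g.2⟩, ?_⟩
    rintro ⟨h1, -⟩
    exact hg h1
  · intro M hHM hMΩ
    set K : Subgroup ↥(Cfsg.Omega F ⇑Q) :=
      M.comap ((Cfsg.isometryGroup F ⇑Q).subtype.comp (Cfsg.Omega F ⇑Q).subtype) with hK
    have hmemK : ∀ g : ↥(Cfsg.Omega F ⇑Q),
        g ∈ K ↔ ((g : ↥(Cfsg.isometryGroup F ⇑Q)) : GL ι F) ∈ M := fun g => Iff.rfl
    have hle : H ≤ K := by
      intro g hg
      rw [hmemK]
      apply hHM
      exact ⟨(hmemS g).1 hg, (mem_omegaGL_iff43 _ _).2 ⟨g.1.2, g.2⟩⟩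
    rcases hmax K hle with h | h
    · left
      apply le_antisymm
      · intro x hx
        have hxΩ := hMΩ hx
        obtain ⟨hiso, hΩ⟩ := (mem_omegaGL_iff43 _ _).1 hxΩ
        refine ⟨?_, hxΩ⟩
        have hmem : (⟨⟨x, hiso⟩, hΩ⟩ : ↥(Cfsg.Omega F ⇑Q)) ∈ K := (hmemK _).2 hx
        rw [h] at hmem
        exact (hmemS ⟨⟨x, hiso⟩, hΩ⟩).1 hmem
      · exact hHM
    · right
      apply le_antisymm hMΩ
      intro x hx
      obtain ⟨hiso, hΩ⟩ := (mem_omegaGL_iff43 _ _).1 hx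
      have hmem : (⟨⟨x, hiso⟩, hΩ⟩ : ↥(Cfsg.Omega F ⇑Q)) ∈ K := by
        rw [h]; exact Subgroup.mem_top _
      exact (hmemK _).1 hmem

theorem map_lo_eq_of_into (g : ↥(Cfsg.Omega F ⇑Q)) (A B : Submodule F (ι → F))
    (h : ∀ a ∈ A, lo Q g a ∈ B) (hfr : finrank F A = finrank F B) : A.map (lo Q g) = B := by
  have hinj := lo_injective_apply Q g
  apply Submodule.eq_of_le_of_finrank_eq
  · rintro _ ⟨v, hv, rfl⟩
    exact h v hv
  · rw [← hfr]
    exact (Submodule.equivMapOfInjective (lo Q g) hinj A).finrank_eq.symm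

/-- membership in the stabiliser of a decomposition into two parts -/
theorem mem_decompStab_two_iff (D : Fin 2 → Submodule F (ι → F))
    (hfr : finrank F (D 0) = finrank F (D 1)) (g : ↥(Cfsg.Omega F ⇑Q)) :
    ((g : ↥(Cfsg.isometryGroup F ⇑Q)) : GL ι F) ∈ Cfsg.Geo.decompositionStabilizer D ↔
      ((∀ u ∈ D 0, lo Q g u ∈ D 0) ∧ (∀ u' ∈ D 1, lo Q g u' ∈ D 1)) ∨
      ((∀ u ∈ D 0, lo Q g u ∈ D 1) ∧ (∀ u' ∈ D 1, lo Q g u' ∈ D 0)) := by
  have hlo : lo Q g = Matrix.toLin' (((g : ↥(Cfsg.isometryGroup F ⇑Q)) : GL ι F) : Matrix ι ι F) :=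
    rfl
  constructor
  · rintro ⟨σ, hσ⟩
    have h0 := hσ 0
    have h1 := hσ 1
    rw [← hlo] at h0 h1
    have hinto : ∀ i j : Fin 2, (D i).map (lo Q g) = D j → ∀ u ∈ D i, lo Q g u ∈ D j := by
      intro i j h u hu
      rw [← h]
      exact Submodule.mem_map_of_mem hu
    have hne : σ 0 ≠ σ 1 := fun h => by
      have := σ.injective h
      exact absurd this (by decide)
    by_cases hc : σ 0 = 0
    · have hc1 : σ 1 = 1 := by
        rw [hc] at hne
        have h2 := (σ 1).isLt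
        have h3 : (σ 1).val ≠ 0 := fun h => hne (Fin.ext h.symm)
        apply Fin.ext
        simp only [Fin.val_one]
        omega
      rw [hc] at h0
      rw [hc1] at h1
      exact Or.inl ⟨hinto 0 0 h0, hinto 1 1 h1⟩
    · have hc0 : σ 0 = 1 := by
        have h2 := (σ 0).isLt
        have h3 : (σ 0).val ≠ 0 := fun h => hc (Fin.ext h)
        apply Fin.ext
        simp only [Fin.val_one]
        omega
      have hc1 : σ 1 = 0 := by
        rw [hc0] at hne
        have h2 := (σ 1).isLt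
        have h3 : (σ 1).val ≠ 1 := fun h => hne (Fin.ext h.symm)
        apply Fin.ext
        simp only [Fin.val_zero]
        omega
      rw [hc0] at h0
      rw [hc1] at h1
      exact Or.inr ⟨hinto 0 1 h0, hinto 1 0 h1⟩
  · rintro (⟨h0, h1⟩ | ⟨h0, h1⟩)
    · refine ⟨1, fun i => ?_⟩
      rw [← hlo]
      fin_cases i
      · exact map_lo_eq_of_into Q g _ _ h0 rfl
      · exact map_lo_eq_of_into Q g _ _ h1 rfl
    · refine ⟨Equiv.swap 0 1, fun i => ?_⟩
      rw [← hlo]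
      fin_cases i
      · exact map_lo_eq_of_into Q g _ _ h0 hfr
      · exact map_lo_eq_of_into Q g _ _ h1 hfr.symm

/-- **the stabiliser of a pair of complementary totally singular subspaces of even dimension is
maximal in `Ω`** -/
theorem pair_maximal_geo (hQ : (QuadraticMap.polarBilin Q).Nondegenerate) (hn : 7 ≤ Fintype.card ι)
    (D : Fin 2 → Submodule F (ι → F)) (hp : TSPair Q (D 0) (D 1)) (r : ℕ)
    (hfr0 : finrank F (D 0) = 2 * r) (hfr1 : finrank F (D 1) = 2 * r) (hr : 5 ≤ 2 * r) :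
    Cfsg.Geo.IsMaximalIn (Cfsg.Geo.omegaGL ⇑Q)
      (Cfsg.Geo.decompositionStabilizer D ⊓ Cfsg.Geo.omegaGL ⇑Q) := by
  have hfr : finrank F (D 0) = finrank F (D 1) := by rw [hfr0, hfr1]
  have hmem := mem_decompStab_two_iff Q D hfr
  apply isMaximalIn_of_comap
  · -- properness
    have hU0 : D 0 ≠ ⊥ := ne_bot_of_finrank_pos (D 0) (by omega)
    obtain ⟨a, ha, ha0⟩ := (Submodule.ne_bot_iff (D 0)).1 hU0
    have hnle : ¬ D 0 ≤ Submodule.span F {a} := by
      intro hle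
      have := Submodule.finrank_mono hle
      have h2 := finrank_span_singleton_le a
      omega
    obtain ⟨b, hb, hba⟩ := SetLike.not_le_iff_exists.1 hnle
    obtain ⟨y, hy, hya, hyb⟩ := hp.exists_dual hQ a b ha hb hba
    have hab : QuadraticMap.polarBilin Q a b = 0 := hp.polarU a b ha hb
    refine ⟨sOf Q hQ hn a b, fun hcon => ?_⟩
    have himg : lo Q (sOf Q hQ hn a b) y = y + a := by
      rw [lo_sOf Q hQ hn a b (hp.tsU a ha) hab, siegelLin_apply, hya, hyb, hp.tsU b hb]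
      simp
    have hy0 : y ≠ 0 := by
      rintro rfl
      rw [LinearMap.map_zero₂] at hyb
      exact zero_ne_one hyb
    rcases (hmem _).1 hcon with ⟨-, h1⟩ | ⟨-, h1⟩
    · have := h1 y hy
      rw [himg] at this
      have h2 := (D 1).sub_mem this hy
      rw [add_sub_cancel_left] at h2
      exact ha0 (hp.eq_zero_of_mem a ha h2)
    · have := h1 y hy
      rw [himg] at this
      have h2 := (D 0).sub_mem this ha
      rw [add_sub_cancel_right] at h2
      exact hy0 (hp.eq_zero_of_mem y h2 hy)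
  · intro K hK
    by_cases hle : K ≤ (Cfsg.Geo.decompositionStabilizer D).comap
        ((Cfsg.isometryGroup F ⇑Q).subtype.comp (Cfsg.Omega F ⇑Q).subtype)
    · exact Or.inl (le_antisymm hle hK)
    right
    obtain ⟨g, hgK, hg⟩ := SetLike.not_le_iff_exists.1 hle
    have hg' : ¬ (((∀ u ∈ D 0, lo Q g u ∈ D 0) ∧ (∀ u' ∈ D 1, lo Q g u' ∈ D 1)) ∨
        ((∀ u ∈ D 0, lo Q g u ∈ D 1) ∧ (∀ u' ∈ D 1, lo Q g u' ∈ D 0))) :=
      fun h => hg ((hmem g).2 h)
    obtain ⟨hg₁, hg₂⟩ := not_or.1 hg'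
    have hK₁ : TransIn Q hQ hn K (D 0) (D 1) := by
      intro u hu u' hu' huu'
      apply hK
      exact (hmem _).2 (Or.inl (sOf_trans_maps Q hQ hn hp u u' hu hu' huu'))
    have hK₂ : TransIn Q hQ hn K (D 1) (D 0) := by
      intro u' hu' u hu hu'u
      apply hK
      exact (hmem _).2 (Or.inl (sOf_trans_maps' Q hQ hn hp u u' hu hu' hu'u))
    obtain ⟨s, hs₁, hs₂⟩ := exists_swap_Omega Q hQ hp r hfr0
    have hsK : s ∈ K := hK ((hmem s).2 (Or.inr ⟨hs₁, hs₂⟩))
    exact pair_maximal Q hQ hn hp (by omega) hfr K hK₁ hK₂ s hsK hs₁ hs₂ g hgK hg₁ hg₂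

end finite

end Cfsg.Agent.Lib.Helper43
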