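import Cfsg.Agent.Lib.Helper43.SiegelRefl
import Cfsg.Agent.Lib.Helper50.Isotropic

set_option autoImplicit false
set_option linter.unusedSimpArgs false
set_option linter.unusedVariables false

/-! Towards the simplicity of `PΩ`: algebra of Siegel transformations (conjugation, scaling, the
"key lemma" moving a vector) and the geometry of singular vectors in orthogonal complements over
finite fields. -/

namespace Cfsg.Agent.Lib.Helper43

open Module

section algebra

variable {F V : Type*} [Field F] [AddCommGroup V] [Module F V]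
variable (Q : QuadraticForm F V)

theorem Q_sub (x y : V) : Q (x - y) = Q x + Q y - QuadraticMap.polarBilin Q x y := by
  rw [sub_eq_add_neg, Q_add, QuadraticMap.map_neg, map_neg]
  ring

theorem siegelLin_self (p z : V) (hp : Q p = 0) (hpz : QuadraticMap.polarBilin Q p z = 0) :
    siegelLin Q p z p = p := by
  rw [siegelLin_apply, polar_self', hp, hpz]
  simp

/-- conjugation of a Siegel transformation by an isometry -/
theorem siegelLin_conj (g : V →ₗ[F] V) (hg : ∀ v, Q (g v) = Q v) (p z : V) :
    g ∘ₗ siegelLin Q p z = siegelLin Q (g p) (g z) ∘ₗ g := by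
  apply LinearMap.ext
  intro x
  rw [LinearMap.comp_apply, LinearMap.comp_apply, siegelLin_apply, siegelLin_apply, map_add,
    map_add, map_smul, map_smul, polar_of_isometry Q g hg, polar_of_isometry Q g hg, hg]

theorem siegelLin_smul_left (c : F) (p z : V) :
    siegelLin Q (c • p) z = siegelLin Q p (c • z) := by
  apply LinearMap.ext
  intro x
  rw [siegelLin_apply, siegelLin_apply, Q_smul]
  simp only [map_smul, smul_eq_mul, smul_smul]
  module

/-- the key lemma: a Siegel transformation centred at `u` moving `a` to `b` -/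
theorem siegelLin_key (a b u : V) (hab : Q a = Q b)
    (hβ : QuadraticMap.polarBilin Q a u = QuadraticMap.polarBilin Q b u)
    (hβ0 : QuadraticMap.polarBilin Q a u ≠ 0) :
    siegelLin Q u ((QuadraticMap.polarBilin Q a u)⁻¹ • (a - b)) a = b := by
  rw [siegelLin_apply, Q_smul, Q_sub]
  simp only [map_smul, map_sub, smul_eq_mul, polar_self']
  rw [← hab]
  have h0 : (QuadraticMap.polarBilin Q a u)⁻¹ * (2 * Q a - QuadraticMap.polarBilin Q a b) -
      (QuadraticMap.polarBilin Q a u)⁻¹ * (QuadraticMap.polarBilin Q a u)⁻¹ *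
        (Q a + Q a - QuadraticMap.polarBilin Q a b) * QuadraticMap.polarBilin Q a u = 0 := by
    field_simp
    ring
  rw [h0, zero_smul, add_zero, smul_smul, neg_mul, mul_inv_cancel₀ hβ0]
  module

/-- the orthogonality condition for the key lemma -/
theorem siegelLin_key_orth (a b u : V) (hu : Q u = 0)
    (hβ : QuadraticMap.polarBilin Q a u = QuadraticMap.polarBilin Q b u) :
    QuadraticMap.polarBilin Q u ((QuadraticMap.polarBilin Q a u)⁻¹ • (a - b)) = 0 := by
  rw [map_smul, map_sub, polar_symm Q u a, polar_symm Q u b, hβ, sub_self, smul_zero]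

/-- values of `Q` along a line through a singular vector -/
theorem exists_value (s x : V) (hs : Q s = 0) (hsx : QuadraticMap.polarBilin Q s x ≠ 0) (c : F) :
    ∃ t : F, Q (x + t • s) = c := by
  refine ⟨(c - Q x) / QuadraticMap.polarBilin Q s x, ?_⟩
  rw [Q_add, Q_smul, hs, map_smul, smul_eq_mul, polar_symm Q x s]
  field_simp
  ring

/-- a functional vanishing on the singular vectors of a subspace which has a singular vector
outside its radical vanishes on the subspace -/
theorem exists_singular_functional_ne (W : Submodule F V) (s x : V) (hsW : s ∈ W) (hxW : x ∈ W)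
    (hs : Q s = 0) (hsx : QuadraticMap.polarBilin Q s x ≠ 0) (φ : V →ₗ[F] F) (z : V)
    (hzW : z ∈ W) (hz : φ z ≠ 0) : ∃ s' ∈ W, Q s' = 0 ∧ φ s' ≠ 0 := by
  by_contra hcon
  push Not at hcon
  have hφs : φ s = 0 := hcon s hsW hs
  have step : ∀ y ∈ W, QuadraticMap.polarBilin Q s y ≠ 0 → φ y = 0 := by
    intro y hyW hsy
    obtain ⟨t, ht⟩ := exists_value Q s y hs hsy 0
    have h1 := hcon (y + t • s) (W.add_mem hyW (W.smul_mem t hsW)) ht
    rw [map_add, map_smul, hφs, smul_zero, add_zero] at h1
    exact h1
  have hφx : φ x = 0 := step x hxW hsx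
  by_cases hsz : QuadraticMap.polarBilin Q s z = 0
  · have h1 : QuadraticMap.polarBilin Q s (z + x) ≠ 0 := by
      rw [map_add, hsz, zero_add]
      exact hsx
    have h2 := step (z + x) (W.add_mem hzW hxW) h1
    rw [map_add, hφx, add_zero] at h2
    exact hz h2
  · exact hz (step z hzW hsz)

end algebra

section geometry

variable {F V : Type*} [Field F] [Finite F] [AddCommGroup V] [Module F V] [FiniteDimensional F V]
variable (Q : QuadraticForm F V)

/-- a subspace of large dimension has a singular vector outside a small subspace -/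
theorem exists_singular_mem_notMem (W U : Submodule F V) (h : finrank F U + 3 ≤ finrank F W) :
    ∃ s ∈ W, s ∉ U ∧ Q s = 0 := by
  set R : Submodule F W := U.comap W.subtype with hR
  obtain ⟨C, hC⟩ := Submodule.exists_isCompl R
  have h1 : finrank F R + finrank F C = finrank F W := Submodule.finrank_add_eq_of_isCompl hC
  have h2 : finrank F R ≤ finrank F U := by
    have e1 : finrank F (R.map W.subtype) = finrank F R := Submodule.finrank_map_subtype_eq W R
    have e2 : R.map W.subtype = W ⊓ U := by
      rw [hR, Submodule.map_comap_subtype]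
    rw [← e1, e2]
    exact Submodule.finrank_mono inf_le_right
  have h3 : 3 ≤ finrank F C := by omega
  obtain ⟨s, hs0, hs⟩ :=
    Cfsg.Agent.Lib.Helper50.exists_isotropic ((Q.comp W.subtype).comp C.subtype) h3
  refine ⟨((s : W) : V), (s : W).2, ?_, ?_⟩
  · intro hsU
    have hmem : (s : W) ∈ R ⊓ C := ⟨hsU, s.2⟩
    rw [hC.inf_eq_bot, Submodule.mem_bot] at hmem
    apply hs0
    exact Subtype.ext hmem
  · simpa using hs

/-- in dimension at least `2 dim U + 3`, the orthogonal complement of `U` contains a singular
vector `s` and a vector `x` with `f(s, x) ≠ 0` -/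
theorem exists_singular_pair_orth (hQ : (QuadraticMap.polarBilin Q).Nondegenerate)
    (U : Submodule F V) (hU : 2 * finrank F U + 3 ≤ finrank F V) :
    ∃ s x : V, (∀ y ∈ U, QuadraticMap.polarBilin Q y s = 0) ∧
      (∀ y ∈ U, QuadraticMap.polarBilin Q y x = 0) ∧ Q s = 0 ∧
      QuadraticMap.polarBilin Q s x ≠ 0 := by
  have h1 : finrank F (LinearMap.BilinForm.orthogonal (QuadraticMap.polarBilin Q) U) =
      finrank F V - finrank F U := LinearMap.BilinForm.finrank_orthogonal hQ U
  have h2 : finrank F U + 3 ≤
      finrank F (LinearMap.BilinForm.orthogonal (QuadraticMap.polarBilin Q) U) := by omega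
  obtain ⟨s, hsW, hsU, hs⟩ := exists_singular_mem_notMem Q _ U h2
  obtain ⟨z, hz1, hz2⟩ := exists_polar_repr Q hQ U s hsU
  refine ⟨s, z, ?_, ?_, hs, ?_⟩
  · intro y hy
    exact (LinearMap.BilinForm.mem_orthogonal_iff.1 hsW) y hy
  · intro y hy
    rw [polar_symm]
    exact hz2 y hy
  · rw [polar_symm, hz1]
    exact one_ne_zero

/-- version for the span of two vectors, dimension at least 7 -/
theorem exists_singular_pair_orth2 (hQ : (QuadraticMap.polarBilin Q).Nondegenerate)
    (hn : 7 ≤ finrank F V) (a b : V) :
    ∃ s x : V, QuadraticMap.polarBilin Q a s = 0 ∧ QuadraticMap.polarBilin Q b s = 0 ∧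
      QuadraticMap.polarBilin Q a x = 0 ∧ QuadraticMap.polarBilin Q b x = 0 ∧ Q s = 0 ∧
      QuadraticMap.polarBilin Q s x ≠ 0 := by
  classical
  have hU : finrank F (Submodule.span F (({a, b} : Finset V) : Set V)) ≤ 2 := by
    refine le_trans (finrank_span_finset_le_card _) ?_
    exact Finset.card_le_two
  obtain ⟨s, x, h1, h2, h3, h4⟩ :=
    exists_singular_pair_orth Q hQ (Submodule.span F (({a, b} : Finset V) : Set V)) (by omega)
  have ha : a ∈ Submodule.span F (({a, b} : Finset V) : Set V) :=
    Submodule.subset_span (by simp)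
  have hb : b ∈ Submodule.span F (({a, b} : Finset V) : Set V) :=
    Submodule.subset_span (by simp)
  exact ⟨s, x, h1 a ha, h1 b hb, h2 a ha, h2 b hb, h3, h4⟩

/-- universality of orthogonal complements of at most two vectors -/
theorem exists_orth_value (hQ : (QuadraticMap.polarBilin Q).Nondegenerate)
    (hn : 7 ≤ finrank F V) (a b : V) (c : F) :
    ∃ y : V, QuadraticMap.polarBilin Q a y = 0 ∧ QuadraticMap.polarBilin Q b y = 0 ∧ Q y = c := by
  obtain ⟨s, x, h1, h2, h3, h4, hs, hsx⟩ := exists_singular_pair_orth2 Q hQ hn a b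
  obtain ⟨t, ht⟩ := exists_value Q s x hs hsx c
  refine ⟨x + t • s, ?_, ?_, ht⟩
  · rw [map_add, map_smul, h3, h1, smul_zero, add_zero]
  · rw [map_add, map_smul, h4, h2, smul_zero, add_zero]

end geometry

end Cfsg.Agent.Lib.Helper43
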