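import Cfsg.Agent.Lib.Helper43.OmegaSimple2

set_option autoImplicit false
set_option linter.unusedSimpArgs false
set_option linter.unusedVariables false
set_option linter.unusedSectionVars false

/-! Towards the simplicity of `PΩ`: Siegel transformations as group elements, `Ω` is perfect,
and an abstract form of Iwasawa's lemma. -/

namespace Cfsg.Agent.Lib.Helper43

open Module Matrix Cfsg.Agent.Lib.Helper19
open scoped commutatorElement

section iwasawa

/-- Iwasawa's lemma, subgroup form -/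
theorem iwasawa_abstract {G : Type*} [Group G] (H A N : Subgroup G) [hNn : N.Normal]
    (hmax : ∀ K : Subgroup G, H ≤ K → K = H ∨ K = ⊤)
    (hAH : ∀ h ∈ H, ∀ a ∈ A, h * a * h⁻¹ ∈ A)
    (hAcomm : ∀ a ∈ A, ∀ b ∈ A, a * b = b * a)
    (hgen : Subgroup.closure {x : G | ∃ g : G, ∃ a ∈ A, x = g * a * g⁻¹} = ⊤)
    (hperf : commutator G = ⊤)
    (hN : ¬ N ≤ H) : N = ⊤ := by
  have hsup : N ⊔ H = ⊤ := by
    rcases hmax (N ⊔ H) le_sup_right with h | h
    · exfalso
      apply hN
      rw [← h]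
      exact le_sup_left
    · exact h
  have hdecomp : ∀ g : G, ∃ n ∈ N, ∃ h ∈ H, g = n * h := by
    intro g
    have hg : g ∈ ((N ⊔ H : Subgroup G) : Set G) := by
      rw [hsup]; exact Set.mem_univ g
    rw [Subgroup.normal_mul] at hg
    obtain ⟨n, hn, h, hh, rfl⟩ := Set.mem_mul.1 hg
    exact ⟨n, hn, h, hh, rfl⟩
  have hNA : N ⊔ A = ⊤ := by
    rw [eq_top_iff, ← hgen, Subgroup.closure_le]
    rintro x ⟨g, a, ha, rfl⟩
    obtain ⟨n, hn, h, hh, rfl⟩ := hdecomp g
    have ha' : h * a * h⁻¹ ∈ A := hAH h hh a ha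
    have h1 : n * h * a * (n * h)⁻¹ =
        (n * ((h * a * h⁻¹) * n⁻¹ * (h * a * h⁻¹)⁻¹)) * (h * a * h⁻¹) := by group
    rw [SetLike.mem_coe, h1]
    apply Subgroup.mul_mem_sup _ ha'
    apply N.mul_mem hn
    exact hNn.conj_mem _ (N.inv_mem hn) _
  have hdecomp2 : ∀ g : G, ∃ n ∈ N, ∃ a ∈ A, g = n * a := by
    intro g
    have hg : g ∈ ((N ⊔ A : Subgroup G) : Set G) := by
      rw [hNA]; exact Set.mem_univ g
    rw [Subgroup.normal_mul] at hg
    obtain ⟨n, hn, a, ha, rfl⟩ := Set.mem_mul.1 hg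
    exact ⟨n, hn, a, ha, rfl⟩
  rw [eq_top_iff, ← hperf, commutator_def, Subgroup.commutator_le]
  intro x _ y _
  obtain ⟨n1, hn1, a1, ha1, rfl⟩ := hdecomp2 x
  obtain ⟨n2, hn2, a2, ha2, rfl⟩ := hdecomp2 y
  rw [← QuotientGroup.eq_one_iff (N := N), commutatorElement_def]
  have e1 : ((n1 : G) : G ⧸ N) = 1 := (QuotientGroup.eq_one_iff _).2 hn1
  have e2 : ((n2 : G) : G ⧸ N) = 1 := (QuotientGroup.eq_one_iff _).2 hn2
  have e3 : ((a1 * a2 : G) : G ⧸ N) = ((a2 * a1 : G) : G ⧸ N) := by rw [hAcomm a1 ha1 a2 ha2]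
  simp only [QuotientGroup.mk_mul, QuotientGroup.mk_inv, e1, e2, one_mul] at e3 ⊢
  rw [e3]
  group

end iwasawa

variable {F : Type*} [Field F] {ι : Type} [Fintype ι] [DecidableEq ι]
variable (Q : QuadraticForm F (ι → F))

theorem siegelO_add (hQ : (QuadraticMap.polarBilin Q).Nondegenerate) (u v v' : ι → F)
    (hu : Q u = 0) (huv : QuadraticMap.polarBilin Q u v = 0)
    (huv' : QuadraticMap.polarBilin Q u v' = 0) :
    siegelO Q hQ u (v + v') = siegelO Q hQ u v * siegelO Q hQ u v' := by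
  apply linOf_injective Q
  have h : QuadraticMap.polarBilin Q u (v + v') = 0 := by rw [map_add, huv, huv', add_zero]
  rw [linOf_mul, linOf_siegelO Q hQ u _ hu h, linOf_siegelO Q hQ u v hu huv,
    linOf_siegelO Q hQ u v' hu huv', siegelLin_comp Q u v v' hu huv huv']

theorem siegelO_zero (hQ : (QuadraticMap.polarBilin Q).Nondegenerate) (u : ι → F) (hu : Q u = 0) :
    siegelO Q hQ u 0 = 1 := by
  apply linOf_injective Q
  rw [linOf_siegelO Q hQ u 0 hu (by simp), siegelLin_zero, linOf_one]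

theorem siegelO_inv (hQ : (QuadraticMap.polarBilin Q).Nondegenerate) (u v : ι → F)
    (hu : Q u = 0) (huv : QuadraticMap.polarBilin Q u v = 0) :
    (siegelO Q hQ u v)⁻¹ = siegelO Q hQ u (-v) := by
  have h : QuadraticMap.polarBilin Q u (-v) = 0 := by rw [map_neg, huv, neg_zero]
  have h1 := siegelO_add Q hQ u v (-v) hu huv h
  rw [add_neg_cancel, siegelO_zero Q hQ u hu] at h1
  exact inv_eq_of_mul_eq_one_right h1.symm

theorem siegelO_conj (hQ : (QuadraticMap.polarBilin Q).Nondegenerate)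
    (g : ↥(Cfsg.isometryGroup F ⇑Q)) (u v : ι → F)
    (hu : Q u = 0) (huv : QuadraticMap.polarBilin Q u v = 0) :
    g * siegelO Q hQ u v * g⁻¹ = siegelO Q hQ (linOf Q g u) (linOf Q g v) := by
  have hu' : Q (linOf Q g u) = 0 := by rw [linOf_isometry, hu]
  have huv' : QuadraticMap.polarBilin Q (linOf Q g u) (linOf Q g v) = 0 := by
    rw [polar_of_isometry Q (linOf Q g) (linOf_isometry Q g), huv]
  rw [mul_inv_eq_iff_eq_mul]
  apply linOf_injective Q
  rw [linOf_mul, linOf_mul, linOf_siegelO Q hQ u v hu huv, linOf_siegelO Q hQ _ _ hu' huv']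
  exact siegelLin_conj Q (linOf Q g) (linOf_isometry Q g) u v

theorem siegelO_smul_left (hQ : (QuadraticMap.polarBilin Q).Nondegenerate) (c : F) (u v : ι → F)
    (hu : Q u = 0) (huv : QuadraticMap.polarBilin Q u v = 0) :
    siegelO Q hQ (c • u) v = siegelO Q hQ u (c • v) := by
  have hu' : Q (c • u) = 0 := by rw [Q_smul, hu, mul_zero]
  have h1 : QuadraticMap.polarBilin Q (c • u) v = 0 := by
    rw [map_smul, LinearMap.smul_apply, huv, smul_zero]
  have h2 : QuadraticMap.polarBilin Q u (c • v) = 0 := by rw [map_smul, huv, smul_zero]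
  apply linOf_injective Q
  rw [linOf_siegelO Q hQ _ _ hu' h1, linOf_siegelO Q hQ _ _ hu h2, siegelLin_smul_left]

/-- the commutator formula giving a Siegel transformation as a commutator of two others -/
theorem siegel_commutator (hQ : (QuadraticMap.polarBilin Q).Nondegenerate) (u w v y : ι → F)
    (hu : Q u = 0) (hw : Q w = 0)
    (huw : QuadraticMap.polarBilin Q u w = 0) (huv : QuadraticMap.polarBilin Q u v = 0)
    (huy : QuadraticMap.polarBilin Q u y = 0) (hwy : QuadraticMap.polarBilin Q w y = 0)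
    (hvw : QuadraticMap.polarBilin Q v w = 0) (hvy : QuadraticMap.polarBilin Q v y = 1) :
    ⁅siegelO Q hQ w y, siegelO Q hQ u v⁆ = siegelO Q hQ u w := by
  have h1 := siegelO_conj Q hQ (siegelO Q hQ w y) u v hu huv
  rw [linOf_siegelO Q hQ w y hw hwy] at h1
  have e1 : siegelLin Q w y u = u := by
    rw [siegelLin_apply, huy, huw]
    simp
  have e2 : siegelLin Q w y v = v + w := by
    rw [siegelLin_apply, hvy, hvw]
    simp
  rw [e1, e2, siegelO_add Q hQ u v w hu huv huw] at h1
  have hcomm : siegelO Q hQ u v * siegelO Q hQ u w = siegelO Q hQ u w * siegelO Q hQ u v := by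
    rw [← siegelO_add Q hQ u v w hu huv huw, ← siegelO_add Q hQ u w v hu huw huv, add_comm]
  rw [commutatorElement_def, h1, hcomm]
  group

section finite

variable [Fintype F]

/-- Siegel transformations lie in the second derived group -/
theorem siegelO_mem_commutator (hQ : (QuadraticMap.polarBilin Q).Nondegenerate)
    (hn : 7 ≤ Fintype.card ι) (u v : ι → F) (hu : Q u = 0)
    (huv : QuadraticMap.polarBilin Q u v = 0) :
    siegelO Q hQ u v ∈ ⁅Cfsg.Omega F ⇑Q, Cfsg.Omega F ⇑Q⁆ := by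
  have hn' : 7 ≤ finrank F (ι → F) := by
    rw [Module.finrank_fintype_fun_eq_card]; exact hn
  -- singular case
  have hsing : ∀ w : ι → F, Q w = 0 → QuadraticMap.polarBilin Q u w = 0 →
      siegelO Q hQ u w ∈ ⁅Cfsg.Omega F ⇑Q, Cfsg.Omega F ⇑Q⁆ := by
    intro w hw huw
    obtain ⟨s0, x0, h1, h2, h3, h4, hs0, hsx0⟩ := exists_singular_pair_orth2 Q hQ hn' u w
    have hcomm := siegel_commutator Q hQ u w ((QuadraticMap.polarBilin Q s0 x0)⁻¹ • x0) s0 hu hw huw
      (by rw [map_smul, h3, smul_zero]) h1 h2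
      (by rw [map_smul, LinearMap.smul_apply, polar_symm Q x0 w, h4, smul_zero])
      (by rw [map_smul, LinearMap.smul_apply, polar_symm Q x0 s0, smul_eq_mul,
        inv_mul_cancel₀ hsx0])
    rw [← hcomm]
    apply Subgroup.commutator_mem_commutator
    · exact siegelO_mem_Omega Q hQ hn w s0 hw h2
    · exact siegelO_mem_Omega Q hQ hn u _ hu (by rw [map_smul, h3, smul_zero])
  obtain ⟨s, x, hs1, _, hx1, _, hs, hsx⟩ := exists_singular_pair_orth2 Q hQ hn' u u
  have hne : ∀ v' : ι → F, QuadraticMap.polarBilin Q u v' = 0 →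
      QuadraticMap.polarBilin Q s v' ≠ 0 →
      siegelO Q hQ u v' ∈ ⁅Cfsg.Omega F ⇑Q, Cfsg.Omega F ⇑Q⁆ := by
    intro v' huv' hsv'
    obtain ⟨t, ht⟩ := exists_value Q s v' hs hsv' 0
    have h1 : QuadraticMap.polarBilin Q u (v' + t • s) = 0 := by
      rw [map_add, map_smul, huv', hs1, smul_zero, add_zero]
    have h2 : QuadraticMap.polarBilin Q u (-(t • s)) = 0 := by
      rw [map_neg, map_smul, hs1, smul_zero, neg_zero]
    have h3 : Q (-(t • s)) = 0 := by rw [QuadraticMap.map_neg, Q_smul, hs, mul_zero]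
    have heq : siegelO Q hQ u v' = siegelO Q hQ u (v' + t • s) * siegelO Q hQ u (-(t • s)) := by
      rw [← siegelO_add Q hQ u _ _ hu h1 h2]
      congr 1
      abel
    rw [heq]
    exact Subgroup.mul_mem _ (hsing _ ht h1) (hsing _ h3 h2)
  by_cases hsv : QuadraticMap.polarBilin Q s v = 0
  · have h1 : QuadraticMap.polarBilin Q u (v + x) = 0 := by rw [map_add, huv, hx1, add_zero]
    have h2 : QuadraticMap.polarBilin Q u (-x) = 0 := by rw [map_neg, hx1, neg_zero]
    have heq : siegelO Q hQ u v = siegelO Q hQ u (v + x) * siegelO Q hQ u (-x) := by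
      rw [← siegelO_add Q hQ u _ _ hu h1 h2]
      congr 1
      abel
    rw [heq]
    apply Subgroup.mul_mem
    · apply hne _ h1
      rw [map_add, hsv, zero_add]
      exact hsx
    · apply hne _ h2
      rw [map_neg]
      exact neg_ne_zero.2 hsx
  · exact hne v huv hsv

/-- `Ω` is perfect -/
theorem Omega_perfect (hQ : (QuadraticMap.polarBilin Q).Nondegenerate)
    (hn : 7 ≤ Fintype.card ι) :
    ⁅Cfsg.Omega F ⇑Q, Cfsg.Omega F ⇑Q⁆ = Cfsg.Omega F ⇑Q := by
  apply le_antisymm
  · exact Subgroup.commutator_le_left _ _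
  · conv_lhs => rw [Omega_eq_siegelSub Q hQ hn]
    unfold siegelSub
    apply Subgroup.normalClosure_le_normal
    rintro g ⟨u, v, hu, huv, hg⟩
    have : g = siegelO Q hQ u v := by
      apply linOf_injective Q
      rw [hg, linOf_siegelO Q hQ u v hu huv]
    rw [this]
    exact siegelO_mem_commutator Q hQ hn u v hu huv

theorem commutator_Omega_eq_top (hQ : (QuadraticMap.polarBilin Q).Nondegenerate)
    (hn : 7 ≤ Fintype.card ι) : commutator ↥(Cfsg.Omega F ⇑Q) = ⊤ := by
  apply Subgroup.map_injective (Cfsg.Omega F ⇑Q).subtype_injective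
  rw [Subgroup.map_subtype_commutator, Omega_perfect Q hQ hn, ← MonoidHom.range_eq_map,
    Subgroup.range_subtype]

end finite

end Cfsg.Agent.Lib.Helper43
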