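import Cfsg.Agent.Lib.Helper43.OmegaSimple3

set_option autoImplicit false
set_option linter.unusedSimpArgs false
set_option linter.unusedVariables false
set_option linter.unusedSectionVars false

/-! Towards the simplicity of `PΩ`: the stabiliser of a singular line is a maximal subgroup of
`Ω`; the Siegel group; isometries fixing all singular lines are scalars. -/

namespace Cfsg.Agent.Lib.Helper43

open Module Matrix Cfsg.Agent.Lib.Helper19
open scoped commutatorElement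

variable {F : Type*} [Field F] {ι : Type} [Fintype ι] [DecidableEq ι]
variable (Q : QuadraticForm F (ι → F))

/-- the linear map of an element of `Ω` -/
noncomputable def lo (g : ↥(Cfsg.Omega F ⇑Q)) : Module.End F (ι → F) :=
  linOf Q (g : ↥(Cfsg.isometryGroup F ⇑Q))

theorem lo_mul_apply (g h : ↥(Cfsg.Omega F ⇑Q)) (v : ι → F) :
    lo Q (g * h) v = lo Q g (lo Q h v) := by
  unfold lo
  rw [Subgroup.coe_mul, linOf_mul]
  rfl

theorem lo_one_apply (v : ι → F) : lo Q 1 v = v := by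
  unfold lo
  rw [Subgroup.coe_one, linOf_one]
  rfl

theorem lo_inv_apply (g : ↥(Cfsg.Omega F ⇑Q)) (v : ι → F) : lo Q g⁻¹ (lo Q g v) = v := by
  unfold lo
  rw [Subgroup.coe_inv]
  exact linOf_inv_apply Q _ v

theorem lo_apply_inv (g : ↥(Cfsg.Omega F ⇑Q)) (v : ι → F) : lo Q g (lo Q g⁻¹ v) = v := by
  unfold lo
  rw [Subgroup.coe_inv]
  exact linOf_apply_inv Q _ v

theorem lo_isometry (g : ↥(Cfsg.Omega F ⇑Q)) (v : ι → F) : Q (lo Q g v) = Q v :=
  linOf_isometry Q _ v

theorem lo_polar (g : ↥(Cfsg.Omega F ⇑Q)) (x y : ι → F) :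
    QuadraticMap.polarBilin Q (lo Q g x) (lo Q g y) = QuadraticMap.polarBilin Q x y :=
  polar_of_isometry Q (lo Q g) (lo_isometry Q g) x y

theorem lo_injective : Function.Injective (lo Q) := by
  intro g h hgh
  apply Subtype.ext
  exact linOf_injective Q hgh

theorem lo_ne_zero (g : ↥(Cfsg.Omega F ⇑Q)) (v : ι → F) (hv : v ≠ 0) : lo Q g v ≠ 0 := by
  intro h
  apply hv
  have := lo_inv_apply Q g v
  rw [h, map_zero] at this
  exact this.symm

/-- the stabiliser in `Ω` of the line spanned by `u` -/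
def lineStab (u : ι → F) (hu0 : u ≠ 0) : Subgroup ↥(Cfsg.Omega F ⇑Q) where
  carrier := {g | ∃ c : F, lo Q g u = c • u}
  one_mem' := ⟨1, by rw [lo_one_apply, one_smul]⟩
  mul_mem' := by
    rintro a b ⟨c, hc⟩ ⟨d, hd⟩
    refine ⟨d * c, ?_⟩
    rw [lo_mul_apply, hd, map_smul, hc, smul_smul]
  inv_mem' := by
    rintro a ⟨c, hc⟩
    have hc0 : c ≠ 0 := by
      rintro rfl
      rw [zero_smul] at hc
      exact lo_ne_zero Q a u hu0 hc
    refine ⟨c⁻¹, ?_⟩
    have h := lo_inv_apply Q a u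
    rw [hc, map_smul] at h
    conv_rhs => rw [← h]
    rw [smul_smul, inv_mul_cancel₀ hc0, one_smul]

theorem mem_lineStab (u : ι → F) (hu0 : u ≠ 0) (g : ↥(Cfsg.Omega F ⇑Q)) :
    g ∈ lineStab Q u hu0 ↔ ∃ c : F, lo Q g u = c • u := Iff.rfl

/-- the Siegel group of the singular vector `u`, inside `Ω` -/
def siegelGrp (hQ : (QuadraticMap.polarBilin Q).Nondegenerate) (u : ι → F) (hu : Q u = 0) :
    Subgroup ↥(Cfsg.Omega F ⇑Q) where
  carrier := {g | ∃ v, QuadraticMap.polarBilin Q u v = 0 ∧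
    (g : ↥(Cfsg.isometryGroup F ⇑Q)) = siegelO Q hQ u v}
  one_mem' := ⟨0, by simp, by rw [siegelO_zero Q hQ u hu]; rfl⟩
  mul_mem' := by
    rintro a b ⟨v, hv, ha⟩ ⟨v', hv', hb⟩
    exact ⟨v + v', by rw [map_add, hv, hv', add_zero],
      by rw [Subgroup.coe_mul, ha, hb, siegelO_add Q hQ u v v' hu hv hv']⟩
  inv_mem' := by
    rintro a ⟨v, hv, ha⟩
    exact ⟨-v, by rw [map_neg, hv, neg_zero],
      by rw [Subgroup.coe_inv, ha, siegelO_inv Q hQ u v hu hv]⟩

theorem siegelGrp_comm (hQ : (QuadraticMap.polarBilin Q).Nondegenerate) (u : ι → F)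
    (hu : Q u = 0) : ∀ a ∈ siegelGrp Q hQ u hu, ∀ b ∈ siegelGrp Q hQ u hu, a * b = b * a := by
  rintro a ⟨v, hv, ha⟩ b ⟨v', hv', hb⟩
  apply Subtype.ext
  rw [Subgroup.coe_mul, Subgroup.coe_mul, ha, hb, ← siegelO_add Q hQ u v v' hu hv hv',
    ← siegelO_add Q hQ u v' v hu hv' hv, add_comm]

theorem siegelGrp_normalized (hQ : (QuadraticMap.polarBilin Q).Nondegenerate) (u : ι → F)
    (hu0 : u ≠ 0) (hu : Q u = 0) :
    ∀ h ∈ lineStab Q u hu0, ∀ a ∈ siegelGrp Q hQ u hu, h * a * h⁻¹ ∈ siegelGrp Q hQ u hu := by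
  rintro h ⟨c, hc⟩ a ⟨v, hv, ha⟩
  have hc0 : c ≠ 0 := by
    rintro rfl
    rw [zero_smul] at hc
    exact lo_ne_zero Q h u hu0 hc
  have h1 : QuadraticMap.polarBilin Q u (lo Q h v) = 0 := by
    have h2 := lo_polar Q h u v
    rw [hc, hv, map_smul, LinearMap.smul_apply, smul_eq_mul] at h2
    rcases mul_eq_zero.1 h2 with h3 | h3
    · exact absurd h3 hc0
    · exact h3
  refine ⟨c • lo Q h v, by rw [map_smul, h1, smul_zero], ?_⟩
  rw [Subgroup.coe_mul, Subgroup.coe_mul, Subgroup.coe_inv, ha, siegelO_conj Q hQ _ u v hu hv]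
  have e : linOf Q (h : ↥(Cfsg.isometryGroup F ⇑Q)) u = c • u := hc
  rw [e]
  exact siegelO_smul_left Q hQ c u _ hu h1

section finite

variable [Fintype F]

/-- the conjugates of the Siegel group generate `Ω` -/
theorem siegelGrp_conj_generate (hQ : (QuadraticMap.polarBilin Q).Nondegenerate)
    (hn : 7 ≤ Fintype.card ι) (u : ι → F) (hu0 : u ≠ 0) (hu : Q u = 0) :
    Subgroup.closure {x : ↥(Cfsg.Omega F ⇑Q) | ∃ g : ↥(Cfsg.Omega F ⇑Q),
      ∃ a ∈ siegelGrp Q hQ u hu, x = g * a * g⁻¹} = ⊤ := by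
  set C := Subgroup.closure {x : ↥(Cfsg.Omega F ⇑Q) | ∃ g : ↥(Cfsg.Omega F ⇑Q),
      ∃ a ∈ siegelGrp Q hQ u hu, x = g * a * g⁻¹} with hC
  have hle : Cfsg.Omega F ⇑Q ≤ C.map (Cfsg.Omega F ⇑Q).subtype := by
    conv_lhs => rw [Omega_eq_siegelSub Q hQ hn]
    unfold siegelSub Subgroup.normalClosure
    rw [Subgroup.closure_le]
    intro x hx
    rw [Group.mem_conjugatesOfSet_iff] at hx
    obtain ⟨ρ, ⟨p, v, hp, hpv, hρ⟩, hconj⟩ := hx
    obtain ⟨k, rfl⟩ := isConj_iff.1 hconj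
    have hρ' : ρ = siegelO Q hQ p v := by
      apply linOf_injective Q
      rw [hρ, linOf_siegelO Q hQ p v hp hpv]
    rw [hρ', siegelO_conj Q hQ k p v hp hpv]
    set p' := linOf Q k p with hp'
    set v' := linOf Q k v with hv'
    have hp'0 : Q p' = 0 := by rw [hp', linOf_isometry, hp]
    have hpv' : QuadraticMap.polarBilin Q p' v' = 0 := by
      rw [hp', hv', polar_of_isometry Q (linOf Q k) (linOf_isometry Q k), hpv]
    by_cases hz : p' = 0
    · have : siegelO Q hQ p' v' = 1 := by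
        apply linOf_injective Q
        rw [linOf_siegelO Q hQ p' v' hp'0 hpv', linOf_one, hz]
        apply LinearMap.ext
        intro y
        rw [siegelLin_apply]
        simp
      rw [this]
      exact Subgroup.one_mem _
    · obtain ⟨k', hk', hk'u⟩ := exists_Omega_map Q hQ hn u p' hu0 hz (by rw [hu, hp'0])
      set w := linOf Q k'⁻¹ v' with hw
      have hkw : linOf Q k' w = v' := by rw [hw]; exact linOf_apply_inv Q k' v'
      have huw : QuadraticMap.polarBilin Q u w = 0 := by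
        rw [← polar_of_isometry Q (linOf Q k') (linOf_isometry Q k') u w, hk'u, hkw]
        exact hpv'
      have h1 := siegelO_conj Q hQ k' u w hu huw
      rw [hk'u, hkw] at h1
      rw [← h1]
      have hmemC : (⟨k', hk'⟩ * ⟨siegelO Q hQ u w, siegelO_mem_Omega Q hQ hn u w hu huw⟩ *
          ⟨k', hk'⟩⁻¹ : ↥(Cfsg.Omega F ⇑Q)) ∈ C := by
        apply Subgroup.subset_closure
        exact ⟨⟨k', hk'⟩, ⟨siegelO Q hQ u w, siegelO_mem_Omega Q hQ hn u w hu huw⟩,
          ⟨w, huw, rfl⟩, rfl⟩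
      refine ⟨_, hmemC, ?_⟩
      rw [map_mul, map_mul, map_inv]
      rfl
  rw [eq_top_iff]
  intro g _
  obtain ⟨c, hc, hcg⟩ := hle g.2
  have : g = c := Subtype.ext hcg.symm
  rw [this]
  exact hc

end finite

end Cfsg.Agent.Lib.Helper43
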