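import Cfsg.Agent.Lib.Helper43.OmegaSimple4

set_option autoImplicit false
set_option linter.unusedSimpArgs false
set_option linter.unusedVariables false
set_option linter.unusedSectionVars false

/-! The stabiliser of a singular line is a maximal subgroup of `Ω` (finite field, non-degenerate
polar form, dimension at least 7). -/

namespace Cfsg.Agent.Lib.Helper43

open Module Matrix Cfsg.Agent.Lib.Helper19
open scoped commutatorElement

variable {F : Type*} [Field F] {ι : Type} [Fintype ι] [DecidableEq ι]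
variable (Q : QuadraticForm F (ι → F))

theorem indep_of_polar_ne (u a : ι → F) (hu0 : u ≠ 0) (hu : Q u = 0)
    (hua : QuadraticMap.polarBilin Q u a ≠ 0) :
    ∀ α β : F, α • u + β • a = 0 → α = 0 ∧ β = 0 := by
  intro α β h
  have h1 := congrArg (QuadraticMap.polarBilin Q u) h
  rw [map_add, map_smul, map_smul, polar_self', hu, map_zero] at h1
  simp only [smul_eq_mul, mul_zero, zero_add] at h1
  have hβ : β = 0 := by
    rcases mul_eq_zero.1 h1 with h2 | h2
    · exact h2
    · exact absurd h2 hua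
  rw [hβ, zero_smul, add_zero] at h
  rcases smul_eq_zero.1 h with h2 | h2
  · exact ⟨h2, hβ⟩
  · exact absurd h2 hu0

theorem indep_of_not_smul (u b : ι → F) (hu0 : u ≠ 0) (hb : ¬ ∃ c : F, b = c • u) :
    ∀ α β : F, α • u + β • b = 0 → α = 0 ∧ β = 0 := by
  intro α β h
  have hβ : β = 0 := by
    by_contra hβ
    apply hb
    refine ⟨-(β⁻¹ * α), ?_⟩
    have h1 : β • b = -(α • u) := by
      rw [eq_neg_iff_add_eq_zero, add_comm]; exact h
    have h2 : b = β⁻¹ • (β • b) := by rw [smul_smul, inv_mul_cancel₀ hβ, one_smul]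
    rw [h2, h1, smul_neg, smul_smul, neg_smul]
  rw [hβ, zero_smul, add_zero] at h
  rcases smul_eq_zero.1 h with h2 | h2
  · exact ⟨h2, hβ⟩
  · exact absurd h2 hu0

section finite

variable [Fintype F]

/-- the stabiliser of a singular line is a maximal subgroup of `Ω` -/
theorem lineStab_maximal (hQ : (QuadraticMap.polarBilin Q).Nondegenerate)
    (hn : 7 ≤ Fintype.card ι) (u : ι → F) (hu0 : u ≠ 0) (hu : Q u = 0)
    (K : Subgroup ↥(Cfsg.Omega F ⇑Q)) (hHK : lineStab Q u hu0 ≤ K) :
    K = lineStab Q u hu0 ∨ K = ⊤ := by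
  have hn' : 7 ≤ finrank F (ι → F) := by
    rw [Module.finrank_fintype_fun_eq_card]; exact hn
  by_cases hK : K ≤ lineStab Q u hu0
  · exact Or.inl (le_antisymm hK hHK)
  right
  obtain ⟨k, hkK, hkH⟩ := SetLike.not_le_iff_exists.1 hK
  rw [mem_lineStab] at hkH
  set a := lo Q k u with ha
  have haQ : Q a = 0 := by rw [ha, lo_isometry, hu]
  have ha0 : a ≠ 0 := lo_ne_zero Q k u hu0
  -- the predicate: `x` is the image of `u` under an element of `K`
  have hPK : ∀ x : ι → F, (∃ k' ∈ K, lo Q k' u = x) → ∀ k'' ∈ K, ∃ k' ∈ K, lo Q k' u = lo Q k'' x := by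
    rintro x ⟨k', hk', rfl⟩ k'' hk''
    exact ⟨k'' * k', K.mul_mem hk'' hk', lo_mul_apply Q k'' k' u⟩
  have hPu : ∃ k' ∈ K, lo Q k' u = u := ⟨1, K.one_mem, lo_one_apply Q u⟩
  have hPa : ∃ k' ∈ K, lo Q k' u = a := ⟨k, hkK, rfl⟩
  have hfix : ∀ h ∈ Cfsg.Omega F ⇑Q, linOf Q h u = u → ∀ x : ι → F,
      (∃ k' ∈ K, lo Q k' u = x) → ∃ k' ∈ K, lo Q k' u = linOf Q h x := by
    intro h hh hhu x hx
    have hmem : (⟨h, hh⟩ : ↥(Cfsg.Omega F ⇑Q)) ∈ K := by
      apply hHK
      rw [mem_lineStab]
      exact ⟨1, by rw [one_smul]; exact hhu⟩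
    exact hPK x hx ⟨h, hh⟩ hmem
  have hPsmul : ∀ x : ι → F, ∀ c : F, c ≠ 0 → (∃ k' ∈ K, lo Q k' u = x) →
      ∃ k' ∈ K, lo Q k' u = c • x := by
    rintro x c hc ⟨k', hk', rfl⟩
    obtain ⟨h, hh, hhu⟩ := exists_Omega_map Q hQ hn u (c • u) hu0 (smul_ne_zero hc hu0)
      (by rw [Q_smul, hu, mul_zero])
    have hmem : (⟨h, hh⟩ : ↥(Cfsg.Omega F ⇑Q)) ∈ K := by
      apply hHK
      rw [mem_lineStab]
      exact ⟨c, hhu⟩
    refine ⟨k' * ⟨h, hh⟩, K.mul_mem hk' hmem, ?_⟩
    rw [lo_mul_apply]
    have : lo Q ⟨h, hh⟩ u = c • u := hhu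
    rw [this, map_smul]
  have htop : (∀ x : ι → F, x ≠ 0 → Q x = 0 → ∃ k' ∈ K, lo Q k' u = x) → K = ⊤ := by
    intro hall
    rw [eq_top_iff]
    intro g _
    obtain ⟨k', hk', hk'u⟩ := hall (lo Q g u) (lo_ne_zero Q g u hu0) (by rw [lo_isometry, hu])
    have hmem : k'⁻¹ * g ∈ K := by
      apply hHK
      rw [mem_lineStab]
      refine ⟨1, ?_⟩
      rw [lo_mul_apply, ← hk'u, lo_inv_apply, one_smul]
    have : g = k' * (k'⁻¹ * g) := by group
    rw [this]
    exact K.mul_mem hk' hmem
  have hscal : ∀ b : ι → F, b ≠ 0 → (∃ c : F, b = c • u) → ∃ k' ∈ K, lo Q k' u = b := by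
    rintro b hb0 ⟨c, rfl⟩
    have hc : c ≠ 0 := by
      rintro rfl
      exact hb0 (zero_smul _ _)
    exact hPsmul u c hc hPu
  apply htop
  by_cases hua : QuadraticMap.polarBilin Q u a = 0
  · -- `a` is perpendicular to `u`
    have hinda : ∀ α β : F, α • u + β • a = 0 → α = 0 ∧ β = 0 := by
      apply indep_of_not_smul u a hu0
      rintro ⟨c, hc⟩
      exact hkH ⟨c, hc⟩
    have D1 : ∀ b : ι → F, Q b = 0 → QuadraticMap.polarBilin Q u b = 0 →
        (∀ α β : F, α • u + β • b = 0 → α = 0 ∧ β = 0) → ∃ k' ∈ K, lo Q k' u = b := by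
      intro b hb hub hindb
      obtain ⟨h, hh, hhu, hha⟩ := exists_Omega_pair Q hQ hn u a u b hinda hindb rfl
        (by rw [haQ, hb]) (by rw [hua, hub])
      have := hfix h hh hhu a hPa
      rw [hha] at this
      exact this
    have D1' : ∀ x : ι → F, (∃ k' ∈ K, lo Q k' u = x) → ∀ b : ι → F, Q b = 0 →
        QuadraticMap.polarBilin Q x b = 0 →
        (∀ α β : F, α • x + β • b = 0 → α = 0 ∧ β = 0) → ∃ k' ∈ K, lo Q k' u = b := by
      rintro x ⟨k', hk', rfl⟩ b hb hxb hind
      have h1 : ∃ k'' ∈ K, lo Q k'' u = lo Q k'⁻¹ b := by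
        apply D1
        · rw [lo_isometry, hb]
        · rw [← lo_polar Q k', lo_apply_inv]
          exact hxb
        · intro α β h
          apply hind α β
          have := congrArg (lo Q k') h
          rw [map_add, map_smul, map_smul, lo_apply_inv, map_zero] at this
          exact this
      have h2 := hPK _ h1 k' hk'
      rw [lo_apply_inv] at h2
      exact h2
    intro b hb0 hb
    by_cases h1 : ∃ c : F, b = c • u
    · exact hscal b hb0 h1
    have hindb := indep_of_not_smul u b hu0 h1
    by_cases h2 : QuadraticMap.polarBilin Q u b = 0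
    · exact D1 b hb h2 hindb
    · obtain ⟨s, x, hus, hbs, _, _, hs, hsx⟩ := exists_singular_pair_orth2 Q hQ hn' u b
      have hs0 : s ≠ 0 := by
        rintro rfl
        apply hsx
        simp
      have hinds : ∀ α β : F, α • u + β • s = 0 → α = 0 ∧ β = 0 := by
        intro α β h
        have h3 := congrArg (fun y => QuadraticMap.polarBilin Q y b) h
        simp only [map_add, map_smul, LinearMap.add_apply, LinearMap.smul_apply, smul_eq_mul,
          map_zero, LinearMap.zero_apply, polar_symm Q s b, hbs, mul_zero, add_zero] at h3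
        have hα : α = 0 := by
          rcases mul_eq_zero.1 h3 with h4 | h4
          · exact h4
          · exact absurd h4 h2
        rw [hα, zero_smul, zero_add] at h
        rcases smul_eq_zero.1 h with h4 | h4
        · exact ⟨hα, h4⟩
        · exact absurd h4 hs0
      have hPs := D1 s hs hus hinds
      apply D1' s hPs b hb (by rw [polar_symm]; exact hbs)
      intro α β h
      have h3 := congrArg (QuadraticMap.polarBilin Q u) h
      simp only [map_add, map_smul, smul_eq_mul, map_zero, hus, mul_zero, zero_add] at h3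
      have hβ : β = 0 := by
        rcases mul_eq_zero.1 h3 with h4 | h4
        · exact h4
        · exact absurd h4 h2
      rw [hβ, zero_smul, add_zero] at h
      rcases smul_eq_zero.1 h with h4 | h4
      · exact ⟨h4, hβ⟩
      · exact absurd h4 hs0
  · -- `a` is not perpendicular to `u`
    have hinda := indep_of_polar_ne Q u a hu0 hu hua
    have D2 : ∀ b : ι → F, Q b = 0 → QuadraticMap.polarBilin Q u b ≠ 0 →
        ∃ k' ∈ K, lo Q k' u = b := by
      intro b hb hub
      set c := QuadraticMap.polarBilin Q u a / QuadraticMap.polarBilin Q u b with hc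
      have hc0 : c ≠ 0 := div_ne_zero hua hub
      have hQb' : Q (c • b) = 0 := by rw [Q_smul, hb, mul_zero]
      have hub' : QuadraticMap.polarBilin Q u (c • b) = QuadraticMap.polarBilin Q u a := by
        rw [map_smul, smul_eq_mul, hc, div_mul_cancel₀ _ hub]
      have hindb := indep_of_polar_ne Q u (c • b) hu0 hu (by rw [hub']; exact hua)
      obtain ⟨h, hh, hhu, hha⟩ := exists_Omega_pair Q hQ hn u a u (c • b) hinda hindb rfl
        (by rw [haQ, hQb']) hub'.symm
      have h1 := hfix h hh hhu a hPa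
      rw [hha] at h1
      have h2 := hPsmul _ c⁻¹ (inv_ne_zero hc0) h1
      rw [smul_smul, inv_mul_cancel₀ hc0, one_smul] at h2
      exact h2
    have D2' : ∀ x : ι → F, (∃ k' ∈ K, lo Q k' u = x) → ∀ b : ι → F, Q b = 0 →
        QuadraticMap.polarBilin Q x b ≠ 0 → ∃ k' ∈ K, lo Q k' u = b := by
      rintro x ⟨k', hk', rfl⟩ b hb hxb
      have h1 : ∃ k'' ∈ K, lo Q k'' u = lo Q k'⁻¹ b := by
        apply D2
        · rw [lo_isometry, hb]
        · rw [← lo_polar Q k', lo_apply_inv]
          exact hxb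
      have h2 := hPK _ h1 k' hk'
      rw [lo_apply_inv] at h2
      exact h2
    intro b hb0 hb
    by_cases h1 : ∃ c : F, b = c • u
    · exact hscal b hb0 h1
    have hindb := indep_of_not_smul u b hu0 h1
    by_cases h2 : QuadraticMap.polarBilin Q u b = 0
    · have hu_span : u ∉ Submodule.span F {b} := by
        intro h
        obtain ⟨t, ht⟩ := Submodule.mem_span_singleton.1 h
        have := (hindb 1 (-t) (by rw [one_smul, neg_smul, ht, add_neg_cancel])).1
        exact one_ne_zero this
      have hb_span : b ∉ Submodule.span F {u} := by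
        intro h
        obtain ⟨t, ht⟩ := Submodule.mem_span_singleton.1 h
        exact h1 ⟨t, ht.symm⟩
      obtain ⟨z1, hz1, hz1'⟩ := exists_polar_repr Q hQ _ u hu_span
      obtain ⟨z2, hz2, hz2'⟩ := exists_polar_repr Q hQ _ b hb_span
      have hz1b : QuadraticMap.polarBilin Q z1 b = 0 := hz1' b (Submodule.mem_span_singleton_self b)
      have hz2u : QuadraticMap.polarBilin Q z2 u = 0 := hz2' u (Submodule.mem_span_singleton_self u)
      set x1 := z1 + z2 with hx1
      have hx1u : QuadraticMap.polarBilin Q x1 u = 1 := by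
        rw [hx1, map_add, LinearMap.add_apply, hz1, hz2u, add_zero]
      have hx1b : QuadraticMap.polarBilin Q x1 b = 1 := by
        rw [hx1, map_add, LinearMap.add_apply, hz1b, hz2, zero_add]
      set r := x1 - Q x1 • u with hr
      have hQr : Q r = 0 := by
        rw [hr, Q_sub, Q_smul, hu, map_smul, hx1u]
        simp
      have hur : QuadraticMap.polarBilin Q u r = 1 := by
        rw [hr, map_sub, map_smul, polar_self', hu, polar_symm Q u x1, hx1u]
        simp
      have hrb : QuadraticMap.polarBilin Q r b = 1 := by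
        rw [hr, map_sub, LinearMap.sub_apply, map_smul, LinearMap.smul_apply, h2, hx1b]
        simp
      have hPr := D2 r hQr (by rw [hur]; exact one_ne_zero)
      exact D2' r hPr b hb (by rw [hrb]; exact one_ne_zero)
    · exact D2 b hb h2

end finite

end Cfsg.Agent.Lib.Helper43
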