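import Cfsg.Agent.Lib.Helper43.InvolCount
import Cfsg.Agent.Lib.Helper43.OrthSingular

set_option autoImplicit false
set_option linter.unusedSimpArgs false

/-! Explicit orthogonal frames in the standard plus/minus type quadratic spaces. -/

namespace Cfsg.Agent.Lib.Helper43

open Module Matrix

section plus

variable {F : Type*} [Field F] (m : ℕ)

theorem polar_plus_apply (u v : Fin m ⊕ Fin m → F) :
    QuadraticMap.polarBilin (qfPlus m F) u v =
      ∑ i, (u (Sum.inl i) * v (Sum.inr i) + u (Sum.inr i) * v (Sum.inl i)) := by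
  rw [QuadraticMap.polarBilin_apply_apply, QuadraticMap.polar]
  change Cfsg.quadFormPlus m F (u + v) - Cfsg.quadFormPlus m F u - Cfsg.quadFormPlus m F v = _
  unfold Cfsg.quadFormPlus
  rw [← Finset.sum_sub_distrib, ← Finset.sum_sub_distrib]
  refine Finset.sum_congr rfl fun i _ => ?_
  simp only [Pi.add_apply]
  ring

/-- `e_a` -/
def vE (a : Fin m) : Fin m ⊕ Fin m → F := Pi.single (Sum.inl a) 1
/-- `f_a` -/
def vF (a : Fin m) : Fin m ⊕ Fin m → F := Pi.single (Sum.inr a) 1
/-- `e_a + f_a` -/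
def vH (a : Fin m) : Fin m ⊕ Fin m → F := vE m a + vF m a

theorem polar_plus_vE (u : Fin m ⊕ Fin m → F) (b : Fin m) :
    QuadraticMap.polarBilin (qfPlus m F) u (vE m b) = u (Sum.inr b) := by
  rw [polar_plus_apply]
  simp [vE, Pi.single_apply]

theorem polar_plus_vF (u : Fin m ⊕ Fin m → F) (b : Fin m) :
    QuadraticMap.polarBilin (qfPlus m F) u (vF m b) = u (Sum.inl b) := by
  rw [polar_plus_apply]
  simp [vF, Pi.single_apply]

theorem polar_plus_vH (u : Fin m ⊕ Fin m → F) (b : Fin m) :
    QuadraticMap.polarBilin (qfPlus m F) u (vH m b) = u (Sum.inr b) + u (Sum.inl b) := by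
  unfold vH
  rw [map_add, polar_plus_vE, polar_plus_vF]

theorem plus_vE (a : Fin m) : qfPlus m F (vE m a) = 0 := by
  change Cfsg.quadFormPlus m F (vE m a) = 0
  simp [Cfsg.quadFormPlus, vE, Pi.single_apply]

theorem plus_vH (a : Fin m) : qfPlus m F (vH m a) = 1 := by
  change Cfsg.quadFormPlus m F (vH m a) = 1
  simp [Cfsg.quadFormPlus, vH, vE, vF, Pi.single_apply]

theorem polar_plus_vE_vE (a b : Fin m) :
    QuadraticMap.polarBilin (qfPlus m F) (vE m a) (vE m b) = 0 := by
  rw [polar_plus_vE]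
  simp [vE]

theorem polar_plus_vH_vH (a b : Fin m) (hab : a ≠ b) :
    QuadraticMap.polarBilin (qfPlus m F) (vH m a) (vH m b) = 0 := by
  rw [polar_plus_vH]
  simp [vH, vE, vF, Pi.single_apply, hab.symm]

theorem linearIndependent_vE {κ : Type*} (emb : κ → Fin m) (hemb : Function.Injective emb) :
    LinearIndependent F (fun k => (vE m (emb k) : Fin m ⊕ Fin m → F)) := by
  apply LinearIndependent.of_comp (LinearMap.funLeft F F (Sum.inl : Fin m → Fin m ⊕ Fin m))
  have : (⇑(LinearMap.funLeft F F (Sum.inl : Fin m → Fin m ⊕ Fin m)) ∘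
      fun k => (vE m (emb k) : Fin m ⊕ Fin m → F)) = (fun a => Pi.basisFun F (Fin m) a) ∘ emb := by
    funext k
    ext i
    simp [vE, LinearMap.funLeft_apply, Pi.single_apply]
  rw [this]
  exact (Pi.basisFun F (Fin m)).linearIndependent.comp emb hemb

theorem linearIndependent_vH {κ : Type*} (emb : κ → Fin m) (hemb : Function.Injective emb) :
    LinearIndependent F (fun k => (vH m (emb k) : Fin m ⊕ Fin m → F)) := by
  apply LinearIndependent.of_comp (LinearMap.funLeft F F (Sum.inl : Fin m → Fin m ⊕ Fin m))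
  have : (⇑(LinearMap.funLeft F F (Sum.inl : Fin m → Fin m ⊕ Fin m)) ∘
      fun k => (vH m (emb k) : Fin m ⊕ Fin m → F)) = (fun a => Pi.basisFun F (Fin m) a) ∘ emb := by
    funext k
    ext i
    simp [vH, vE, vF, LinearMap.funLeft_apply, Pi.single_apply]
  rw [this]
  exact (Pi.basisFun F (Fin m)).linearIndependent.comp emb hemb

end plus

end Cfsg.Agent.Lib.Helper43
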