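import Cfsg.Agent.Lib.Helper43.Dickson
import Cfsg.Prelude.Def_SporadicB

set_option autoImplicit false

/-! Isometries `g` with `g - 1` of rank one are reflections; over the field with two elements they
form a generating conjugacy class of 3-transpositions. -/

namespace Cfsg.Agent.Lib.Helper43

open Module Matrix Cfsg.Agent.Lib.Helper19

section abstract

variable {F V : Type*} [Field F] [AddCommGroup V] [Module F V]
variable {Q : QuadraticForm F V}

theorem eq_reflLin_of_finrank_range_one [FiniteDimensional F V]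
    (hQ : (QuadraticMap.polarBilin Q).Nondegenerate)
    (g : V →ₗ[F] V) (hg : ∀ v, Q (g v) = Q v)
    (h1 : finrank F (LinearMap.range (g - LinearMap.id)) = 1) :
    ∃ w, Q w ≠ 0 ∧ g = reflLin Q w := by
  -- a nonzero residual vector
  obtain ⟨u0, hu0⟩ : ∃ u0, g u0 - u0 ≠ 0 := by
    by_contra hcon
    push Not at hcon
    have : LinearMap.range (g - LinearMap.id) = ⊥ := by
      rw [eq_bot_iff]
      rintro _ ⟨v, rfl⟩
      rw [Submodule.mem_bot, LinearMap.sub_apply, LinearMap.id_apply]
      exact hcon v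
    rw [this, finrank_bot] at h1
    exact zero_ne_one h1
  have hspan : ∀ v, ∃ c : F, g v - v = c • (g u0 - u0) := by
    intro v
    have hmem0 : g u0 - u0 ∈ LinearMap.range (g - LinearMap.id) := ⟨u0, by simp⟩
    have hmemv : g v - v ∈ LinearMap.range (g - LinearMap.id) := ⟨v, by simp⟩
    have hne : (⟨g u0 - u0, hmem0⟩ : LinearMap.range (g - LinearMap.id)) ≠ 0 := by
      intro h
      exact hu0 (congrArg Subtype.val h)
    obtain ⟨c, hc⟩ := (finrank_eq_one_iff_of_nonzero' _ hne).1 h1 ⟨g v - v, hmemv⟩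
    exact ⟨c, (congrArg Subtype.val hc).symm⟩
  obtain ⟨u, hu⟩ : ∃ u, Q (g u - u) ≠ 0 := by
    by_contra hall
    push Not at hall
    have hall' : ∀ u, QuadraticMap.polarBilin Q (g u - u) u = 0 := by
      intro u
      have := Q_residual g hg u
      rw [hall u] at this
      exact neg_eq_zero.1 this.symm
    obtain ⟨v, hv⟩ : ∃ v, QuadraticMap.polarBilin Q (g u0 - u0) v ≠ 0 := by
      by_contra hcon
      push Not at hcon
      exact hu0 (hQ.1 _ hcon)
    obtain ⟨c, hc⟩ := hspan v
    have := hall' v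
    rw [hc, map_smul, LinearMap.smul_apply, smul_eq_mul] at this
    rcases mul_eq_zero.1 this with h | h
    · rw [h, zero_smul, sub_eq_zero] at hc
      exact hv (polar_range_ker g hg u0 v hc)
    · exact hv h
  refine ⟨g u - u, hu, ?_⟩
  have h2 := finrank_fixSpace_refl_of_mem hQ g hg (g u - u) hu ⟨u, rfl⟩
  have h3 := LinearMap.finrank_range_add_finrank_ker (g - LinearMap.id)
  have h4 : finrank F (fixSpace (reflLin Q (g u - u) ∘ₗ g)) = finrank F V := by
    unfold fixSpace at h2 ⊢
    omega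
  have h5 : fixSpace (reflLin Q (g u - u) ∘ₗ g) = ⊤ := Submodule.eq_top_of_finrank_eq h4
  apply LinearMap.ext
  intro x
  have hx : x ∈ fixSpace (reflLin Q (g u - u) ∘ₗ g) := by rw [h5]; exact Submodule.mem_top
  rw [mem_fixSpace, LinearMap.comp_apply] at hx
  have := congrArg (reflLin Q (g u - u)) hx
  rw [reflLin_mul_self' _ hu] at this
  exact this

theorem finrank_fixSpace_reflLin [FiniteDimensional F V]
    (hQ : (QuadraticMap.polarBilin Q).Nondegenerate) (u : V) (hu : Q u ≠ 0) :
    finrank F (fixSpace (reflLin Q u)) + 1 = finrank F V := by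
  have h := finrank_fixSpace_refl_of_notMem hQ LinearMap.id (fun v => rfl) u hu (by
    rintro ⟨v, hv⟩
    rw [LinearMap.id_apply, sub_self] at hv
    rw [← hv, map_zero] at hu
    exact hu rfl)
  have h1 : fixSpace (LinearMap.id : V →ₗ[F] V) = ⊤ := by
    ext v
    rw [mem_fixSpace]
    simp
  rw [h1, finrank_top, LinearMap.comp_id] at h
  exact h

end abstract

section matrix

variable {F : Type*} [Field F] {ι : Type} [Fintype ι] [DecidableEq ι]
variable (Q : QuadraticForm F (ι → F))

theorem rank_reflO_sub_one (hQ : (QuadraticMap.polarBilin Q).Nondegenerate) (u : ι → F)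
    (hu : Q u ≠ 0) : (((reflO Q u : GL ι F) : Matrix ι ι F) - 1).rank = 1 := by
  rw [rank_sub_one_eq, reflO_val Q u hu, toLin'_reflectionMatrix]
  have h := finrank_fixSpace_reflLin hQ u hu
  rw [Module.finrank_fintype_fun_eq_card] at h
  omega

theorem rank_one_iff_reflO (hQ : (QuadraticMap.polarBilin Q).Nondegenerate)
    (g : ↥(Cfsg.isometryGroup F ⇑Q)) :
    (((g : GL ι F) : Matrix ι ι F) - 1).rank = 1 ↔ ∃ u, Q u ≠ 0 ∧ g = reflO Q u := by
  constructor
  · intro h
    have h1 : finrank F (LinearMap.range (linOf Q g - LinearMap.id)) = 1 := by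
      have : linOf Q g - LinearMap.id = Matrix.toLin' (((g : GL ι F) : Matrix ι ι F) - 1) := by
        unfold linOf
        rw [map_sub, Matrix.toLin'_one]
      rw [this]
      exact h
    obtain ⟨w, hw, hgw⟩ := eq_reflLin_of_finrank_range_one hQ (linOf Q g) (linOf_isometry Q g) h1
    refine ⟨w, hw, ?_⟩
    apply linOf_injective
    rw [hgw, linOf_reflO Q w hw]
  · rintro ⟨u, hu, rfl⟩
    exact rank_reflO_sub_one Q hQ u hu

theorem conj_reflO (s : ↥(Cfsg.isometryGroup F ⇑Q)) (a : ι → F) (ha : Q a ≠ 0) :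
    s * reflO Q a * s⁻¹ = reflO Q (linOf Q s a) := by
  rw [mul_inv_eq_iff_eq_mul]
  apply linOf_injective
  have ha' : Q (linOf Q s a) ≠ 0 := by rw [linOf_isometry]; exact ha
  rw [linOf_mul, linOf_mul, linOf_reflO Q a ha, linOf_reflO Q _ ha',
    conj_reflLin Q (linOf Q s) (linOf_isometry Q s)]

theorem reflO_ne_one (hQ : (QuadraticMap.polarBilin Q).Nondegenerate) (u : ι → F) (hu : Q u ≠ 0) :
    reflO Q u ≠ 1 := by
  intro h
  have := rank_reflO_sub_one Q hQ u hu
  rw [h] at this
  simp at this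

end matrix

section F2

variable {ι : Type} [Fintype ι] [DecidableEq ι]
variable (Q : QuadraticForm (ZMod 2) (ι → ZMod 2))

theorem zmod2_eq_one {x : ZMod 2} (h : x ≠ 0) : x = 1 := by
  revert x; decide

/-- over `𝔽₂`, two reflections commute or generate `S₃` -/
theorem reflO_mul_pow (a b : ι → ZMod 2) (ha : Q a ≠ 0) (hb : Q b ≠ 0) :
    (reflO Q a * reflO Q b) ^ 2 = 1 ∨ (reflO Q a * reflO Q b) ^ 3 = 1 := by
  have hQa : Q a = 1 := zmod2_eq_one ha
  have hQb : Q b = 1 := zmod2_eq_one hb
  have hinva : (reflO Q a)⁻¹ = reflO Q a := inv_eq_of_mul_eq_one_right (reflO_mul_self Q a ha)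
  have hinvb : (reflO Q b)⁻¹ = reflO Q b := inv_eq_of_mul_eq_one_right (reflO_mul_self Q b hb)
  have hneg : ∀ v : ι → ZMod 2, -v = v := by
    intro v
    have : v + v = 0 := by
      funext i
      exact CharTwo.add_self_eq_zero (v i)
    exact neg_eq_of_add_eq_zero_left this
  by_cases hab : QuadraticMap.polarBilin Q a b = 0
  · left
    -- they commute
    have h1 : linOf Q (reflO Q a) b = b := by
      rw [linOf_reflO Q a ha, reflLin_apply', polar_symm, hab, mul_zero, zero_smul, sub_zero]
    have h2 := conj_reflO Q (reflO Q a) b hb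
    rw [h1, hinva] at h2
    rw [pow_two]
    calc reflO Q a * reflO Q b * (reflO Q a * reflO Q b)
        = (reflO Q a * reflO Q b * reflO Q a) * reflO Q b := by group
      _ = reflO Q b * reflO Q b := by rw [h2]
      _ = 1 := reflO_mul_self Q b hb
  · right
    have hab1 : QuadraticMap.polarBilin Q a b = 1 := zmod2_eq_one hab
    have hba1 : QuadraticMap.polarBilin Q b a = 1 := by rw [polar_symm]; exact hab1
    have hQab : Q (a + b) ≠ 0 := by
      rw [Q_add, hQa, hQb, hab1]
      decide
    have h1 : linOf Q (reflO Q a) b = a + b := by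
      rw [linOf_reflO Q a ha, reflLin_apply', hba1, hQa, inv_one, one_mul, one_smul,
        sub_eq_add_neg, hneg, add_comm]
    have h2 : linOf Q (reflO Q b) a = a + b := by
      rw [linOf_reflO Q b hb, reflLin_apply', hab1, hQb, inv_one, one_mul, one_smul,
        sub_eq_add_neg, hneg]
    have h3 := conj_reflO Q (reflO Q a) b hb
    have h4 := conj_reflO Q (reflO Q b) a ha
    rw [h1, hinva] at h3
    rw [h2, hinvb] at h4
    calc (reflO Q a * reflO Q b) ^ 3
        = (reflO Q a * reflO Q b * reflO Q a) * (reflO Q b * reflO Q a * reflO Q b) := by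
          rw [pow_succ, pow_two]
          simp only [mul_assoc]
      _ = reflO Q (a + b) * reflO Q (a + b) := by rw [h3, h4]
      _ = 1 := reflO_mul_self Q (a + b) hQab

theorem three_transposition_generic (hQ : (QuadraticMap.polarBilin Q).Nondegenerate)
    (hgen : ReflGenerated Q) [Nonempty ι] :
    Cfsg.IsThreeTranspositionClass {g : ↥(Cfsg.isometryGroup (ZMod 2) ⇑Q) |
      (((g : GL ι (ZMod 2)) : Matrix ι ι (ZMod 2)) - 1).rank = 1} := by
  refine ⟨⟨?_, ?_⟩, ?_, ?_⟩
  · intro d hd
    obtain ⟨u, hu, rfl⟩ := (rank_one_iff_reflO Q hQ d).1 hd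
    apply orderOf_eq_prime
    · rw [pow_two]; exact reflO_mul_self Q u hu
    · exact reflO_ne_one Q hQ u hu
  · intro d hd e he
    obtain ⟨u, hu, rfl⟩ := (rank_one_iff_reflO Q hQ d).1 hd
    obtain ⟨v, hv, rfl⟩ := (rank_one_iff_reflO Q hQ e).1 he
    exact reflO_mul_pow Q u v hu hv
  · obtain ⟨u0, hu0⟩ := exists_nonsingular Q hQ
    refine ⟨reflO Q u0, rank_reflO_sub_one Q hQ u0 hu0, ?_⟩
    ext g
    show (((g : GL ι (ZMod 2)) : Matrix ι ι (ZMod 2)) - 1).rank = 1 ↔ IsConj (reflO Q u0) g
    constructor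
    · intro hg
      obtain ⟨u, hu, rfl⟩ := (rank_one_iff_reflO Q hQ g).1 hg
      obtain ⟨σ, hσ⟩ := exists_conj_reflO Q hQ u0 u hu0 hu
      exact isConj_iff.2 ⟨σ, by rw [hσ, mul_inv_cancel_right]⟩
    · intro hconj
      obtain ⟨c, rfl⟩ := isConj_iff.1 hconj
      rw [conj_reflO Q c u0 hu0]
      apply rank_reflO_sub_one Q hQ
      rw [linOf_isometry]
      exact hu0
  · rw [eq_top_iff]
    intro g _
    obtain ⟨l, hl, rfl⟩ := exists_list_reflO Q hgen g
    apply Subgroup.list_prod_mem
    intro x hx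
    obtain ⟨u, hu, rfl⟩ := List.mem_map.1 hx
    exact Subgroup.subset_closure (rank_reflO_sub_one Q hQ u (hl u hu))

end F2

end Cfsg.Agent.Lib.Helper43
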