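import Cfsg.Agent.Lib.Helper43.AutPSpMain
import Cfsg.Agent.Lib.Helper18.SympWitt

set_option autoImplicit false
set_option linter.unusedSimpArgs false
set_option linter.unusedVariables false
set_option linter.unusedSectionVars false

/-! The automorphisms of `PSp_2m(F)` induced by conformal symplectic matrices and by field
automorphisms, as homomorphisms into the automorphism group. -/

namespace Cfsg.Agent.Lib.Helper43.AutPSp

open Matrix Cfsg.Agent.Lib.Helper18 Cfsg.Agent.Lib.Helper11.SpPerfect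

section quot
variable {H : Type*} [Group H]

/-- automorphisms descend to the quotient by the centre -/
def autQ : MulAut H →* MulAut (H ⧸ Subgroup.center H) where
  toFun e := QuotientGroup.congr (Subgroup.center H) (Subgroup.center H) e
    (Subgroup.characteristic_iff_map_eq.mp Subgroup.centerCharacteristic e)
  map_one' := by
    ext z
    induction z using QuotientGroup.induction_on with
    | H z => rfl
  map_mul' e₁ e₂ := by
    ext z
    induction z using QuotientGroup.induction_on with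
    | H z => rfl

theorem autQ_mk (e : MulAut H) (z : H) :
    autQ e (QuotientGroup.mk z) = QuotientGroup.mk (e z) := rfl

end quot

section mapmul
variable {F : Type*} [Field F] {ι : Type*} [Fintype ι]

theorem map_mul_ra (σ : RingAut F) (A B : Matrix ι ι F) :
    (A * B).map σ = A.map σ * B.map σ :=
  Matrix.map_mul (f := (σ : F →+* F))

end mapmul

section
variable {F : Type*} [Field F] (m : ℕ)

local notation "V" => (Fin m ⊕ Fin m → F)
local notation "f" => Cfsg.sympForm m F
local notation "G" => Matrix.symplecticGroup (Fin m) F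
local notation "Mat" => Matrix (Fin m ⊕ Fin m) (Fin m ⊕ Fin m) F
local notation "GLm" => GL (Fin m ⊕ Fin m) F

theorem mem_GSp_iff (g : GLm) :
    g ∈ Cfsg.GSp m F ↔ ∃ c : Fˣ, ∀ u v : V, f ((g : Mat) *ᵥ u) ((g : Mat) *ᵥ v) = (c : F) * f u v :=
  Iff.rfl

theorem gl_inv_mulVec (g : GLm) (x : V) : (g : Mat) *ᵥ (((g⁻¹ : GLm) : Mat) *ᵥ x) = x := by
  rw [Matrix.mulVec_mulVec, ← Units.val_mul, mul_inv_cancel, Units.val_one, Matrix.one_mulVec]

theorem gl_mulVec_inv (g : GLm) (x : V) : ((g⁻¹ : GLm) : Mat) *ᵥ ((g : Mat) *ᵥ x) = x := by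
  rw [Matrix.mulVec_mulVec, ← Units.val_mul, inv_mul_cancel, Units.val_one, Matrix.one_mulVec]

theorem gsp_conj_mem {g : GLm} (hg : g ∈ Cfsg.GSp m F) (s : G) :
    (g : Mat) * s.1 * ((g⁻¹ : GLm) : Mat) ∈ Matrix.symplecticGroup (Fin m) F := by
  apply mem_symp_of_preserving
  intro x y
  obtain ⟨c, hc⟩ := hg
  rw [← Matrix.mulVec_mulVec, ← Matrix.mulVec_mulVec, ← Matrix.mulVec_mulVec,
    ← Matrix.mulVec_mulVec, hc, act_sf, ← hc, gl_inv_mulVec, gl_inv_mulVec]

/-- conjugation by a conformal symplectic matrix on `Sp`, as a function -/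
def cGfun (g : ↥(Cfsg.GSp m F)) (s : G) : G :=
  ⟨(g.1 : Mat) * s.1 * ((g.1⁻¹ : GLm) : Mat), gsp_conj_mem m g.2 s⟩

theorem cGfun_val (g : ↥(Cfsg.GSp m F)) (s : G) :
    (cGfun m g s).1 = (g.1 : Mat) * s.1 * ((g.1⁻¹ : GLm) : Mat) := rfl

theorem cGfun_mul (g : ↥(Cfsg.GSp m F)) (s t : G) :
    cGfun m g (s * t) = cGfun m g s * cGfun m g t := by
  apply Subtype.ext
  rw [val_mul, cGfun_val, cGfun_val, cGfun_val, val_mul]
  have e : ((g.1⁻¹ : GLm) : Mat) * (g.1 : Mat) = 1 := by
    rw [← Units.val_mul, inv_mul_cancel, Units.val_one]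
  calc (g.1 : Mat) * (s.1 * t.1) * ((g.1⁻¹ : GLm) : Mat)
      = (g.1 : Mat) * s.1 * (1 * (t.1 * ((g.1⁻¹ : GLm) : Mat))) := by
        rw [Matrix.one_mul]; simp only [Matrix.mul_assoc]
    _ = ((g.1 : Mat) * s.1 * ((g.1⁻¹ : GLm) : Mat)) *
        ((g.1 : Mat) * t.1 * ((g.1⁻¹ : GLm) : Mat)) := by
        rw [← e]; simp only [Matrix.mul_assoc]

theorem cGfun_one (s : G) : cGfun m (1 : ↥(Cfsg.GSp m F)) s = s := by
  apply Subtype.ext
  show ((1 : GLm) : Mat) * s.1 * (((1 : GLm)⁻¹ : GLm) : Mat) = s.1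
  rw [inv_one, Units.val_one, Matrix.one_mul, Matrix.mul_one]

theorem cGfun_comp (g h : ↥(Cfsg.GSp m F)) (s : G) :
    cGfun m (g * h) s = cGfun m g (cGfun m h s) := by
  apply Subtype.ext
  rw [cGfun_val, cGfun_val, cGfun_val]
  simp only [Subgroup.coe_mul, Units.val_mul, _root_.mul_inv_rev, Matrix.mul_assoc]

/-- conjugation by a conformal symplectic matrix on `Sp` -/
def cG : ↥(Cfsg.GSp m F) →* MulAut G where
  toFun g :=
    { toFun := cGfun m g
      invFun := cGfun m g⁻¹
      left_inv := fun s => by rw [← cGfun_comp, inv_mul_cancel, cGfun_one]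
      right_inv := fun s => by rw [← cGfun_comp, mul_inv_cancel, cGfun_one]
      map_mul' := cGfun_mul m g }
  map_one' := by
    apply MulEquiv.ext
    intro s
    exact cGfun_one m s
  map_mul' g h := by
    apply MulEquiv.ext
    intro s
    exact cGfun_comp m g h s

theorem cG_val (g : ↥(Cfsg.GSp m F)) (s : G) :
    (cG m g s).1 = (g.1 : Mat) * s.1 * ((g.1⁻¹ : GLm) : Mat) := rfl

theorem J_map (σ : RingAut F) : (Matrix.J (Fin m) F).map σ = Matrix.J (Fin m) F := by
  ext i j
  rcases i with i | i <;> rcases j with j | j <;>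
    simp [Matrix.J, Matrix.fromBlocks, Matrix.one_apply]

theorem map_mem_symp (σ : RingAut F) (s : G) :
    s.1.map σ ∈ Matrix.symplecticGroup (Fin m) F := by
  have h := (SymplecticGroup.mem_iff).mp s.2
  rw [SymplecticGroup.mem_iff]
  have h2 : (s.1 * Matrix.J (Fin m) F * s.1ᵀ).map σ = (Matrix.J (Fin m) F).map σ := by rw [h]
  rw [map_mul_ra, map_mul_ra] at h2
  rw [J_map, Matrix.transpose_map] at h2
  exact h2

theorem map_map_ringAut (σ τ : RingAut F) (M : Mat) : (M.map τ).map σ = M.map (σ * τ) := by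
  ext i j
  rfl

theorem map_one_ringAut (M : Mat) : M.map (1 : RingAut F) = M := by
  ext i j
  rfl

/-- the field automorphism acting entrywise on `Sp`, as a function -/
def fAfun (σ : RingAut F) (s : G) : G := ⟨s.1.map σ, map_mem_symp m σ s⟩

theorem fAfun_val (σ : RingAut F) (s : G) : (fAfun m σ s).1 = s.1.map σ := rfl

theorem fAfun_mul (σ : RingAut F) (s t : G) : fAfun m σ (s * t) = fAfun m σ s * fAfun m σ t := by
  apply Subtype.ext
  rw [val_mul, fAfun_val, fAfun_val, fAfun_val, val_mul]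
  exact map_mul_ra σ s.1 t.1

theorem fAfun_one (s : G) : fAfun m (1 : RingAut F) s = s := by
  apply Subtype.ext
  exact map_one_ringAut m s.1

theorem fAfun_comp (σ τ : RingAut F) (s : G) : fAfun m (σ * τ) s = fAfun m σ (fAfun m τ s) := by
  apply Subtype.ext
  exact (map_map_ringAut m σ τ s.1).symm

/-- the field automorphism acting entrywise on `Sp` -/
def fA : RingAut F →* MulAut G where
  toFun σ :=
    { toFun := fAfun m σ
      invFun := fAfun m σ⁻¹
      left_inv := fun s => by rw [← fAfun_comp, inv_mul_cancel, fAfun_one]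
      right_inv := fun s => by rw [← fAfun_comp, mul_inv_cancel, fAfun_one]
      map_mul' := fAfun_mul m σ }
  map_one' := by
    apply MulEquiv.ext
    intro s
    exact fAfun_one m s
  map_mul' σ τ := by
    apply MulEquiv.ext
    intro s
    exact fAfun_comp m σ τ s

theorem fA_val (σ : RingAut F) (s : G) : (fA m σ s).1 = s.1.map σ := rfl

/-- the inner-diagonal automorphisms of `PSp` -/
def conjGSp : ↥(Cfsg.GSp m F) →* MulAut (Cfsg.PSp m F) := autQ.comp (cG m)

/-- the standard field automorphisms of `PSp` -/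
def fieldAutSp : RingAut F →* MulAut (Cfsg.PSp m F) := autQ.comp (fA m)

theorem conjGSp_prj (g : ↥(Cfsg.GSp m F)) (s : G) :
    conjGSp m g (prj m s) = prj m (cG m g s) := rfl

theorem fieldAutSp_prj (σ : RingAut F) (s : G) :
    fieldAutSp m σ (prj m s) = prj m (fA m σ s) := rfl

/-- the action of a field automorphism on `GSp` -/
theorem map_mem_GSp (σ : RingAut F) {g : GLm} (hg : g ∈ Cfsg.GSp m F) :
    Matrix.GeneralLinearGroup.map (σ : F →+* F) g ∈ Cfsg.GSp m F := by
  obtain ⟨c, hc⟩ := hg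
  refine ⟨Units.map ((σ : F →+* F) : F →* F) c, fun u v => ?_⟩
  have hu : (fun i => σ (σ⁻¹ (u i))) = u := by
    ext i
    exact σ.apply_symm_apply (u i)
  have hv : (fun i => σ (σ⁻¹ (v i))) = v := by
    ext i
    exact σ.apply_symm_apply (v i)
  have e1 : ∀ w : V, ((Matrix.GeneralLinearGroup.map (σ : F →+* F) g : GLm) : Mat) *ᵥ
      (fun i => σ (w i)) = fun i => σ (((g : Mat) *ᵥ w) i) := fun w =>
    map_mulVec_map m σ (g : Mat) w
  rw [← hu, ← hv, e1, e1, sympForm_map, sympForm_map, hc, map_mul]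
  rfl

/-- `σ` acting on `GSp` -/
def mapG (σ : RingAut F) : ↥(Cfsg.GSp m F) →* ↥(Cfsg.GSp m F) where
  toFun g := ⟨Matrix.GeneralLinearGroup.map (σ : F →+* F) g.1, map_mem_GSp m σ g.2⟩
  map_one' := by
    apply Subtype.ext
    exact map_one _
  map_mul' g h := by
    apply Subtype.ext
    exact map_mul _ _ _

theorem mapG_val (σ : RingAut F) (g : ↥(Cfsg.GSp m F)) :
    ((mapG m σ g).1 : Mat) = (g.1 : Mat).map σ := rfl

/-- field automorphisms normalise the conformal conjugations -/
theorem fA_mul_cG (σ : RingAut F) (g : ↥(Cfsg.GSp m F)) :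
    fA m σ * cG m g = cG m (mapG m σ g) * fA m σ := by
  apply MulEquiv.ext
  intro s
  apply Subtype.ext
  rw [MulAut.mul_apply, MulAut.mul_apply, fA_val, cG_val, cG_val, fA_val, mapG_val]
  rw [map_mul_ra, map_mul_ra]
  congr 1

theorem fieldAutSp_mul_conjGSp (σ : RingAut F) (g : ↥(Cfsg.GSp m F)) :
    fieldAutSp m σ * conjGSp m g = conjGSp m (mapG m σ g) * fieldAutSp m σ := by
  unfold fieldAutSp conjGSp
  simp only [MonoidHom.comp_apply]
  rw [← map_mul, fA_mul_cG, map_mul]

/-- the predicate of the statements in terms of the homomorphisms -/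
theorem isInduced_iff {g : GLm} (hg : g ∈ Cfsg.GSp m F) (σ : RingAut F)
    (β : MulAut (Cfsg.PSp m F)) :
    Cfsg.IsInducedBySemilinearPSp g σ β ↔ β = conjGSp m ⟨g, hg⟩ * fieldAutSp m σ := by
  constructor
  · intro h
    ext z
    obtain ⟨s, rfl⟩ := prj_surjective m z
    rw [MulAut.mul_apply, fieldAutSp_prj, conjGSp_prj]
    exact h s (cG m ⟨g, hg⟩ (fA m σ s)) rfl
  · rintro rfl s s' hs'
    change (conjGSp m ⟨g, hg⟩ * fieldAutSp m σ) (prj m s) = prj m s'
    rw [MulAut.mul_apply, fieldAutSp_prj, conjGSp_prj]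
    congr 1
    apply Subtype.ext
    rw [hs']
    rfl

theorem isStdFieldAut_iff (σ : RingAut F) (β : MulAut (Cfsg.PSp m F)) :
    Cfsg.IsStdFieldAutPSp σ β ↔ β = fieldAutSp m σ := by
  constructor
  · intro h
    ext z
    obtain ⟨s, rfl⟩ := prj_surjective m z
    rw [fieldAutSp_prj]
    exact h s (fA m σ s) rfl
  · rintro rfl s s' hs'
    change fieldAutSp m σ (prj m s) = prj m s'
    rw [fieldAutSp_prj]
    congr 1
    apply Subtype.ext
    rw [hs']
    rfl

theorem inndiagPSp_eq_range : Cfsg.inndiagPSp m F = (conjGSp (F := F) m).range := by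
  unfold Cfsg.inndiagPSp Cfsg.autSubgroupOf
  apply le_antisymm
  · rw [Subgroup.closure_le]
    rintro β ⟨g, hg, hβ⟩
    have := (isInduced_iff m hg (1 : RingAut F) β).mp hβ
    rw [map_one, mul_one] at this
    exact ⟨⟨g, hg⟩, this.symm⟩
  · rintro _ ⟨g, rfl⟩
    apply Subgroup.subset_closure
    refine ⟨g.1, g.2, ?_⟩
    have : Cfsg.IsInducedBySemilinearPSp g.1 (1 : RingAut F) (conjGSp m g) := by
      rw [isInduced_iff m g.2]
      rw [map_one, mul_one]
    exact this

end

end Cfsg.Agent.Lib.Helper43.AutPSp
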