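import Cfsg.Agent.Lib.Helper43.PSpAutHom

set_option autoImplicit false
set_option linter.unusedSimpArgs false
set_option linter.unusedVariables false
set_option linter.unusedSectionVars false

/-! The kernel of the map from the conformal symplectic group to `Aut(PSp)` consists of the
scalars, and field automorphisms act faithfully. -/

namespace Cfsg.Agent.Lib.Helper43.AutPSp

open Matrix Cfsg.Agent.Lib.Helper18 Cfsg.Agent.Lib.Helper11.SpPerfect

section
variable {F : Type*} [Field F] (m : ℕ)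

local notation "V" => (Fin m ⊕ Fin m → F)
local notation "f" => Cfsg.sympForm m F
local notation "G" => Matrix.symplecticGroup (Fin m) F
local notation "Mat" => Matrix (Fin m ⊕ Fin m) (Fin m ⊕ Fin m) F
local notation "GLm" => GL (Fin m ⊕ Fin m) F

/-- conformal conjugation of a transvection -/
theorem cG_tv (g : ↥(Cfsg.GSp m F)) {μ : F} (hμ0 : μ ≠ 0)
    (hμ : ∀ u v : V, f ((g.1 : Mat) *ᵥ u) ((g.1 : Mat) *ᵥ v) = μ * f u v) (v : V) (c : F) :
    cG m g (tv m v c) = tv m ((g.1 : Mat) *ᵥ v) (c * μ⁻¹) := by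
  apply sp_ext
  intro x
  rw [cG_val, ← Matrix.mulVec_mulVec, ← Matrix.mulVec_mulVec, tv_act, tv_act, Matrix.mulVec_add,
    Matrix.mulVec_smul, gl_inv_mulVec]
  have h1 := hμ (((g.1⁻¹ : GLm) : Mat) *ᵥ x) v
  rw [gl_inv_mulVec] at h1
  have h2 : f (((g.1⁻¹ : GLm) : Mat) *ᵥ x) v = μ⁻¹ * f x ((g.1 : Mat) *ᵥ v) := by
    rw [h1, ← mul_assoc, inv_mul_cancel₀ hμ0, one_mul]
  rw [h2]
  congr 2
  ring

theorem gsp_act_ne_zero (g : GLm) {v : V} (hv : v ≠ 0) : (g : Mat) *ᵥ v ≠ 0 := by
  intro h
  apply hv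
  rw [← gl_mulVec_inv m g v, h, Matrix.mulVec_zero]

/-- an element of `GSp` acting trivially on `PSp` is a scalar -/
theorem scalar_of_conjGSp_eq_one [NeZero m] (hm : 2 ≤ m) (g : ↥(Cfsg.GSp m F))
    (h : conjGSp m g = 1) : ∃ a : F, (g.1 : Mat) = a • (1 : Mat) := by
  obtain ⟨μ, hμ⟩ := g.2
  have hpar : ∀ v : V, v ≠ 0 → ∃ c : F, (g.1 : Mat) *ᵥ v = c • v := by
    intro v hv
    have h1 : conjGSp m g (prj m (tv m v 1)) = prj m (tv m v 1) := by rw [h]; rfl
    rw [conjGSp_prj, cG_tv m g μ.ne_zero hμ] at h1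
    exact par_of_prj_tv_eq m hm (gsp_act_ne_zero m g.1 hv)
      (mul_ne_zero one_ne_zero (inv_ne_zero μ.ne_zero)) h1.symm
  let φ : V →ₗ[F] V := Matrix.mulVecLin (g.1 : Mat)
  have hφ : ∀ v : V, φ v = (g.1 : Mat) *ᵥ v := fun v => rfl
  obtain ⟨a, ha⟩ := φ.exists_eq_smul_id_of_forall_notLinearIndependent (fun v => by
    by_cases hv : v = 0
    · intro hli
      have := hli.ne_zero 0
      apply this
      simp [hv]
    · rw [LinearIndependent.pair_iff' hv]
      intro hall
      obtain ⟨c, hc⟩ := hpar v hv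
      exact hall c (by rw [hφ, hc]))
  refine ⟨a, ?_⟩
  apply mat_ext m
  intro x
  rw [← hφ, ha, Matrix.smul_mulVec, Matrix.one_mulVec]
  rfl

/-- scalars of `GSp` act trivially -/
theorem conjGSp_of_scalar (g : ↥(Cfsg.GSp m F)) {a : F} (ha : (g.1 : Mat) = a • (1 : Mat)) :
    conjGSp m g = 1 := by
  have hc : cG m g = 1 := by
    apply MulEquiv.ext
    intro s
    apply Subtype.ext
    rw [cG_val]
    have h1 : (g.1 : Mat) * s.1 = s.1 * (g.1 : Mat) := by
      rw [ha, Matrix.smul_mul, Matrix.mul_smul, Matrix.one_mul, Matrix.mul_one]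
    rw [h1, Matrix.mul_assoc, ← Units.val_mul, mul_inv_cancel, Units.val_one, Matrix.mul_one]
    rfl
  unfold conjGSp
  rw [MonoidHom.comp_apply, hc, map_one]

/-- proportional conformal matrices induce the same automorphism -/
theorem conjGSp_eq_of_smul (g h : ↥(Cfsg.GSp m F)) {a : F}
    (ha : (g.1 : Mat) = a • (h.1 : Mat)) : conjGSp m g = conjGSp m h := by
  have h1 : conjGSp m (g * h⁻¹) = 1 := by
    apply conjGSp_of_scalar m (g * h⁻¹) (a := a)
    show ((g.1 * (h.1)⁻¹ : GLm) : Mat) = a • (1 : Mat)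
    rw [Units.val_mul, ha, Matrix.smul_mul, ← Units.val_mul, mul_inv_cancel, Units.val_one]
  rw [map_mul, map_inv, mul_inv_eq_one] at h1
  exact h1

/-- the parameter of a transvection is determined by its image in `PSp` -/
theorem prj_tv_inj [NeZero m] (hm : 2 ≤ m) {v : V} (hv : v ≠ 0) {c d : F}
    (h : prj m (tv m v c) = prj m (tv m v d)) : c = d := by
  have hplus : (∀ x : V, (tv m v c).1 *ᵥ x = (tv m v d).1 *ᵥ x) → c = d := by
    intro h1
    obtain ⟨x, hx⟩ := exists_pair_ne_zero m hv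
    have h2 := h1 x
    rw [tv_act, tv_act, hx, mul_one, mul_one] at h2
    have h3 : c • v = d • v := add_left_cancel h2
    have h4 : (c - d) • v = 0 := by rw [sub_smul, h3, sub_self]
    exact sub_eq_zero.mp ((smul_eq_zero.mp h4).resolve_right hv)
  rcases (prj_eq_iff_act m).mp h with h1 | h1
  · exact hplus h1
  · by_cases h2 : (2 : F) = 0
    · apply hplus
      intro x
      rw [h1 x]
      have : (2 : F) • ((tv m v d).1 *ᵥ x) = 0 := by rw [h2, zero_smul]
      rw [two_smul] at this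
      exact (eq_neg_of_add_eq_zero_left this).symm
    · exfalso
      obtain ⟨x, hx0, hxv, -⟩ := exists_perp2 m hm v v
      have h3 := h1 x
      simp only [tv_act, hxv, mul_zero, zero_smul, add_zero] at h3
      have h4 : (2 : F) • x = 0 := by
        rw [two_smul]
        nth_rewrite 1 [h3]
        rw [neg_add_cancel]
      exact hx0 ((smul_eq_zero.mp h4).resolve_left h2)

/-- field automorphisms move transvections to transvections -/
theorem fA_tv (σ : RingAut F) (v : V) (c : F) :
    fA m σ (tv m v c) = tv m (fun i => σ (v i)) (σ c) := by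
  apply sp_ext
  intro x
  have hx : (fun i => σ (σ⁻¹ (x i))) = x := by
    ext i
    exact σ.apply_symm_apply (x i)
  rw [fA_val, ← hx, map_mulVec_map, tv_act, tv_act, sympForm_map]
  ext i
  simp only [Pi.add_apply, Pi.smul_apply, smul_eq_mul, map_add, map_mul]

/-- the standard field automorphisms act faithfully on `PSp` -/
theorem fieldAutSp_injective [NeZero m] (hm : 2 ≤ m) :
    Function.Injective (fieldAutSp (F := F) m) := by
  rw [injective_iff_map_eq_one]
  intro σ hσ
  have h0 : 0 < m := by omega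
  let e : V := Pi.single (Sum.inl ⟨0, h0⟩) 1
  have he : (fun i => σ (e i)) = e := by
    ext i
    show σ ((Pi.single (Sum.inl ⟨0, h0⟩) 1 : V) i) = (Pi.single (Sum.inl ⟨0, h0⟩) 1 : V) i
    rw [Pi.single_apply]
    split_ifs
    · exact map_one σ
    · exact map_zero σ
  have he0 : e ≠ 0 := by
    intro h
    have := congrFun h (Sum.inl ⟨0, h0⟩)
    simp [e] at this
  apply RingEquiv.ext
  intro c
  have h1 : fieldAutSp m σ (prj m (tv m e c)) = prj m (tv m e c) := by rw [hσ]; rfl
  rw [fieldAutSp_prj, fA_tv, he] at h1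
  exact prj_tv_inj m hm he0 h1

end

end Cfsg.Agent.Lib.Helper43.AutPSp
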