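import Cfsg.Agent.Lib.Helper43.PSpCoset
import Cfsg.Agent.Lib.Helper07.SpCenter

set_option autoImplicit false
set_option linter.unusedSimpArgs false
set_option linter.unusedVariables false
set_option linter.unusedSectionVars false

/-! The order of the inner-diagonal group of `PSp_2m(q)` and of the group of automorphisms
induced by semilinear maps. -/

namespace Cfsg.Agent.Lib.Helper43.AutPSp

open Matrix Cfsg.Agent.Lib.Helper18 Cfsg.Agent.Lib.Helper11.SpPerfect

section
variable {F : Type*} [Field F] (m : ℕ)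

local notation "V" => (Fin m ⊕ Fin m → F)
local notation "f" => Cfsg.sympForm m F
local notation "G" => Matrix.symplecticGroup (Fin m) F
local notation "Mat" => Matrix (Fin m ⊕ Fin m) (Fin m ⊕ Fin m) F
local notation "GLm" => GL (Fin m ⊕ Fin m) F

theorem mult_unique [NeZero m] {g : GLm} {c d : F}
    (hc : ∀ u v : V, f ((g : Mat) *ᵥ u) ((g : Mat) *ᵥ v) = c * f u v)
    (hd : ∀ u v : V, f ((g : Mat) *ᵥ u) ((g : Mat) *ᵥ v) = d * f u v) : c = d := by
  obtain ⟨x, hx⟩ := exists_pair_ne_zero m (v := (Pi.single (Sum.inl (0 : Fin m)) 1 : V)) (by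
    intro h0
    have := congrFun h0 (Sum.inl 0)
    simp at this)
  have := (hc x (Pi.single (Sum.inl (0 : Fin m)) 1)).symm.trans
    (hd x (Pi.single (Sum.inl (0 : Fin m)) 1))
  rw [hx, mul_one, mul_one] at this
  exact this

/-- the multiplier of a conformal symplectic matrix -/
noncomputable def mult (g : ↥(Cfsg.GSp m F)) : Fˣ := Classical.choose g.2

theorem mult_spec (g : ↥(Cfsg.GSp m F)) (u v : V) :
    f ((g.1 : Mat) *ᵥ u) ((g.1 : Mat) *ᵥ v) = (mult m g : F) * f u v :=
  Classical.choose_spec g.2 u v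

/-- the multiplier homomorphism -/
noncomputable def multHom [NeZero m] : ↥(Cfsg.GSp m F) →* Fˣ where
  toFun := mult m
  map_one' := by
    apply Units.ext
    apply mult_unique m (g := ((1 : ↥(Cfsg.GSp m F)) : GLm)) (mult_spec m 1)
    intro u v
    rw [Units.val_one, one_mul]
    show f (((1 : GLm) : Mat) *ᵥ u) (((1 : GLm) : Mat) *ᵥ v) = f u v
    rw [Units.val_one, Matrix.one_mulVec, Matrix.one_mulVec]
  map_mul' g h := by
    apply Units.ext
    apply mult_unique m (g := ((g * h : ↥(Cfsg.GSp m F)) : GLm)) (mult_spec m (g * h))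
    intro u v
    show f (((g.1 * h.1 : GLm) : Mat) *ᵥ u) (((g.1 * h.1 : GLm) : Mat) *ᵥ v) = _
    rw [Units.val_mul, ← Matrix.mulVec_mulVec, ← Matrix.mulVec_mulVec, mult_spec, mult_spec,
      Units.val_mul, mul_assoc]

theorem multHom_apply [NeZero m] (g : ↥(Cfsg.GSp m F)) : multHom m g = mult m g := rfl

/-- the dilation of the first Lagrangian -/
def dilMat (c : F) : Mat := Matrix.diagonal (Sum.elim (fun _ => c) (fun _ => 1))

theorem dilMat_mul (c d : F) : dilMat m c * dilMat m d = dilMat m (c * d) := by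
  rw [dilMat, dilMat, Matrix.diagonal_mul_diagonal, dilMat]
  congr 1
  ext i
  rcases i with i | i <;> simp

theorem dilMat_one : dilMat m (1 : F) = 1 := by
  rw [dilMat, ← Matrix.diagonal_one]
  congr 1
  ext i
  rcases i with i | i <;> simp

theorem sf_dil (c : F) (u v : V) : f (dilMat m c *ᵥ u) (dilMat m c *ᵥ v) = c * f u v := by
  rw [sympForm_eq, sympForm_eq, Finset.mul_sum]
  apply Finset.sum_congr rfl
  intro i _
  simp only [dilMat, Matrix.mulVec_diagonal, Sum.elim_inl, Sum.elim_inr]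
  ring

/-- the dilation as a conformal symplectic matrix -/
def dilG (c : Fˣ) : ↥(Cfsg.GSp m F) :=
  ⟨⟨dilMat m (c : F), dilMat m ((c⁻¹ : Fˣ) : F),
    by rw [dilMat_mul, ← Units.val_mul, mul_inv_cancel, Units.val_one, dilMat_one],
    by rw [dilMat_mul, ← Units.val_mul, inv_mul_cancel, Units.val_one, dilMat_one]⟩,
    ⟨c, fun u v => sf_dil m (c : F) u v⟩⟩

theorem multHom_surjective [NeZero m] : Function.Surjective (multHom (F := F) m) := by
  intro c
  refine ⟨dilG m c, ?_⟩
  apply Units.ext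
  exact mult_unique m (g := (dilG m c).1) (mult_spec m (dilG m c)) (fun u v => sf_dil m (c : F) u v)

theorem multHom_spToGSp [NeZero m] (s : G) : multHom m (spToGSp m s) = 1 := by
  apply Units.ext
  apply mult_unique m (g := (spToGSp m s).1) (mult_spec m (spToGSp m s))
  intro u v
  rw [Units.val_one, one_mul]
  exact act_sf m s u v

theorem exists_sp_of_multHom_eq_one [NeZero m] (g : ↥(Cfsg.GSp m F)) (h : multHom m g = 1) :
    ∃ s : G, spToGSp m s = g := by
  have hs : (g.1 : Mat) ∈ Matrix.symplecticGroup (Fin m) F := by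
    apply mem_symp_of_preserving
    intro x y
    rw [mult_spec, ← multHom_apply, h, Units.val_one, one_mul]
  refine ⟨⟨_, hs⟩, ?_⟩
  apply Subtype.ext
  apply Units.ext
  rfl

theorem spToGSp_injective : Function.Injective (spToGSp (F := F) m) := by
  intro s t h
  apply Subtype.ext
  have := congrArg (fun g : ↥(Cfsg.GSp m F) => (g.1 : Mat)) h
  exact this

theorem card_multHom_ker [NeZero m] : Nat.card (multHom (F := F) m).ker = Nat.card G := by
  symm
  apply Nat.card_congr
  refine Equiv.ofBijective (fun s => ⟨spToGSp m s, multHom_spToGSp m s⟩) ⟨?_, ?_⟩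
  · intro s t h
    exact spToGSp_injective m (congrArg Subtype.val h)
  · rintro ⟨g, hg⟩
    obtain ⟨s, hs⟩ := exists_sp_of_multHom_eq_one m g hg
    exact ⟨s, Subtype.ext hs⟩

theorem card_GSp [Finite F] [NeZero m] :
    Nat.card ↥(Cfsg.GSp m F) = Nat.card G * Nat.card Fˣ := by
  rw [← Subgroup.card_mul_index (multHom (F := F) m).ker, Subgroup.index_ker,
    card_multHom_ker, MonoidHom.range_eq_top.mpr (multHom_surjective m), Subgroup.card_top]

/-- the scalar conformal symplectic matrices -/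
def scalG (c : Fˣ) : ↥(Cfsg.GSp m F) :=
  ⟨⟨(c : F) • (1 : Mat), ((c⁻¹ : Fˣ) : F) • (1 : Mat),
    by rw [Matrix.smul_mul, Matrix.mul_smul, Matrix.one_mul, smul_smul, ← Units.val_mul,
      mul_inv_cancel, Units.val_one, one_smul],
    by rw [Matrix.smul_mul, Matrix.mul_smul, Matrix.one_mul, smul_smul, ← Units.val_mul,
      inv_mul_cancel, Units.val_one, one_smul]⟩,
    ⟨c * c, fun u v => by
      show f (((c : F) • (1 : Mat)) *ᵥ u) (((c : F) • (1 : Mat)) *ᵥ v) = _
      rw [Matrix.smul_mulVec, Matrix.smul_mulVec, Matrix.one_mulVec, Matrix.one_mulVec,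
        sf_smul_left, sf_smul_right, Units.val_mul, mul_assoc]⟩⟩

theorem scalG_val (c : Fˣ) : ((scalG m c).1 : Mat) = (c : F) • (1 : Mat) := rfl

theorem card_conjGSp_ker [NeZero m] (hm : 2 ≤ m) :
    Nat.card (conjGSp (F := F) m).ker = Nat.card Fˣ := by
  symm
  apply Nat.card_congr
  refine Equiv.ofBijective
    (fun c => ⟨scalG m c, conjGSp_of_scalar m (scalG m c) (scalG_val m c)⟩) ⟨?_, ?_⟩
  · intro c d h
    have h1 : ((scalG m c).1 : Mat) = ((scalG m d).1 : Mat) := by
      have := congrArg Subtype.val h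
      simp only at this
      rw [this]
    rw [scalG_val, scalG_val] at h1
    have h2 := congrFun (congrFun h1 (Sum.inl (0 : Fin m))) (Sum.inl 0)
    simp only [Matrix.smul_apply, Matrix.one_apply_eq, smul_eq_mul, mul_one] at h2
    exact Units.ext h2
  · rintro ⟨g, hg⟩
    obtain ⟨a, ha⟩ := scalar_of_conjGSp_eq_one m hm g hg
    have ha0 : a ≠ 0 := by
      rintro rfl
      rw [zero_smul] at ha
      have hu : IsUnit (g.1 : Mat) := g.1.isUnit
      have : Nontrivial Mat := by
        have : Nonempty (Fin m ⊕ Fin m) := ⟨Sum.inl 0⟩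
        infer_instance
      exact hu.ne_zero ha
    refine ⟨Units.mk0 a ha0, ?_⟩
    apply Subtype.ext
    apply Subtype.ext
    apply Units.ext
    rw [ha]
    rfl

theorem card_conjGSp_range [Finite F] [NeZero m] (hm : 2 ≤ m) :
    Nat.card (conjGSp (F := F) m).range = Nat.card G := by
  have h1 := Subgroup.card_mul_index (conjGSp (F := F) m).ker
  rw [Subgroup.index_ker, card_conjGSp_ker m hm, card_GSp, mul_comm] at h1
  have hpos : 0 < Nat.card Fˣ := Nat.card_pos
  exact Nat.eq_of_mul_eq_mul_right hpos h1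

/-- a standard field automorphism that is inner-diagonal is trivial -/
theorem fieldAutSp_mem_range [NeZero m] (hm : 2 ≤ m) {σ : RingAut F}
    (h : fieldAutSp m σ ∈ (conjGSp (F := F) m).range) : σ = 1 := by
  obtain ⟨g, hg⟩ := h
  obtain ⟨μ, hμ⟩ := g.2
  let e : V := Pi.single (Sum.inl (0 : Fin m)) 1
  have he : (fun i => σ (e i)) = e := by
    ext i
    show σ ((Pi.single (Sum.inl (0 : Fin m)) 1 : V) i) = (Pi.single (Sum.inl (0 : Fin m)) 1 : V) i
    rw [Pi.single_apply]
    split_ifs
    · exact map_one σ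
    · exact map_zero σ
  have he0 : e ≠ 0 := by
    intro h
    have := congrFun h (Sum.inl 0)
    simp [e] at this
  have key : ∀ c : F, prj m (tv m ((g.1 : Mat) *ᵥ e) (c * (μ : F)⁻¹)) = prj m (tv m e (σ c)) := by
    intro c
    have h1 : conjGSp m g (prj m (tv m e c)) = fieldAutSp m σ (prj m (tv m e c)) := by rw [hg]
    rw [conjGSp_prj, fieldAutSp_prj, cG_tv m g μ.ne_zero hμ, fA_tv, he] at h1
    exact h1
  obtain ⟨a, ha⟩ := par_of_prj_tv_eq m hm (gsp_act_ne_zero m g.1 he0)
    (mul_ne_zero one_ne_zero (inv_ne_zero μ.ne_zero)) (key 1).symm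
  have key2 : ∀ c : F, a * a * (c * (μ : F)⁻¹) = σ c := by
    intro c
    have h1 := key c
    rw [ha, tv_smul] at h1
    exact prj_tv_inj m hm he0 h1
  have h1 := key2 1
  rw [map_one, one_mul] at h1
  apply RingEquiv.ext
  intro c
  rw [← key2 c]
  show a * a * (c * (μ : F)⁻¹) = c
  calc a * a * (c * (μ : F)⁻¹) = c * (a * a * (μ : F)⁻¹) := by ring
    _ = c := by rw [h1, mul_one]

/-- the product map from inner-diagonal and field automorphisms -/
def gamMap : ↥(conjGSp (F := F) m).range × RingAut F → MulAut (Cfsg.PSp m F) :=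
  fun p => p.1.1 * fieldAutSp m p.2

theorem gamMap_injective [NeZero m] (hm : 2 ≤ m) : Function.Injective (gamMap (F := F) m) := by
  rintro ⟨⟨d, hd⟩, σ⟩ ⟨⟨d', hd'⟩, σ'⟩ h
  simp only [gamMap] at h
  have h1 : fieldAutSp m (σ * σ'⁻¹) = d⁻¹ * d' := by
    rw [map_mul, map_inv, eq_inv_mul_iff_mul_eq, ← mul_assoc, h, mul_assoc, mul_inv_cancel,
      mul_one]
  have h2 : σ * σ'⁻¹ = 1 := by
    apply fieldAutSp_mem_range m hm
    rw [h1]
    exact Subgroup.mul_mem _ (Subgroup.inv_mem _ hd) hd'
  have h3 : σ = σ' := mul_inv_eq_one.mp h2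
  subst h3
  have h4 : d = d' := mul_right_cancel h
  subst h4
  rfl

end

end Cfsg.Agent.Lib.Helper43.AutPSp
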