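import Cfsg.Agent.Lib.Helper43.Sp4Out
import Cfsg.Agent.Lib.Helper43.AutPSpOdd2

set_option autoImplicit false
set_option linter.unusedSimpArgs false
set_option linter.unusedVariables false
set_option linter.unusedSectionVars false

/-! The order of `Aut(PSp_2m(q))` and the outer automorphism group of `PSp_4(2^f)`. -/

namespace Cfsg.Agent.Lib.Helper43.AutPSp

open Matrix Cfsg.Agent.Lib.Helper18 Cfsg.Agent.Lib.Helper11.SpPerfect

section
variable {F : Type*} [Field F] [Fintype F]

/-- the ring automorphisms of a finite field of characteristic `p` are its `ZMod p`-algebra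
automorphisms -/
noncomputable def ringAutEquivGal' (p : ℕ) [Fact p.Prime] [CharP F p] :
    letI := ZMod.algebra F p
    RingAut F ≃* (F ≃ₐ[ZMod p] F) :=
  letI := ZMod.algebra F p
  { toFun := fun τ => AlgEquiv.ofRingEquiv (f := τ) (fun r => by
      have : ((τ : F →+* F).comp (algebraMap (ZMod p) F)) = algebraMap (ZMod p) F :=
        Subsingleton.elim _ _
      exact DFunLike.congr_fun this r)
    invFun := fun σ => σ.toRingEquiv
    left_inv := fun τ => by ext; rfl
    right_inv := fun σ => by ext; rfl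
    map_mul' := fun τ₁ τ₂ => by ext; rfl }

theorem card_ringAut' (p : ℕ) [Fact p.Prime] [CharP F p] {f : ℕ} (hF : Fintype.card F = p ^ f) :
    Nat.card (RingAut F) = f := by
  let _ := ZMod.algebra F p
  rw [Nat.card_congr (ringAutEquivGal' (F := F) p).toEquiv, IsGalois.card_aut_eq_finrank]
  have h1 : Fintype.card F = Fintype.card (ZMod p) ^ Module.finrank (ZMod p) F :=
    Module.card_eq_pow_finrank
  rw [ZMod.card, hF] at h1
  exact (Nat.pow_right_injective (Fact.out : p.Prime).two_le h1).symm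

theorem card_sp_eq (m : ℕ) (hm : 1 ≤ m) :
    Nat.card (Matrix.symplecticGroup (Fin m) F)
      = Nat.gcd 2 (Fintype.card F - 1) * Nat.card (Cfsg.PSp m F) := by
  rw [Subgroup.card_eq_card_quotient_mul_card_subgroup
    (Subgroup.center (Matrix.symplecticGroup (Fin m) F)),
    Cfsg.Agent.Lib.Helper07.card_center_symplectic m hm, mul_comm]

theorem card_aut_of_induced (m : ℕ) [NeZero m] (hm : 2 ≤ m)
    (hall : ∀ β : MulAut (Cfsg.PSp m F), ∃ (g : GL (Fin m ⊕ Fin m) F) (σ : F ≃+* F),
      g ∈ Cfsg.GSp m F ∧ Cfsg.IsInducedBySemilinearPSp g σ β) :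
    Nat.card (MulAut (Cfsg.PSp m F))
      = Nat.card (Matrix.symplecticGroup (Fin m) F) * Nat.card (RingAut F) := by
  rw [← card_conjGSp_range m hm, ← Nat.card_prod]
  symm
  apply Nat.card_congr
  refine Equiv.ofBijective (gamMap m) ⟨gamMap_injective m hm, ?_⟩
  intro β
  obtain ⟨g, σ, hg, hind⟩ := hall β
  refine ⟨⟨⟨conjGSp m ⟨g, hg⟩, ⟨⟨g, hg⟩, rfl⟩⟩, σ⟩, ?_⟩
  exact ((isInduced_iff m hg σ β).mp hind).symm

/-- statement S0814 -/
theorem card_mulAut_psp (p f : ℕ) [Fact p.Prime] (hf : 1 ≤ f) (hF : Fintype.card F = p ^ f)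
    (m : ℕ) (hm : 2 ≤ m) (h22 : m = 2 → 3 ≤ p ^ f) :
    Nat.card (MulAut (Cfsg.PSp m F))
      = (if m = 2 ∧ p = 2 then 2 else 1) * Nat.gcd 2 (p ^ f - 1) * f
        * Nat.card (Cfsg.PSp m F) := by
  have hchar : CharP F p := charP_of_card_eq_prime_pow hF
  have : NeZero m := ⟨by omega⟩
  have hRA : Nat.card (RingAut F) = f := card_ringAut' p hF
  have hSp := card_sp_eq (F := F) m (by omega)
  rw [hF] at hSp
  by_cases hcase : m = 2 ∧ p = 2
  · obtain ⟨rfl, rfl⟩ := hcase
    rw [if_pos ⟨rfl, rfl⟩, card_aut_sp4, hRA, hSp]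
    ring
  · rw [if_neg hcase, one_mul]
    have hall : ∀ β : MulAut (Cfsg.PSp m F), ∃ (g : GL (Fin m ⊕ Fin m) F) (σ : F ≃+* F),
        g ∈ Cfsg.GSp m F ∧ Cfsg.IsInducedBySemilinearPSp g σ β := by
      have hperm : PermRoot m F := by
        by_cases hp : p = 2
        · subst hp
          have hm3 : 3 ≤ m := by
            by_contra hlt
            have h2 : m = 2 := by omega
            exact hcase ⟨h2, rfl⟩
          exact permRoot_even m hm3
        · exact permRoot_odd m p hp
      exact fun β => induced_of_permRoot m hm hperm β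
    rw [card_aut_of_induced m hm hall, hRA, hSp]
    ring

/-- statement S2600 -/
theorem out_psp4 {f : ℕ} (hf : 1 ≤ f) (hF : Fintype.card F = 2 ^ f) :
    IsCyclic (Cfsg.Out (Cfsg.PSp 2 F)) ∧ Nat.card (Cfsg.Out (Cfsg.PSp 2 F)) = 2 * f := by
  have : Fact (Nat.Prime 2) := ⟨Nat.prime_two⟩
  have hchar : CharP F 2 := charP_of_card_eq_prime_pow hF
  have hRA : Nat.card (RingAut F) = f := card_ringAut' 2 hF
  exact ⟨isCyclic_out_sp4, by rw [card_out_sp4, hRA]⟩

end

end Cfsg.Agent.Lib.Helper43.AutPSp
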