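import Cfsg.Agent.Lib.Helper43.PSpLang2
import Cfsg.Agent.Lib.Helper43.AutPSpOdd2

set_option autoImplicit false
set_option linter.unusedSimpArgs false
set_option linter.unusedVariables false
set_option linter.unusedSectionVars false

/-! Field automorphisms of `PSp_2m(q)` of prime order: the elements of prime order in the coset
of `Inndiag` are conjugate under `Inndiag`. -/

namespace Cfsg.Agent.Lib.Helper43.AutPSp

open Matrix Cfsg.Agent.Lib.Helper07 Cfsg.Agent.Lib.Helper18 Cfsg.Agent.Lib.Helper11.SpPerfect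

section
variable {F : Type*} [Field F] (m : ℕ)

local notation "V" => (Fin m ⊕ Fin m → F)
local notation "f" => Cfsg.sympForm m F
local notation "G" => Matrix.symplecticGroup (Fin m) F
local notation "Mat" => Matrix (Fin m ⊕ Fin m) (Fin m ⊕ Fin m) F
local notation "GLm" => GL (Fin m ⊕ Fin m) F
local notation "JJ" => Matrix.J (Fin m) F

/-- twisted partial products in `GSp` -/
def twG (σ : RingAut F) (g : ↥(Cfsg.GSp m F)) : ℕ → ↥(Cfsg.GSp m F)
  | 0 => 1
  | (k + 1) => g * mapG m σ (twG σ g k)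

theorem twG_val (σ : RingAut F) (g : ↥(Cfsg.GSp m F)) (k : ℕ) :
    ((twG m σ g k).1 : Mat) = twM σ (g.1 : Mat) k := by
  induction k with
  | zero => rfl
  | succ k ih =>
    show ((g.1 * (mapG m σ (twG m σ g k)).1 : GLm) : Mat) = _
    rw [Units.val_mul, mapG_val, ih]
    rfl

theorem conj_field_pow_sp (σ : RingAut F) (g : ↥(Cfsg.GSp m F)) (k : ℕ) :
    (conjGSp m g * fieldAutSp m σ) ^ k = conjGSp m (twG m σ g k) * fieldAutSp m (σ ^ k) := by
  induction k with
  | zero =>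
    rw [pow_zero, pow_zero, map_one, twG, map_one, mul_one]
  | succ k ih =>
    rw [pow_succ', ih, mul_assoc (conjGSp m g), ← mul_assoc (fieldAutSp m σ),
      fieldAutSp_mul_conjGSp, mul_assoc, ← map_mul, ← pow_succ', ← mul_assoc, ← map_mul]
    rfl

theorem field_coset_conj_sp [Finite F] [NeZero m] (hm : 2 ≤ m) (σ : RingAut F) {r : ℕ}
    (hr0 : 0 < r) (hx : orderOf (fieldAutSp m σ) = r) (g : ↥(Cfsg.GSp m F))
    (hgx : orderOf (conjGSp m g * fieldAutSp m σ) = r) :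
    ∃ h : ↥(Cfsg.GSp m F),
      conjGSp m g * fieldAutSp m σ = conjGSp m h * fieldAutSp m σ * (conjGSp m h)⁻¹ := by
  classical
  have hm0 : 0 < m := by omega
  have hne : Nonempty (Fin m ⊕ Fin m) := ⟨Sum.inl ⟨0, hm0⟩⟩
  have hσr : orderOf σ = r := by
    rw [← hx]
    exact (orderOf_injective (fieldAutSp m) (fieldAutSp_injective m hm) σ).symm
  have hσ : σ ^ r = 1 := by rw [← hσr]; exact pow_orderOf_eq_one σ
  have hpow : (conjGSp m g * fieldAutSp m σ) ^ r = 1 := by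
    rw [← hgx]; exact pow_orderOf_eq_one _
  rw [conj_field_pow_sp, hσ, map_one, mul_one] at hpow
  obtain ⟨l, hl⟩ := scalar_of_conjGSp_eq_one m hm _ hpow
  have hl0 : l ≠ 0 := by
    rintro rfl
    rw [zero_smul] at hl
    have hu : IsUnit ((twG m σ g r).1 : Mat) := (twG m σ g r).1.isUnit
    exact hu.ne_zero hl
  rw [twG_val] at hl
  obtain ⟨τ, hτ0, hτ⟩ := gsp_congr m g.2
  obtain ⟨c, y, h, hc0, hy0, hhu, hhJ, hh⟩ :=
    lang_gsp m σ hσr hr0 (g.1 : Mat) g.1.isUnit hτ0 hτ hl0 hl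
  let hG : ↥(Cfsg.GSp m F) := ⟨hhu.unit, mem_gsp_of_congr m _ hy0 hhJ⟩
  have hGval : (hG.1 : Mat) = h := rfl
  have key : conjGSp m g * conjGSp m (mapG m σ hG) = conjGSp m hG := by
    rw [← map_mul]
    apply conjGSp_eq_of_smul m _ _ (a := c⁻¹)
    show ((g.1 * (mapG m σ hG).1 : GLm) : Mat) = c⁻¹ • (hG.1 : Mat)
    rw [Units.val_mul, mapG_val, hGval]
    nth_rewrite 2 [← hh]
    rw [Matrix.smul_mul, smul_smul, inv_mul_cancel₀ hc0, one_smul]
  refine ⟨hG, ?_⟩
  have e1 : fieldAutSp m σ * (conjGSp m hG)⁻¹ = (conjGSp m (mapG m σ hG))⁻¹ * fieldAutSp m σ := by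
    rw [← map_inv, fieldAutSp_mul_conjGSp, map_inv, map_inv]
  rw [mul_assoc, e1, ← mul_assoc]
  congr 1
  rw [eq_mul_inv_iff_mul_eq]
  exact key

/-- in odd characteristic `Inndiag` is normal since all automorphisms are semilinear -/
theorem conjGSp_range_normal_odd [Finite F] [NeZero m] (hm : 2 ≤ m) (p : ℕ) [Fact p.Prime]
    [CharP F p] (hp : p ≠ 2) : (conjGSp (F := F) m).range.Normal := by
  constructor
  rintro _ ⟨h, rfl⟩ α
  obtain ⟨g, τ, hg, hα⟩ := induced_of_permRoot m hm (permRoot_odd m p hp) α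
  rw [(isInduced_iff m hg τ α).mp hα]
  have e2 : fieldAutSp m τ * conjGSp m h * (fieldAutSp m τ)⁻¹ = conjGSp m (mapG m τ h) := by
    rw [fieldAutSp_mul_conjGSp, mul_assoc, mul_inv_cancel, mul_one]
  have e : conjGSp m ⟨g, hg⟩ * fieldAutSp m τ * conjGSp m h *
      (conjGSp m ⟨g, hg⟩ * fieldAutSp m τ)⁻¹
      = conjGSp m (⟨g, hg⟩ * mapG m τ h * (⟨g, hg⟩ : ↥(Cfsg.GSp m F))⁻¹) := by
    rw [map_mul, map_mul, map_inv, ← e2]
    group
  rw [e]
  exact ⟨_, rfl⟩

/-- the symplectic group inside the conformal symplectic group -/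
def spToGSp (s : G) : ↥(Cfsg.GSp m F) :=
  ⟨⟨s.1, (s⁻¹).1, by rw [← val_mul, mul_inv_cancel]; rfl, by rw [← val_mul, inv_mul_cancel]; rfl⟩,
    ⟨1, fun u v => by
      show f (s.1 *ᵥ u) (s.1 *ᵥ v) = (1 : F) * f u v
      rw [act_sf, one_mul]⟩⟩

theorem spToGSp_val (s : G) : ((spToGSp m s).1 : Mat) = s.1 := rfl

theorem spToGSp_inv_val (s : G) : (((spToGSp m s).1⁻¹ : GLm) : Mat) = (s⁻¹).1 := rfl

theorem conjGSp_spToGSp (s : G) : conjGSp m (spToGSp m s) = MulAut.conj (prj m s) := by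
  ext z
  obtain ⟨t, rfl⟩ := prj_surjective m z
  rw [conjGSp_prj, MulAut.conj_apply, ← map_inv, ← map_mul, ← map_mul]
  congr 1

/-- in characteristic two every inner-diagonal automorphism is inner -/
theorem conjGSp_eq_conj_even [Finite F] [CharP F 2] (g : ↥(Cfsg.GSp m F)) :
    ∃ s : G, conjGSp m g = MulAut.conj (prj m s) := by
  obtain ⟨τ, hτ0, hτ⟩ := gsp_congr m g.2
  obtain ⟨d, hd⟩ := isSquare_of_charTwo' τ
  have hd0 : d ≠ 0 := by
    rintro rfl
    rw [mul_zero] at hd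
    exact hτ0 hd
  have hs : d⁻¹ • (g.1 : Mat) ∈ Matrix.symplecticGroup (Fin m) F := by
    apply mem_symp_of_preserving
    intro x y
    rw [sf_mulVec_mulVec, Matrix.transpose_smul, Matrix.smul_mul, Matrix.smul_mul,
      Matrix.mul_smul, hτ, smul_smul, smul_smul, hd]
    have : d⁻¹ * d⁻¹ * (d * d) = 1 := by field_simp
    rw [this, one_smul]
    rfl
  refine ⟨⟨_, hs⟩, ?_⟩
  rw [← conjGSp_spToGSp]
  apply conjGSp_eq_of_smul m _ _ (a := d)
  rw [spToGSp_val, smul_smul, mul_inv_cancel₀ hd0, one_smul]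

theorem conjGSp_range_normal_even [Finite F] [CharP F 2] :
    (conjGSp (F := F) m).range.Normal := by
  constructor
  rintro _ ⟨h, rfl⟩ α
  obtain ⟨s, hs⟩ := conjGSp_eq_conj_even m h
  obtain ⟨s', hs'⟩ := prj_surjective m (α (prj m s))
  refine ⟨spToGSp m s', ?_⟩
  rw [conjGSp_spToGSp, hs, hs']
  ext z
  simp [MulAut.conj_apply]

end

section assembly
variable {F : Type*} [Field F] [Fintype F]

theorem orderOf_conj_eq' {X : Type*} [Group X] (a x : X) : orderOf (a * x * a⁻¹) = orderOf x := by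
  have h : SemiconjBy a x (a * x * a⁻¹) := by
    unfold SemiconjBy
    group
  exact (SemiconjBy.orderOf_eq a h).symm

theorem conjGSp_range_normal {m : ℕ} [NeZero m] (hm : 2 ≤ m) :
    (conjGSp (F := F) m).range.Normal := by
  obtain ⟨p, hp⟩ := CharP.exists F
  have hpp : p.Prime := CharP.char_is_prime F p
  have : Fact p.Prime := ⟨hpp⟩
  by_cases h2 : p = 2
  · subst h2
    exact conjGSp_range_normal_even m
  · exact conjGSp_range_normal_odd m hm p h2

/-- statement S2713 -/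
theorem psp_coset_conj {m : ℕ} (hm : 2 ≤ m) (x δ : MulAut (Cfsg.PSp m F))
    (hx : Cfsg.IsFieldAutClassPSp x) {r : ℕ} (hr : r.Prime) (hxr : orderOf x = r)
    (hδ : δ ∈ Cfsg.inndiagPSp m F) :
    orderOf (δ * x) = r ↔ Cfsg.IsConjUnder (Cfsg.inndiagPSp m F) x (δ * x) := by
  have : NeZero m := ⟨by omega⟩
  rw [inndiagPSp_eq_range] at hδ ⊢
  have hDn : (conjGSp (F := F) m).range.Normal := conjGSp_range_normal hm
  constructor
  · intro hord
    obtain ⟨α, σ, hσ, hstd⟩ := hx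
    have e : α * x * α⁻¹ = fieldAutSp m σ := (isStdFieldAut_iff m σ _).mp hstd
    have hox : orderOf (fieldAutSp m σ) = r := by rw [← e, orderOf_conj_eq', hxr]
    obtain ⟨g, hg⟩ : α * δ * α⁻¹ ∈ (conjGSp (F := F) m).range := hDn.conj_mem δ hδ α
    have hord' : orderOf (conjGSp m g * fieldAutSp m σ) = r := by
      have : conjGSp m g * fieldAutSp m σ = α * (δ * x) * α⁻¹ := by
        rw [hg, ← e]
        group
      rw [this, orderOf_conj_eq', hord]
    obtain ⟨h, hh⟩ := field_coset_conj_sp m hm σ hr.pos hox g hord'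
    refine ⟨α⁻¹ * conjGSp m h * α, ?_, ?_⟩
    · have := hDn.conj_mem (conjGSp m h) ⟨h, rfl⟩ α⁻¹
      rwa [inv_inv] at this
    · calc δ * x = α⁻¹ * ((α * δ * α⁻¹) * (α * x * α⁻¹)) * α := by group
        _ = α⁻¹ * (conjGSp m h * (α * x * α⁻¹) * (conjGSp m h)⁻¹) * α := by
            rw [← hg, e, hh]
        _ = (α⁻¹ * conjGSp m h * α) * x * (α⁻¹ * conjGSp m h * α)⁻¹ := by group
  · rintro ⟨h, -, hh⟩
    rw [hh, orderOf_conj_eq', hxr]

end assembly

end Cfsg.Agent.Lib.Helper43.AutPSp
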