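import Cfsg.Agent.Lib.Helper07.H90B
import Cfsg.Agent.Lib.Helper20.SympEmbed

set_option autoImplicit false
set_option linter.unusedSimpArgs false
set_option linter.unusedVariables false
set_option linter.unusedSectionVars false

/-! Hilbert 90 for matrices over a general index type, and the matrix form of Darboux's theorem. -/

namespace Cfsg.Agent.Lib.Helper43.AutPSp

open Matrix Cfsg.Agent.Lib.Helper07

section tw
variable {F : Type*} [Field F] {ι : Type*} [Fintype ι] [DecidableEq ι]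

/-- twisted partial products `g σ(g) ⋯ σ^{k-1}(g)` for a general index type -/
def twM (σ : RingAut F) (g : Matrix ι ι F) : ℕ → Matrix ι ι F
  | 0 => 1
  | (k + 1) => g * (twM σ g k).map σ

theorem twM_zero (σ : RingAut F) (g : Matrix ι ι F) : twM σ g 0 = 1 := rfl

theorem twM_succ (σ : RingAut F) (g : Matrix ι ι F) (k : ℕ) :
    twM σ g (k + 1) = g * (twM σ g k).map σ := rfl

theorem twM_submatrix {n : ℕ} (e : Fin n ≃ ι) (σ : RingAut F) (g : Matrix ι ι F) (k : ℕ) :
    twProd σ (g.submatrix e e) k = (twM σ g k).submatrix e e := by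
  induction k with
  | zero => rw [twProd_zero, twM_zero, Matrix.submatrix_one_equiv]
  | succ k ih =>
    rw [twProd_succ, ih, twM_succ, ← Matrix.submatrix_map, Matrix.submatrix_mul_equiv]

theorem map_one_gen (σ : RingAut F) : (1 : Matrix ι ι F).map σ = 1 := by
  ext i j
  rw [Matrix.map_apply, Matrix.one_apply]
  split_ifs <;> simp

theorem map_smul_gen (σ : RingAut F) (c : F) (M : Matrix ι ι F) :
    (c • M).map σ = σ c • M.map σ := by
  ext i j
  simp [Matrix.map_apply]

theorem map_mul_gen (σ : RingAut F) (A B : Matrix ι ι F) :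
    (A * B).map σ = A.map σ * B.map σ :=
  Matrix.map_mul (f := (σ : F →+* F))

theorem map_map_pow_gen (σ : RingAut F) (k : ℕ) (M : Matrix ι ι F) :
    (M.map (σ ^ k)).map σ = M.map (σ ^ (k + 1)) := by
  ext i j
  simp only [Matrix.map_apply]
  rw [ringAut_pow_succ_apply]

theorem twM_one (σ : RingAut F) (g : Matrix ι ι F) : twM σ g 1 = g := by
  rw [twM_succ, twM_zero, map_one_gen, mul_one]

theorem twM_succ' (σ : RingAut F) (g : Matrix ι ι F) (k : ℕ) :
    twM σ g (k + 1) = twM σ g k * g.map (σ ^ k) := by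
  induction k with
  | zero =>
    rw [twM_one, twM_zero, one_mul, pow_zero]
    ext i j
    rfl
  | succ k ih =>
    rw [twM_succ, ih, map_mul_gen, map_map_pow_gen, ← mul_assoc, ← twM_succ, ih]

theorem twM_smul (σ : RingAut F) (c : F) (g : Matrix ι ι F) (k : ℕ) :
    twM σ (c • g) k = nrmF σ k c • twM σ g k := by
  induction k with
  | zero => simp [nrmF, twM_zero]
  | succ k ih =>
    rw [twM_succ, ih, nrmF_succ, twM_succ, map_smul_gen, Matrix.smul_mul, Matrix.mul_smul,
      smul_smul]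

/-- Hilbert 90 for matrices over a general index type -/
theorem h90_gen (σ : RingAut F) {r : ℕ} (hr : orderOf σ = r) (hr0 : 0 < r)
    (g : Matrix ι ι F) (hg : twM σ g r = 1) :
    ∃ Y : Matrix ι ι F, IsUnit Y ∧ g * Y.map σ = Y := by
  let e : Fin (Fintype.card ι) ≃ ι := (Fintype.equivFin ι).symm
  have h1 : twProd σ (g.submatrix e e) r = 1 := by
    rw [twM_submatrix, hg, Matrix.submatrix_one_equiv]
  obtain ⟨Y, hY, hYe⟩ := h90_matrix σ hr hr0 _ h1
  refine ⟨Y.submatrix e.symm e.symm, (Matrix.isUnit_submatrix_equiv e.symm e.symm).mpr hY, ?_⟩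
  have hg' : g = (g.submatrix e e).submatrix e.symm e.symm := by
    ext i j
    simp
  rw [← Matrix.submatrix_map]
  nth_rewrite 1 [hg']
  rw [Matrix.submatrix_mul_equiv, hYe]

/-- projective Hilbert 90 over a general index type -/
theorem h90_proj_gen [Finite F] [Nonempty ι] (σ : RingAut F) {r : ℕ} (hr : orderOf σ = r)
    (hr0 : 0 < r) (g : Matrix ι ι F) (hgu : IsUnit g) {l : F} (hl : l ≠ 0)
    (hg : twM σ g r = l • 1) :
    ∃ (c : F) (h : Matrix ι ι F), c ≠ 0 ∧ IsUnit h ∧ (c • g) * h.map σ = h := by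
  have hσ : σ ^ r = 1 := by rw [← hr]; exact pow_orderOf_eq_one σ
  have h1 : twM σ g (r + 1) = σ l • g := by
    rw [twM_succ, hg, map_smul_gen, map_one_gen, Matrix.mul_smul, mul_one]
  have h2 : twM σ g (r + 1) = l • g := by
    rw [twM_succ', hg, hσ, Matrix.smul_mul, one_mul]
    congr 1
  have hfix : σ l = l := by
    have h3 : (σ l - l) • g = 0 := by rw [sub_smul, ← h1, ← h2, sub_self]
    have hg0 : g ≠ 0 := hgu.ne_zero
    exact sub_eq_zero.mp ((smul_eq_zero.mp h3).resolve_right hg0)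
  have hfix' : σ l⁻¹ = l⁻¹ := by rw [map_inv₀, hfix]
  obtain ⟨c, hc0, hc⟩ := nrmF_surjective σ hr hr0 l⁻¹ (inv_ne_zero hl) hfix'
  have hg' : twM σ (c • g) r = 1 := by
    rw [twM_smul, hc, hg, smul_smul, inv_mul_cancel₀ hl, one_smul]
  obtain ⟨Y, hY, hYeq⟩ := h90_gen σ hr hr0 _ hg'
  exact ⟨c, Y, hc0, hY, hYeq⟩

end tw

section darboux

/-- Darboux's theorem in matrix form: a nonsingular alternating matrix is congruent to `J` -/
theorem exists_congr_J {E : Type*} [Field E] (m : ℕ)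
    (K : Matrix (Fin m ⊕ Fin m) (Fin m ⊕ Fin m) E)
    (halt : ∀ x : Fin m ⊕ Fin m → E, x ⬝ᵥ (K *ᵥ x) = 0) (hdet : K.det ≠ 0) :
    ∃ k : Matrix (Fin m ⊕ Fin m) (Fin m ⊕ Fin m) E, kᵀ * K * k = Matrix.J (Fin m) E := by
  let B : LinearMap.BilinForm E (Fin m ⊕ Fin m → E) := Matrix.toBilin' K
  have hA : B.IsAlt := fun x => by
    show Matrix.toBilin' K x x = 0
    rw [Matrix.toBilin'_apply']
    exact halt x
  have hB : B.Nondegenerate := LinearMap.BilinForm.nondegenerate_toBilin'_of_det_ne_zero' K hdet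
  have hV : Module.finrank E (Fin m ⊕ Fin m → E) = 2 * m := by
    simp [two_mul]
  obtain ⟨b, hb⟩ := Cfsg.Agent.Lib.Helper20.exists_symplectic_basis B hA hB m hV
  refine ⟨(Pi.basisFun E (Fin m ⊕ Fin m)).toMatrix b, ?_⟩
  have := LinearMap.BilinForm.toMatrix_mul_basis_toMatrix (Pi.basisFun E (Fin m ⊕ Fin m)) b B
  rw [hb, LinearMap.BilinForm.toMatrix_basisFun] at this
  rw [this.symm]
  congr 2
  exact (LinearMap.BilinForm.toMatrix'_toBilin' K).symm

end darboux

end Cfsg.Agent.Lib.Helper43.AutPSp
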