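import Cfsg.Agent.Lib.Helper43.PSpAutKer
import Cfsg.Agent.Lib.Helper43.PSpLang1

set_option autoImplicit false
set_option linter.unusedSimpArgs false
set_option linter.unusedVariables false
set_option linter.unusedSectionVars false

/-! Lang's theorem for the conformal symplectic group and a cyclic group of field automorphisms:
Hilbert 90 followed by a descent of the alternating form to the fixed field. -/

namespace Cfsg.Agent.Lib.Helper43.AutPSp

open Matrix Cfsg.Agent.Lib.Helper07 Cfsg.Agent.Lib.Helper18 Cfsg.Agent.Lib.Helper11.SpPerfect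

section
variable {F : Type*} [Field F]

/-- the fixed field of a field automorphism -/
def fixF (σ : RingAut F) : Subfield F where
  carrier := {x | σ x = x}
  mul_mem' := by
    intro a b ha hb
    simp only [Set.mem_ofPred_eq] at *
    rw [map_mul, ha, hb]
  one_mem' := map_one σ
  add_mem' := by
    intro a b ha hb
    simp only [Set.mem_ofPred_eq] at *
    rw [map_add, ha, hb]
  zero_mem' := map_zero σ
  neg_mem' := by
    intro a ha
    simp only [Set.mem_ofPred_eq] at *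
    rw [map_neg, ha]
  inv_mem' := by
    intro a ha
    simp only [Set.mem_ofPred_eq] at *
    rw [map_inv₀, ha]

theorem mem_fixF (σ : RingAut F) (x : F) : x ∈ fixF σ ↔ σ x = x := Iff.rfl

theorem J_map_hom {R S : Type*} [CommRing R] [CommRing S] (φ : R →+* S) (m : ℕ) :
    (Matrix.J (Fin m) R).map φ = Matrix.J (Fin m) S := by
  ext i j
  rcases i with i | i <;> rcases j with j | j <;> by_cases h : i = j <;>
    simp [Matrix.J, Matrix.fromBlocks, Matrix.one_apply, h]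

end

section
variable {F : Type*} [Field F] (m : ℕ)

local notation "V" => (Fin m ⊕ Fin m → F)
local notation "f" => Cfsg.sympForm m F
local notation "G" => Matrix.symplecticGroup (Fin m) F
local notation "Mat" => Matrix (Fin m ⊕ Fin m) (Fin m ⊕ Fin m) F
local notation "GLm" => GL (Fin m ⊕ Fin m) F
local notation "JJ" => Matrix.J (Fin m) F

theorem sf_mulVec_mulVec (A : Mat) (u v : V) :
    f (A *ᵥ u) (A *ᵥ v) = u ⬝ᵥ ((Aᵀ * JJ * A) *ᵥ v) := by
  unfold Cfsg.sympForm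
  rw [← Matrix.mulVec_mulVec, ← Matrix.mulVec_mulVec, Matrix.dotProduct_mulVec u Aᵀ,
    Matrix.vecMul_transpose]

theorem mat_eq_of_dot {A B : Mat} (h : ∀ u v : V, u ⬝ᵥ (A *ᵥ v) = u ⬝ᵥ (B *ᵥ v)) : A = B := by
  ext i j
  have := h (Pi.single i 1) (Pi.single j 1)
  simpa using this

/-- the matrix form of membership of `GSp` -/
theorem gsp_congr {g : GLm} (hg : g ∈ Cfsg.GSp m F) :
    ∃ τ : F, τ ≠ 0 ∧ (g : Mat)ᵀ * JJ * (g : Mat) = τ • JJ := by
  obtain ⟨τ, hτ⟩ := hg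
  refine ⟨τ, τ.ne_zero, ?_⟩
  apply mat_eq_of_dot m
  intro u v
  rw [← sf_mulVec_mulVec, hτ, Matrix.smul_mulVec, dotProduct_smul, smul_eq_mul]
  rfl

theorem mem_gsp_of_congr (g : GLm) {τ : F} (hτ0 : τ ≠ 0)
    (hτ : (g : Mat)ᵀ * JJ * (g : Mat) = τ • JJ) : g ∈ Cfsg.GSp m F := by
  refine ⟨Units.mk0 τ hτ0, fun u v => ?_⟩
  rw [sf_mulVec_mulVec, hτ, Matrix.smul_mulVec, dotProduct_smul, smul_eq_mul]
  rfl

theorem isUnit_J : IsUnit JJ :=
  (Matrix.isUnit_iff_isUnit_det _).mpr (Matrix.isUnit_det_J (Fin m) F)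

theorem isUnit_congr_J {A : Mat} (hA : IsUnit A) : IsUnit (Aᵀ * JJ * A) := by
  have hAt : IsUnit Aᵀ := by
    rw [Matrix.isUnit_iff_isUnit_det, Matrix.det_transpose, ← Matrix.isUnit_iff_isUnit_det]
    exact hA
  exact (hAt.mul (isUnit_J m)).mul hA

/-- a nonzero matrix with `K = μ σ(K)` has `N(μ) = 1` -/
theorem norm_eq_one_of_twist (σ : RingAut F) {r : ℕ} (hσ : σ ^ r = 1) {K : Mat} (hK0 : K ≠ 0)
    {μ : F} (hK : K = μ • K.map σ) : nrmF σ r μ = 1 := by
  have key : ∀ k : ℕ, K = nrmF σ k μ • K.map (σ ^ k) := by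
    intro k
    induction k with
    | zero =>
      have : nrmF σ 0 μ = 1 := by simp [nrmF]
      rw [this, one_smul, pow_zero]
      ext i j
      rfl
    | succ k ih =>
      calc K = μ • K.map σ := hK
        _ = μ • (nrmF σ k μ • K.map (σ ^ k)).map σ := by rw [← ih]
        _ = nrmF σ (k + 1) μ • K.map (σ ^ (k + 1)) := by
          rw [map_smul_gen, map_map_pow_gen, smul_smul, nrmF_succ]
  have h1 := key r
  rw [hσ] at h1
  have h2 : K.map (1 : RingAut F) = K := by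
    ext i j
    rfl
  rw [h2] at h1
  have h3 : (nrmF σ r μ - 1) • K = 0 := by
    rw [sub_smul, one_smul, ← h1, sub_self]
  exact sub_eq_zero.mp ((smul_eq_zero.mp h3).resolve_right hK0)

/-- Lang's theorem for `GSp` and a cyclic group of field automorphisms, projectively -/
theorem lang_gsp [Finite F] [NeZero m] (σ : RingAut F) {r : ℕ} (hr : orderOf σ = r)
    (hr0 : 0 < r) (g : Mat) (hgu : IsUnit g) {τ : F} (hτ0 : τ ≠ 0)
    (hτ : gᵀ * JJ * g = τ • JJ) {l : F} (hl : l ≠ 0) (hg : twM σ g r = l • 1) :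
    ∃ (c y : F) (h : Mat), c ≠ 0 ∧ y ≠ 0 ∧ IsUnit h ∧ hᵀ * JJ * h = y • JJ ∧
      (c • g) * h.map σ = h := by
  classical
  have hm0 : 0 < m := Nat.pos_of_ne_zero (NeZero.ne m)
  have : Nonempty (Fin m ⊕ Fin m) := ⟨Sum.inl ⟨0, hm0⟩⟩
  have hσ : σ ^ r = 1 := by rw [← hr]; exact pow_orderOf_eq_one σ
  obtain ⟨c, h₀, hc0, hh₀u, hh₀⟩ := h90_proj_gen σ hr hr0 g hgu hl hg
  set μ : F := c * c * τ with hμ
  have hμ0 : μ ≠ 0 := mul_ne_zero (mul_ne_zero hc0 hc0) hτ0
  have hg' : (c • g)ᵀ * JJ * (c • g) = μ • JJ := by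
    rw [Matrix.transpose_smul, Matrix.smul_mul, Matrix.smul_mul, Matrix.mul_smul, hτ, smul_smul,
      smul_smul]
  set K : Mat := h₀ᵀ * JJ * h₀ with hKdef
  have hKu : IsUnit K := isUnit_congr_J m hh₀u
  have hK0 : K ≠ 0 := hKu.ne_zero
  have hKmap : K.map σ = (h₀.map σ)ᵀ * JJ * h₀.map σ := by
    rw [hKdef, map_mul_gen, map_mul_gen, J_map, Matrix.transpose_map]
  have hK : K = μ • K.map σ := by
    calc K = ((c • g) * h₀.map σ)ᵀ * JJ * ((c • g) * h₀.map σ) := by rw [hh₀]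
      _ = (h₀.map σ)ᵀ * ((c • g)ᵀ * JJ * (c • g)) * h₀.map σ := by
        rw [Matrix.transpose_mul]; simp only [Matrix.mul_assoc]
      _ = μ • ((h₀.map σ)ᵀ * JJ * h₀.map σ) := by
        rw [hg', Matrix.mul_smul, Matrix.smul_mul]
      _ = μ • K.map σ := by rw [hKmap]
  have hN : nrmF σ r μ = 1 := norm_eq_one_of_twist m σ hσ hK0 hK
  obtain ⟨y, hy0, hy⟩ := h90_scalar σ hr hr0 μ hN
  set K' : Mat := y⁻¹ • K with hK'def
  have hKmap' : K.map σ = μ⁻¹ • K := by
    nth_rewrite 2 [hK]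
    rw [smul_smul, inv_mul_cancel₀ hμ0, one_smul]
  have hK'fix : K'.map σ = K' := by
    rw [hK'def, map_smul_gen, hKmap', smul_smul]
    congr 1
    rw [map_inv₀, ← mul_inv, mul_comm, hy]
  have halt' : ∀ x : V, x ⬝ᵥ (K' *ᵥ x) = 0 := by
    intro x
    rw [hK'def, Matrix.smul_mulVec, dotProduct_smul, hKdef, ← sf_mulVec_mulVec, sf_self,
      smul_zero]
  have hK'det : K'.det ≠ 0 := by
    rw [hK'def, Matrix.det_smul]
    have := (Matrix.isUnit_iff_isUnit_det K).mp hKu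
    exact mul_ne_zero (pow_ne_zero _ (inv_ne_zero hy0)) this.ne_zero
  -- descend to the fixed field
  let s : ↥(fixF σ) →+* F := (fixF σ).subtype
  let K₀ : Matrix (Fin m ⊕ Fin m) (Fin m ⊕ Fin m) ↥(fixF σ) := fun i j =>
    ⟨K' i j, congrFun (congrFun hK'fix i) j⟩
  have hK₀ : K₀.map s = K' := by
    ext i j
    rfl
  have halt₀ : ∀ x : Fin m ⊕ Fin m → ↥(fixF σ), x ⬝ᵥ (K₀ *ᵥ x) = 0 := by
    intro x
    apply s.injective
    rw [map_zero, RingHom.map_dotProduct]
    have h1 : (⇑s ∘ (K₀ *ᵥ x)) = K' *ᵥ (⇑s ∘ x) := by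
      funext i
      rw [Function.comp_apply, RingHom.map_mulVec, hK₀]
    rw [h1]
    exact halt' _
  have hdet₀ : K₀.det ≠ 0 := by
    intro h
    apply hK'det
    have h1 := RingHom.map_det s K₀
    rw [h, map_zero, RingHom.mapMatrix_apply, hK₀] at h1
    exact h1.symm
  obtain ⟨k₀, hk₀⟩ := exists_congr_J m K₀ halt₀ hdet₀
  set k : Mat := k₀.map s with hkdef
  have hk : kᵀ * K' * k = JJ := by
    have h1 : (k₀ᵀ * K₀ * k₀).map s = (Matrix.J (Fin m) ↥(fixF σ)).map s := by rw [hk₀]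
    rw [Matrix.map_mul, Matrix.map_mul, hK₀, J_map_hom, Matrix.transpose_map] at h1
    exact h1
  have hkfix : k.map σ = k := by
    ext i j
    exact (k₀ i j).2
  have hku : IsUnit k := by
    have h1 : IsUnit (kᵀ * K' * k).det := by
      rw [hk]
      exact Matrix.isUnit_det_J (Fin m) F
    rw [Matrix.det_mul] at h1
    rw [Matrix.isUnit_iff_isUnit_det]
    exact (IsUnit.mul_iff.mp h1).2
  have hKK' : K = y • K' := by
    rw [hK'def, smul_smul, mul_inv_cancel₀ hy0, one_smul]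
  refine ⟨c, y, h₀ * k, hc0, hy0, hh₀u.mul hku, ?_, ?_⟩
  · calc (h₀ * k)ᵀ * JJ * (h₀ * k) = kᵀ * K * k := by
          rw [Matrix.transpose_mul, hKdef]; simp only [Matrix.mul_assoc]
      _ = y • JJ := by
          rw [hKK', Matrix.mul_smul, Matrix.smul_mul, hk]
  · rw [map_mul_gen, hkfix, ← Matrix.mul_assoc, hh₀]

end

end Cfsg.Agent.Lib.Helper43.AutPSp
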