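import Cfsg.Agent.Lib.Helper43.SiegelRefl

set_option autoImplicit false
set_option linter.unusedSimpArgs false

/-! In characteristic two, the isometry group of a quadratic form with non-degenerate polar form
over a finite field is generated by reflections (orthogonal transvections), except for dimension 4
over the field with two elements. -/

namespace Cfsg.Agent.Lib.Helper43

open Module Cfsg.Agent.Lib.Helper19

variable {F V : Type*} [Field F] [AddCommGroup V] [Module F V]
variable (Q : QuadraticForm F V)

/-- a Siegel transformation with totally singular plane is a product of four reflections -/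
theorem siegel_eq_four_refl [Fintype F] [CharP F 2] [FiniteDimensional F V]
    (hQ : (QuadraticMap.polarBilin Q).Nondegenerate)
    (h24 : Fintype.card F ≠ 2 ∨ finrank F V ≠ 4)
    (p z : V) (hp : Q p = 0) (hz : Q z = 0) (hpz : QuadraticMap.polarBilin Q p z = 0)
    (hind : LinearIndependent F ![p, z]) :
    ∃ l : List V, (∀ u ∈ l, Q u ≠ 0) ∧ siegelLin Q p z = (l.map (reflLin Q)).prod := by
  classical
  -- find y0 ⊥ p with Q y0 ≠ 0 and Q (z + y0) ≠ 0
  have key : ∃ y0 : V, QuadraticMap.polarBilin Q p y0 = 0 ∧ Q y0 ≠ 0 ∧ Q (z + y0) ≠ 0 := by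
    by_cases hF2 : Fintype.card F ≠ 2
    · -- large field
      have hzp : z ∉ Submodule.span F {p} := by
        intro hmem
        obtain ⟨c, hc⟩ := Submodule.mem_span_singleton.1 hmem
        have := (LinearIndependent.pair_iff.1 hind) c (-1) (by rw [hc]; simp)
        exact one_ne_zero (neg_eq_zero.1 this.2)
      obtain ⟨z', hz'z, hz'p⟩ := exists_polar_repr Q hQ _ z hzp
      have hz'p' : QuadraticMap.polarBilin Q p z' = 0 := by
        rw [polar_symm]
        exact hz'p p (Submodule.mem_span_singleton_self p)
      have hcard : 2 < Fintype.card F := by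
        have h1 : 1 < Fintype.card F := Fintype.one_lt_card
        omega
      obtain ⟨c, hc⟩ : ∃ c : F, c ∉ ({Q z', Q z' + 1} : Finset F) := by
        by_contra hcon
        push Not at hcon
        have h1 : (Finset.univ : Finset F) ⊆ {Q z', Q z' + 1} := fun x _ => hcon x
        have h2 := Finset.card_le_card h1
        have h3 : ({Q z', Q z' + 1} : Finset F).card ≤ 2 := Finset.card_le_two
        rw [Finset.card_univ] at h2
        omega
      simp only [Finset.mem_insert, Finset.mem_singleton, not_or] at hc
      refine ⟨z' + c • z, ?_, ?_, ?_⟩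
      · rw [map_add, map_smul, hz'p', hpz, smul_zero, add_zero]
      · rw [Q_add, Q_smul, hz, map_smul, smul_eq_mul, hz'z, mul_zero, add_zero, mul_one]
        intro h0
        apply hc.1
        have h2 : Q z' + Q z' = 0 := CharTwo.add_self_eq_zero _
        linear_combination h0 - h2
      · have : z + (z' + c • z) = z' + (c + 1) • z := by
          rw [add_smul, one_smul]; abel
        rw [this, Q_add, Q_smul, hz, map_smul, smul_eq_mul, hz'z, mul_zero, add_zero, mul_one]
        intro h0
        apply hc.2
        have h2 : Q z' + Q z' = 0 := CharTwo.add_self_eq_zero _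
        have h5 : (1 : F) + 1 = 0 := CharTwo.add_self_eq_zero _
        linear_combination h0 - h2 - h5
    · -- field with two elements, dimension ≠ 4
      push Not at hF2
      have hn4 : finrank F V ≠ 4 := by
        rcases h24 with h | h
        · exact absurd hF2 h
        · exact h
      set P : Submodule F V := Submodule.span F (Set.range ![p, z]) with hP
      have hPdim : finrank F P = 2 := by
        rw [hP, finrank_span_eq_card hind]; simp
      set W := LinearMap.BilinForm.orthogonal (QuadraticMap.polarBilin Q) P with hW
      have hWdim : finrank F W = finrank F V - 2 := by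
        rw [hW, LinearMap.BilinForm.finrank_orthogonal hQ, hPdim]
      have hpP : p ∈ P := Submodule.subset_span ⟨0, rfl⟩
      have hzP : z ∈ P := Submodule.subset_span ⟨1, rfl⟩
      have hrefl : (QuadraticMap.polarBilin Q).IsRefl := by
        intro x y hxy
        rw [polar_symm, hxy]
      by_contra hcon
      push Not at hcon
      -- every vector of W is singular
      have hWsing : ∀ y ∈ W, Q y = 0 := by
        intro y hy
        by_contra hne
        have h1 : QuadraticMap.polarBilin Q p y = 0 :=
          (LinearMap.BilinForm.mem_orthogonal_iff.1 hy) p hpP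
        have h2 : QuadraticMap.polarBilin Q z y = 0 :=
          (LinearMap.BilinForm.mem_orthogonal_iff.1 hy) z hzP
        have h5 := hcon y h1 hne
        rw [Q_add, hz, h2, zero_add, add_zero] at h5
        exact hne h5
      -- so W is totally isotropic, hence inside its orthogonal P
      have hWle : W ≤ P := by
        have h1 : W ≤ LinearMap.BilinForm.orthogonal (QuadraticMap.polarBilin Q) W := by
          intro x hx
          rw [LinearMap.BilinForm.mem_orthogonal_iff]
          intro y hy
          have h2 := Q_add Q y x
          rw [hWsing _ (W.add_mem hy hx), hWsing y hy, hWsing x hx] at h2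
          show QuadraticMap.polarBilin Q y x = 0
          linear_combination -h2
        rw [hW, LinearMap.BilinForm.orthogonal_orthogonal hQ hrefl] at h1
        exact h1
      have hPle : P ≤ W := by
        rw [hP, Submodule.span_le]
        rintro _ ⟨i, rfl⟩
        rw [SetLike.mem_coe, hW, LinearMap.BilinForm.mem_orthogonal_iff]
        intro y hy
        have hy' : ∀ x ∈ P, QuadraticMap.polarBilin Q x p = 0 ∧ QuadraticMap.polarBilin Q x z = 0 := by
          intro x hx
          refine Submodule.span_induction ?_ ?_ ?_ ?_ hx
          · rintro _ ⟨j, rfl⟩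
            fin_cases j
            · simp [polar_self', hp, hpz, polar_symm Q z p]
            · simp [polar_self', hz, hpz, polar_symm Q z p]
          · simp
          · intro a b _ _ ha hb
            simp [ha.1, ha.2, hb.1, hb.2]
          · intro c a _ ha
            simp [ha.1, ha.2]
        fin_cases i
        · exact (hy' y hy).1
        · exact (hy' y hy).2
      have h1 := Submodule.finrank_mono hWle
      have h2 := Submodule.finrank_mono hPle
      have h3 : finrank F P ≤ finrank F V := Submodule.finrank_le P
      omega
  obtain ⟨y0, hpy0, hQy0, hQzy0⟩ := key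
  have hpzy0 : QuadraticMap.polarBilin Q p (z + y0) = 0 := by
    rw [map_add, hpz, hpy0, add_zero]
  have h1 := siegelLin_comp Q p y0 (z + y0) hp hpy0 hpzy0
  have h2 : y0 + (z + y0) = z := by
    have : y0 + y0 = 0 := by rw [← two_smul F y0, CharTwo.two_eq_zero, zero_smul]
    rw [add_comm z y0, ← add_assoc, this, zero_add]
  rw [h2] at h1
  have h3 := refl_comp_refl_eq_siegel Q p y0 hp hpy0 hQy0
  have h4 := refl_comp_refl_eq_siegel Q p (z + y0) hp hpzy0 hQzy0
  have hQ1 : Q (y0 - Q y0 • p) ≠ 0 := by
    rw [sub_eq_add_neg, ← neg_smul, Q_add, Q_smul, hp, map_smul, smul_eq_mul, polar_symm Q y0 p,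
      hpy0]
    simpa using hQy0
  have hQ2 : Q ((z + y0) - Q (z + y0) • p) ≠ 0 := by
    rw [sub_eq_add_neg, ← neg_smul, Q_add, Q_smul, hp, map_smul, smul_eq_mul,
      polar_symm Q (z + y0) p, hpzy0]
    simpa using hQzy0
  refine ⟨[y0, y0 - Q y0 • p, z + y0, (z + y0) - Q (z + y0) • p], ?_, ?_⟩
  · intro u hu
    simp only [List.mem_cons, List.not_mem_nil, or_false] at hu
    rcases hu with rfl | rfl | rfl | rfl
    · exact hQy0
    · exact hQ1
    · exact hQzy0
    · exact hQ2
  · rw [← h1, ← h3, ← h4]
    simp only [List.map_cons, List.map_nil, List.prod_cons, List.prod_nil, mul_one]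
    rfl


theorem siegelLin_zero (p : V) : siegelLin Q p 0 = LinearMap.id := by
  apply LinearMap.ext
  intro v
  rw [siegelLin_apply]
  simp

set_option maxHeartbeats 800000 in
/-- generation by reflections, characteristic two, by induction on the rank of `g - 1` -/
theorem refl_generate_char_two_aux [Fintype F] [CharP F 2] [FiniteDimensional F V]
    (hQ : (QuadraticMap.polarBilin Q).Nondegenerate)
    (h24 : Fintype.card F ≠ 2 ∨ finrank F V ≠ 4) :
    ∀ (d : ℕ) (g : V →ₗ[F] V), (∀ v, Q (g v) = Q v) →
      finrank F V - finrank F (fixSpace g) = d →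
      ∃ l : List V, (∀ u ∈ l, Q u ≠ 0) ∧ g = (l.map (reflLin Q)).prod := by
  intro d
  induction d using Nat.strong_induction_on with
  | _ d ih =>
  intro g hg hd
  have hfixle : ∀ g' : V →ₗ[F] V, finrank F (fixSpace g') ≤ finrank F V :=
    fun g' => Submodule.finrank_le _
  by_cases hA : ∃ u, Q (g u - u) ≠ 0
  · obtain ⟨u, hu⟩ := hA
    set w := g u - u with hw
    have h1 := finrank_fixSpace_refl_of_mem hQ g hg w hu ⟨u, rfl⟩
    have hg' : ∀ v, Q ((reflLin Q w ∘ₗ g) v) = Q v := by
      intro v
      rw [LinearMap.comp_apply, reflLin_isometry Q w hu, hg]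
    have h2 := hfixle (reflLin Q w ∘ₗ g)
    obtain ⟨l', hl', hgl'⟩ := ih (finrank F V - finrank F (fixSpace (reflLin Q w ∘ₗ g)))
      (by omega) (reflLin Q w ∘ₗ g) hg' rfl
    refine ⟨w :: l', ?_, ?_⟩
    · intro x hx
      rcases List.mem_cons.1 hx with rfl | hx
      · exact hu
      · exact hl' x hx
    · rw [List.map_cons, List.prod_cons, ← hgl']
      apply LinearMap.ext
      intro x
      rw [Module.End.mul_apply, LinearMap.comp_apply, reflLin_mul_self' w hu]
  · push Not at hA
    by_cases hg1 : g = LinearMap.id
    · exact ⟨[], by simp, by rw [hg1]; rfl⟩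
    set N : V →ₗ[F] V := g - LinearMap.id with hN
    have hNapp : ∀ v, N v = g v - v := fun v => rfl
    have hgN : ∀ v, g v = v + N v := fun v => by rw [hNapp]; abel
    have hQN : ∀ v, Q (N v) = 0 := fun v => hA v
    have hNN : ∀ u v, QuadraticMap.polarBilin Q (N u) (N v) = 0 := by
      intro u v
      have h1 := Q_add Q (N u) (N v)
      rw [← map_add, hQN, hQN, hQN] at h1
      linear_combination -h1
    have hNu : ∀ u, QuadraticMap.polarBilin Q (N u) u = 0 := by
      intro u
      have h1 := Q_residual g hg u
      rw [← hNapp, hQN] at h1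
      linear_combination h1
    have hadj : ∀ u v, QuadraticMap.polarBilin Q (N u) v = QuadraticMap.polarBilin Q (N v) u := by
      intro u v
      have h1 := hNu (u + v)
      simp only [map_add, LinearMap.add_apply, hNu, zero_add, add_zero] at h1
      have h2 : QuadraticMap.polarBilin Q (N v) u + QuadraticMap.polarBilin Q (N v) u = 0 :=
        CharTwo.add_self_eq_zero _
      linear_combination h1 - h2
    obtain ⟨v0, hv0⟩ : ∃ v0, N v0 ≠ 0 := by
      by_contra hcon
      push Not at hcon
      apply hg1
      apply LinearMap.ext
      intro v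
      rw [hgN, hcon, add_zero]; rfl
    obtain ⟨u0, hu0⟩ : ∃ u0, QuadraticMap.polarBilin Q (N v0) u0 ≠ 0 := by
      by_contra hcon
      push Not at hcon
      exact hv0 (hQ.1 _ hcon)
    set x := (QuadraticMap.polarBilin Q (N v0) u0)⁻¹ • u0 with hx
    set y := v0 with hy
    have hyx : QuadraticMap.polarBilin Q (N y) x = 1 := by
      rw [hx, map_smul, smul_eq_mul, inv_mul_cancel₀ hu0]
    have hxy : QuadraticMap.polarBilin Q (N x) y = 1 := by rw [hadj, hyx]
    set p := N x with hp
    set z := N y with hz
    have hzy : QuadraticMap.polarBilin Q z y = 0 := hNu y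
    have hpx : QuadraticMap.polarBilin Q p x = 0 := hNu x
    have hind : LinearIndependent F ![p, z] := by
      rw [LinearIndependent.pair_iff]
      intro c e hce
      have h1 := congrArg (fun t => QuadraticMap.polarBilin Q t x) hce
      have h2 := congrArg (fun t => QuadraticMap.polarBilin Q t y) hce
      simp only [map_add, map_smul, LinearMap.add_apply, LinearMap.smul_apply, smul_eq_mul,
        map_zero, LinearMap.zero_apply, hNu, hyx, hxy, hzy, hpx, mul_zero, mul_one, zero_add, add_zero]
        at h1 h2
      exact ⟨h2, h1⟩
    have hpz : QuadraticMap.polarBilin Q p z = 0 := hNN x y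
    have hpp : QuadraticMap.polarBilin Q p p = 0 := hNN x x
    have hQp : Q p = 0 := hQN x
    have hQz : Q z = 0 := hQN y
    have hE : ∀ v, siegelLin Q p z v = v + QuadraticMap.polarBilin Q v z • p +
        (-QuadraticMap.polarBilin Q v p) • z := by
      intro v
      rw [siegelLin_apply, hQz, zero_mul, sub_zero]
    set g' : V →ₗ[F] V := siegelLin Q p z ∘ₗ g with hg'def
    have hg' : ∀ v, Q (g' v) = Q v := by
      intro v
      rw [hg'def, LinearMap.comp_apply, siegelLin_isometry Q p z hQp hpz, hg]
    have hsub : fixSpace g ≤ fixSpace g' := by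
      intro v hv
      rw [mem_fixSpace] at hv ⊢
      have hNv : N v = 0 := by rw [hNapp, hv, sub_self]
      have h1 : QuadraticMap.polarBilin Q v z = 0 := by
        rw [polar_symm, hadj, hNv, map_zero, LinearMap.zero_apply]
      have h2 : QuadraticMap.polarBilin Q v p = 0 := by
        rw [polar_symm, hadj, hNv, map_zero, LinearMap.zero_apply]
      rw [hg'def, LinearMap.comp_apply, hv, hE, h1, h2]
      simp
    have hxfix : x ∈ fixSpace g' := by
      rw [mem_fixSpace, hg'def, LinearMap.comp_apply, hgN x, hE]
      have h1 : QuadraticMap.polarBilin Q (x + p) z = 1 := by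
        rw [map_add, LinearMap.add_apply, hpz, add_zero, polar_symm, hyx]
      have h2 : QuadraticMap.polarBilin Q (x + p) p = 0 := by
        rw [map_add, LinearMap.add_apply, hpp, add_zero, polar_symm, hNu]
      rw [h1, h2, one_smul, neg_zero, zero_smul, add_zero, add_assoc]
      have : p + p = 0 := by rw [← two_smul F p, CharTwo.two_eq_zero, zero_smul]
      rw [this, add_zero]
    have hxnot : x ∉ fixSpace g := by
      rw [mem_fixSpace, hgN x]
      intro h
      have hp0 : p = 0 := by
        have := add_eq_left.1 h
        exact this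
      rw [hp0, map_zero, LinearMap.zero_apply] at hxy
      exact zero_ne_one hxy
    have hlt : fixSpace g < fixSpace g' := by
      refine lt_of_le_of_ne hsub ?_
      intro heq
      exact hxnot (heq ▸ hxfix)
    have h1 := Submodule.finrank_lt_finrank_of_lt hlt
    have h2 := hfixle g'
    obtain ⟨l', hl', hgl'⟩ := ih (finrank F V - finrank F (fixSpace g')) (by omega) g' hg' rfl
    obtain ⟨l4, hl4, hEl4⟩ := siegel_eq_four_refl Q hQ h24 p z hQp hQz hpz hind
    refine ⟨l4 ++ l', ?_, ?_⟩
    · intro u hu
      rcases List.mem_append.1 hu with hu | hu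
      · exact hl4 u hu
      · exact hl' u hu
    · rw [List.map_append, List.prod_append, ← hgl', ← hEl4, hg'def]
      have hEE : siegelLin Q p z ∘ₗ siegelLin Q p z = LinearMap.id := by
        rw [siegelLin_comp Q p z z hQp hpz hpz]
        have : z + z = 0 := by rw [← two_smul F z, CharTwo.two_eq_zero, zero_smul]
        rw [this, siegelLin_zero]
      apply LinearMap.ext
      intro v
      rw [Module.End.mul_apply, LinearMap.comp_apply]
      have := LinearMap.congr_fun hEE (g v)
      rw [LinearMap.comp_apply, LinearMap.id_apply] at this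
      exact this.symm

/-- Generation by reflections in characteristic two. -/
theorem refl_generate_char_two [Fintype F] [CharP F 2] [FiniteDimensional F V]
    (hQ : (QuadraticMap.polarBilin Q).Nondegenerate)
    (h24 : Fintype.card F ≠ 2 ∨ finrank F V ≠ 4)
    (g : V →ₗ[F] V) (hg : ∀ v, Q (g v) = Q v) :
    ∃ l : List V, (∀ u ∈ l, Q u ≠ 0) ∧ g = (l.map (reflLin Q)).prod :=
  refl_generate_char_two_aux Q hQ h24 _ g hg rfl

end Cfsg.Agent.Lib.Helper43
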