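import Mathlib
import Cfsg.Prelude.Def_GeometricClasses
import Cfsg.Agent.S5635

/-!
# K-SLMax-X2 (helper61's keystone 244)

`|F| = 3`: the stabiliser of a decomposition into lines consists of isometries of the nondegenerate quadratic form
`Q = ∑ (x i)^2` in coordinates adapted to the decomposition.
-/

set_option autoImplicit false

namespace Cfsg.Agent.Lib.Helper43.SLMax

open Cfsg Cfsg.Geo Cfsg.Agent.S5635 Matrix
open scoped Matrix MatrixGroups

section
variable {F : Type*} [Field F] {n t : ℕ}

local notation "V" => (Fin n → F)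

/-- `H (d k) v = θ (φ k v)` -/
theorem coord_H_d_left {D : Fin t → Submodule F V} (C : Coord D) (θ : F →+* F) (k : Fin t) (v : V) :
    C.H θ (C.d k) v = θ (C.φ k ⬝ᵥ v) := by
  unfold Coord.H
  rw [Finset.sum_eq_single k]
  · rw [C.φ_d, one_mul]
  · intro j _ hjk
    rw [C.φ_dd, if_neg hjk, zero_mul]
  · intro h; exact absurd (Finset.mem_univ k) h

/-- `H v (d k) = φ k v` -/
theorem coord_H_d_right {D : Fin t → Submodule F V} (C : Coord D) (θ : F →+* F) (k : Fin t) (v : V) :
    C.H θ v (C.d k) = C.φ k ⬝ᵥ v := by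
  unfold Coord.H
  rw [Finset.sum_eq_single k]
  · rw [C.φ_d, map_one, mul_one]
  · intro j _ hjk
    rw [C.φ_dd, if_neg hjk, map_zero, mul_zero]
  · intro h; exact absurd (Finset.mem_univ k) h

/-- a nonzero vector has a nonzero coordinate -/
theorem coord_exists_ne {D : Fin t → Submodule F V} (C : Coord D) (hT : iSup D = ⊤) (v : V) (hv : v ≠ 0) :
    ∃ k, C.φ k ⬝ᵥ v ≠ 0 := by
  by_contra hcon
  push Not at hcon
  apply hv
  rw [← C.expansion hT v]
  apply Finset.sum_eq_zero
  intro j _
  rw [hcon j, zero_smul]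

end

section
variable {F : Type*} [Field F] [Fintype F] {n : ℕ}

local notation "V" => (Fin n → F)
local notation "SL" => specialLinear (Fin n) F

theorem lines_le_quadSimilarityGroup_of_card_three (hq : Fintype.card F = 3) {t : ℕ} (D : Fin t → Submodule F V)
    (hD : IsMDecomposition 1 D) :
    ∃ Q : V → F, IsNondegenerateQuadraticForm Q ∧ decompositionStabilizer D ≤ quadSimilarityGroup Q := by
  obtain ⟨C⟩ := exists_coord D hD
  have h3 : (3 : F) = 0 := by
    have := Nat.cast_card_eq_zero F
    rw [hq] at this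
    exact_mod_cast this
  have h2 : (2 : F) ≠ 0 := by
    intro h2
    have : (1 : F) = 0 := by linear_combination h3 - h2
    exact one_ne_zero this
  have hN : ∀ x : F, x ≠ 0 → x * (RingHom.id F) x = 1 := by
    intro x hx
    have := FiniteField.pow_card_sub_one_eq_one x hx
    rw [hq] at this
    rw [RingHom.id_apply, ← this]
    ring
  have hsymm : ∀ v w : V, C.H (RingHom.id F) v w = C.H (RingHom.id F) w v := by
    intro v w
    have := C.H_conj (RingHom.id F) (fun x => rfl) v w
    rw [RingHom.id_apply] at this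
    exact this
  have hpolar : ∀ u v : V, QuadraticMap.polar (fun v : V => C.H (RingHom.id F) v v) u v
      = 2 * C.H (RingHom.id F) u v := by
    intro u v
    unfold QuadraticMap.polar
    simp only [Coord.H_add_left, Coord.H_add_right]
    rw [hsymm v u]
    ring
  refine ⟨fun v => C.H (RingHom.id F) v v, ⟨?_, ⟨?_, ?_, ?_, ?_⟩, ?_⟩, ?_⟩
  · intro c v
    simp only [Coord.H_smul_left, Coord.H_smul_right, RingHom.id_apply]
    ring
  · intro x y v
    rw [hpolar, hpolar, hpolar, Coord.H_add_left]
    ring
  · intro c x v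
    rw [hpolar, hpolar, Coord.H_smul_left]
    ring
  · intro v x y
    rw [hpolar, hpolar, hpolar, Coord.H_add_right]
    ring
  · intro c v x
    rw [hpolar, hpolar, Coord.H_smul_right, RingHom.id_apply]
    ring
  · intro v hv
    obtain ⟨k, hk⟩ := coord_exists_ne C hD.iSup_eq_top v hv
    refine ⟨⟨C.d k, ?_⟩, ⟨C.d k, ?_⟩⟩
    · rw [hpolar, coord_H_d_left, RingHom.id_apply]
      exact mul_ne_zero h2 hk
    · rw [hpolar, coord_H_d_right]
      exact mul_ne_zero h2 hk
  · intro g hg
    refine ⟨1, fun v => ?_⟩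
    have hI := stab_le_Iso D hg
    rw [mem_Iso] at hI
    have := hI v
    rw [C.wt_eq hD.indep hD.iSup_eq_top (RingHom.id F) hN, C.wt_eq hD.indep hD.iSup_eq_top (RingHom.id F) hN] at this
    rw [Units.val_one, one_mul]
    exact this

end

end Cfsg.Agent.Lib.Helper43.SLMax
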