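import Mathlib
import Cfsg.Prelude.Def_GeometricClasses
import Cfsg.Agent.S5635
import Cfsg.Agent.Lib.Helper43.SLMaxX2

/-!
# K-SLMax-X3 (helper61's keystone 245)

`|F| = 4`: the stabiliser of a decomposition into lines consists of isometries of the nondegenerate hermitian form
`f v w = ∑ x i (v) * (x i (w))^2` in coordinates adapted to the decomposition.
-/

set_option autoImplicit false

namespace Cfsg.Agent.Lib.Helper43.SLMax

open Cfsg Cfsg.Geo Cfsg.Agent.S5635 Matrix
open scoped Matrix MatrixGroups

section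
variable {F : Type*} [Field F] [Fintype F] {n : ℕ}

local notation "V" => (Fin n → F)
local notation "SL" => specialLinear (Fin n) F

/-- the squaring map of a field of order 4 -/
theorem exists_sq_equiv_of_card_four (hq : Fintype.card F = 4) :
    ∃ σ : F ≃+* F, (∀ x, σ x = x ^ 2) ∧ σ ≠ RingEquiv.refl F ∧ (∀ a, σ (σ a) = a) ∧
      ∀ x : F, x ≠ 0 → x * σ x = 1 := by
  have h4 : (4 : F) = 0 := by
    have := Nat.cast_card_eq_zero F
    rw [hq] at this
    exact_mod_cast this
  have h2 : (2 : F) = 0 := by
    have : (2 : F) * 2 = 0 := by rw [← h4]; norm_num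
    rcases mul_self_eq_zero.mp this with h
    exact h
  have hpow : ∀ a : F, a ^ 4 = a := by
    intro a
    have := FiniteField.pow_card a
    rwa [hq] at this
  let φ : F →+* F :=
    { toFun := fun x => x ^ 2
      map_one' := one_pow 2
      map_mul' := fun x y => mul_pow x y 2
      map_zero' := by simp
      map_add' := fun x y => by
        have : (x + y) ^ 2 = x ^ 2 + y ^ 2 + 2 * (x * y) := by ring
        rw [this, h2, zero_mul, add_zero] }
  have hφφ : ∀ a, φ (φ a) = a := by
    intro a
    show (a ^ 2) ^ 2 = a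
    rw [← pow_mul]
    exact hpow a
  let σ : F ≃+* F := RingEquiv.ofRingHom φ φ (RingHom.ext hφφ) (RingHom.ext hφφ)
  have hσ : ∀ x, σ x = x ^ 2 := fun x => rfl
  refine ⟨σ, hσ, ?_, ?_, ?_⟩
  · intro hrefl
    -- every element is a root of `X^2 - X`
    have hall : ∀ x : F, x = 0 ∨ x = 1 := by
      intro x
      have h1 : σ x = x := by rw [hrefl]; rfl
      rw [hσ] at h1
      have : x * (x - 1) = 0 := by linear_combination h1
      rcases mul_eq_zero.mp this with h | h
      · exact Or.inl h
      · exact Or.inr (sub_eq_zero.mp h)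
    have hcard : Fintype.card F ≤ 2 := by
      classical
      calc Fintype.card F = (Finset.univ : Finset F).card := rfl
        _ ≤ ({0, 1} : Finset F).card := by
            apply Finset.card_le_card
            intro x _
            rcases hall x with h | h
            · simp [h]
            · simp [h]
        _ ≤ 2 := Finset.card_le_two
    omega
  · intro a
    rw [hσ, hσ, ← pow_mul]
    exact hpow a
  · intro x hx
    rw [hσ]
    have := FiniteField.pow_card_sub_one_eq_one x hx
    rw [hq] at this
    rw [← this]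
    ring

theorem lines_le_similarityGroup_of_card_four (hq : Fintype.card F = 4) {t : ℕ} (D : Fin t → Submodule F V)
    (hD : IsMDecomposition 1 D) :
    ∃ (σ : F ≃+* F) (f : V → V → F), IsUnitaryForm σ f ∧ decompositionStabilizer D ≤ similarityGroup f := by
  obtain ⟨C⟩ := exists_coord D hD
  obtain ⟨σ, hσ, hne, hinv, hN⟩ := exists_sq_equiv_of_card_four (F := F) hq
  have hN' : ∀ x : F, x ≠ 0 → x * (σ : F →+* F) x = 1 := fun x hx => hN x hx
  have hinv' : ∀ x : F, (σ : F →+* F) ((σ : F →+* F) x) = x := fun x => hinv x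
  refine ⟨σ, C.H (σ : F →+* F), ⟨hne, hinv, ?_, ?_, ?_, ?_⟩, ?_⟩
  · intro x y v
    exact C.H_add_left _ x y v
  · intro c x v
    exact C.H_smul_left _ c x v
  · intro v w
    exact (C.H_conj (σ : F →+* F) hinv' w v).symm
  · intro v hv
    obtain ⟨k, hk⟩ := coord_exists_ne C hD.iSup_eq_top v hv
    refine ⟨⟨C.d k, ?_⟩, ⟨C.d k, ?_⟩⟩
    · rw [coord_H_d_left]
      intro h0
      apply hk
      have : (σ : F →+* F) (C.φ k ⬝ᵥ v) = (σ : F →+* F) 0 := by rw [h0, map_zero]
      exact (σ : F →+* F).injective this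
    · rw [coord_H_d_right]
      exact hk
  · intro g hg
    refine ⟨1, fun u v => ?_⟩
    rw [Units.val_one, one_mul]
    have hI := stab_le_Iso D hg
    rw [mem_Iso] at hI
    -- the norm is preserved
    have hnorm : ∀ w : V, C.H (σ : F →+* F) (g.1 *ᵥ w) (g.1 *ᵥ w) = C.H (σ : F →+* F) w w := by
      intro w
      have := hI w
      rwa [C.wt_eq hD.indep hD.iSup_eq_top (σ : F →+* F) hN',
        C.wt_eq hD.indep hD.iSup_eq_top (σ : F →+* F) hN'] at this
    -- polarisation
    have hpol : ∀ a b : V, C.H (σ : F →+* F) (g.1 *ᵥ a) (g.1 *ᵥ b) + C.H (σ : F →+* F) (g.1 *ᵥ b) (g.1 *ᵥ a)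
        = C.H (σ : F →+* F) a b + C.H (σ : F →+* F) b a := by
      intro a b
      have h1 := hnorm (a + b)
      rw [Matrix.mulVec_add] at h1
      simp only [Coord.H_add_left, Coord.H_add_right] at h1
      linear_combination h1 - hnorm a - hnorm b
    set δ : F := C.H (σ : F →+* F) (g.1 *ᵥ u) (g.1 *ᵥ v) - C.H (σ : F →+* F) u v with hδ
    -- `c δ + σ (c δ) = 0` for all `c`
    have hc : ∀ c : F, c * δ + (σ : F →+* F) (c * δ) = 0 := by
      intro c
      have h1 := hpol (c • u) v
      rw [Matrix.mulVec_smul] at h1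
      rw [Coord.H_smul_left, Coord.H_smul_left] at h1
      have e1 : C.H (σ : F →+* F) (g.1 *ᵥ v) (c • g.1 *ᵥ u)
          = (σ : F →+* F) (c * C.H (σ : F →+* F) (g.1 *ᵥ u) (g.1 *ᵥ v)) := by
        rw [← Coord.H_smul_left, C.H_conj (σ : F →+* F) hinv']
      have e2 : C.H (σ : F →+* F) v (c • u) = (σ : F →+* F) (c * C.H (σ : F →+* F) u v) := by
        rw [← Coord.H_smul_left, C.H_conj (σ : F →+* F) hinv']
      rw [e1, e2] at h1
      rw [hδ, mul_sub, map_sub]
      linear_combination h1
    obtain ⟨c, hcne⟩ : ∃ c : F, σ c ≠ c := by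
      by_contra hcon
      push Not at hcon
      exact hne (RingEquiv.ext hcon)
    have h1 := hc 1
    rw [one_mul] at h1
    have h2 := hc c
    rw [map_mul] at h2
    have h3 : (c - σ c) * δ = 0 := by
      have : (σ : F →+* F) c = σ c := rfl
      rw [this] at h2
      linear_combination h2 - σ c * h1
    rcases mul_eq_zero.mp h3 with h | h
    · exact absurd (sub_eq_zero.mp h).symm hcne
    · exact sub_eq_zero.mp h

end

end Cfsg.Agent.Lib.Helper43.SLMax
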