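import Cfsg.Agent.Lib.Helper51.SUMax2
import Cfsg.Agent.Lib.Helper43.ReflRank
import Cfsg.Agent.Lib.Helper43.DecompTwo

set_option autoImplicit false
set_option linter.unusedSimpArgs false
set_option linter.unusedVariables false
set_option linter.unusedSectionVars false

/-! Pairs of complementary totally isotropic subspaces of the standard unitary space: basic facts
and the Eichler elements `E(u; y, α) : x ↦ x + h(x,u) (y + α u) - h(x,y) u` at the level of `GL`. -/

namespace Cfsg.Agent.Lib.Helper43.SUPair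

open Module Matrix Cfsg.Agent.Lib.Helper08 Cfsg.Agent.Lib.Helper51

section
variable {F : Type*} [Field F] [Fintype F] {q : ℕ} {n : ℕ}

local notation "V" => (Fin n → F)
local notation "hh" => hform (Fin n) F q
local notation "GLn" => Matrix.GeneralLinearGroup (Fin n) F

theorem hh_symm_zero (hF : Fintype.card F = q ^ 2) (x y : V) (h : hh x y = 0) : hh y x = 0 := by
  rw [← hform_conj hF, h, zero_pow (q_ne_zero' hF)]

theorem hh_symm_one (hF : Fintype.card F = q ^ 2) (x y : V) (h : hh x y = 1) : hh y x = 1 := by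
  rw [← hform_conj hF, h, one_pow]

variable (q) in
/-- the functional `x ↦ h(x, p)` -/
def hR (p : V) : V →ₗ[F] F where
  toFun x := hh x p
  map_add' x y := hform_add_left x y p
  map_smul' a x := by rw [hform_smul_left, RingHom.id_apply, smul_eq_mul]

@[simp] theorem hR_apply (p x : V) : hR q p x = hh x p := rfl

theorem finrank_le_inf_ker_add_one (W : Submodule F V) (φ : V →ₗ[F] F) :
    finrank F W ≤ finrank F ↥(W ⊓ LinearMap.ker φ) + 1 := by
  by_cases h : ∃ v ∈ W, φ v ≠ 0
  · exact (Cfsg.Agent.Lib.Helper43.finrank_inf_ker_add_one W φ h).symm.le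
  · push Not at h
    have : W ⊓ LinearMap.ker φ = W := by
      apply le_antisymm inf_le_left
      intro v hv
      exact ⟨hv, LinearMap.mem_ker.2 (h v hv)⟩
    rw [this]
    omega

theorem finrank_span_pair_le' (a b : V) : finrank F (Submodule.span F {a, b}) ≤ 2 := by
  classical
  have h3 : ({a, b} : Set V) = ((({a, b} : Finset V)) : Set V) := by simp
  rw [h3]
  refine le_trans (finrank_span_finset_le_card _) ?_
  exact Finset.card_le_two

theorem ne_bot_of_finrank_pos' (A : Submodule F V) (h : 0 < finrank F A) : A ≠ ⊥ := by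
  intro h0
  rw [h0, finrank_bot] at h
  exact lt_irrefl _ h

variable (q) in
/-- a pair of complementary totally isotropic subspaces -/
structure UPair (U U' : Submodule F V) : Prop where
  tsU : ∀ a ∈ U, ∀ b ∈ U, hh a b = 0
  tsU' : ∀ a ∈ U', ∀ b ∈ U', hh a b = 0
  decomp : ∀ v : V, ∃ a ∈ U, ∃ b ∈ U', v = a + b
  eq_zero_of_mem : ∀ v : V, v ∈ U → v ∈ U' → v = 0

theorem UPair.symm {U U' : Submodule F V} (h : UPair q U U') : UPair q U' U :=
  ⟨h.tsU', h.tsU, fun v => by
    obtain ⟨a, ha, b, hb, hab⟩ := h.decomp v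
    exact ⟨b, hb, a, ha, by rw [hab, add_comm]⟩, fun v h1 h2 => h.eq_zero_of_mem v h2 h1⟩

theorem UPair.of_disjoint_sup {U U' : Submodule F V} (h1 : ∀ a ∈ U, ∀ b ∈ U, hh a b = 0)
    (h2 : ∀ a ∈ U', ∀ b ∈ U', hh a b = 0) (hd : Disjoint U U') (hs : U ⊔ U' = ⊤) :
    UPair q U U' := by
  refine ⟨h1, h2, ?_, ?_⟩
  · intro v
    have hv : v ∈ U ⊔ U' := by rw [hs]; exact Submodule.mem_top
    obtain ⟨a, ha, b, hb, hab⟩ := Submodule.mem_sup.1 hv
    exact ⟨a, ha, b, hb, hab.symm⟩
  · intro v hv hv'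
    exact Submodule.disjoint_def.1 hd v hv hv'

theorem UPair.pairing (hF : Fintype.card F = q ^ 2) {U U' : Submodule F V} (h : UPair q U U')
    (u : V) (hu : u ∈ U) (hu0 : u ≠ 0) : ∃ u' ∈ U', hh u u' ≠ 0 := by
  by_contra hcon
  push Not at hcon
  apply hu0
  apply hform_nondeg hF
  intro y
  obtain ⟨a, ha, b, hb, rfl⟩ := h.decomp y
  rw [hform_add_right hF, h.tsU u hu a ha, hcon b hb, add_zero]

/-- a vector of `U'` perpendicular to `a` and pairing to `1` with `b`, for independent `a, b ∈ U` -/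
theorem UPair.exists_dual (hF : Fintype.card F = q ^ 2) {U U' : Submodule F V}
    (h : UPair q U U') (a b : V) (ha : a ∈ U) (hb : b ∈ U)
    (hab : b ∉ Submodule.span F {a}) : ∃ y ∈ U', hh y a = 0 ∧ hh y b = 1 := by
  obtain ⟨u, hu1, hu2⟩ := perp_sep hF (Submodule.span F {a}) b hab
  have hau : hh a u = 0 := hu1 a (Submodule.mem_span_singleton_self a)
  obtain ⟨u₁, hu₁, u₂, hu₂, rfl⟩ := h.decomp u
  rw [hform_add_right hF, h.tsU a ha u₁ hu₁, zero_add] at hau
  rw [hform_add_right hF, h.tsU b hb u₁ hu₁, zero_add] at hu2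
  have hne : hh u₂ b ≠ 0 := by
    rw [← hform_conj hF]
    exact pow_ne_zero _ hu2
  refine ⟨(hh u₂ b)⁻¹ • u₂, U'.smul_mem _ hu₂, ?_, ?_⟩
  · rw [hform_smul_left, hh_symm_zero hF a u₂ hau, mul_zero]
  · rw [hform_smul_left, inv_mul_cancel₀ hne]

theorem gl_ext' (g h : GLn) (hgh : ∀ x : V, g.1 *ᵥ x = h.1 *ᵥ x) : g = h :=
  Units.ext (mat_ext_mulVec hgh)

variable (q) in
open Classical in
/-- the Eichler element at the level of `GL` (junk value `1` if the hypotheses fail) -/
noncomputable def eg (u y : V) (α : F) : GLn :=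
  if h : IsUnit (eichler q u y α) then h.unit else 1

theorem eg_val (hF : Fintype.card F = q ^ 2) (u y : V) (α : F) (hu : hh u u = 0)
    (huy : hh u y = 0) (hα : α + α ^ q + hh y y = 0) : (eg q u y α).1 = eichler q u y α := by
  unfold eg
  rw [dif_pos ((eichler_iso hF u y α hu huy hα).isUnit hF)]
  rfl

theorem eg_act (hF : Fintype.card F = q ^ 2) (u y : V) (α : F) (hu : hh u u = 0)
    (huy : hh u y = 0) (hα : α + α ^ q + hh y y = 0) (x : V) :
    (eg q u y α).1 *ᵥ x = x + hh x u • (y + α • u) - hh x y • u := by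
  rw [eg_val hF u y α hu huy hα, eichler_mulVec hF u y α hu huy]

theorem eg_iso (hF : Fintype.card F = q ^ 2) (u y : V) (α : F) (hu : hh u u = 0)
    (huy : hh u y = 0) (hα : α + α ^ q + hh y y = 0) : IsIsoMat q (eg q u y α).1 := by
  rw [eg_val hF u y α hu huy hα]
  exact eichler_iso hF u y α hu huy hα

theorem eg_mem (hF : Fintype.card F = q ^ 2) (u y : V) (α : F) (hu : hh u u = 0)
    (huy : hh u y = 0) (hα : α + α ^ q + hh y y = 0) :
    eg q u y α ∈ Cfsg.GU n F q ⊓ Cfsg.Geo.specialLinear (Fin n) F := by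
  rw [mem_GUSL_iff, eg_val hF u y α hu huy hα]
  exact ⟨eichler_iso hF u y α hu huy hα, eichler_det hF u y α hu huy⟩

theorem iso_inv_left (g : GLn) (hg : IsIsoMat q g.1) (x y : V) :
    hh (g⁻¹.1 *ᵥ x) y = hh x (g.1 *ᵥ y) := by
  have h := hg (g⁻¹.1 *ᵥ x) y
  rw [gl_act_inv'] at h
  exact h.symm

theorem conj_eg (hF : Fintype.card F = q ^ 2) (g : GLn) (hg : IsIsoMat q g.1) (u y : V) (α : F)
    (hu : hh u u = 0) (huy : hh u y = 0) (hα : α + α ^ q + hh y y = 0) :
    g * eg q u y α * g⁻¹ = eg q (g.1 *ᵥ u) (g.1 *ᵥ y) α := by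
  apply gl_ext'
  intro x
  rw [gl_mul_act', gl_mul_act', eg_act hF u y α hu huy hα,
    eg_act hF _ _ α (by rw [hg]; exact hu) (by rw [hg]; exact huy) (by rw [hg]; exact hα),
    iso_inv_left g hg, iso_inv_left g hg, Matrix.mulVec_sub, Matrix.mulVec_add, gl_act_inv',
    Matrix.mulVec_smul, Matrix.mulVec_smul, Matrix.mulVec_add, Matrix.mulVec_smul]

/-- the Heisenberg commutator relation -/
theorem eg_comm (hF : Fintype.card F = q ^ 2) (u y w : V) (α β : F) (hu : hh u u = 0)
    (huy : hh u y = 0) (huw : hh u w = 0) (hα : α + α ^ q + hh y y = 0)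
    (hβ : β + β ^ q + hh w w = 0) :
    eg q u y α * eg q u w β = eg q u 0 (hh y w - hh w y) * (eg q u w β * eg q u y α) := by
  have hyu : hh y u = 0 := hh_symm_zero hF u y huy
  have hwu : hh w u = 0 := hh_symm_zero hF u w huw
  have h0 : hh u 0 = 0 := hform_zero_right'' hF u
  have hc : (hh y w - hh w y) + (hh y w - hh w y) ^ q + hh (0 : V) 0 = 0 := by
    rw [sub_pow_q hF, hform_conj hF, hform_conj hF, hform_zero_left]
    ring
  apply gl_ext'
  intro z
  rw [gl_mul_act', gl_mul_act', gl_mul_act', eg_act hF u w β hu huw hβ, eg_act hF u y α hu huy hα,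
    eg_act hF u y α hu huy hα, eg_act hF u w β hu huw hβ, eg_act hF u 0 _ hu h0 hc]
  simp only [hform_add_left, hform_sub_left, hform_smul_left, hu, huy, huw, hyu, hwu,
    hform_zero_right'' hF, mul_zero, add_zero, zero_add, sub_zero, zero_smul]
  module

/-- the transvection `x ↦ x + c h(x,v) v` at the level of `GL` -/
theorem eg_zero_act (hF : Fintype.card F = q ^ 2) (v : V) (c : F) (hv : hh v v = 0)
    (hc : c + c ^ q = 0) (x : V) : (eg q v 0 c).1 *ᵥ x = x + (c * hh x v) • v := by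
  rw [eg_act hF v 0 c hv (hform_zero_right'' hF v) (by rw [hform_zero_left, add_zero]; exact hc),
    hform_zero_right'' hF, zero_smul, sub_zero, zero_add, smul_smul, mul_comm]

theorem eg_zero_val (hF : Fintype.card F = q ^ 2) (v : V) (c : F) (hv : hh v v = 0)
    (hc : c + c ^ q = 0) : (eg q v 0 c).1 = qrefl q v c := by
  apply mat_ext_mulVec
  intro x
  rw [eg_zero_act hF v c hv hc, qrefl_mulVec]

theorem mem_XM_of_eg (hF : Fintype.card F = q ^ 2) (M : Subgroup GLn) (v : V) (hv : hh v v = 0)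
    (h : ∀ c : F, c + c ^ q = 0 → eg q v 0 c ∈ M) : v ∈ XM q M := by
  refine ⟨hv, fun c hc t ht => ?_⟩
  have : t = eg q v 0 c := Units.ext (by rw [ht, eg_zero_val hF v c hv hc])
  rw [this]
  exact h c hc

theorem eg_mem_of_XM (hF : Fintype.card F = q ^ 2) (M : Subgroup GLn) (v : V) (hv : v ∈ XM q M)
    (c : F) (hc : c + c ^ q = 0) : eg q v 0 c ∈ M :=
  hv.2 c hc _ (eg_zero_val hF v c hv.1 hc)

end

end Cfsg.Agent.Lib.Helper43.SUPair
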