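import Cfsg.Agent.Lib.Helper43.SUPair1
import Cfsg.Agent.Lib.Helper43.OmegaPair3

set_option autoImplicit false
set_option linter.unusedSimpArgs false
set_option linter.unusedVariables false
set_option linter.unusedSectionVars false

/-! Overgroups in `SU` of the stabiliser of a pair of complementary totally isotropic subspaces:
from an element outside the stabiliser to a transvection group. -/

namespace Cfsg.Agent.Lib.Helper43.SUPair

open Module Matrix Cfsg.Agent.Lib.Helper08 Cfsg.Agent.Lib.Helper51 Cfsg.Agent.Lib.Helper43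

section
variable {F : Type*} [Field F] [Fintype F] {q : ℕ} {n : ℕ}

local notation "V" => (Fin n → F)
local notation "hh" => hform (Fin n) F q
local notation "GLn" => Matrix.GeneralLinearGroup (Fin n) F

variable (q) in
/-- `M` contains the elements `E(a; b, 0)` with `a ∈ V₁`, `b ∈ V₂` perpendicular -/
def TransIn (M : Subgroup GLn) (V₁ V₂ : Submodule F V) : Prop :=
  ∀ a ∈ V₁, ∀ b ∈ V₂, hh a b = 0 → eg q a b 0 ∈ M

variable (q) in
/-- `M` contains a full transvection group with centre in `V₁` -/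
def HasX (M : Subgroup GLn) (V₁ : Submodule F V) : Prop :=
  ∃ x ∈ V₁, x ≠ 0 ∧ x ∈ XM q M

theorem gl_injective' (g : GLn) (x y : V) (h : g.1 *ᵥ x = g.1 *ᵥ y) : x = y := by
  have := congrArg (fun z => g⁻¹.1 *ᵥ z) h
  simp only [gl_inv_act'] at this
  exact this

theorem alpha_zero (hF : Fintype.card F = q ^ 2) (y : V) (hy : hh y y = 0) :
    (0 : F) + 0 ^ q + hh y y = 0 := by
  rw [hy, zero_pow (q_ne_zero' hF)]
  ring

theorem xs_from (hF : Fintype.card F = q ^ 2) {V₁ V₂ : Submodule F V} (hp : UPair q V₁ V₂)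
    (hk : 5 ≤ finrank F V₁) (M : Subgroup GLn) (hK : TransIn q M V₁ V₂)
    (p r : V) (hpp : hh p p = 0) (hrr' : hh r r = 0) (hpr : hh p r = 0) (hτ : eg q p r 0 ∈ M)
    (a b r₁ r₂ : V) (ha : a ∈ V₁) (hb : b ∈ V₂) (hr₁ : r₁ ∈ V₁) (hr₂ : r₂ ∈ V₂)
    (hpab : p = a + b) (hrr : r = r₁ + r₂) (ha0 : a ≠ 0)
    (hr₁a : r₁ ∉ Submodule.span F {a}) : HasX q M V₁ := by
  have hq0 := q_ne_zero' hF
  -- the vector `x`
  obtain ⟨N, hN⟩ : ∃ N : Submodule F V,
      N = V₁ ⊓ LinearMap.ker (hR q p) ⊓ LinearMap.ker (hR q r) := ⟨_, rfl⟩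
  have hfr1 := finrank_le_inf_ker_add_one V₁ (hR q p)
  have hfr2 := finrank_le_inf_ker_add_one (V₁ ⊓ LinearMap.ker (hR q p)) (hR q r)
  have hfr3 := finrank_span_pair_le' a r₁
  have hnle : ¬ N ≤ Submodule.span F {a, r₁} := by
    intro hle
    have := Submodule.finrank_mono hle
    rw [hN] at this
    omega
  obtain ⟨x, hxN, hxS⟩ := SetLike.not_le_iff_exists.1 hnle
  rw [hN] at hxN
  obtain ⟨⟨hxV, hxp'⟩, hxr'⟩ := hxN
  have hxp : hh x p = 0 := LinearMap.mem_ker.1 hxp'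
  have hxr : hh x r = 0 := LinearMap.mem_ker.1 hxr'
  have hxx : hh x x = 0 := hp.tsU x hxV x hxV
  have hx0 : x ≠ 0 := by
    rintro rfl
    exact hxS (Submodule.zero_mem _)
  have haS : a ∈ Submodule.span F {a, r₁} := Submodule.subset_span (by simp)
  have hr₁S : r₁ ∈ Submodule.span F {a, r₁} := Submodule.subset_span (by simp)
  have hax : a ∉ Submodule.span F {x} := by
    intro h
    obtain ⟨l, hl⟩ := Submodule.mem_span_singleton.1 h
    have hl0 : l ≠ 0 := by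
      rintro rfl
      rw [zero_smul] at hl
      exact ha0 hl.symm
    apply hxS
    have : x = l⁻¹ • a := by rw [← hl, smul_smul, inv_mul_cancel₀ hl0, one_smul]
    rw [this]
    exact Submodule.smul_mem _ _ haS
  obtain ⟨y, hyV, hyx, hya⟩ := hp.exists_dual hF x a hxV ha hax
  have hxy : hh x y = 0 := hh_symm_zero hF y x hyx
  have hyy : hh y y = 0 := hp.tsU' y hyV y hyV
  obtain ⟨β, hβ⟩ : ∃ β : F, β = hh y r₁ := ⟨_, rfl⟩
  obtain ⟨c₁, hc₁⟩ : ∃ c₁ : V, c₁ = r₁ - β • a := ⟨_, rfl⟩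
  have hc₁V : c₁ ∈ V₁ := by
    rw [hc₁]
    exact V₁.sub_mem hr₁ (V₁.smul_mem _ ha)
  have hyr : hh y r = β := by
    rw [hrr, hform_add_right hF, hp.tsU' y hyV r₂ hr₂, add_zero, hβ]
  have hyp : hh y p = 1 := by
    rw [hpab, hform_add_right hF, hp.tsU' y hyV b hb, add_zero, hya]
  have hα0 : (0 : F) + 0 ^ q + hh r r = 0 := alpha_zero hF r hrr'
  have hτiso : IsIsoMat q (eg q p r 0).1 := eg_iso hF p r 0 hpp hpr hα0
  have hτx : (eg q p r 0).1 *ᵥ x = x := by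
    rw [eg_act hF p r 0 hpp hpr hα0, hxp, hxr, zero_smul, zero_smul, add_zero, sub_zero]
  have hτy : (eg q p r 0).1 *ᵥ y = y + r - β • p := by
    rw [eg_act hF p r 0 hpp hpr hα0, hyp, hyr, one_smul, zero_smul, add_zero]
  have hc₁x : c₁ ∉ Submodule.span F {x} := by
    intro h
    obtain ⟨l, hl⟩ := Submodule.mem_span_singleton.1 h
    by_cases hl0 : l = 0
    · rw [hl0, zero_smul] at hl
      apply hr₁a
      have : r₁ = β • a := by
        rw [hc₁] at hl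
        exact sub_eq_zero.1 hl.symm
      rw [this]
      exact Submodule.smul_mem _ _ (Submodule.mem_span_singleton_self a)
    · apply hxS
      have : x = l⁻¹ • c₁ := by rw [← hl, smul_smul, inv_mul_cancel₀ hl0, one_smul]
      rw [this, hc₁]
      exact Submodule.smul_mem _ _ (Submodule.sub_mem _ hr₁S (Submodule.smul_mem _ _ haS))
  obtain ⟨y', hy'V, hy'x, hy'c⟩ := hp.exists_dual hF x c₁ hxV hc₁V hc₁x
  have hxy' : hh x y' = 0 := hh_symm_zero hF y' x hy'x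
  have hy'y' : hh y' y' = 0 := hp.tsU' y' hy'V y' hy'V
  have hC : eg q x y' 0 ∈ M := hK x hxV y' hy'V hxy'
  refine ⟨x, hxV, hx0, ?_⟩
  apply mem_XM_of_eg hF M x hxx
  intro c hc
  obtain ⟨t, ht⟩ := exists_sub_pow_eq hF c hc
  have hxty : hh x (t • y) = 0 := by rw [hform_smul_right, hxy, mul_zero]
  have htyty : hh (t • y) (t • y) = 0 := by
    rw [hform_smul_right, hform_smul_left, hyy, mul_zero, mul_zero]
  have hA : eg q x (t • y) 0 ∈ M := hK x hxV (t • y) (V₂.smul_mem t hyV) hxty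
  obtain ⟨v, hv⟩ : ∃ v : V, v = (eg q p r 0).1 *ᵥ (t • y) := ⟨_, rfl⟩
  have hconj := conj_eg hF (eg q p r 0) hτiso x (t • y) 0 hxx hxty (alpha_zero hF _ htyty)
  rw [hτx, ← hv] at hconj
  have hB : eg q x v 0 ∈ M := by
    rw [← hconj]
    exact M.mul_mem (M.mul_mem hτ hA) (M.inv_mem hτ)
  have hxv : hh x v = 0 := by
    have := hτiso x (t • y)
    rw [hτx, ← hv] at this
    rw [this]
    exact hxty
  have hvv : hh v v = 0 := by
    rw [hv, hτiso]
    exact htyty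
  have hveq : v = t • (y + r - β • p) := by
    rw [hv, Matrix.mulVec_smul, hτy]
  have hvy' : hh v y' = t := by
    have e1 : hh r y' = hh r₁ y' := by
      rw [hrr, hform_add_left, hp.tsU' r₂ hr₂ y' hy'V, add_zero]
    have e2 : hh p y' = hh a y' := by
      rw [hpab, hform_add_left, hp.tsU' b hb y' hy'V, add_zero]
    have e3 : hh r₁ y' - β * hh a y' = 1 := by
      have := hh_symm_one hF y' c₁ hy'c
      rw [hc₁, hform_sub_left, hform_smul_left] at this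
      exact this
    rw [hveq, hform_smul_left, hform_sub_left, hform_add_left, hform_smul_left,
      hp.tsU' y hyV y' hy'V, e1, e2, zero_add, e3, mul_one]
  have hy'v : hh y' v = t ^ q := by rw [← hform_conj hF, hvy']
  have hcomm := eg_comm hF x v y' 0 0 hxx hxv hxy' (alpha_zero hF v hvv) (alpha_zero hF y' hy'y')
  rw [hvy', hy'v, ht] at hcomm
  have : eg q x 0 c = eg q x v 0 * eg q x y' 0 * (eg q x y' 0 * eg q x v 0)⁻¹ := by
    rw [hcomm, mul_inv_cancel_right]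
  rw [this]
  exact M.mul_mem (M.mul_mem hB hC) (M.inv_mem (M.mul_mem hC hB))

theorem xs_of_moved (hF : Fintype.card F = q ^ 2) {V₁ V₂ : Submodule F V} (hp : UPair q V₁ V₂)
    (hk₁ : 5 ≤ finrank F V₁) (hk₂ : 5 ≤ finrank F V₂) (M : Subgroup GLn)
    (hM : M ≤ Cfsg.GU n F q ⊓ Cfsg.Geo.specialLinear (Fin n) F)
    (hK₁ : TransIn q M V₁ V₂) (hK₂ : TransIn q M V₂ V₁)
    (g : GLn) (hgM : g ∈ M) (v₀ : V) (hv₀ : v₀ ∈ V₁)
    (h1 : g.1 *ᵥ v₀ ∉ V₁) (h2' : g.1 *ᵥ v₀ ∉ V₂) : HasX q M V₁ ∨ HasX q M V₂ := by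
  obtain ⟨a, ha, b, hb, hpab⟩ := hp.decomp (g.1 *ᵥ v₀)
  have ha0 : a ≠ 0 := by
    rintro rfl
    rw [zero_add] at hpab
    rw [hpab] at h2'
    exact h2' hb
  have hb0 : b ≠ 0 := by
    rintro rfl
    rw [add_zero] at hpab
    rw [hpab] at h1
    exact h1 ha
  -- the vector `w`
  obtain ⟨W, hW⟩ : ∃ W : Submodule F V, W = V₂ ⊓ LinearMap.ker (hR q v₀) := ⟨_, rfl⟩
  have hfr := finrank_le_inf_ker_add_one V₂ (hR q v₀)
  rw [← hW] at hfr
  have hfr3 := finrank_span_pair_le' a b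
  have hinj : Function.Injective (Matrix.mulVecLin g.1) := fun x y h => gl_injective' g x y h
  have hnle : ¬ W.map (Matrix.mulVecLin g.1) ≤ Submodule.span F {a, b} := by
    intro hle
    have := Submodule.finrank_mono hle
    have h3 : finrank F ↥(W.map (Matrix.mulVecLin g.1)) = finrank F W :=
      (Submodule.equivMapOfInjective (Matrix.mulVecLin g.1) hinj _).finrank_eq.symm
    omega
  obtain ⟨r, hrN, hrS⟩ := SetLike.not_le_iff_exists.1 hnle
  obtain ⟨w, hwN, hwr⟩ := hrN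
  have hwr' : g.1 *ᵥ w = r := hwr
  rw [hW] at hwN
  obtain ⟨hwV, hwperp⟩ := hwN
  have hwv₀ : hh w v₀ = 0 := LinearMap.mem_ker.1 hwperp
  have hv₀w : hh v₀ w = 0 := hh_symm_zero hF w v₀ hwv₀
  have hgiso : IsIsoMat q g.1 := ((mem_GUSL_iff g).1 (hM hgM)).1
  have hv₀v₀ : hh v₀ v₀ = 0 := hp.tsU v₀ hv₀ v₀ hv₀
  have hww : hh w w = 0 := hp.tsU' w hwV w hwV
  have hpp : hh (g.1 *ᵥ v₀) (g.1 *ᵥ v₀) = 0 := by rw [hgiso]; exact hv₀v₀
  have hrr' : hh (g.1 *ᵥ w) (g.1 *ᵥ w) = 0 := by rw [hgiso]; exact hww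
  have hpr : hh (g.1 *ᵥ v₀) (g.1 *ᵥ w) = 0 := by rw [hgiso]; exact hv₀w
  have hτ : eg q (g.1 *ᵥ v₀) (g.1 *ᵥ w) 0 ∈ M := by
    rw [← conj_eg hF g hgiso v₀ w 0 hv₀v₀ hv₀w (alpha_zero hF w hww)]
    exact M.mul_mem (M.mul_mem hgM (hK₁ v₀ hv₀ w hwV hv₀w)) (M.inv_mem hgM)
  obtain ⟨r₁, hr₁, r₂, hr₂, hrr⟩ := hp.decomp (g.1 *ᵥ w)
  by_cases hc : r₁ ∉ Submodule.span F {a}
  · left
    exact xs_from hF hp hk₁ M hK₁ _ _ hpp hrr' hpr hτ a b r₁ r₂ ha hb hr₁ hr₂ hpab hrr ha0 hc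
  · right
    push Not at hc
    have hc2 : r₂ ∉ Submodule.span F {b} := by
      intro hc2
      apply hrS
      rw [← hwr', hrr]
      obtain ⟨l, hl⟩ := Submodule.mem_span_singleton.1 hc
      obtain ⟨k, hk⟩ := Submodule.mem_span_singleton.1 hc2
      rw [← hl, ← hk]
      exact Submodule.add_mem _ (Submodule.smul_mem _ _ (Submodule.subset_span (by simp)))
        (Submodule.smul_mem _ _ (Submodule.subset_span (by simp)))
    exact xs_from hF hp.symm hk₂ M hK₂ _ _ hpp hrr' hpr hτ b a r₂ r₁ hb ha hr₂ hr₁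
      (by rw [hpab, add_comm]) (by rw [hrr, add_comm]) hb0 hc2

theorem exists_moved {U U' : Submodule F V} (hp : UPair q U U') (hU0 : U ≠ ⊥)
    (hU'0 : U' ≠ ⊥) (g : GLn)
    (hg₁ : ¬ ((∀ u ∈ U, g.1 *ᵥ u ∈ U) ∧ (∀ u' ∈ U', g.1 *ᵥ u' ∈ U')))
    (hg₂ : ¬ ((∀ u ∈ U, g.1 *ᵥ u ∈ U') ∧ (∀ u' ∈ U', g.1 *ᵥ u' ∈ U))) :
    (∃ v₀ ∈ U, g.1 *ᵥ v₀ ∉ U ∧ g.1 *ᵥ v₀ ∉ U') ∨
      (∃ v₀ ∈ U', g.1 *ᵥ v₀ ∉ U' ∧ g.1 *ᵥ v₀ ∉ U) := by
  by_contra hcon
  push Not at hcon
  obtain ⟨h₁, h₂⟩ := hcon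
  have hall : ∀ (A : Submodule F V), (∀ u ∈ U, g.1 *ᵥ u ∈ A) → (∀ u' ∈ U', g.1 *ᵥ u' ∈ A) →
      ∀ v, v ∈ A := by
    intro A hA hA' v
    obtain ⟨a, ha, b, hb, hab⟩ := hp.decomp (g⁻¹.1 *ᵥ v)
    have := A.add_mem (hA a ha) (hA' b hb)
    rw [← Matrix.mulVec_add, ← hab, gl_act_inv'] at this
    exact this
  rcases into_one_of_two U U U' (Matrix.mulVecLin g.1) h₁ with hA | hA
  · rcases into_one_of_two U' U' U (Matrix.mulVecLin g.1) h₂ with hB | hB
    · exact hg₁ ⟨hA, hB⟩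
    · obtain ⟨u', hu', hu'0⟩ := (Submodule.ne_bot_iff U').1 hU'0
      exact hu'0 (hp.eq_zero_of_mem u' (hall U hA hB u') hu')
  · rcases into_one_of_two U' U' U (Matrix.mulVecLin g.1) h₂ with hB | hB
    · obtain ⟨u, hu, hu0⟩ := (Submodule.ne_bot_iff U).1 hU0
      exact hu0 (hp.eq_zero_of_mem u hu (hall U' hA hB u))
    · exact hg₂ ⟨hA, hB⟩

/-- transitivity: one transvection group with centre in `V₁` gives all of them -/
theorem xs_all_of_one (hF : Fintype.card F = q ^ 2) {V₁ V₂ : Submodule F V}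
    (hp : UPair q V₁ V₂) (M : Subgroup GLn)
    (hM : M ≤ Cfsg.GU n F q ⊓ Cfsg.Geo.specialLinear (Fin n) F) (hK : TransIn q M V₁ V₂)
    (hX : HasX q M V₁) : ∀ z ∈ V₁, z ∈ XM q M := by
  obtain ⟨x, hxV, hx0, hx⟩ := hX
  intro z hz
  by_cases hzx : z ∈ Submodule.span F {x}
  · obtain ⟨l, rfl⟩ := Submodule.mem_span_singleton.1 hzx
    exact XM_smul hF M l x hx
  · have hxu : x ∉ Submodule.span F {z - x} := by
      intro h
      obtain ⟨l, hl⟩ := Submodule.mem_span_singleton.1 h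
      apply hzx
      have hl0 : l ≠ 0 := by
        rintro rfl
        rw [zero_smul] at hl
        exact hx0 hl.symm
      have h3 : l⁻¹ • (l • (z - x)) = z - x := by rw [smul_smul, inv_mul_cancel₀ hl0, one_smul]
      rw [hl] at h3
      have h4 : z = (1 + l⁻¹) • x := by
        rw [add_smul, one_smul, h3]
        abel
      rw [h4]
      exact Submodule.smul_mem _ _ (Submodule.mem_span_singleton_self x)
    have hzxV : z - x ∈ V₁ := V₁.sub_mem hz hxV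
    obtain ⟨u', hu'V, hu'u, hu'x⟩ := hp.exists_dual hF (z - x) x hzxV hxV hxu
    have h0 : hh (z - x) (-u') = 0 := by
      rw [hform_neg_right hF, hh_symm_zero hF u' (z - x) hu'u, neg_zero]
    have h1 : hh x (-u') = -1 := by
      rw [hform_neg_right hF, hh_symm_one hF u' x hu'x]
    have huu : hh (z - x) (z - x) = 0 := hp.tsU _ hzxV _ hzxV
    have hu'u' : hh (-u') (-u') = 0 := hp.tsU' _ (V₂.neg_mem hu'V) _ (V₂.neg_mem hu'V)
    have hmem := hK (z - x) hzxV (-u') (V₂.neg_mem hu'V) h0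
    have hiso := eg_iso hF (z - x) (-u') 0 huu h0 (alpha_zero hF _ hu'u')
    have := XM_act hF M _ hmem hiso x hx
    rw [eg_act hF (z - x) (-u') 0 huu h0 (alpha_zero hF _ hu'u'), hp.tsU x hxV (z - x) hzxV, h1,
      zero_smul, add_zero, neg_smul, one_smul, sub_neg_eq_add, add_sub_cancel] at this
    exact this

end

end Cfsg.Agent.Lib.Helper43.SUPair
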