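import Cfsg.Agent.Lib.Helper43.SUPair2

set_option autoImplicit false
set_option linter.unusedSimpArgs false
set_option linter.unusedVariables false
set_option linter.unusedSectionVars false

/-! An element of `SU` interchanging two totally isotropic subspaces in perfect duality. -/

namespace Cfsg.Agent.Lib.Helper43.SUPair

open Module Matrix Cfsg.Agent.Lib.Helper08 Cfsg.Agent.Lib.Helper51 Cfsg.Agent.Lib.Helper43

section
variable {F : Type*} [Field F] [Fintype F] {q : ℕ} {n : ℕ}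

local notation "V" => (Fin n → F)
local notation "hh" => hform (Fin n) F q
local notation "GLn" => Matrix.GeneralLinearGroup (Fin n) F

variable (q) in
/-- the element `e ↦ -c⁻¹ f`, `f ↦ c e` of `SU` for a hyperbolic pair -/
noncomputable def wEl (e f : V) (c : F) : GLn := eg q e 0 c * eg q f 0 (-c⁻¹) * eg q e 0 c

theorem skew_neg_inv (hF : Fintype.card F = q ^ 2) (c : F) (hc : c + c ^ q = 0) :
    -c⁻¹ + (-c⁻¹) ^ q = 0 := by
  have hcq : c ^ q = -c := skew_pow c hc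
  rw [neg_pow_q hF, inv_pow, hcq]
  by_cases h0 : c = 0
  · rw [h0]; simp
  · field_simp
    ring

theorem tv_mem (hF : Fintype.card F = q ^ 2) (v : V) (c : F) (hv : hh v v = 0)
    (hc : c + c ^ q = 0) : eg q v 0 c ∈ Cfsg.GU n F q ⊓ Cfsg.Geo.specialLinear (Fin n) F :=
  eg_mem hF v 0 c hv (hform_zero_right'' hF v) (by rw [hform_zero_left, add_zero]; exact hc)

theorem wEl_mem (hF : Fintype.card F = q ^ 2) (e f : V) (c : F) (he : hh e e = 0)
    (hf : hh f f = 0) (hc : c + c ^ q = 0) :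
    wEl q e f c ∈ Cfsg.GU n F q ⊓ Cfsg.Geo.specialLinear (Fin n) F :=
  Subgroup.mul_mem _ (Subgroup.mul_mem _ (tv_mem hF e c he hc)
    (tv_mem hF f _ hf (skew_neg_inv hF c hc))) (tv_mem hF e c he hc)

theorem wEl_e (hF : Fintype.card F = q ^ 2) (e f : V) (c : F) (he : hh e e = 0)
    (hf : hh f f = 0) (hef : hh e f = 1) (hc : c + c ^ q = 0) (hc0 : c ≠ 0) :
    (wEl q e f c).1 *ᵥ e = (-c⁻¹) • f := by
  have hfe : hh f e = 1 := hh_symm_one hF e f hef
  have hd := skew_neg_inv hF c hc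
  unfold wEl
  rw [gl_mul_act', gl_mul_act', eg_zero_act hF e c he hc, eg_zero_act hF f _ hf hd,
    eg_zero_act hF e c he hc]
  simp only [hform_add_left, hform_smul_left, he, hf, hef, hfe, mul_zero, add_zero, zero_add,
    mul_one, zero_smul]
  have h1 : c * -c⁻¹ = -1 := by field_simp
  rw [h1]
  module

theorem wEl_f (hF : Fintype.card F = q ^ 2) (e f : V) (c : F) (he : hh e e = 0)
    (hf : hh f f = 0) (hef : hh e f = 1) (hc : c + c ^ q = 0) (hc0 : c ≠ 0) :
    (wEl q e f c).1 *ᵥ f = c • e := by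
  have hfe : hh f e = 1 := hh_symm_one hF e f hef
  have hd := skew_neg_inv hF c hc
  unfold wEl
  rw [gl_mul_act', gl_mul_act', eg_zero_act hF e c he hc, eg_zero_act hF f _ hf hd,
    eg_zero_act hF e c he hc]
  simp only [hform_add_left, hform_smul_left, he, hf, hef, hfe, mul_zero, add_zero, zero_add,
    mul_one, zero_smul]
  have h1 : -c⁻¹ * c = -1 := by field_simp
  rw [h1]
  module

theorem wEl_fix (hF : Fintype.card F = q ^ 2) (e f y : V) (c : F) (he : hh e e = 0)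
    (hf : hh f f = 0) (hc : c + c ^ q = 0) (hye : hh y e = 0) (hyf : hh y f = 0) :
    (wEl q e f c).1 *ᵥ y = y := by
  have hd := skew_neg_inv hF c hc
  unfold wEl
  rw [gl_mul_act', gl_mul_act', eg_zero_act hF e c he hc y, hye, mul_zero, zero_smul, add_zero,
    eg_zero_act hF f _ hf hd y, hyf, mul_zero, zero_smul, add_zero, eg_zero_act hF e c he hc y,
    hye, mul_zero, zero_smul, add_zero]

theorem exists_swap (hF : Fintype.card F = q ^ 2) :
    ∀ (j : ℕ) (U U' : Submodule F V), (∀ a ∈ U, ∀ b ∈ U, hh a b = 0) →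
      (∀ a ∈ U', ∀ b ∈ U', hh a b = 0) →
      (∀ u ∈ U, (∀ u' ∈ U', hh u u' = 0) → u = 0) →
      (∀ u' ∈ U', (∀ u ∈ U, hh u u' = 0) → u' = 0) →
      finrank F U = j →
      ∃ s : GLn, s ∈ Cfsg.GU n F q ⊓ Cfsg.Geo.specialLinear (Fin n) F ∧
        (∀ u ∈ U, s.1 *ᵥ u ∈ U') ∧ (∀ u' ∈ U', s.1 *ᵥ u' ∈ U) ∧
        (∀ v, (∀ u ∈ U, hh u v = 0) → (∀ u' ∈ U', hh u' v = 0) → s.1 *ᵥ v = v) := by
  intro j
  induction j with
  | zero =>
    intro U U' hU hU' hp₁ hp₂ hfr
    have hU0 : U = ⊥ := Submodule.finrank_eq_zero.1 hfr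
    have hU'0 : ∀ u' ∈ U', u' = 0 := by
      intro u' hu'
      apply hp₂ u' hu'
      intro u hu
      rw [hU0, Submodule.mem_bot] at hu
      rw [hu, hform_zero_left]
    refine ⟨1, Subgroup.one_mem _, ?_, ?_, ?_⟩
    · intro u hu
      rw [hU0, Submodule.mem_bot] at hu
      rw [hu, Matrix.mulVec_zero]
      exact U'.zero_mem
    · intro u' hu'
      rw [hU'0 u' hu', Matrix.mulVec_zero]
      exact U.zero_mem
    · intro v _ _
      rw [Units.val_one, Matrix.one_mulVec]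
  | succ j ih =>
    intro U U' hU hU' hp₁ hp₂ hfr
    have hUne : U ≠ ⊥ := by
      intro h
      rw [h, finrank_bot] at hfr
      omega
    obtain ⟨e, heU, he0⟩ := (Submodule.ne_bot_iff U).1 hUne
    obtain ⟨f₀, hf₀U, hef₀⟩ : ∃ f₀ ∈ U', hh e f₀ ≠ 0 := by
      by_contra hcon
      push Not at hcon
      exact he0 (hp₁ e heU hcon)
    obtain ⟨f, hfU, hfe⟩ : ∃ f ∈ U', hh f e = 1 := by
      have hne : hh f₀ e ≠ 0 := by
        rw [← hform_conj hF]
        exact pow_ne_zero _ hef₀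
      refine ⟨(hh f₀ e)⁻¹ • f₀, U'.smul_mem _ hf₀U, ?_⟩
      rw [hform_smul_left, inv_mul_cancel₀ hne]
    have hef : hh e f = 1 := hh_symm_one hF f e hfe
    have hee : hh e e = 0 := hU e heU e heU
    have hff : hh f f = 0 := hU' f hfU f hfU
    obtain ⟨c, hc0, hc⟩ := exists_skew_ne_zero hF (F := F) (q := q)
    obtain ⟨U₁, hU₁⟩ : ∃ U₁ : Submodule F V, U₁ = U ⊓ LinearMap.ker (hR q f) := ⟨_, rfl⟩
    obtain ⟨U₁', hU₁'⟩ : ∃ U₁' : Submodule F V, U₁' = U' ⊓ LinearMap.ker (hR q e) := ⟨_, rfl⟩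
    have hmem₁ : ∀ v, v ∈ U₁ ↔ v ∈ U ∧ hh v f = 0 := by
      intro v
      rw [hU₁, Submodule.mem_inf, LinearMap.mem_ker]
      rfl
    have hmem₁' : ∀ v, v ∈ U₁' ↔ v ∈ U' ∧ hh v e = 0 := by
      intro v
      rw [hU₁', Submodule.mem_inf, LinearMap.mem_ker]
      rfl
    have hfr₁ : finrank F U₁ = j := by
      have := Cfsg.Agent.Lib.Helper43.finrank_inf_ker_add_one U (hR q f)
        ⟨e, heU, by rw [hR_apply, hef]; exact one_ne_zero⟩
      rw [← hU₁] at this
      omega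
    have hp₁' : ∀ u ∈ U₁, (∀ u' ∈ U₁', hh u u' = 0) → u = 0 := by
      intro u hu h
      obtain ⟨huU, huf⟩ := (hmem₁ u).1 hu
      apply hp₁ u huU
      intro u' hu'
      have h1 : u' - hh u' e • f ∈ U₁' := by
        rw [hmem₁']
        refine ⟨U'.sub_mem hu' (U'.smul_mem _ hfU), ?_⟩
        rw [hform_sub_left, hform_smul_left, hfe, mul_one, sub_self]
      have h2 := h _ h1
      rw [hform_sub_right hF, hform_smul_right, huf, mul_zero, sub_zero] at h2
      exact h2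
    have hp₂' : ∀ u' ∈ U₁', (∀ u ∈ U₁, hh u u' = 0) → u' = 0 := by
      intro u' hu' h
      obtain ⟨hu'U, hu'e⟩ := (hmem₁' u').1 hu'
      apply hp₂ u' hu'U
      intro u hu
      have h1 : u - hh u f • e ∈ U₁ := by
        rw [hmem₁]
        refine ⟨U.sub_mem hu (U.smul_mem _ heU), ?_⟩
        rw [hform_sub_left, hform_smul_left, hef, mul_one, sub_self]
      have h2 := h _ h1
      rw [hform_sub_left, hform_smul_left, hh_symm_zero hF u' e hu'e, mul_zero, sub_zero] at h2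
      exact h2
    obtain ⟨s₁, hs₁sp, hm₁, hm₂, hfix⟩ := ih U₁ U₁'
      (fun a ha b hb => hU a ((hmem₁ a).1 ha).1 b ((hmem₁ b).1 hb).1)
      (fun a ha b hb => hU' a ((hmem₁' a).1 ha).1 b ((hmem₁' b).1 hb).1) hp₁' hp₂' hfr₁
    -- `s₁` fixes `e` and `f`
    have hs₁e : s₁.1 *ᵥ e = e := by
      apply hfix
      · intro u hu
        exact hU u ((hmem₁ u).1 hu).1 e heU
      · intro u' hu'
        exact ((hmem₁' u').1 hu').2
    have hs₁f : s₁.1 *ᵥ f = f := by
      apply hfix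
      · intro u hu
        exact ((hmem₁ u).1 hu).2
      · intro u' hu'
        exact hU' u' ((hmem₁' u').1 hu').1 f hfU
    refine ⟨wEl q e f c * s₁, Subgroup.mul_mem _ (wEl_mem hF e f c hee hff hc) hs₁sp, ?_, ?_, ?_⟩
    · intro u hu
      rw [gl_mul_act']
      obtain ⟨α, hα⟩ : ∃ α : F, α = hh u f := ⟨_, rfl⟩
      have hu₁ : u - α • e ∈ U₁ := by
        rw [hmem₁]
        refine ⟨U.sub_mem hu (U.smul_mem _ heU), ?_⟩
        rw [hform_sub_left, hform_smul_left, hef, hα, mul_one, sub_self]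
      have hdec : u = α • e + (u - α • e) := by abel
      have hy := hm₁ _ hu₁
      obtain ⟨hyU', hye⟩ := (hmem₁' _).1 hy
      rw [hdec, Matrix.mulVec_add, Matrix.mulVec_smul, hs₁e, Matrix.mulVec_add, Matrix.mulVec_smul,
        wEl_e hF e f c hee hff hef hc hc0, wEl_fix hF e f _ c hee hff hc hye (hU' _ hyU' f hfU)]
      exact U'.add_mem (U'.smul_mem _ (U'.smul_mem _ hfU)) hyU'
    · intro u' hu'
      rw [gl_mul_act']
      obtain ⟨α, hα⟩ : ∃ α : F, α = hh u' e := ⟨_, rfl⟩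
      have hu₁ : u' - α • f ∈ U₁' := by
        rw [hmem₁']
        refine ⟨U'.sub_mem hu' (U'.smul_mem _ hfU), ?_⟩
        rw [hform_sub_left, hform_smul_left, hfe, hα, mul_one, sub_self]
      have hdec : u' = α • f + (u' - α • f) := by abel
      have hy := hm₂ _ hu₁
      obtain ⟨hyU, hyf⟩ := (hmem₁ _).1 hy
      rw [hdec, Matrix.mulVec_add, Matrix.mulVec_smul, hs₁f, Matrix.mulVec_add, Matrix.mulVec_smul,
        wEl_f hF e f c hee hff hef hc hc0, wEl_fix hF e f _ c hee hff hc (hU _ hyU e heU) hyf]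
      exact U.add_mem (U.smul_mem _ (U.smul_mem _ heU)) hyU
    · intro v hvU hvU'
      rw [gl_mul_act']
      have h1 : s₁.1 *ᵥ v = v := by
        apply hfix
        · intro u hu
          exact hvU u ((hmem₁ u).1 hu).1
        · intro u' hu'
          exact hvU' u' ((hmem₁' u').1 hu').1
      rw [h1]
      apply wEl_fix hF e f v c hee hff hc
      · exact hh_symm_zero hF e v (hvU e heU)
      · exact hh_symm_zero hF f v (hvU' f hfU)

/-- an element of `SU` interchanging two complementary totally isotropic subspaces -/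
theorem exists_swap_su (hF : Fintype.card F = q ^ 2) {U U' : Submodule F V}
    (hp : UPair q U U') :
    ∃ s : GLn, s ∈ Cfsg.GU n F q ⊓ Cfsg.Geo.specialLinear (Fin n) F ∧
      (∀ u ∈ U, s.1 *ᵥ u ∈ U') ∧ (∀ u' ∈ U', s.1 *ᵥ u' ∈ U) := by
  have hp₁ : ∀ u ∈ U, (∀ u' ∈ U', hh u u' = 0) → u = 0 := by
    intro u hu h
    by_contra hu0
    obtain ⟨u', hu', hne⟩ := hp.pairing hF u hu hu0
    exact hne (h u' hu')
  have hp₂ : ∀ u' ∈ U', (∀ u ∈ U, hh u u' = 0) → u' = 0 := by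
    intro u' hu' h
    by_contra hu0
    obtain ⟨u, hu, hne⟩ := hp.symm.pairing hF u' hu' hu0
    exact hne (hh_symm_zero hF u u' (h u hu))
  obtain ⟨s, hs, hm₁, hm₂, -⟩ := exists_swap hF _ U U' hp.tsU hp.tsU' hp₁ hp₂ rfl
  exact ⟨s, hs, hm₁, hm₂⟩

end

end Cfsg.Agent.Lib.Helper43.SUPair
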