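import Cfsg.Agent.Lib.Helper43.SUPair3

set_option autoImplicit false
set_option linter.unusedSimpArgs false
set_option linter.unusedVariables false
set_option linter.unusedSectionVars false

/-! The stabiliser in `SU` of a pair of complementary totally isotropic subspaces is maximal. -/

namespace Cfsg.Agent.Lib.Helper43.SUPair

open Module Matrix Cfsg.Agent.Lib.Helper08 Cfsg.Agent.Lib.Helper51 Cfsg.Agent.Lib.Helper43

section
variable {F : Type*} [Field F] [Fintype F] {q : ℕ} {n : ℕ}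

local notation "V" => (Fin n → F)
local notation "hh" => hform (Fin n) F q
local notation "GLn" => Matrix.GeneralLinearGroup (Fin n) F

/-- the elements `E(u; u', 0)` stabilise both subspaces -/
theorem eg_trans_maps (hF : Fintype.card F = q ^ 2) {U U' : Submodule F V} (hp : UPair q U U')
    (u u' : V) (hu : u ∈ U) (hu' : u' ∈ U') (huu' : hh u u' = 0) :
    (∀ x ∈ U, (eg q u u' 0).1 *ᵥ x ∈ U) ∧ (∀ x ∈ U', (eg q u u' 0).1 *ᵥ x ∈ U') := by
  have h1 : hh u u = 0 := hp.tsU u hu u hu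
  have h2 : hh u' u' = 0 := hp.tsU' u' hu' u' hu'
  constructor
  · intro x hx
    rw [eg_act hF u u' 0 h1 huu' (alpha_zero hF u' h2), hp.tsU x hx u hu, zero_smul, add_zero]
    exact U.sub_mem hx (U.smul_mem _ hu)
  · intro x hx
    rw [eg_act hF u u' 0 h1 huu' (alpha_zero hF u' h2), hp.tsU' x hx u' hu', zero_smul, sub_zero,
      add_zero]
    exact U'.add_mem hx (U'.smul_mem _ hu')

/-- **overgroups of the stabiliser of a pair of complementary totally isotropic subspaces** -/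
theorem pair_maximal (hF : Fintype.card F = q ^ 2) (hn : 4 ≤ n) {U U' : Submodule F V}
    (hp : UPair q U U')
    (hk : 5 ≤ finrank F U) (hfr : finrank F U = finrank F U') (M : Subgroup GLn)
    (hM : M ≤ Cfsg.GU n F q ⊓ Cfsg.Geo.specialLinear (Fin n) F)
    (hK₁ : TransIn q M U U') (hK₂ : TransIn q M U' U)
    (s : GLn) (hsM : s ∈ M) (hs₁ : ∀ u ∈ U, s.1 *ᵥ u ∈ U') (hs₂ : ∀ u' ∈ U', s.1 *ᵥ u' ∈ U)
    (g : GLn) (hgM : g ∈ M)
    (hg₁ : ¬ ((∀ u ∈ U, g.1 *ᵥ u ∈ U) ∧ (∀ u' ∈ U', g.1 *ᵥ u' ∈ U')))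
    (hg₂ : ¬ ((∀ u ∈ U, g.1 *ᵥ u ∈ U') ∧ (∀ u' ∈ U', g.1 *ᵥ u' ∈ U))) :
    Cfsg.GU n F q ⊓ Cfsg.Geo.specialLinear (Fin n) F ≤ M := by
  have hk' : 5 ≤ finrank F U' := by omega
  have hU0 : U ≠ ⊥ := ne_bot_of_finrank_pos' U (by omega)
  have hU'0 : U' ≠ ⊥ := ne_bot_of_finrank_pos' U' (by omega)
  have hsiso : IsIsoMat q s.1 := ((mem_GUSL_iff s).1 (hM hsM)).1
  have hX : HasX q M U ∨ HasX q M U' := by
    rcases exists_moved hp hU0 hU'0 g hg₁ hg₂ with ⟨v₀, hv₀, h1, h2'⟩ | ⟨v₀, hv₀, h1, h2'⟩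
    · exact xs_of_moved hF hp hk hk' M hM hK₁ hK₂ g hgM v₀ hv₀ h1 h2'
    · exact (xs_of_moved hF hp.symm hk' hk M hM hK₂ hK₁ g hgM v₀ hv₀ h1 h2').symm
  have hboth : (∀ a ∈ U, a ∈ XM q M) ∧ (∀ a' ∈ U', a' ∈ XM q M) := by
    rcases hX with hr | hr
    · have hS := xs_all_of_one hF hp M hM hK₁ hr
      refine ⟨hS, fun a' ha' => ?_⟩
      obtain ⟨a, ha, rfl⟩ := DecompTwo.surj_of_into s U U' hs₁ hfr a' ha'
      exact XM_act hF M s hsM hsiso a (hS a ha)
    · have hS := xs_all_of_one hF hp.symm M hM hK₂ hr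
      refine ⟨fun a ha => ?_, hS⟩
      obtain ⟨a', ha', rfl⟩ := DecompTwo.surj_of_into s U' U hs₂ hfr.symm a ha
      exact XM_act hF M s hsM hsiso a' (hS a' ha')
  apply le_of_XM hF (by omega) M
  intro z hz
  obtain ⟨a, ha, b, hb, rfl⟩ := hp.decomp z
  have haX := hboth.1 a ha
  have hbX := hboth.2 b hb
  by_cases hab : hh a b = 0
  · by_cases hb0 : b = 0
    · rw [hb0, add_zero]
      exact haX
    · obtain ⟨a₀, ha₀, hne⟩ := hp.symm.pairing hF b hb hb0
      obtain ⟨c, hc0, hc⟩ := exists_skew_ne_zero hF (F := F) (q := q)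
      have hne' : hh a₀ b ≠ 0 := by
        rw [← hform_conj hF]
        exact pow_ne_zero _ hne
      obtain ⟨a', ha'def⟩ : ∃ a' : V, a' = (c / hh a₀ b) • a₀ := ⟨_, rfl⟩
      have ha' : a' ∈ U := by rw [ha'def]; exact U.smul_mem _ ha₀
      have ha'b : hh a' b = c := by
        rw [ha'def, hform_smul_left, div_mul_cancel₀ _ hne']
      have hba' : hh b a' = -c := by
        rw [← hform_conj hF, ha'b]
        exact skew_pow c hc
      have hba : hh b a = 0 := hh_symm_zero hF a b hab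
      have h1 : a' + b ∈ XM q M := by
        have hiso : hh (a' + (1 : F) • b) (a' + (1 : F) • b) = 0 := by
          rw [one_smul, hform_add_left, hform_add_right hF, hform_add_right hF,
            hp.tsU a' ha' a' ha', hp.tsU' b hb b hb, ha'b, hba']
          ring
        have := XM_hyp hF M a' b (hboth.1 a' ha') hbX 1 (by rw [ha'b]; exact hc0) hiso
        rw [one_smul] at this
        exact this
      have h3 : hh (a' + b) (a - a') ≠ 0 := by
        rw [hform_add_left, hform_sub_right hF, hform_sub_right hF, hp.tsU a' ha' a ha,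
          hp.tsU a' ha' a' ha', hba, hba']
        simpa using hc0
      have e : a' + b + (1 : F) • (a - a') = a + b := by
        rw [one_smul]
        abel
      have := XM_hyp hF M (a' + b) (a - a') h1 (hboth.1 _ (U.sub_mem ha ha')) 1 h3
        (by rw [e]; exact hz)
      rw [e] at this
      exact this
  · have := XM_hyp hF M a b haX hbX 1 hab (by rw [one_smul]; exact hz)
    rw [one_smul] at this
    exact this

/-- **the stabiliser of a pair of complementary totally isotropic subspaces is maximal in `SU`** -/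
theorem pair_maximal_geo (hF : Fintype.card F = q ^ 2) (hn : 4 ≤ n)
    (D : Fin 2 → Submodule F V)
    (hp : UPair q (D 0) (D 1)) (k : ℕ) (hfr0 : finrank F (D 0) = k) (hfr1 : finrank F (D 1) = k)
    (hk : 5 ≤ k) :
    Cfsg.Geo.IsMaximalIn (Cfsg.GU n F q ⊓ Cfsg.Geo.specialLinear (Fin n) F)
      (Cfsg.Geo.decompositionStabilizer D ⊓
        (Cfsg.GU n F q ⊓ Cfsg.Geo.specialLinear (Fin n) F)) := by
  have hfr : finrank F (D 0) = finrank F (D 1) := by rw [hfr0, hfr1]
  have hmem := DecompTwo.mem_decompStab_two_iff D hfr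
  apply DecompTwo.isMaximalIn_inf
  · -- properness
    have hU0 : D 0 ≠ ⊥ := ne_bot_of_finrank_pos' (D 0) (by omega)
    obtain ⟨a, ha, ha0⟩ := (Submodule.ne_bot_iff (D 0)).1 hU0
    obtain ⟨y, hy, hay⟩ := hp.pairing hF a ha ha0
    obtain ⟨c, hc0, hc⟩ := exists_skew_ne_zero hF (F := F) (q := q)
    have haa : hh a a = 0 := hp.tsU a ha a ha
    have hya : hh y a ≠ 0 := by
      rw [← hform_conj hF]
      exact pow_ne_zero _ hay
    have hy0 : y ≠ 0 := by
      rintro rfl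
      exact hya (hform_zero_left a)
    refine ⟨eg q a 0 c, tv_mem hF a c haa hc, fun hcon => ?_⟩
    have himg : (eg q a 0 c).1 *ᵥ y = y + (c * hh y a) • a := eg_zero_act hF a c haa hc y
    have hcne : c * hh y a ≠ 0 := mul_ne_zero hc0 hya
    rcases (hmem _).1 hcon with ⟨-, h1⟩ | ⟨-, h1⟩
    · have := h1 y hy
      rw [himg] at this
      have h3 := (D 1).sub_mem this hy
      rw [add_sub_cancel_left] at h3
      have h4 : a ∈ D 1 := by
        have := (D 1).smul_mem (c * hh y a)⁻¹ h3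
        rwa [smul_smul, inv_mul_cancel₀ hcne, one_smul] at this
      exact ha0 (hp.eq_zero_of_mem a ha h4)
    · have := h1 y hy
      rw [himg] at this
      have h3 := (D 0).sub_mem this ((D 0).smul_mem (c * hh y a) ha)
      rw [add_sub_cancel_right] at h3
      exact hy0 (hp.eq_zero_of_mem y h3 hy)
  · intro M hHM hMI g hgM hg
    have hg' : ¬ (((∀ u ∈ D 0, g.1 *ᵥ u ∈ D 0) ∧ (∀ u' ∈ D 1, g.1 *ᵥ u' ∈ D 1)) ∨
        ((∀ u ∈ D 0, g.1 *ᵥ u ∈ D 1) ∧ (∀ u' ∈ D 1, g.1 *ᵥ u' ∈ D 0))) :=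
      fun h => hg ((hmem g).2 h)
    obtain ⟨hg₁, hg₂⟩ := not_or.1 hg'
    have hK₁ : TransIn q M (D 0) (D 1) := by
      intro u hu u' hu' huu'
      apply hHM
      exact ⟨(hmem _).2 (Or.inl (eg_trans_maps hF hp u u' hu hu' huu')),
        eg_mem hF u u' 0 (hp.tsU u hu u hu) huu' (alpha_zero hF u' (hp.tsU' u' hu' u' hu'))⟩
    have hK₂ : TransIn q M (D 1) (D 0) := by
      intro u' hu' u hu hu'u
      apply hHM
      have := eg_trans_maps hF hp.symm u' u hu' hu hu'u
      exact ⟨(hmem _).2 (Or.inl ⟨this.2, this.1⟩),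
        eg_mem hF u' u 0 (hp.tsU' u' hu' u' hu') hu'u (alpha_zero hF u (hp.tsU u hu u hu))⟩
    obtain ⟨s, hssp, hs₁, hs₂⟩ := exists_swap_su hF hp
    have hsM : s ∈ M := hHM ⟨(hmem s).2 (Or.inr ⟨hs₁, hs₂⟩), hssp⟩
    exact pair_maximal hF hn hp (by omega) hfr M hMI hK₁ hK₂ s hsM hs₁ hs₂ g hgM hg₁ hg₂

end

end Cfsg.Agent.Lib.Helper43.SUPair
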