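import Cfsg.Agent.Lib.Helper43.AutPSpEven3
import Cfsg.Agent.Lib.Helper43.AutPSpMain2
import Cfsg.Agent.Lib.Helper18.SympWitt

set_option autoImplicit false
set_option linter.unusedSimpArgs false
set_option linter.unusedVariables false
set_option linter.unusedSectionVars false

/-! Characteristic two, any rank: the class of transvections of `PSp_2m(F)`; an automorphism
preserving it permutes the root subgroups. -/

namespace Cfsg.Agent.Lib.Helper43.AutPSp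

open Matrix Cfsg.Agent.Lib.Helper18 Cfsg.Agent.Lib.Helper11.SpPerfect

section
variable {F : Type*} [Field F] [Finite F] [CharP F 2] (m : ℕ)

local notation "V" => (Fin m ⊕ Fin m → F)
local notation "f" => Cfsg.sympForm m F
local notation "G" => Matrix.symplecticGroup (Fin m) F

/-- a non-alternating involution which is not a transvection has a conjugate whose product with
it has order four (any rank) -/
theorem exists_order_four_nonalt {x : G} (hx2 : x * x = 1)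
    (hnt : ∀ (v : V) (c : F), x ≠ tv m v c) (z₀ : V) (hz₀ : f z₀ (Nx m x z₀) ≠ 0) :
    ∃ g : G, (x * (g * x * g⁻¹)) ^ 4 = 1 ∧ (x * (g * x * g⁻¹)) ^ 2 ≠ 1 := by
  obtain ⟨c, hc⟩ := exists_sqrt (f z₀ (Nx m x z₀))⁻¹
  obtain ⟨z₁, hz₁⟩ : ∃ z₁ : V, z₁ = c • z₀ := ⟨_, rfl⟩
  have h11 : f z₁ (Nx m x z₁) = 1 := by
    rw [hz₁, Nx_smul, sf_smul_left, sf_smul_right, ← mul_assoc, hc, inv_mul_cancel₀ hz₀]
  obtain ⟨w₁, hw₁⟩ : ∃ w₁ : V, w₁ = Nx m x z₁ := ⟨_, rfl⟩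
  have hNw₁ : Nx m x w₁ = 0 := by rw [hw₁]; exact Nx_Nx m hx2 z₁
  obtain ⟨u₀, hu₀⟩ : ∃ u₀ : V, x.1 *ᵥ u₀ ≠ (tv m w₁ 1).1 *ᵥ u₀ := by
    by_contra hcon
    push Not at hcon
    exact hnt w₁ 1 (sp_ext m _ _ hcon)
  rw [act_eq_Nx, tv_act, one_mul] at hu₀
  have hu₀' : Nx m x u₀ ≠ f u₀ w₁ • w₁ := fun h => hu₀ (by rw [h])
  obtain ⟨y₂, hy₂⟩ : ∃ y₂ : V, y₂ = u₀ + f u₀ w₁ • z₁ := ⟨_, rfl⟩
  have hNy₂ : Nx m x y₂ = Nx m x u₀ + f u₀ w₁ • w₁ := by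
    rw [hy₂, Nx_add, Nx_smul, hw₁]
  have hNy₂ne : Nx m x y₂ ≠ 0 := by
    intro h0
    rw [hNy₂] at h0
    exact hu₀' (eq_of_vadd_eq_zero m h0)
  have h1y : f z₁ (Nx m x y₂) = 0 := by
    rw [hNy₂, sf_add_right, sf_smul_right, ← sf_Nx m hx2, ← hw₁, sf_symm2 m w₁ u₀,
      sf_symm2 m z₁ w₁, hw₁, sf_symm2 m (Nx m x z₁) z₁, h11, mul_one, add_self_eq_zero']
  by_cases hB : f y₂ (Nx m x y₂) = 0
  · obtain ⟨z₂, hz₂⟩ : ∃ z₂ : V, z₂ = y₂ + f z₁ y₂ • w₁ := ⟨_, rfl⟩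
    have hNz₂ : Nx m x z₂ = Nx m x y₂ := by
      rw [hz₂, Nx_add, Nx_smul, hNw₁, smul_zero, add_zero]
    have h12 : f z₁ z₂ = 0 := by
      rw [hz₂, sf_add_right, sf_smul_right, hw₁, h11, mul_one, add_self_eq_zero']
    have h1n2 : f z₁ (Nx m x z₂) = 0 := by rw [hNz₂, h1y]
    have h22 : f z₂ (Nx m x z₂) = 0 := by
      rw [hNz₂, hz₂, sf_add_left, sf_smul_left, hB, hw₁, sf_Nx_Nx m hx2, mul_zero, add_zero]
    have h2n1 : f z₂ (Nx m x z₁) = 0 := by rw [← sf_Nx m hx2, sf_symm2, h1n2]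
    apply order_four_P2 m hx2 z₁ (z₁ + z₂)
    · rw [sf_add_right, sf_self, h12, add_zero]
    · exact h11
    · rw [Nx_add, sf_add_right, h11, h1n2, add_zero]
    · rw [Nx_add, sf_add_left, sf_add_right, sf_add_right, h11, h1n2, h2n1, h22]
      ring
    · have : z₁ + (z₁ + z₂) = z₂ := by rw [← add_assoc, vadd_self, zero_add]
      rw [this, hNz₂]
      exact hNy₂ne
  · obtain ⟨c₂, hc₂⟩ := exists_sqrt (f y₂ (Nx m x y₂))⁻¹
    obtain ⟨y₃, hy₃⟩ : ∃ y₃ : V, y₃ = c₂ • y₂ := ⟨_, rfl⟩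
    have h33 : f y₃ (Nx m x y₃) = 1 := by
      rw [hy₃, Nx_smul, sf_smul_left, sf_smul_right, ← mul_assoc, hc₂, inv_mul_cancel₀ hB]
    have h1y₃ : f z₁ (Nx m x y₃) = 0 := by
      rw [hy₃, Nx_smul, sf_smul_right, h1y, mul_zero]
    obtain ⟨z₂, hz₂⟩ : ∃ z₂ : V, z₂ = y₃ + f z₁ y₃ • w₁ := ⟨_, rfl⟩
    have hNz₂ : Nx m x z₂ = Nx m x y₃ := by
      rw [hz₂, Nx_add, Nx_smul, hNw₁, smul_zero, add_zero]
    have h12 : f z₁ z₂ = 0 := by
      rw [hz₂, sf_add_right, sf_smul_right, hw₁, h11, mul_one, add_self_eq_zero']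
    have h1n2 : f z₁ (Nx m x z₂) = 0 := by rw [hNz₂, h1y₃]
    have h22 : f z₂ (Nx m x z₂) = 1 := by
      rw [hNz₂, hz₂, sf_add_left, sf_smul_left, h33, hw₁, sf_Nx_Nx m hx2, mul_zero, add_zero]
    exact order_four_P1 m hx2 z₁ z₂ h12 h11 h1n2 h22

/-- the hyperbolic frame attached to an alternating involution -/
theorem exists_alt_frame {x : G} (hx2 : x * x = 1) (hx1 : x ≠ 1)
    (hA : ∀ z : V, f z (Nx m x z) = 0) :
    ∃ z₁ z₂ : V, f z₁ z₂ = 0 ∧ f z₁ (Nx m x z₂) = 1 ∧ f z₂ (Nx m x z₁) = 1 ∧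
      f (Nx m x z₁) (Nx m x z₂) = 0 := by
  obtain ⟨z₁, hz₁⟩ : ∃ z₁ : V, Nx m x z₁ ≠ 0 := by
    by_contra hcon
    push Not at hcon
    apply hx1
    apply sp_ext
    intro u
    rw [act_eq_Nx, hcon, add_zero, act_one]
  obtain ⟨y₂, hy₂⟩ := exists_pair_ne_zero m hz₁
  have h1y : f z₁ (Nx m x y₂) = 1 := by
    rw [← sf_Nx m hx2, sf_symm2, hy₂]
  obtain ⟨z₂, hz₂⟩ : ∃ z₂ : V, z₂ = y₂ + f z₁ y₂ • Nx m x y₂ := ⟨_, rfl⟩
  have hNz₂ : Nx m x z₂ = Nx m x y₂ := by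
    rw [hz₂, Nx_add, Nx_smul, Nx_Nx m hx2, smul_zero, add_zero]
  have h12 : f z₁ z₂ = 0 := by
    rw [hz₂, sf_add_right, sf_smul_right, h1y, mul_one, add_self_eq_zero']
  have h1n2 : f z₁ (Nx m x z₂) = 1 := by rw [hNz₂, h1y]
  have h2n1 : f z₂ (Nx m x z₁) = 1 := by rw [← sf_Nx m hx2, sf_symm2, h1n2]
  exact ⟨z₁, z₂, h12, h1n2, h2n1, sf_Nx_Nx m hx2 z₁ z₂⟩

/-- the long root elements: the images of the transvections -/
def TL : Set (Cfsg.PSp m F) := {z | ∃ v : V, v ≠ 0 ∧ z = prj m (tv m v 1)}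

theorem prj_tv_mem_TL {v : V} (hv : v ≠ 0) {c : F} (hc : c ≠ 0) : prj m (tv m v c) ∈ TL m := by
  obtain ⟨d, hd⟩ := exists_sqrt c
  have hd0 : d ≠ 0 := by
    rintro rfl
    rw [mul_zero] at hd
    exact hc hd.symm
  refine ⟨d • v, smul_ne_zero hd0 hv, ?_⟩
  rw [tv_smul, mul_one, hd]

theorem TL_isT [NeZero m] {z : Cfsg.PSp m F} (hz : z ∈ TL m) : IsT z := by
  obtain ⟨v, hv, rfl⟩ := hz
  refine ⟨fun h => tv_one_ne_one m hv (prj_injective m (by rw [h, map_one])),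
    by rw [← map_mul, tv_sq, map_one], ?_⟩
  intro gb hgb
  obtain ⟨g, rfl⟩ := prj_surjective m gb
  have e : prj m (tv m v 1) * (prj m g * prj m (tv m v 1) * (prj m g)⁻¹)
      = prj m (tv m v 1 * (g * tv m v 1 * g⁻¹)) := by
    simp only [map_mul, map_inv]
  rw [e, ← map_pow] at hgb ⊢
  have h4 : (tv m v 1 * (g * tv m v 1 * g⁻¹)) ^ 4 = 1 :=
    prj_injective m (by rw [hgb, map_one])
  rw [tv_no_order_four m v 1 g h4, map_one]

theorem TL_conj_mem {z : Cfsg.PSp m F} (hz : z ∈ TL m) (t : Cfsg.PSp m F) :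
    t * z * t⁻¹ ∈ TL m := by
  obtain ⟨v, hv, rfl⟩ := hz
  obtain ⟨s, rfl⟩ := prj_surjective m t
  refine ⟨s.1 *ᵥ v, act_ne_zero m s hv, ?_⟩
  rw [← conj_tv, map_mul, map_mul, map_inv]

theorem TL_conj {z z' : Cfsg.PSp m F} (hz : z ∈ TL m) (hz' : z' ∈ TL m) :
    ∃ t : Cfsg.PSp m F, z' = t * z * t⁻¹ := by
  obtain ⟨v, hv, rfl⟩ := hz
  obtain ⟨w, hw, rfl⟩ := hz'
  obtain ⟨A, hA⟩ := exists_symp_map_frame (k := 1) (fun _ => v) (fun _ => w)
    (LinearIndependent.of_subsingleton (0 : Fin 1) hv)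
    (LinearIndependent.of_subsingleton (0 : Fin 1) hw)
    (fun i j => by rw [sf_self, sf_self])
  refine ⟨prj m A, ?_⟩
  rw [← map_inv, ← map_mul, ← map_mul, conj_tv, hA 0]

/-- the long root elements commuting with a given element -/
def CL (z : Cfsg.PSp m F) : Set (Cfsg.PSp m F) := {s | s ∈ TL m ∧ s * z = z * s}

theorem CL_map (β : MulAut (Cfsg.PSp m F)) (hβ : (⇑β) '' TL m = TL m) (z : Cfsg.PSp m F) :
    CL m (β z) = (⇑β) '' CL m z := by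
  ext s
  constructor
  · rintro ⟨hT, hc⟩
    rw [← hβ] at hT
    obtain ⟨s₀, hs₀, rfl⟩ := hT
    refine ⟨s₀, ⟨hs₀, ?_⟩, rfl⟩
    rw [← map_mul, ← map_mul] at hc
    exact β.injective hc
  · rintro ⟨s₀, ⟨hs₀, hc⟩, rfl⟩
    refine ⟨?_, by rw [← map_mul, ← map_mul, hc]⟩
    rw [← hβ]
    exact ⟨s₀, hs₀, rfl⟩

theorem CL_eq_iff [NeZero m] (hm : 2 ≤ m) {v w : V} (hv : v ≠ 0) (hw : w ≠ 0) :
    CL m (prj m (tv m v 1)) = CL m (prj m (tv m w 1)) ↔ ∃ c : F, c ≠ 0 ∧ w = c • v := by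
  constructor
  · intro h
    obtain ⟨c, hc⟩ : ∃ c : F, w = c • v := by
      apply perp_perp m hv
      intro y hy
      by_cases hy0 : y = 0
      · subst hy0; exact sf_zero_left m _
      have h1 : prj m (tv m y 1) ∈ CL m (prj m (tv m v 1)) :=
        ⟨⟨y, hy0, rfl⟩, (prj_tv_comm_iff m hm hv).mpr hy⟩
      rw [h] at h1
      exact (prj_tv_comm_iff m hm hw).mp h1.2
    refine ⟨c, ?_, hc⟩
    rintro rfl
    rw [zero_smul] at hc
    exact hw hc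
  · rintro ⟨c, hc, rfl⟩
    ext s
    constructor
    · rintro ⟨hT, hcomm⟩
      refine ⟨hT, ?_⟩
      obtain ⟨y, hy0, rfl⟩ := hT
      have := (prj_tv_comm_iff m hm hv).mp hcomm
      exact (prj_tv_comm_iff m hm hw).mpr (by rw [sf_smul_right, this, mul_zero])
    · rintro ⟨hT, hcomm⟩
      refine ⟨hT, ?_⟩
      obtain ⟨y, hy0, rfl⟩ := hT
      have := (prj_tv_comm_iff m hm hw).mp hcomm
      rw [sf_smul_right] at this
      exact (prj_tv_comm_iff m hm hv).mpr ((mul_eq_zero.mp this).resolve_left hc)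

/-- the root subgroups in terms of the class of transvections -/
theorem Xb_eq_TL [NeZero m] (hm : 2 ≤ m) {v : V} (hv : v ≠ 0) :
    Xb m v = {z | z = 1 ∨ (z ∈ TL m ∧ CL m z = CL m (prj m (tv m v 1)))} := by
  ext z
  constructor
  · rintro ⟨c, rfl⟩
    beta_reduce
    by_cases hc : c = 0
    · left
      rw [hc, tv_zero, map_one]
    · right
      obtain ⟨d, hd⟩ := exists_sqrt c
      have hd0 : d ≠ 0 := by
        rintro rfl
        rw [mul_zero] at hd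
        exact hc hd.symm
      have e : tv m v c = tv m (d • v) 1 := by rw [tv_smul, mul_one, hd]
      rw [e]
      exact ⟨⟨d • v, smul_ne_zero hd0 hv, rfl⟩,
        ((CL_eq_iff m hm hv (smul_ne_zero hd0 hv)).mpr ⟨d, hd0, rfl⟩).symm⟩
  · rintro (rfl | ⟨hT, hCT⟩)
    · exact ⟨0, by beta_reduce; rw [tv_zero, map_one]⟩
    · obtain ⟨w, hw, rfl⟩ := hT
      obtain ⟨c, hc, rfl⟩ := (CL_eq_iff m hm hv hw).mp hCT.symm
      exact ⟨c * c * 1, by beta_reduce; rw [tv_smul]⟩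

/-- an automorphism preserving the class of transvections permutes the root subgroups -/
theorem permRoot_of_TL [NeZero m] (hm : 2 ≤ m) (β : MulAut (Cfsg.PSp m F))
    (hβ : (⇑β) '' TL m = TL m) (v : V) (hv : v ≠ 0) :
    ∃ w : V, w ≠ 0 ∧ (⇑β) '' Xb m v = Xb m w := by
  have hT₁ : β (prj m (tv m v 1)) ∈ TL m := by
    rw [← hβ]
    exact ⟨_, ⟨v, hv, rfl⟩, rfl⟩
  obtain ⟨w, hw, ha⟩ := hT₁
  refine ⟨w, hw, ?_⟩
  rw [Xb_eq_TL m hm hv, Xb_eq_TL m hm hw]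
  ext s
  constructor
  · rintro ⟨z, (rfl | ⟨hT, hCT⟩), rfl⟩
    · left; exact map_one β
    · right
      refine ⟨?_, by rw [CL_map m β hβ, hCT, ← CL_map m β hβ, ha]⟩
      rw [← hβ]
      exact ⟨z, hT, rfl⟩
  · rintro (rfl | ⟨hT, hCT⟩)
    · exact ⟨1, Or.inl rfl, map_one β⟩
    · have hT' : β⁻¹ s ∈ TL m := by
        rw [← hβ] at hT
        obtain ⟨s₀, hs₀, rfl⟩ := hT
        simpa using hs₀
      refine ⟨β⁻¹ s, Or.inr ⟨hT', ?_⟩, by simp⟩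
      have h1 : (⇑β) '' CL m (β⁻¹ s) = (⇑β) '' CL m (prj m (tv m v 1)) := by
        rw [← CL_map m β hβ, ← CL_map m β hβ, ha]
        simpa using hCT
      exact Set.image_injective.mpr β.injective h1

theorem TL_image_inv (β : MulAut (Cfsg.PSp m F)) (hβ : (⇑β) '' TL m = TL m) :
    (⇑β⁻¹) '' TL m = TL m := by
  nth_rewrite 1 [← hβ]
  rw [← Set.image_comp]
  have : (⇑β⁻¹ ∘ ⇑β) = id := by
    ext z
    simp
  rw [this, Set.image_id]

/-- an automorphism preserving the class of transvections is induced by a semilinear map -/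
theorem induced_of_TL [NeZero m] (hm : 2 ≤ m) (β : MulAut (Cfsg.PSp m F))
    (hβ : (⇑β) '' TL m = TL m) :
    ∃ (g : GL (Fin m ⊕ Fin m) F) (σ : F ≃+* F), g ∈ Cfsg.GSp m F ∧
      Cfsg.IsInducedBySemilinearPSp g σ β :=
  induced_of_permRoot' m hm β (permRoot_of_TL m hm β hβ)
    (permRoot_of_TL m hm β⁻¹ (TL_image_inv m β hβ))

end

end Cfsg.Agent.Lib.Helper43.AutPSp
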