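import Cfsg.Agent.Lib.Helper43.Sp4Graph1
import Cfsg.Agent.Lib.Helper43.AutPSpGram

set_option autoImplicit false
set_option linter.unusedSimpArgs false
set_option linter.unusedVariables false
set_option linter.unusedSectionVars false

/-! The exceptional isogeny of `Sp_4` in characteristic two as an automorphism whose square is
the Frobenius field automorphism. -/

namespace Cfsg.Agent.Lib.Helper43.AutPSp

open Matrix Cfsg.Agent.Lib.Helper18 Cfsg.Agent.Lib.Helper11.SpPerfect

/-- first members of the hyperbolic coordinate pairs orthogonal to a coordinate -/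
def ra : I4 → I4 := Sum.elim ![Sum.inr 1, Sum.inr 0] ![Sum.inr 1, Sum.inr 0]

/-- second members of the hyperbolic coordinate pairs orthogonal to a coordinate -/
def rb : I4 → I4 := Sum.elim ![Sum.inl 1, Sum.inl 0] ![Sum.inl 1, Sum.inl 0]

section
variable {F : Type*} [Field F] [CharP F 2]

local notation "V" => (I4 → F)
local notation "f" => Cfsg.sympForm 2 F
local notation "G" => Matrix.symplecticGroup (Fin 2) F
local notation "Mat" => Matrix I4 I4 F

theorem sf_single_ra (k : I4) :
    f (Pi.single k (1 : F)) (Pi.single (ra k) (1 : F)) = 0 := by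
  revert k
  apply I4.forall <;> simp [sf4, Pi.single_apply, ra]

theorem sf_single_rb (k : I4) :
    f (Pi.single k (1 : F)) (Pi.single (rb k) (1 : F)) = 0 := by
  revert k
  apply I4.forall <;> simp [sf4, Pi.single_apply, rb]

theorem sf_single_ra_rb (k : I4) :
    f (Pi.single (ra k) (1 : F)) (Pi.single (rb k) (1 : F)) = 1 := by
  revert k
  apply I4.forall <;> simp [sf4, Pi.single_apply, ra, rb]

/-- the form on the rows of a symplectic matrix -/
theorem row_sf (s : G) (i j : I4) :
    f (fun k => s.1 i k) (fun k => s.1 j k) = Matrix.J (Fin 2) F i j := by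
  have h := congrFun (congrFun ((SymplecticGroup.mem_iff).mp s.2) i) j
  rw [← h, Matrix.mul_assoc, Matrix.mul_apply]
  rfl

theorem rows_iso (s : G) (x : I4) :
    f (fun k => s.1 (pa x) k) (fun k => s.1 (pb x) k) = 0 := by
  rw [row_sf]
  revert x
  apply I4.forall <;> simp [Matrix.J, Matrix.fromBlocks]

theorem psi_kap (s : G) (u v : V) (huv : f u v = 0) :
    psiM s.1 *ᵥ kap u v = kap (s.1 *ᵥ u) (s.1 *ᵥ v) :=
  (kap_mulVec (two_eq_zero' (F := F)) s.1 (rows_iso s) u v huv).symm

theorem psiM_single (s : G) (y : I4) :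
    psiM s.1 *ᵥ Pi.single y 1
      = kap (s.1 *ᵥ Pi.single (pa y) 1) (s.1 *ᵥ Pi.single (pb y) 1) := by
  rw [← psi_kap s _ _ (sf_single_pair y), kap_single]

theorem mat_ext_single {A B : Mat} (h : ∀ y, A *ᵥ Pi.single y 1 = B *ᵥ Pi.single y 1) :
    A = B := by
  ext i j
  have := congrFun (h j) i
  simpa using this

theorem psiM_mul (s t : G) : psiM (s * t).1 = psiM s.1 * psiM t.1 := by
  apply mat_ext_single
  intro y
  rw [psiM_single, act_mul, act_mul, ← psi_kap s, ← psiM_single, Matrix.mulVec_mulVec]
  rw [act_sf]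
  exact sf_single_pair y

theorem psiM_one : psiM (1 : G).1 = (1 : Mat) := by
  apply mat_ext_single
  intro y
  rw [psiM_single, act_one, act_one, kap_single, Matrix.one_mulVec]

theorem mem_symp_of_basis (A : Mat)
    (h : ∀ k l : I4, f (A *ᵥ Pi.single k 1) (A *ᵥ Pi.single l 1)
      = f (Pi.single k (1 : F)) (Pi.single l (1 : F))) :
    A ∈ Matrix.symplecticGroup (Fin 2) F := by
  have hM : Aᵀ * Matrix.J (Fin 2) F * A = Matrix.J (Fin 2) F := by
    ext k l
    have h1 := h k l
    rw [sf_mulVec_mulVec] at h1
    unfold Cfsg.sympForm at h1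
    simpa using h1
  apply mem_symp_of_preserving
  intro x y
  rw [sf_mulVec_mulVec, hM]
  rfl

theorem psiM_mem (s : G) : psiM s.1 ∈ Matrix.symplecticGroup (Fin 2) F := by
  apply mem_symp_of_basis
  intro k l
  have h2 := two_eq_zero' (F := F)
  rw [psiM_single, psiM_single, sf_kap_kap h2, act_sf, act_sf, act_sf, act_sf,
    ← sf_kap_kap h2 _ _ _ _ (sf_single_pair k) (sf_single_pair l), kap_single, kap_single]
  · rw [act_sf]; exact sf_single_pair k
  · rw [act_sf]; exact sf_single_pair l

/-- the exceptional isogeny as an endomorphism of `Sp_4` -/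
def psiHom : G →* G where
  toFun s := ⟨psiM s.1, psiM_mem s⟩
  map_one' := Subtype.ext psiM_one
  map_mul' s t := Subtype.ext (psiM_mul s t)

theorem psiHom_val (s : G) : (psiHom s).1 = psiM s.1 := rfl

/-- the squaring map of a field of characteristic two -/
def sqHom : F →+* F where
  toFun x := x * x
  map_one' := one_mul 1
  map_mul' x y := by ring
  map_zero' := zero_mul 0
  map_add' x y := by linear_combination (x * y) * two_eq_zero' (F := F)

/-- the Frobenius automorphism of a finite field of characteristic two -/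
noncomputable def sqAut [Finite F] : RingAut F :=
  RingEquiv.ofBijective (sqHom (F := F)) (Finite.injective_iff_bijective.mp (sqHom (F := F)).injective)

theorem sqAut_apply [Finite F] (x : F) : sqAut x = x * x := rfl

/-- the isogeny applied twice is the Frobenius map -/
theorem psiHom_psiHom [Finite F] (s : G) : psiHom (psiHom s) = fA 2 sqAut s := by
  apply Subtype.ext
  rw [psiHom_val, fA_val]
  apply mat_ext_single
  intro k
  have h2 := two_eq_zero' (F := F)
  have hk : (Pi.single k 1 : V) = kap (kap (Pi.single k 1) (Pi.single (ra k) 1))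
      (kap (Pi.single k 1) (Pi.single (rb k) 1)) := by
    rw [kap_kap_kap h2 _ _ _ (sf_single_ra k) (sf_single_rb k), sf_single_ra_rb, ]
    funext x
    rw [one_mul, Pi.single_apply]
    split_ifs <;> simp
  have hiso : f (kap (Pi.single k (1 : F)) (Pi.single (ra k) 1))
      (kap (Pi.single k (1 : F)) (Pi.single (rb k) 1)) = 0 := by
    rw [sf_kap_kap h2 _ _ _ _ (sf_single_ra k) (sf_single_rb k), sf_self, zero_mul,
      sf_single_rb, zero_mul, sub_zero]
  nth_rewrite 1 [hk]
  rw [psi_kap (psiHom s) _ _ hiso, psiHom_val, psi_kap s _ _ (sf_single_ra k),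
    psi_kap s _ _ (sf_single_rb k), kap_kap_kap h2, act_sf, sf_single_ra_rb]
  · funext x
    rw [one_mul]
    simp [sqAut_apply]
  · rw [act_sf]; exact sf_single_ra k
  · rw [act_sf]; exact sf_single_rb k

theorem psiHom_bijective [Finite F] : Function.Bijective (psiHom (F := F)) := by
  constructor
  · intro s t h
    have h1 : fA 2 sqAut s = fA 2 sqAut t := by
      rw [← psiHom_psiHom, ← psiHom_psiHom, h]
    exact (fA 2 (sqAut (F := F))).injective h1
  · intro t
    refine ⟨psiHom ((fA 2 (sqAut (F := F)))⁻¹ t), ?_⟩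
    rw [psiHom_psiHom]
    simp

/-- the exceptional automorphism of `Sp_4` in characteristic two -/
noncomputable def psiAut [Finite F] : MulAut G :=
  MulEquiv.ofBijective (psiHom (F := F)) psiHom_bijective

theorem psiAut_apply [Finite F] (s : G) : psiAut s = psiHom s := rfl

theorem psiAut_sq [Finite F] : psiAut (F := F) * psiAut = fA 2 sqAut := by
  apply MulEquiv.ext
  intro s
  rw [MulAut.mul_apply, psiAut_apply, psiAut_apply, psiHom_psiHom]

/-- the exceptional automorphism of `PSp_4` in characteristic two -/
noncomputable def graphAut [Finite F] : MulAut (Cfsg.PSp 2 F) := autQ (psiAut (F := F))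

theorem graphAut_prj [Finite F] (s : G) : graphAut (prj 2 s) = prj 2 (psiHom s) := rfl

theorem graphAut_sq [Finite F] : graphAut (F := F) * graphAut = fieldAutSp 2 sqAut := by
  unfold graphAut fieldAutSp
  rw [← map_mul, psiAut_sq]
  rfl

end

end Cfsg.Agent.Lib.Helper43.AutPSp
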