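import Cfsg.Agent.Lib.Helper43.Sp4Class1
import Cfsg.Agent.Lib.Helper43.Sp4Graph2
import Cfsg.Agent.Lib.Helper43.PSpCard

set_option autoImplicit false
set_option linter.unusedSimpArgs false
set_option linter.unusedVariables false
set_option linter.unusedSectionVars false

/-! `Sp_4` in characteristic two: the two classes of root involutions and the action of the
automorphism group on them. -/

namespace Cfsg.Agent.Lib.Helper43.AutPSp

open Matrix Cfsg.Agent.Lib.Helper18 Cfsg.Agent.Lib.Helper11.SpPerfect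

section classes

/-- a class of a group is mapped onto a class by an automorphism -/
theorem image_class {H : Type*} [Group H] (α : MulAut H) (A B : Set H)
    (hA' : ∀ z ∈ A, ∀ z' ∈ A, ∃ t : H, z' = t * z * t⁻¹)
    (hB : ∀ z ∈ B, ∀ t : H, t * z * t⁻¹ ∈ B)
    (hB' : ∀ z ∈ B, ∀ z' ∈ B, ∃ t : H, z' = t * z * t⁻¹)
    (hA : ∀ z ∈ A, ∀ t : H, t * z * t⁻¹ ∈ A)
    (z₀ : H) (hz₀ : z₀ ∈ A) (h : α z₀ ∈ B) : (⇑α) '' A = B := by
  ext y
  constructor
  · rintro ⟨z, hz, rfl⟩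
    obtain ⟨t, rfl⟩ := hA' z₀ hz₀ z hz
    rw [map_mul, map_mul, map_inv]
    exact hB _ h _
  · intro hy
    obtain ⟨t, rfl⟩ := hB' _ h y hy
    refine ⟨α⁻¹ t * z₀ * (α⁻¹ t)⁻¹, hA _ hz₀ _, ?_⟩
    rw [map_mul, map_mul, map_inv]
    simp

end classes

section
variable {F : Type*} [Field F] [Finite F] [CharP F 2]

local notation "V" => (I4 → F)
local notation "f" => Cfsg.sympForm 2 F
local notation "G" => Matrix.symplecticGroup (Fin 2) F
local notation "Mat" => Matrix I4 I4 F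

theorem kap_add_left (u u' v : V) : kap (u + u') v = kap u v + kap u' v := by
  funext x
  simp only [kap_apply, Pi.add_apply]
  ring

theorem kap_add_right (u v v' : V) : kap u (v + v') = kap u v + kap u v' := by
  funext x
  simp only [kap_apply, Pi.add_apply]
  ring

theorem kap_swap (u v : V) : kap u v = kap v u := by
  funext x
  simp only [kap_apply]
  linear_combination (u (pa x) * v (pb x) - u (pb x) * v (pa x)) * two_eq_zero' (F := F)

/-- the coordinate vectors -/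
def ea : V := Pi.single (Sum.inl 0) 1
/-- the coordinate vectors -/
def eb : V := Pi.single (Sum.inl 1) 1
/-- the coordinate vectors -/
def ec : V := Pi.single (Sum.inr 0) 1
/-- the coordinate vectors -/
def ed : V := Pi.single (Sum.inr 1) 1

theorem kap_ea_eb : kap (ea (F := F)) eb = ea := kap_single (F := F) (Sum.inl 0)
theorem kap_ea_ed : kap (ea (F := F)) ed = eb := kap_single (F := F) (Sum.inl 1)
theorem kap_ec_ed : kap (ec (F := F)) ed = ec := kap_single (F := F) (Sum.inr 0)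
theorem kap_eb_ec : kap (eb (F := F)) ec = ed := kap_single (F := F) (Sum.inr 1)

theorem sf_left_ea (u : V) : f u ea = u (Sum.inr 0) := by
  simp [sf4, ea, Pi.single_apply]

theorem sf_left_eb (u : V) : f u eb = u (Sum.inr 1) := by
  simp [sf4, eb, Pi.single_apply]

theorem sf_left_ec (u : V) : f u ec = u (Sum.inl 0) := by
  rw [sf4]
  simp only [ec, Pi.single_apply]
  simp
  exact neg_eq_self' _

theorem sf_left_ed (u : V) : f u ed = u (Sum.inl 1) := by
  rw [sf4]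
  simp only [ed, Pi.single_apply]
  simp
  exact neg_eq_self' _

theorem decomp4 (u : V) :
    u = u (Sum.inl 0) • ea + u (Sum.inl 1) • eb + u (Sum.inr 0) • ec + u (Sum.inr 1) • ed := by
  funext x
  revert x
  apply I4.forall <;> simp [ea, eb, ec, ed, Pi.single_apply]

/-- the standard short root element -/
noncomputable def x0 : G := psiHom (tv 2 (ea (F := F)) 1)

theorem x0_single (y : I4) : (x0 (F := F)).1 *ᵥ Pi.single y 1
    = kap (Pi.single (pa y) 1 + f (Pi.single (pa y) 1) ea • ea)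
        (Pi.single (pb y) 1 + f (Pi.single (pb y) 1) ea • ea) := by
  rw [x0, psiHom_val, psiM_single, tv_act, tv_act, one_mul, one_mul]

theorem ea_c : (ea (F := F)) (Sum.inr 0) = 0 := by simp [ea]
theorem eb_c : (eb (F := F)) (Sum.inr 0) = 0 := by simp [eb]
theorem ec_c : (ec (F := F)) (Sum.inr 0) = 1 := by simp [ec]
theorem ed_c : (ed (F := F)) (Sum.inr 0) = 0 := by simp [ed]

theorem x0_ea : (x0 (F := F)).1 *ᵥ ea = ea := by
  have h := x0_single (F := F) (Sum.inl 0)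
  rw [pa_a, pb_a] at h
  change (x0 (F := F)).1 *ᵥ ea = kap (ea + f ea ea • ea) (eb + f eb ea • ea) at h
  rw [sf_left_ea, sf_left_ea, ea_c, eb_c, zero_smul, add_zero, add_zero, kap_ea_eb] at h
  exact h

theorem x0_eb : (x0 (F := F)).1 *ᵥ eb = eb := by
  have h := x0_single (F := F) (Sum.inl 1)
  rw [pa_b, pb_b] at h
  change (x0 (F := F)).1 *ᵥ eb = kap (ea + f ea ea • ea) (ed + f ed ea • ea) at h
  rw [sf_left_ea, sf_left_ea, ea_c, ed_c, zero_smul, add_zero, add_zero, kap_ea_ed] at h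
  exact h

theorem x0_ec : (x0 (F := F)).1 *ᵥ ec = ec + eb := by
  have h := x0_single (F := F) (Sum.inr 0)
  rw [pa_c, pb_c] at h
  change (x0 (F := F)).1 *ᵥ ec = kap (ec + f ec ea • ea) (ed + f ed ea • ea) at h
  rw [sf_left_ea, sf_left_ea, ec_c, ed_c, zero_smul, one_smul, add_zero, kap_add_left,
    kap_ec_ed, kap_ea_ed] at h
  exact h

theorem x0_ed : (x0 (F := F)).1 *ᵥ ed = ed + ea := by
  have h := x0_single (F := F) (Sum.inr 1)
  rw [pa_d, pb_d] at h
  change (x0 (F := F)).1 *ᵥ ed = kap (eb + f eb ea • ea) (ec + f ec ea • ea) at h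
  rw [sf_left_ea, sf_left_ea, ec_c, eb_c, zero_smul, one_smul, add_zero, kap_add_right,
    kap_eb_ec, kap_swap eb ea, kap_ea_eb] at h
  exact h

theorem x0_act (u : V) :
    (x0 (F := F)).1 *ᵥ u = u + (u (Sum.inr 0) • eb + u (Sum.inr 1) • ea) := by
  have h := decomp4 u
  have h1 : (x0 (F := F)).1 *ᵥ u = u (Sum.inl 0) • ea + u (Sum.inl 1) • eb
      + u (Sum.inr 0) • (ec + eb) + u (Sum.inr 1) • (ed + ea) := by
    nth_rewrite 1 [h]
    rw [Matrix.mulVec_add, Matrix.mulVec_add, Matrix.mulVec_add, Matrix.mulVec_smul,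
      Matrix.mulVec_smul, Matrix.mulVec_smul, Matrix.mulVec_smul, x0_ea, x0_eb, x0_ec, x0_ed]
  rw [h1]
  nth_rewrite 5 [h]
  module

theorem x0_Nx (u : V) : Nx 2 (x0 (F := F)) u = u (Sum.inr 0) • eb + u (Sum.inr 1) • ea := by
  unfold Nx
  rw [x0_act, add_comm u, add_assoc, vadd_self, add_zero]

theorem x0_alt (u : V) : f u (Nx 2 (x0 (F := F)) u) = 0 := by
  rw [x0_Nx, sf_add_right, sf_smul_right, sf_smul_right, sf_left_eb, sf_left_ea]
  linear_combination (u (Sum.inr 0) * u (Sum.inr 1)) * two_eq_zero' (F := F)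

theorem ea_ne_zero : (ea (F := F)) ≠ 0 := by
  intro h
  have := congrFun h (Sum.inl 0)
  simp [ea] at this

theorem x0_sq : (x0 (F := F)) * x0 = 1 := by
  rw [x0, ← map_mul, tv_sq, map_one]

theorem x0_ne_one : (x0 (F := F)) ≠ 1 := by
  intro h
  have h1 : psiHom (tv 2 (ea (F := F)) 1) = psiHom 1 := by rw [map_one]; exact h
  exact tv_one_ne_one 2 ea_ne_zero (psiHom_bijective.1 h1)

/-- the short root elements: the images of the alternating involutions -/
def TA : Set (Cfsg.PSp 2 F) :=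
  {z | ∃ a : G, z = prj 2 a ∧ a ≠ 1 ∧ a * a = 1 ∧ ∀ u : V, f u (Nx 2 a u) = 0}

theorem x0_mem_TA : prj 2 (x0 (F := F)) ∈ TA := ⟨x0, rfl, x0_ne_one, x0_sq, x0_alt⟩

theorem Nx_conj (s a : G) (u : V) :
    Nx 2 (s * a * s⁻¹) u = s.1 *ᵥ Nx 2 a ((s⁻¹).1 *ᵥ u) := by
  unfold Nx
  rw [act_mul, act_mul, Matrix.mulVec_add, act_act_inv]

theorem TA_conj_mem {z : Cfsg.PSp 2 F} (hz : z ∈ TA) (t : Cfsg.PSp 2 F) : t * z * t⁻¹ ∈ TA := by
  obtain ⟨a, rfl, ha1, ha2, haA⟩ := hz
  obtain ⟨s, rfl⟩ := prj_surjective 2 t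
  refine ⟨s * a * s⁻¹, by rw [map_mul, map_mul, map_inv], ?_, ?_, ?_⟩
  · intro h
    apply ha1
    have : a = s⁻¹ * (s * a * s⁻¹) * s := by group
    rw [this, h]
    group
  · calc s * a * s⁻¹ * (s * a * s⁻¹) = s * (a * a) * s⁻¹ := by group
      _ = 1 := by rw [ha2]; group
  · intro u
    rw [Nx_conj]
    have := haA ((s⁻¹).1 *ᵥ u)
    rw [← act_sf 2 s] at this
    rw [act_act_inv] at this
    exact this

/-- a frame with the standard Gram matrix is the image of the standard basis under a symplectic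
matrix -/
theorem frame_symp (b : I4 → V)
    (hb : ∀ k l, f (b k) (b l) = f (Pi.single k (1 : F)) (Pi.single l (1 : F))) :
    ∃ h : G, ∀ k, h.1 *ᵥ Pi.single k 1 = b k := by
  let M : Mat := Matrix.of fun i j => b j i
  have hM : ∀ k, M *ᵥ Pi.single k 1 = b k := by
    intro k
    funext i
    simp [M]
  have hmem : M ∈ Matrix.symplecticGroup (Fin 2) F := by
    apply mem_symp_of_basis
    intro k l
    rw [hM, hM, hb]
  exact ⟨⟨M, hmem⟩, hM⟩

theorem sf_single_single (k l : I4) :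
    f (Pi.single k (1 : F)) (Pi.single l (1 : F))
      = if l = Sum.elim (fun i => Sum.inr i) (fun i => Sum.inl i) k then 1 else 0 := by
  revert l
  revert k
  apply I4.forall <;> apply I4.forall <;> simp [sf4, Pi.single_apply, neg_eq_self']

/-- every alternating involution is conjugate to the standard one -/
theorem TA_conj_x0 {z : Cfsg.PSp 2 F} (hz : z ∈ TA) :
    ∃ t : Cfsg.PSp 2 F, z = t * prj 2 (x0 (F := F)) * t⁻¹ := by
  obtain ⟨a, rfl, ha1, ha2, haA⟩ := hz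
  obtain ⟨z₁, z₂, h12, h1n2, h2n1, hww⟩ := exists_alt_frame 2 ha2 ha1 haA
  obtain ⟨w₁, hw₁⟩ : ∃ w₁ : V, w₁ = Nx 2 a z₁ := ⟨_, rfl⟩
  obtain ⟨w₂, hw₂⟩ : ∃ w₂ : V, w₂ = Nx 2 a z₂ := ⟨_, rfl⟩
  rw [← hw₁, ← hw₂] at hww
  rw [← hw₂] at h1n2
  rw [← hw₁] at h2n1
  have h11 : f z₁ w₁ = 0 := by rw [hw₁]; exact haA z₁
  have h22 : f z₂ w₂ = 0 := by rw [hw₂]; exact haA z₂
  let b : I4 → V := Sum.elim ![w₂, w₁] ![z₁, z₂]
  have hb : ∀ k l, f (b k) (b l) = f (Pi.single k (1 : F)) (Pi.single l (1 : F)) := by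
    intro k l
    rw [sf_single_single]
    revert l
    revert k
    have e1 : f w₂ w₁ = 0 := by rw [sf_symm2, hww]
    have e2 : f w₂ z₁ = 1 := by rw [sf_symm2, h1n2]
    have e3 : f w₁ z₂ = 1 := by rw [sf_symm2, h2n1]
    have e4 : f w₁ z₁ = 0 := by rw [sf_symm2, h11]
    have e5 : f w₂ z₂ = 0 := by rw [sf_symm2, h22]
    have e6 : f z₂ z₁ = 0 := by rw [sf_symm2, h12]
    apply I4.forall <;> apply I4.forall <;>
      simp [b, sf_self, hww, h1n2, h2n1, h11, h22, h12, e1, e2, e3, e4, e5, e6]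
  obtain ⟨h, hh⟩ := frame_symp b hb
  have hNw₁ : Nx 2 a w₁ = 0 := by rw [hw₁]; exact Nx_Nx 2 ha2 z₁
  have hNw₂ : Nx 2 a w₂ = 0 := by rw [hw₂]; exact Nx_Nx 2 ha2 z₂
  have hha : h.1 *ᵥ ea = w₂ := hh (Sum.inl 0)
  have hhb : h.1 *ᵥ eb = w₁ := hh (Sum.inl 1)
  have hhc : h.1 *ᵥ ec = z₁ := hh (Sum.inr 0)
  have hhd : h.1 *ᵥ ed = z₂ := hh (Sum.inr 1)
  have key : a * h = h * x0 := by
    apply Subtype.ext
    apply mat_ext_single
    apply I4.forall
    · show (a * h).1 *ᵥ ea = (h * x0).1 *ᵥ ea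
      rw [act_mul, act_mul, x0_ea, hha, act_eq_Nx, hNw₂, add_zero]
    · show (a * h).1 *ᵥ eb = (h * x0).1 *ᵥ eb
      rw [act_mul, act_mul, x0_eb, hhb, act_eq_Nx, hNw₁, add_zero]
    · show (a * h).1 *ᵥ ec = (h * x0).1 *ᵥ ec
      rw [act_mul, act_mul, x0_ec, Matrix.mulVec_add, hhc, hhb, act_eq_Nx, hw₁]
    · show (a * h).1 *ᵥ ed = (h * x0).1 *ᵥ ed
      rw [act_mul, act_mul, x0_ed, Matrix.mulVec_add, hhd, hha, act_eq_Nx, hw₂]
  refine ⟨prj 2 h, ?_⟩
  rw [← map_inv, ← map_mul, ← map_mul, ← key]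
  congr 1
  group

theorem TA_conj {z z' : Cfsg.PSp 2 F} (hz : z ∈ TA) (hz' : z' ∈ TA) :
    ∃ t : Cfsg.PSp 2 F, z' = t * z * t⁻¹ := by
  obtain ⟨t, rfl⟩ := TA_conj_x0 hz
  obtain ⟨t', rfl⟩ := TA_conj_x0 hz'
  refine ⟨t' * t⁻¹, ?_⟩
  group

/-- the root involutions are the long and the short root elements -/
theorem TL_or_TA_of_isT {z : Cfsg.PSp 2 F} (hz : IsT z) : z ∈ TL 2 ∨ z ∈ TA := by
  obtain ⟨a, rfl⟩ := prj_surjective 2 z
  obtain ⟨h1, h2, h3⟩ := hz
  have ha1 : a ≠ 1 := fun h => h1 (by rw [h, map_one])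
  have ha2 : a * a = 1 := prj_injective 2 (by rw [map_mul, h2, map_one])
  by_cases htv : ∃ (v : V) (c : F), a = tv 2 v c
  · left
    obtain ⟨v, c, rfl⟩ := htv
    have hc : c ≠ 0 := by
      rintro rfl
      exact ha1 (tv_zero 2 v)
    have hv : v ≠ 0 := by
      rintro rfl
      exact ha1 (tv_zero_left 2 c)
    exact prj_tv_mem_TL 2 hv hc
  · push Not at htv
    by_cases hA : ∃ z₀ : V, f z₀ (Nx 2 a z₀) ≠ 0
    · exfalso
      obtain ⟨z₀, hz₀⟩ := hA
      obtain ⟨g, hg4, hg2⟩ := exists_order_four_nonalt 2 ha2 htv z₀ hz₀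
      apply hg2
      apply prj_injective 2
      have e : prj 2 a * (prj 2 g * prj 2 a * (prj 2 g)⁻¹) = prj 2 (a * (g * a * g⁻¹)) := by
        simp only [map_mul, map_inv]
      have := h3 (prj 2 g) (by rw [e, ← map_pow, hg4, map_one])
      rw [e, ← map_pow] at this
      rw [this, map_one]
    · right
      push Not at hA
      exact ⟨a, rfl, ha1, ha2, hA⟩

theorem TL_TA_disjoint {z : Cfsg.PSp 2 F} (h1 : z ∈ TL 2) (h2 : z ∈ TA) : False := by
  obtain ⟨v, hv, rfl⟩ := h1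
  obtain ⟨a, ha, -, -, haA⟩ := h2
  have hav : a = tv 2 v 1 := (prj_injective 2 ha).symm
  subst hav
  obtain ⟨u, hu⟩ := exists_pair_ne_zero 2 hv
  have h3 := haA u
  unfold Nx at h3
  rw [tv_act, hu, mul_one, one_smul, add_comm u, add_assoc, vadd_self, add_zero, hu] at h3
  exact one_ne_zero h3

/-- the base point of the class of long root elements -/
noncomputable def zL : Cfsg.PSp 2 F := prj 2 (tv 2 (ea (F := F)) 1)

theorem zL_mem : (zL (F := F)) ∈ TL 2 := ⟨ea, ea_ne_zero, rfl⟩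

theorem graphAut_zL : graphAut (zL (F := F)) = prj 2 x0 := rfl

/-- every automorphism preserves the long root elements or maps them onto the short ones -/
theorem image_TL (α : MulAut (Cfsg.PSp 2 F)) : (⇑α) '' TL 2 = TL 2 ∨ (⇑α) '' TL 2 = TA := by
  have hT : IsT (α zL) := (TL_isT 2 zL_mem).map α
  rcases TL_or_TA_of_isT hT with h | h
  · left
    exact image_class α (TL 2) (TL 2) (fun z hz z' hz' => TL_conj 2 hz hz')
      (fun z hz t => TL_conj_mem 2 hz t) (fun z hz z' hz' => TL_conj 2 hz hz')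
      (fun z hz t => TL_conj_mem 2 hz t) zL zL_mem h
  · right
    exact image_class α (TL 2) TA (fun z hz z' hz' => TL_conj 2 hz hz')
      (fun z hz t => TA_conj_mem hz t) (fun z hz z' hz' => TA_conj hz hz')
      (fun z hz t => TL_conj_mem 2 hz t) zL zL_mem h

theorem graphAut_image_TL : (⇑(graphAut (F := F))) '' TL 2 = TA := by
  rcases image_TL (graphAut (F := F)) with h | h
  · exfalso
    have h1 : graphAut (zL (F := F)) ∈ TL 2 := by
      rw [← h]
      exact ⟨zL, zL_mem, rfl⟩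
    rw [graphAut_zL] at h1
    exact TL_TA_disjoint h1 x0_mem_TA
  · exact h

/-- semilinear automorphisms preserve the long root elements -/
theorem gam_mem_TL (g : ↥(Cfsg.GSp 2 F)) (σ : RingAut F) {z : Cfsg.PSp 2 F} (hz : z ∈ TL 2) :
    (conjGSp 2 g * fieldAutSp 2 σ) z ∈ TL 2 := by
  obtain ⟨v, hv, rfl⟩ := hz
  obtain ⟨μ, hμ⟩ := g.2
  rw [MulAut.mul_apply, fieldAutSp_prj, fA_tv, conjGSp_prj, cG_tv 2 g μ.ne_zero hμ]
  apply prj_tv_mem_TL 2
  · apply gsp_act_ne_zero 2 g.1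
    intro h0
    apply hv
    funext i
    have := congrFun h0 i
    simp only [Pi.zero_apply] at this
    exact (map_eq_zero σ).mp this
  · rw [map_one, one_mul]
    exact inv_ne_zero μ.ne_zero

theorem graphAut_not_gam (g : ↥(Cfsg.GSp 2 F)) (σ : RingAut F) :
    graphAut (F := F) ≠ conjGSp 2 g * fieldAutSp 2 σ := by
  intro h
  have h1 := gam_mem_TL g σ (zL_mem (F := F))
  rw [← h, graphAut_zL] at h1
  exact TL_TA_disjoint h1 x0_mem_TA

/-- every automorphism of `PSp_4` in characteristic two is semilinear or the product of the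
exceptional automorphism with a semilinear one -/
theorem aut_sp4_cases (α : MulAut (Cfsg.PSp 2 F)) :
    (∃ (g : ↥(Cfsg.GSp 2 F)) (σ : RingAut F), α = conjGSp 2 g * fieldAutSp 2 σ) ∨
    (∃ (g : ↥(Cfsg.GSp 2 F)) (σ : RingAut F), α = graphAut * (conjGSp 2 g * fieldAutSp 2 σ)) := by
  have key : ∀ β : MulAut (Cfsg.PSp 2 F), (⇑β) '' TL 2 = TL 2 →
      ∃ (g : ↥(Cfsg.GSp 2 F)) (σ : RingAut F), β = conjGSp 2 g * fieldAutSp 2 σ := by
    intro β hβ
    obtain ⟨g, σ, hg, hind⟩ := induced_of_TL 2 (le_refl 2) β hβ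
    exact ⟨⟨g, hg⟩, σ, (isInduced_iff 2 hg σ β).mp hind⟩
  rcases image_TL α with h | h
  · left
    exact key α h
  · right
    have h1 : (⇑((graphAut (F := F))⁻¹ * α)) '' TL 2 = TL 2 := by
      have : (⇑((graphAut (F := F))⁻¹ * α)) = ⇑(graphAut (F := F))⁻¹ ∘ ⇑α := by
        ext z
        rfl
      rw [this, Set.image_comp, h, ← graphAut_image_TL, ← Set.image_comp]
      have : (⇑(graphAut (F := F))⁻¹ ∘ ⇑(graphAut (F := F))) = id := by
        ext z
        simp
      rw [this, Set.image_id]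
    obtain ⟨g, σ, hgσ⟩ := key _ h1
    refine ⟨g, σ, ?_⟩
    rw [← hgσ]
    group

end

end Cfsg.Agent.Lib.Helper43.AutPSp
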