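import Cfsg.Agent.Lib.Helper43.PSpLang2

set_option autoImplicit false
set_option linter.unusedSimpArgs false
set_option linter.unusedVariables false
set_option linter.unusedSectionVars false

/-! The exceptional isogeny of `Sp_4` in characteristic two: the polynomial identities. -/

namespace Cfsg.Agent.Lib.Helper43.AutPSp

open Matrix Cfsg.Agent.Lib.Helper18 Cfsg.Agent.Lib.Helper11.SpPerfect

/-- the index type of the natural module of `Sp_4` -/
abbrev I4 : Type := Fin 2 ⊕ Fin 2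

theorem I4.forall {P : I4 → Prop} (h1 : P (Sum.inl 0)) (h2 : P (Sum.inl 1)) (h3 : P (Sum.inr 0))
    (h4 : P (Sum.inr 1)) : ∀ x, P x := by
  intro x
  rcases x with x | x
  · fin_cases x
    · exact h1
    · exact h2
  · fin_cases x
    · exact h3
    · exact h4

/-- first members of the four isotropic coordinate pairs -/
def pa : I4 → I4 := Sum.elim ![Sum.inl 0, Sum.inl 0] ![Sum.inr 0, Sum.inl 1]

/-- second members of the four isotropic coordinate pairs -/
def pb : I4 → I4 := Sum.elim ![Sum.inl 1, Sum.inr 1] ![Sum.inr 1, Sum.inr 0]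

@[simp] theorem pa_a : pa (Sum.inl 0) = Sum.inl 0 := rfl
@[simp] theorem pa_b : pa (Sum.inl 1) = Sum.inl 0 := rfl
@[simp] theorem pa_c : pa (Sum.inr 0) = Sum.inr 0 := rfl
@[simp] theorem pa_d : pa (Sum.inr 1) = Sum.inl 1 := rfl
@[simp] theorem pb_a : pb (Sum.inl 0) = Sum.inl 1 := rfl
@[simp] theorem pb_b : pb (Sum.inl 1) = Sum.inr 1 := rfl
@[simp] theorem pb_c : pb (Sum.inr 0) = Sum.inr 1 := rfl
@[simp] theorem pb_d : pb (Sum.inr 1) = Sum.inr 0 := rfl

section
variable {F : Type*} [Field F]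

/-- the four Plücker coordinates of a pair of vectors that survive modulo the form -/
def kap (u v : I4 → F) : I4 → F := fun x => u (pa x) * v (pb x) - u (pb x) * v (pa x)

/-- the matrix of two by two minors -/
def psiM (g : Matrix I4 I4 F) : Matrix I4 I4 F :=
  Matrix.of fun x y => g (pa x) (pa y) * g (pb x) (pb y) - g (pa x) (pb y) * g (pb x) (pa y)

theorem kap_apply (u v : I4 → F) (x : I4) :
    kap u v x = u (pa x) * v (pb x) - u (pb x) * v (pa x) := rfl

theorem psiM_apply (g : Matrix I4 I4 F) (x y : I4) :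
    psiM g x y = g (pa x) (pa y) * g (pb x) (pb y) - g (pa x) (pb y) * g (pb x) (pa y) := rfl

theorem sf4 (u v : I4 → F) :
    Cfsg.sympForm 2 F u v = u (Sum.inr 0) * v (Sum.inl 0) - u (Sum.inl 0) * v (Sum.inr 0)
      + (u (Sum.inr 1) * v (Sum.inl 1) - u (Sum.inl 1) * v (Sum.inr 1)) := by
  rw [sympForm_eq, Fin.sum_univ_two]

theorem mulVec4 (g : Matrix I4 I4 F) (u : I4 → F) (i : I4) :
    (g *ᵥ u) i = g i (Sum.inl 0) * u (Sum.inl 0) + g i (Sum.inl 1) * u (Sum.inl 1)
      + (g i (Sum.inr 0) * u (Sum.inr 0) + g i (Sum.inr 1) * u (Sum.inr 1)) := by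
  rw [Matrix.mulVec, dotProduct, Fintype.sum_sum_type, Fin.sum_univ_two, Fin.sum_univ_two]

theorem k1_poly (h2 : (2 : F) = 0) (ia ib ic id ja jb jc jd ua ub uc ud va vb vc vd : F)
    (hS : ic * ja - ia * jc + (id * jb - ib * jd) = 0)
    (hP : uc * va - ua * vc + (ud * vb - ub * vd) = 0) :
    (ia * ua + ib * ub + (ic * uc + id * ud)) * (ja * va + jb * vb + (jc * vc + jd * vd))
      - (ja * ua + jb * ub + (jc * uc + jd * ud)) * (ia * va + ib * vb + (ic * vc + id * vd))
    = (ia * jb - ib * ja) * (ua * vb - ub * va) + (ia * jd - id * ja) * (ua * vd - ud * va)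
      + ((ic * jd - id * jc) * (uc * vd - ud * vc) + (ib * jc - ic * jb) * (ub * vc - uc * vb)) := by
  linear_combination ((uc * va - ua * vc + (ud * vb - ub * vd)) + (ua * vc - uc * va)) * hS
    + (ia * jc - ic * ja) * hP + ((ia * jc - ic * ja) * (ua * vc - uc * va)) * h2

theorem w_poly (h2 : (2 : F) = 0) (ua ub uc ud va vb vc vd sa sb sc sd ta tb tc td : F)
    (h1 : uc * va - ua * vc + (ud * vb - ub * vd) = 0)
    (h3 : sc * ta - sa * tc + (sd * tb - sb * td) = 0) :
    (uc * vd - ud * vc) * (sa * tb - sb * ta) - (ua * vb - ub * va) * (sc * td - sd * tc)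
      + ((ub * vc - uc * vb) * (sa * td - sd * ta) - (ua * vd - ud * va) * (sb * tc - sc * tb))
    = (uc * sa - ua * sc + (ud * sb - ub * sd)) * (vc * ta - va * tc + (vd * tb - vb * td))
      - (uc * ta - ua * tc + (ud * tb - ub * td)) * (vc * sa - va * sc + (vd * sb - vb * sd)) := by
  linear_combination (sb * td + sd * tb) * h1 + (ua * vc + uc * va) * h3 + (sa * tc * uc * va - sb * tc * ua * vd + sb * tc * ud * va + sb * td * ua * vc - sc * ta * uc * va + sc * tb * ua * vd - sc * tb * ud * va - sc * td * ua * vb + sc * td * ub * va + sd * tb * ub * vd - sd * tb * uc * va - sd * tb * ud * vb + sd * tc * ua * vb - sd * tc * ub * va) * h2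

theorem s_poly_a (h2 : (2 : F) = 0) (ua ub uc ud va vb vc vd wa wb wc wd : F)
    (h1 : uc * va - ua * vc + (ud * vb - ub * vd) = 0)
    (h3 : uc * wa - ua * wc + (ud * wb - ub * wd) = 0) :
    (ua * vb - ub * va) * (ua * wd - ud * wa) - (ua * vd - ud * va) * (ua * wb - ub * wa)
    = (vc * wa - va * wc + (vd * wb - vb * wd)) * (ua * ua) := by
  linear_combination (ua * wa) * h1 + (ua * va) * h3 + (ua * ub * vd * wa - ua * uc * va * wa - ua * ud * vb * wa + ua^2 * va * wc + ua^2 * vb * wd - ua^2 * vd * wb) * h2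

theorem s_poly_b (h2 : (2 : F) = 0) (ua ub uc ud va vb vc vd wa wb wc wd : F)
    (h1 : uc * va - ua * vc + (ud * vb - ub * vd) = 0)
    (h3 : uc * wa - ua * wc + (ud * wb - ub * wd) = 0) :
    (ua * vb - ub * va) * (ub * wc - uc * wb) - (ub * vc - uc * vb) * (ua * wb - ub * wa)
    = (vc * wa - va * wc + (vd * wb - vb * wd)) * (ub * ub) := by
  linear_combination (ub * wb) * h1 + (ub * vb) * h3 + (ua * ub * vb * wc - ub * uc * vb * wa - ub * ud * vb * wb + ub^2 * vb * wd) * h2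

theorem s_poly_c (h2 : (2 : F) = 0) (ua ub uc ud va vb vc vd wa wb wc wd : F)
    (h1 : uc * va - ua * vc + (ud * vb - ub * vd) = 0)
    (h3 : uc * wa - ua * wc + (ud * wb - ub * wd) = 0) :
    (uc * vd - ud * vc) * (ub * wc - uc * wb) - (ub * vc - uc * vb) * (uc * wd - ud * wc)
    = (vc * wa - va * wc + (vd * wb - vb * wd)) * (uc * uc) := by
  linear_combination (uc * wc) * h1 + (uc * vc) * h3 + (ua * uc * vc * wc + ub * uc * vd * wc - uc * ud * vb * wc + uc^2 * vb * wd - uc^2 * vc * wa - uc^2 * vd * wb) * h2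

theorem s_poly_d (h2 : (2 : F) = 0) (ua ub uc ud va vb vc vd wa wb wc wd : F)
    (h1 : uc * va - ua * vc + (ud * vb - ub * vd) = 0)
    (h3 : uc * wa - ua * wc + (ud * wb - ub * wd) = 0) :
    (ua * vd - ud * va) * (uc * wd - ud * wc) - (uc * vd - ud * vc) * (ua * wd - ud * wa)
    = (vc * wa - va * wc + (vd * wb - vb * wd)) * (ud * ud) := by
  linear_combination (ud * wd) * h1 + (ud * vd) * h3 + (ua * ud * vc * wd + ub * ud * vd * wd - uc * ud * va * wd + ud^2 * va * wc - ud^2 * vc * wa - ud^2 * vd * wb) * h2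

/-- the minors matrix is compatible with the Plücker map on isotropic pairs -/
theorem kap_mulVec (h2 : (2 : F) = 0) (g : Matrix I4 I4 F)
    (hg : ∀ x, Cfsg.sympForm 2 F (fun k => g (pa x) k) (fun k => g (pb x) k) = 0)
    (u v : I4 → F) (huv : Cfsg.sympForm 2 F u v = 0) :
    kap (g *ᵥ u) (g *ᵥ v) = psiM g *ᵥ kap u v := by
  rw [sf4] at huv
  funext x
  have hS := hg x
  rw [sf4] at hS
  rw [kap_apply, mulVec4 (psiM g), mulVec4 g, mulVec4 g, mulVec4 g, mulVec4 g]
  simp only [kap_apply, psiM_apply, pa_a, pa_b, pa_c, pa_d, pb_a, pb_b, pb_c, pb_d]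
  exact k1_poly h2 _ _ _ _ _ _ _ _ _ _ _ _ _ _ _ _ hS huv

/-- the form on Plücker vectors of isotropic pairs -/
theorem sf_kap_kap (h2 : (2 : F) = 0) (u v s t : I4 → F) (huv : Cfsg.sympForm 2 F u v = 0)
    (hst : Cfsg.sympForm 2 F s t = 0) :
    Cfsg.sympForm 2 F (kap u v) (kap s t)
      = Cfsg.sympForm 2 F u s * Cfsg.sympForm 2 F v t
        - Cfsg.sympForm 2 F u t * Cfsg.sympForm 2 F v s := by
  rw [sf4] at huv hst
  rw [sf4, sf4, sf4, sf4, sf4]
  simp only [kap_apply, pa_a, pa_b, pa_c, pa_d, pb_a, pb_b, pb_c, pb_d]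
  exact w_poly h2 _ _ _ _ _ _ _ _ _ _ _ _ _ _ _ _ huv hst

/-- the Plücker map applied twice is the Frobenius twist -/
theorem kap_kap_kap (h2 : (2 : F) = 0) (u v w : I4 → F) (huv : Cfsg.sympForm 2 F u v = 0)
    (huw : Cfsg.sympForm 2 F u w = 0) :
    kap (kap u v) (kap u w) = fun x => Cfsg.sympForm 2 F v w * (u x * u x) := by
  rw [sf4] at huv huw
  rw [sf4]
  funext x
  revert x
  apply I4.forall
  · simp only [kap_apply, pa_a, pa_b, pa_c, pa_d, pb_a, pb_b, pb_c, pb_d]
    exact s_poly_a h2 _ _ _ _ _ _ _ _ _ _ _ _ huv huw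
  · simp only [kap_apply, pa_a, pa_b, pa_c, pa_d, pb_a, pb_b, pb_c, pb_d]
    exact s_poly_b h2 _ _ _ _ _ _ _ _ _ _ _ _ huv huw
  · simp only [kap_apply, pa_a, pa_b, pa_c, pa_d, pb_a, pb_b, pb_c, pb_d]
    exact s_poly_c h2 _ _ _ _ _ _ _ _ _ _ _ _ huv huw
  · simp only [kap_apply, pa_a, pa_b, pa_c, pa_d, pb_a, pb_b, pb_c, pb_d]
    exact s_poly_d h2 _ _ _ _ _ _ _ _ _ _ _ _ huv huw

/-- the Plücker vector of an isotropic coordinate pair is a coordinate vector -/
theorem kap_single (y : I4) :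
    kap (Pi.single (pa y) (1 : F)) (Pi.single (pb y) (1 : F)) = Pi.single y 1 := by
  revert y
  apply I4.forall <;>
  · funext x
    revert x
    apply I4.forall <;> simp [kap_apply, Pi.single_apply]

theorem sf_single_pair (y : I4) :
    Cfsg.sympForm 2 F (Pi.single (pa y) (1 : F)) (Pi.single (pb y) (1 : F)) = 0 := by
  revert y
  apply I4.forall <;> simp [sf4, Pi.single_apply]

end

end Cfsg.Agent.Lib.Helper43.AutPSp
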