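import Cfsg.Agent.Lib.Helper43.Sp4Class2
import Cfsg.Prelude.Def_KGroupFacts

set_option autoImplicit false
set_option linter.unusedSimpArgs false
set_option linter.unusedVariables false
set_option linter.unusedSectionVars false

/-! `Sp_4` in characteristic two: the order of the automorphism group and the structure of the
outer automorphism group. -/

namespace Cfsg.Agent.Lib.Helper43.AutPSp

open Matrix Cfsg.Agent.Lib.Helper18 Cfsg.Agent.Lib.Helper11.SpPerfect

section frob
variable {F : Type*} [Field F] [Finite F] [CharP F 2]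

theorem sqAut_pow_apply (n : ℕ) (x : F) : (sqAut (F := F) ^ n) x = x ^ (2 ^ n) := by
  induction n generalizing x with
  | zero => simp
  | succ n ih =>
    rw [pow_succ, RingAut.mul_apply, ih, sqAut_apply, ← pow_two, ← pow_mul, ← pow_succ']

/-- the automorphism group of a finite field of characteristic two is generated by the
Frobenius map -/
theorem ringAut_eq_sqAut_pow (σ : RingAut F) : ∃ j : ℕ, σ = sqAut ^ j := by
  let _ := ZMod.algebra F 2
  have : Fintype F := Fintype.ofFinite F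
  let σ' : F ≃ₐ[ZMod 2] F := AlgEquiv.ofRingEquiv (f := σ) (fun r => by
    have : ((σ : F →+* F).comp (algebraMap (ZMod 2) F)) = algebraMap (ZMod 2) F :=
      Subsingleton.elim _ _
    exact DFunLike.congr_fun this r)
  obtain ⟨n, hn⟩ := (FiniteField.bijective_frobeniusAlgEquivOfAlgebraic_pow (ZMod 2) F).2 σ'
  refine ⟨n.1, ?_⟩
  apply RingEquiv.ext
  intro x
  have h1 : σ x = σ' x := rfl
  rw [h1, ← hn, sqAut_pow_apply]
  simp only
  rw [AlgEquiv.coe_pow, FiniteField.coe_frobeniusAlgEquivOfAlgebraic_iterate, ZMod.card]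

end frob

section
variable {F : Type*} [Field F] [Finite F] [CharP F 2]

local notation "V" => (I4 → F)
local notation "f" => Cfsg.sympForm 2 F
local notation "G" => Matrix.symplecticGroup (Fin 2) F

/-- the automorphisms preserving the class of long root elements -/
def GamSub : Subgroup (MulAut (Cfsg.PSp 2 F)) where
  carrier := {α | (⇑α) '' TL 2 = TL 2}
  mul_mem' := by
    intro a b ha hb
    show (⇑(a * b)) '' TL 2 = TL 2
    have : (⇑(a * b)) = ⇑a ∘ ⇑b := by
      ext z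
      rfl
    rw [this, Set.image_comp]
    have hb' : (⇑b) '' TL 2 = TL 2 := hb
    rw [hb']
    exact ha
  one_mem' := by
    show (⇑(1 : MulAut (Cfsg.PSp 2 F))) '' TL 2 = TL 2
    have : (⇑(1 : MulAut (Cfsg.PSp 2 F))) = id := by
      ext z
      rfl
    rw [this, Set.image_id]
  inv_mem' := by
    intro a ha
    exact TL_image_inv 2 a ha

theorem mem_GamSub (α : MulAut (Cfsg.PSp 2 F)) : α ∈ GamSub (F := F) ↔ (⇑α) '' TL 2 = TL 2 :=
  Iff.rfl

theorem mem_GamSub_iff (α : MulAut (Cfsg.PSp 2 F)) :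
    α ∈ GamSub (F := F) ↔
      ∃ (g : ↥(Cfsg.GSp 2 F)) (σ : RingAut F), α = conjGSp 2 g * fieldAutSp 2 σ := by
  constructor
  · intro h
    obtain ⟨g, σ, hg, hind⟩ := induced_of_TL 2 (le_refl 2) α h
    exact ⟨⟨g, hg⟩, σ, (isInduced_iff 2 hg σ α).mp hind⟩
  · rintro ⟨g, σ, rfl⟩
    rcases image_TL (conjGSp 2 g * fieldAutSp 2 σ) with h | h
    · exact h
    · exfalso
      have h1 := gam_mem_TL g σ (zL_mem (F := F))
      have h2 : (conjGSp 2 g * fieldAutSp 2 σ) zL ∈ TA := by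
        rw [← h]
        exact ⟨zL, zL_mem, rfl⟩
      exact TL_TA_disjoint h1 h2

theorem graphAut_not_mem : graphAut (F := F) ∉ GamSub (F := F) := by
  intro h
  obtain ⟨g, σ, hg⟩ := (mem_GamSub_iff _).mp h
  exact graphAut_not_gam g σ hg

theorem mem_or_graphAut_inv_mul_mem (α : MulAut (Cfsg.PSp 2 F)) :
    α ∈ GamSub (F := F) ∨ (graphAut (F := F))⁻¹ * α ∈ GamSub (F := F) := by
  rcases aut_sp4_cases α with ⟨g, σ, h⟩ | ⟨g, σ, h⟩
  · left
    exact (mem_GamSub_iff α).mpr ⟨g, σ, h⟩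
  · right
    apply (mem_GamSub_iff _).mpr
    refine ⟨g, σ, ?_⟩
    rw [h]
    group

theorem index_GamSub : (GamSub (F := F)).index = 2 := by
  rw [Subgroup.index_eq_two_iff]
  refine ⟨graphAut, fun b => ?_⟩
  by_cases hb : b ∈ GamSub (F := F)
  · right
    refine ⟨hb, fun h => ?_⟩
    apply graphAut_not_mem (F := F)
    have := Subgroup.mul_mem _ (Subgroup.inv_mem _ hb) h
    rwa [inv_mul_cancel_left] at this
  · left
    refine ⟨?_, hb⟩
    have hb' : b⁻¹ ∉ GamSub (F := F) := fun h => hb (by simpa using Subgroup.inv_mem _ h)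
    rcases mem_or_graphAut_inv_mul_mem b⁻¹ with h | h
    · exact (hb' h).elim
    · have := Subgroup.inv_mem _ h
      rwa [_root_.mul_inv_rev, inv_inv, inv_inv] at this

theorem card_GamSub :
    Nat.card (GamSub (F := F)) = Nat.card G * Nat.card (RingAut F) := by
  rw [← card_conjGSp_range 2 (le_refl 2), ← Nat.card_prod]
  symm
  apply Nat.card_congr
  refine Equiv.ofBijective (fun p => ⟨gamMap 2 p, ?_⟩) ⟨?_, ?_⟩
  · obtain ⟨g, hg⟩ := p.1.2
    exact (mem_GamSub_iff _).mpr ⟨g, p.2, by rw [gamMap, hg]⟩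
  · intro p q h
    exact gamMap_injective 2 (le_refl 2) (congrArg Subtype.val h)
  · rintro ⟨α, hα⟩
    obtain ⟨g, σ, rfl⟩ := (mem_GamSub_iff α).mp hα
    exact ⟨⟨⟨conjGSp 2 g, ⟨g, rfl⟩⟩, σ⟩, rfl⟩

/-- the order of the automorphism group of `PSp_4` in characteristic two -/
theorem card_aut_sp4 :
    Nat.card (MulAut (Cfsg.PSp 2 F)) = 2 * (Nat.card G * Nat.card (RingAut F)) := by
  rw [← Subgroup.card_mul_index (GamSub (F := F)), index_GamSub, card_GamSub, mul_comm]

/-- in characteristic two the inner automorphisms are the inner-diagonal ones -/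
theorem inn_eq_range : Cfsg.Inn (Cfsg.PSp 2 F) = (conjGSp (F := F) 2).range := by
  apply le_antisymm
  · rintro _ ⟨z, rfl⟩
    obtain ⟨s, rfl⟩ := prj_surjective 2 z
    exact ⟨spToGSp 2 s, conjGSp_spToGSp 2 s⟩
  · rintro _ ⟨g, rfl⟩
    obtain ⟨s, hs⟩ := conjGSp_eq_conj_even 2 g
    exact ⟨prj 2 s, hs.symm⟩

theorem card_out_sp4 : Nat.card (Cfsg.Out (Cfsg.PSp 2 F)) = 2 * Nat.card (RingAut F) := by
  have h1 := Subgroup.card_eq_card_quotient_mul_card_subgroup (Cfsg.Inn (Cfsg.PSp 2 F))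
  have hInn : Nat.card (Cfsg.Inn (Cfsg.PSp 2 F)) = Nat.card G := by
    rw [inn_eq_range, card_conjGSp_range 2 (le_refl 2)]
  rw [card_aut_sp4, hInn] at h1
  have hpos : 0 < Nat.card G := Nat.card_pos
  have h2 : Nat.card (Cfsg.Out (Cfsg.PSp 2 F)) * Nat.card G
      = 2 * Nat.card (RingAut F) * Nat.card G := by
    rw [← h1]
    ring
  exact Nat.eq_of_mul_eq_mul_right hpos h2

theorem isCyclic_out_sp4 : IsCyclic (Cfsg.Out (Cfsg.PSp 2 F)) := by
  refine ⟨⟨QuotientGroup.mk (graphAut (F := F)), fun y => ?_⟩⟩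
  induction y using QuotientGroup.induction_on with
  | H α =>
    have hgam : ∀ (g : ↥(Cfsg.GSp 2 F)) (σ : RingAut F),
        (QuotientGroup.mk (conjGSp 2 g * fieldAutSp 2 σ) : Cfsg.Out (Cfsg.PSp 2 F))
          ∈ Subgroup.zpowers (QuotientGroup.mk (graphAut (F := F)) : Cfsg.Out (Cfsg.PSp 2 F)) := by
      intro g σ
      obtain ⟨j, rfl⟩ := ringAut_eq_sqAut_pow σ
      have h1 : (QuotientGroup.mk (conjGSp 2 g) : Cfsg.Out (Cfsg.PSp 2 F)) = 1 := by
        rw [QuotientGroup.eq_one_iff, inn_eq_range]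
        exact ⟨g, rfl⟩
      rw [QuotientGroup.mk_mul, h1, one_mul, map_pow, ← graphAut_sq, QuotientGroup.mk_pow,
        QuotientGroup.mk_mul, ← pow_two, ← pow_mul]
      exact Subgroup.pow_mem _ (Subgroup.mem_zpowers _) _
    rcases aut_sp4_cases α with ⟨g, σ, rfl⟩ | ⟨g, σ, rfl⟩
    · exact hgam g σ
    · rw [QuotientGroup.mk_mul]
      exact Subgroup.mul_mem _ (Subgroup.mem_zpowers _) (hgam g σ)

end

end Cfsg.Agent.Lib.Helper43.AutPSp
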