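import Mathlib
import Cfsg.Prelude.Def_GeometricClasses
import Cfsg.Agent.Lib.Helper61.AschDefs
import Cfsg.Agent.Lib.Helper43.SpAschDefs
import Cfsg.Agent.Lib.Helper43.SpAschDefs2
import Cfsg.Agent.Lib.Helper05.SpAschS2b
import Cfsg.Agent.Lib.Helper18.SpAschD2a
import Cfsg.Agent.Lib.Helper23.SpAschS1
import Cfsg.Agent.Lib.Helper26.SpAschEe
import Cfsg.Agent.Lib.Helper29.SpAschT2
import Cfsg.Agent.Lib.Helper30.SpAschS2c
import Cfsg.Agent.Lib.Helper37.SpAschT3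
import Cfsg.Agent.Lib.Helper38.SpAschS3c
import Cfsg.Agent.Lib.Helper39.SpAschS3a
import Cfsg.Agent.Lib.Helper41.SpAschEc
import Cfsg.Agent.Lib.Helper42.SpAschEb2
import Cfsg.Agent.Lib.Helper45.SpAschS4b2
import Cfsg.Agent.Lib.Helper53.SpAschEb1
import Cfsg.Agent.Lib.Helper53.SpAschG1
import Cfsg.Agent.Lib.Helper54.SpAschS4sw
import Cfsg.Agent.Lib.Helper57.SpAschEx
import Cfsg.Agent.Lib.Helper57.SpAschT9
import Cfsg.Agent.Lib.Helper59.SpAschS2p
import Cfsg.Agent.Lib.Helper62.SpAschT5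
import Cfsg.Agent.Lib.Helper62.SpAschT8
import Cfsg.Agent.Lib.Helper63.SpAschEa
import Cfsg.Agent.Lib.Helper65.SpAschS5
import Cfsg.Agent.Lib.Helper66.SpAschT0
import Cfsg.Agent.Lib.Helper70.SpAschS4a
import Cfsg.Agent.Lib.Helper73.SpAschT4
import Cfsg.Agent.Lib.Helper73.SpAschT7
import Cfsg.Agent.Lib.Helper79.SpAschR2
import Cfsg.Agent.Lib.Helper80.SpAschS4dt
import Cfsg.Agent.Lib.Helper80.SpAschT6
import Cfsg.Agent.Lib.Helper81.SpAschS4d2
import Cfsg.Agent.Lib.Helper82.SpAschEh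
import Cfsg.Agent.Lib.Helper82.SpAschR1
import Cfsg.Agent.Lib.Helper85.SpAschS2a
import Cfsg.Agent.Lib.Helper86.SpAschS4q
import Cfsg.Agent.Lib.Helper87.SpAschD2m
import Cfsg.Agent.Lib.Helper88.SpAschS4c
import Cfsg.Agent.Lib.Helper91.SpAschS4b1
import Cfsg.Agent.Lib.Helper93.SpAschS4d1
import Cfsg.Agent.Lib.Helper94.SpAschS3b
import Cfsg.Agent.Lib.Helper96.SpAschT1

/-!
# S5662 (Aschbacher's theorem for Sp_2m(q), 10u; unlocks helper44's SpMax rows S5790 S5805 S5844 S5868 (+S5823 S5787), 60u)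
Architect: helper43.  EXACT-SIGNATURE LEAVES.  Deliver each leaf as
  `Cfsg/Agent/Lib/<Seat>/SpAsch<Tag>.lean`, namespace `Cfsg.Agent.Lib.<Seat>.SpAsch`,
with the theorem name and signature below (copy the header block), importing
  `Cfsg.Agent.Lib.Helper43.SpAschDefs`, `Cfsg.Agent.Lib.Helper43.SpAschDefs2`, `Cfsg.Agent.Lib.Helper61.AschDefs`
(all on main) and whatever landed `Lib` files you like.  Then: keystone row status 'done' + msg to helper43.

Setting: `V = Fin n → F` column vectors, `f : V → V → F` with `IsSymplecticForm f`, `Z = scalars`,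
`K ≤ similarityGroup f` (in the application `K = H ⊔ Z` with `H ≤ isoGL f`).  `SGeom f K` (SpAschDefs) = "K lies in the
GL-level stabiliser of a member of one of the eight symplectic classes"; `QuadFor f K` (SpAschDefs2) = "K lies in the
similarity group of a nondegenerate quadratic form with polar form f".
Reusable landed linear leaves: see `Lib/Helper61/AschGlueB.lean` (normal_trichotomy) for how A1,A2,B1..B6 are used.
-/

set_option autoImplicit false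

namespace Cfsg.Agent.Lib.Helper43.SpAschHub

open Cfsg.Agent.Lib.Helper43.SpAsch

open Cfsg Cfsg.Geo Cfsg.Agent.Lib.Helper61.Asch
open scoped Matrix Kronecker MatrixGroups

variable {F : Type*} [Field F] [Fintype F] {n : ℕ}

local notation "V" => (Fin n → F)
local notation "Mat" => Matrix (Fin n) (Fin n) F
local notation "Z" => scalars (Fin n) F

/-! ## G: generalities -/

/-- **K-SpAsch-G1** (easy, ~60 lines). `Algebra.adjoin_induction`; the adjoint of `g ∈ N` with multiplier `c` is `c • g⁻¹`. -/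
theorem isAdjointClosedFor_spanAlg {f : V → V → F} (hf : IsBilinearForm f) (N : Subgroup (GL (Fin n) F))
    (hN : N ≤ similarityGroup f) : IsAdjointClosedFor f (spanAlg N) :=
  Cfsg.Agent.Lib.Helper53.SpAsch.isAdjointClosedFor_spanAlg hf N hN

/-! ## S1: reducible groups -/

/-- **K-SpAsch-S1** (~250 lines). `W` proper nonzero invariant; `rad W = W ⊓ W^⊥` is invariant (`K ≤ Δ`).
`rad W ≠ ⊥`: `.ts`.  Else `W` nondegenerate, `V = W ⊕ W^⊥`, `W^⊥` invariant nondegenerate: `.nd` with the smaller one, or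
`.dec` with `D = ![W, W^⊥]` when `2 dim W = n`.  (`Helper61.Asch.le_subspaceStabilizer`; `Helper43.AltForm`, `Helper45.SpMaxD1`.) -/
theorem sgeom_of_reducible {f : V → V → F} (hf : IsSymplecticForm f) (K : Subgroup (GL (Fin n) F))
    (hKΔ : K ≤ similarityGroup f) (hK : ¬ ActsIrreducibly (matrixSet K)) : SGeom f K :=
  Cfsg.Agent.Lib.Helper23.SpAsch.sgeom_of_reducible hf K hKΔ hK

/-! ## S2: non-isotypic normalized subalgebra -/

/-- **K-SpAsch-S2a** (~350 lines, NO form; enriched copy of `Helper38.Asch.c2_core`/`c2_of_not_isIsotypic`, file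
`Lib/Helper38/AschA2.lean`): the isotypic components, enumerated injectively, transitive under `K`. -/
theorem exists_isotypic_decomposition (K : Subgroup (GL (Fin n) F)) (A : Subalgebra F Mat)
    (hK : ActsIrreducibly (matrixSet K)) (hKA : NormAlg K A) (hiso : ¬ IsIsotypic A V) :
    ∃ (t m : ℕ) (D : Fin t → Submodule F V), IsMDecomposition m D ∧ K ≤ decompositionStabilizer D ∧
      Function.Injective D ∧
      (∀ i, ∃ c ∈ isotypicComponents A V, D i = c.restrictScalars F) ∧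
      (∀ i j, ∃ k ∈ K, (D i).map (Matrix.toLin' (k : Mat)) = D j) :=
  Cfsg.Agent.Lib.Helper85.SpAsch.exists_isotypic_decomposition K A hK hKA hiso

/-- **K-SpAsch-S2p** (~300 lines). An isotypic component pairs nontrivially with at most one isotypic component.
Elementary proof: reduce to simple submodules `S, S' ≤ c` (`S ≃ₗ[A] S'` via `ψ`), `T ≤ c₁`, `T' ≤ c₂` with `f(S,T) ≠ 0`,
`f(S',T') ≠ 0`.  `T → S^*`, `t ↦ f(·,t)|_S` is injective (kernel = A-submodule of the simple `T`, by adjoint-closedness), same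
for `S → T^*`, so both bijective; `φ : T → T'`, `f(ψ s, φ t) = f(s, t)` is an `A`-linear bijection, hence `c₁ = c₂`. -/
theorem isotypicComponent_pairing {f : V → V → F} (hf : IsSymplecticForm f) (A : Subalgebra F Mat)
    (hA : IsAdjointClosedFor f A) (c c₁ c₂ : Submodule A V) (hc : c ∈ isotypicComponents A V)
    (hc₁ : c₁ ∈ isotypicComponents A V) (hc₂ : c₂ ∈ isotypicComponents A V)
    (h₁ : ∃ u ∈ c, ∃ v ∈ c₁, f u v ≠ 0) (h₂ : ∃ u ∈ c, ∃ v ∈ c₂, f u v ≠ 0) : c₁ = c₂ :=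
  Cfsg.Agent.Lib.Helper59.SpAsch.isotypicComponent_pairing hf A hA c c₁ c₂ hc hc₁ hc₂ h₁ h₂

/-- **K-SpAsch-S2b** (~350 lines). `σ i` := the unique `j` with `D i` not orthogonal to `D j` (exists by nondegeneracy);
`σ` is an involution commuting with the action of `K`.  If `σ` has a fixed point, transitivity gives `σ = id`: nondegenerate
decomposition, `.dec`.  Otherwise every `D i` is totally singular; `t = 2`: right alternative; `t > 2`: the `t/2 ≥ 2` sums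
`D i ⊔ D (σ i)` form a nondegenerate decomposition (enumerate the `σ`-orbits by `Fintype.equivFin`), `.dec`. -/
theorem sgeom_or_tsPair_of_paired_decomposition {f : V → V → F} (hf : IsSymplecticForm f)
    (K : Subgroup (GL (Fin n) F)) (hKΔ : K ≤ similarityGroup f) {t m : ℕ} (D : Fin t → Submodule F V)
    (hD : IsMDecomposition m D) (hKD : K ≤ decompositionStabilizer D)
    (htrans : ∀ i j, ∃ k ∈ K, (D i).map (Matrix.toLin' (k : Mat)) = D j)
    (hpair : ∀ i, ∃ j, ∀ l, l ≠ j → AreOrthogonalFor f (D i) (D l)) :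
    SGeom f K ∨ ∃ (k : ℕ) (D' : Fin 2 → Submodule F V), 2 * k = n ∧ IsMDecomposition k D' ∧
      (∀ i, IsTotallySingularFor f (D' i)) ∧ K ≤ decompositionStabilizer D' :=
  Cfsg.Agent.Lib.Helper05.SpAsch.sgeom_or_tsPair_of_paired_decomposition hf K hKΔ D hD hKD htrans hpair

/-- **K-SpAsch-S2c** (~250 lines). `q` odd: `.tsPair`.  `q` even: `Q v = f (π₀ v) (π₁ v)` (`v = π₀ v + π₁ v`, `πᵢ v ∈ D i`) is a
nondegenerate quadratic form with polar form `f`, and `Q (g v) = c Q v` for `g ∈ K` with multiplier `c` (fixing or swapping the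
two subspaces; char 2): `.quad`. -/
theorem sgeom_of_tsPair {f : V → V → F} (hf : IsSymplecticForm f) (K : Subgroup (GL (Fin n) F))
    (hKΔ : K ≤ similarityGroup f) (k : ℕ) (hk : 2 * k = n) (D : Fin 2 → Submodule F V) (hD : IsMDecomposition k D)
    (hts : ∀ i, IsTotallySingularFor f (D i)) (hKD : K ≤ decompositionStabilizer D) : SGeom f K :=
  Cfsg.Agent.Lib.Helper30.SpAsch.sgeom_of_tsPair hf K hKΔ k hk D hD hts hKD

/-! ## S3: the centre of the enveloping algebra is a proper extension field -/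

/-- **K-SpAsch-S3a** (~300 lines; enriched copy of `Helper41.Asch.c3_of_center_ne_bot`, `Lib/Helper41/AschB2.lean`).
`L = centre of A` is a finite field, normalized by `K`, stable under the adjoint (an anti-automorphism of `A`); `E` = its unique
subfield of prime degree `r` over `F`: adjoint-closed by uniqueness; the adjoint is an `F`-automorphism of `E` of order `≤ 2`, so it is
trivial (self-adjoint) or `2 ∣ r`. -/
theorem exists_adjointClosed_field {f : V → V → F} (hf : IsSymplecticForm f) (K : Subgroup (GL (Fin n) F))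
    (A : Subalgebra F Mat) [IsSimpleRing A] (hKA : NormAlg K A) (hA : IsAdjointClosedFor f A)
    (hc : Subalgebra.center F A ≠ ⊥) :
    ∃ (r : ℕ) (E : Subalgebra F Mat), r.Prime ∧ IsFieldSubalgebra r E ∧ K ≤ subalgebraNormalizer E ∧
      IsAdjointClosedFor f E ∧ (IsSelfAdjointFor f E ∨ r = 2) :=
  Cfsg.Agent.Lib.Helper39.SpAsch.exists_adjointClosed_field hf K A hKA hA hc

/-- **K-SpAsch-S3b** (~120 lines). `2 ≠ 0`: `f(kv,v) = f(v,kv) = -f(kv,v)`.  `2 = 0`: squaring is injective on the finite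
reduced commutative ring `E`, hence onto: `k = l * l`, `f(l l v, v) = f(l v, l v) = 0`. -/
theorem alternating_of_isSelfAdjointFor {f : V → V → F} (hf : IsSymplecticForm f) (r : ℕ) (E : Subalgebra F Mat)
    (hE : IsFieldSubalgebra r E) (hsa : IsSelfAdjointFor f E) : ∀ k ∈ E, ∀ v : V, f (k *ᵥ v) v = 0 :=
  Cfsg.Agent.Lib.Helper94.SpAsch.alternating_of_isSelfAdjointFor hf r E hE hsa

/-- **K-SpAsch-S3c** (~300 lines). `q` even, `E` a quadratic field, adjoint `*` nontrivial on `E`: fixed points of `*` = `F•1`;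
pick `θ ∈ E` with `θ + θ* = 1`; `Q v = f (θ v) v` has polar form `f` (char 2) and `Q (g v) = c Q v` for `g ∈ K`
(`g⁻¹ θ g - θ` is `*`-fixed, hence scalar, and `f (c v) v = 0`). -/
theorem quadFor_of_field_even {f : V → V → F} (hf : IsSymplecticForm f) (hq : ¬ Odd (Fintype.card F))
    (K : Subgroup (GL (Fin n) F)) (hKΔ : K ≤ similarityGroup f) (E : Subalgebra F Mat)
    (hE : IsFieldSubalgebra 2 E) (hac : IsAdjointClosedFor f E) (hns : ¬ IsSelfAdjointFor f E)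
    (hKE : K ≤ subalgebraNormalizer E) : QuadFor f K :=
  Cfsg.Agent.Lib.Helper38.SpAsch.quadFor_of_field_even hf hq K hKΔ E hE hac hns hKE

/-! ## S4: tensor decompositions -/

/-- **K-SpAsch-S4a** (~350 lines). Let `Φ` be the Gram matrix of `(x,y) ↦ f(P(x∘e),P(y∘e))` on `Fin a × Fin b` (invertible,
`Φᵀ = -Φ`).  Adjoint-closedness of `A = P (M_a ⊗ 1) P⁻¹` says `Φ⁻¹ (xᵀ ⊗ 1) Φ ∈ M_a ⊗ 1` for all `x`, i.e. `Φ⁻¹` normalizes `M_a ⊗ 1`:
by `Helper97.Asch.kron_core` / `mem_tensorProductSubgroup_of_normalizes` (`Lib/Helper97/AschB5.lean`) `Φ = G₁ ⊗ G₂`.  Then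
`Φᵀ = -Φ` forces `G₁ᵀ = ε G₁`, `G₂ᵀ = -ε G₂`, and `ε² = 1`. -/
theorem exists_gram_kronecker {f : V → V → F} (hf : IsSymplecticForm f) (A : Subalgebra F Mat) (a b : ℕ)
    (ha : 0 < a) (hb : 0 < b) (e : Fin n ≃ Fin a × Fin b) (P : GL (Fin n) F) (hT : IsTensorLeft A a b e P)
    (hA : IsAdjointClosedFor f A) :
    ∃ (G₁ : Matrix (Fin a) (Fin a) F) (G₂ : Matrix (Fin b) (Fin b) F) (ε : F), IsUnit G₁ ∧ IsUnit G₂ ∧
      (ε = 1 ∨ ε = -1) ∧ G₁ᵀ = ε • G₁ ∧ G₂ᵀ = (-ε) • G₂ ∧ IsKronForm f a b e P G₁ G₂ :=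
  Cfsg.Agent.Lib.Helper70.SpAsch.exists_gram_kronecker hf A a b ha hb e P hT hA

/-- **K-SpAsch-S4sw** (~80 lines). Swap the two tensor factors (`Helper63.Asch.tensorProductSubgroup_le_swap`). -/
theorem kronForm_swap {f : V → V → F} (a b : ℕ) (e : Fin n ≃ Fin a × Fin b) (P : GL (Fin n) F)
    (G₁ : Matrix (Fin a) (Fin a) F) (G₂ : Matrix (Fin b) (Fin b) F) (h : IsKronForm f a b e P G₁ G₂) :
    IsKronForm f b a (e.trans (Equiv.prodComm _ _)) P G₂ G₁ :=
  Cfsg.Agent.Lib.Helper54.SpAsch.kronForm_swap a b e P G₁ G₂ h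

/-- **K-SpAsch-S4d1** (~250 lines, any characteristic). `k ∈ tensorProductSubgroup` is `P (k₁ ⊗ k₂) P⁻¹`
(`Helper63.Asch.mem_tensorProductSubgroup`); `k ∈ Δ(f)` gives `(k₁ᵀG₁k₁) ⊗ (k₂ᵀG₂k₂) = c • (G₁ ⊗ G₂)`, hence each factor is
proportional (compare with a nonzero entry of the other). -/
theorem kronSim_of_mem {f : V → V → F} (hf : IsSymplecticForm f) (a b : ℕ) (e : Fin n ≃ Fin a × Fin b)
    (P : GL (Fin n) F) (G₁ : Matrix (Fin a) (Fin a) F) (G₂ : Matrix (Fin b) (Fin b) F) (hG₁ : IsUnit G₁)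
    (hG₂ : IsUnit G₂) (hform : IsKronForm f a b e P G₁ G₂) (k : GL (Fin n) F) (hkΔ : k ∈ similarityGroup f)
    (hk : k ∈ tensorProductSubgroup a b e P) : KronSim a b e P G₁ G₂ k :=
  Cfsg.Agent.Lib.Helper93.SpAsch.kronSim_of_mem hf a b e P G₁ G₂ hG₁ hG₂ hform k hkΔ hk

/-- **K-SpAsch-S4b1** (~250 lines). `f₁ := formOfGram id G₁`, `f₂ := formOfGram id G₂` (as functions of two vectors):
`gramMatrix fᵢ = Gᵢ`, `IsSymplecticForm f₁` (`G₁ᵀ = -G₁`, `2 ≠ 0`, `G₁` invertible), `IsSymmetricForm f₂`,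
`IsTensorFormStructure id f f₁ f₂ e P` with `c = 1`: `.tensor`. -/
theorem sgeom_tensor_of_alt_symm {f : V → V → F} (hf : IsSymplecticForm f) (hq : Odd (Fintype.card F))
    (K : Subgroup (GL (Fin n) F)) (a b : ℕ) (hb : 3 ≤ b) (e : Fin n ≃ Fin a × Fin b) (P : GL (Fin n) F)
    (G₁ : Matrix (Fin a) (Fin a) F) (G₂ : Matrix (Fin b) (Fin b) F) (hG₁ : IsUnit G₁) (hG₂ : IsUnit G₂)
    (h₁ : G₁ᵀ = -G₁) (h₂ : G₂ᵀ = G₂) (hform : IsKronForm f a b e P G₁ G₂)
    (hK : K ≤ tensorProductSubgroup a b e P) : SGeom f K :=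
  Cfsg.Agent.Lib.Helper91.SpAsch.sgeom_tensor_of_alt_symm hf hq K a b hb e P G₁ G₂ hG₁ hG₂ h₁ h₂ hform hK

/-- **K-SpAsch-S4b2** (~300 lines). Symmetric factor of dimension 2.  `Ω = !![0,1;-1,0]`, `J₀ = G₂⁻¹ Ω`:
`J₀ᵀ G₂ + G₂ J₀ = 0`, `J₀² = -(det G₂)⁻¹ • 1`; the `G₂`-skew-adjoint `2×2` matrices are the multiples of `J₀`, so a similarity `k₂` of
`G₂` has `k₂ J₀ k₂⁻¹ = ± J₀`.  `J := P (1 ⊗ J₀) P⁻¹` read through `e`. -/
theorem exists_skew_square {f : V → V → F} (hf : IsSymplecticForm f) (hq : Odd (Fintype.card F))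
    (K : Subgroup (GL (Fin n) F)) (a : ℕ) (e : Fin n ≃ Fin a × Fin 2) (P : GL (Fin n) F)
    (G₁ : Matrix (Fin a) (Fin a) F) (G₂ : Matrix (Fin 2) (Fin 2) F) (hG₁ : IsUnit G₁) (hG₂ : IsUnit G₂)
    (h₁ : G₁ᵀ = -G₁) (h₂ : G₂ᵀ = G₂) (hform : IsKronForm f a 2 e P G₁ G₂)
    (hfac : ∀ k ∈ K, KronSim a 2 e P G₁ G₂ k) :
    ∃ (J : Mat) (δ : F), δ ≠ 0 ∧ J * J = δ • (1 : Mat) ∧ (∀ u v : V, f (J *ᵥ u) v = - f u (J *ᵥ v)) ∧
      ∀ k ∈ K, (k : Mat) * J * ((k⁻¹ : GL (Fin n) F) : Mat) = J ∨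
        (k : Mat) * J * ((k⁻¹ : GL (Fin n) F) : Mat) = -J :=
  Cfsg.Agent.Lib.Helper45.SpAsch.exists_skew_square hf hq K a e P G₁ G₂ hG₁ hG₂ h₁ h₂ hform hfac

/-- **K-SpAsch-S4c** (~350 lines). `δ = d²`: `W± = ker (J ∓ d)` are totally singular (`d f(u,v) = f(Ju,v) = -f(u,Jv) = -d f(u,v)`),
complementary, so both of dimension `n/2`, permuted by `K`: `.tsPair`.  `δ` a nonsquare: `E = {x • 1 + y • J}` is a quadratic field,
`(x + yJ)* = x - yJ`: adjoint-closed, not self-adjoint, normalized by `K`: `.fieldUnit`. -/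
theorem sgeom_of_skew_square {f : V → V → F} (hf : IsSymplecticForm f) (hq : Odd (Fintype.card F)) (hn : 0 < n)
    (K : Subgroup (GL (Fin n) F)) (hKΔ : K ≤ similarityGroup f) (J : Mat) (δ : F) (hδ : δ ≠ 0)
    (hJ : J * J = δ • (1 : Mat)) (hskew : ∀ u v : V, f (J *ᵥ u) v = - f u (J *ᵥ v))
    (hKJ : ∀ k ∈ K, (k : Mat) * J * ((k⁻¹ : GL (Fin n) F) : Mat) = J ∨
        (k : Mat) * J * ((k⁻¹ : GL (Fin n) F) : Mat) = -J) : SGeom f K :=
  Cfsg.Agent.Lib.Helper88.SpAsch.sgeom_of_skew_square hf hq hn K hKΔ J δ hδ hJ hskew hKJ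

/-- **K-SpAsch-S4q** (~300 lines, pure coordinates, char 2).  `Q x := ∑ over unordered pairs {p,p'} of distinct indices of
(G₁ ⊗ G₂) p p' * x p * x p'` (e.g. sum over `p < p'` for a linear order on `Fin a × Fin b`).  Polar = the Gram form.  `Q` vanishes on pure
tensors `u ⊗ w` (terms with equal first or second index vanish by the zero diagonals, the others cancel in pairs).  Similarity: `Q ∘ (k₁⊗k₂)`
and `c₁c₂ Q` have the same polar form and agree (both `0`) on the basis `eᵢ ⊗ eⱼ`, so their difference is additive, `c²`-homogeneous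
and zero on a basis. -/
theorem exists_quad_kronecker (h2 : (2 : F) = 0) {a b : ℕ} (G₁ : Matrix (Fin a) (Fin a) F)
    (G₂ : Matrix (Fin b) (Fin b) F) (h₁ : G₁ᵀ = G₁) (h₂ : G₂ᵀ = G₂) (d₁ : ∀ i, G₁ i i = 0) (d₂ : ∀ j, G₂ j j = 0) :
    ∃ Q : (Fin a × Fin b → F) → F, (∀ (c : F) x, Q (c • x) = c ^ 2 * Q x) ∧
      (∀ x y, Q (x + y) - Q x - Q y = formOfGram id (G₁ ⊗ₖ G₂) x y) ∧
      ∀ (k₁ : Matrix (Fin a) (Fin a) F) (k₂ : Matrix (Fin b) (Fin b) F) (c₁ c₂ : F),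
        k₁ᵀ * G₁ * k₁ = c₁ • G₁ → k₂ᵀ * G₂ * k₂ = c₂ • G₂ → ∀ x, Q ((k₁ ⊗ₖ k₂) *ᵥ x) = c₁ * c₂ * Q x :=
  Cfsg.Agent.Lib.Helper86.SpAsch.exists_quad_kronecker h2 G₁ G₂ h₁ h₂ d₁ d₂

/-- **K-SpAsch-S4d2** (~300 lines, char 2). If `G₁` had a nonzero diagonal entry then `W₁ = {u | uᵀ G₁ u = 0}` (additive and
`c²`-homogeneous map `u ↦ ∑ᵢ G₁ i i uᵢ²`, so a proper subspace, nonzero as `2 ≤ a`) is invariant under the similarities of `G₁`, and
`{P (x ∘ e) | x ∈ W₁ ⊗ F^b}` would be a proper nonzero `K`-invariant subspace.  Same for `G₂`. -/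
theorem diag_zero_of_irreducible {f : V → V → F} (h2 : (2 : F) = 0) (K : Subgroup (GL (Fin n) F))
    (hKirr : ActsIrreducibly (matrixSet K)) (a b : ℕ) (ha : 2 ≤ a) (hb : 2 ≤ b) (e : Fin n ≃ Fin a × Fin b)
    (P : GL (Fin n) F) (G₁ : Matrix (Fin a) (Fin a) F) (G₂ : Matrix (Fin b) (Fin b) F)
    (h₁ : G₁ᵀ = G₁) (h₂ : G₂ᵀ = G₂) (hfac : ∀ k ∈ K, KronSim a b e P G₁ G₂ k) :
    (∀ i, G₁ i i = 0) ∧ (∀ j, G₂ j j = 0) :=
  Cfsg.Agent.Lib.Helper81.SpAsch.diag_zero_of_irreducible (f := f) h2 K hKirr a b ha hb e P G₁ G₂ h₁ h₂ hfac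

/-- **K-SpAsch-S4dt** (~200 lines). Transport a coordinate quadratic form to `V`: `Q' v := Q (fun p => (P⁻¹ *ᵥ v) (e.symm p))`. -/
theorem quadFor_of_coord_quad {f : V → V → F} (hf : IsSymplecticForm f) (K : Subgroup (GL (Fin n) F)) (a b : ℕ)
    (e : Fin n ≃ Fin a × Fin b) (P : GL (Fin n) F) (G₁ : Matrix (Fin a) (Fin a) F)
    (G₂ : Matrix (Fin b) (Fin b) F) (hform : IsKronForm f a b e P G₁ G₂)
    (hfac : ∀ k ∈ K, KronSim a b e P G₁ G₂ k) (Q : (Fin a × Fin b → F) → F)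
    (hQ1 : ∀ (c : F) x, Q (c • x) = c ^ 2 * Q x)
    (hQ2 : ∀ x y, Q (x + y) - Q x - Q y = formOfGram id (G₁ ⊗ₖ G₂) x y)
    (hQ3 : ∀ (k₁ : Matrix (Fin a) (Fin a) F) (k₂ : Matrix (Fin b) (Fin b) F) (c₁ c₂ : F),
        k₁ᵀ * G₁ * k₁ = c₁ • G₁ → k₂ᵀ * G₂ * k₂ = c₂ • G₂ → ∀ x, Q ((k₁ ⊗ₖ k₂) *ᵥ x) = c₁ * c₂ * Q x) :
    QuadFor f K :=
  Cfsg.Agent.Lib.Helper80.SpAsch.quadFor_of_coord_quad hf K a b e P G₁ G₂ hform hfac Q hQ1 hQ2 hQ3

/-! ## S5: subfield structures carrying the form -/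

/-- **K-SpAsch-S5** (~350 lines; enriched copy of `Helper72.Asch.le_subfieldSubgroup_of_realisable`, `Lib/Helper72/AschC6.lean`,
whose proof takes `F₁ ≥ F₀` of prime index and `P = B⁻¹`, `B` the realising matrix).  Extra: the Gram matrix `Φ` of
`(u,v) ↦ f(Pu,Pv)` is fixed by `X' = B X B⁻¹ ⊆ GL_n(F₁)` (abs. irreducible); applying a generator `σ` of `Gal(F/F₁)` entrywise,
`σΦ` is `X'`-invariant too, so `σΦ = λΦ`; with `ζ := (Φ i j)⁻¹` for a nonzero entry, `ζΦ` has the entry `1` at `(i,j)` and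
`σ(ζΦ) = (σζ)λΦ` is proportional to `ζΦ` with the same entry `1`: `σ(ζΦ) = ζΦ`, all entries in `F₁`. -/
theorem subfield_of_realisable {f : V → V → F} (hf : IsSymplecticForm f) (K X : Subgroup (GL (Fin n) F))
    (hX : spanAlg X = ⊤) (hKX : NormBy K X) (hXf : X ≤ isoGL f) (F₀ : Subfield F) (hF₀ : F₀ ≠ ⊤)
    (hreal : RealisableOver F₀ (matrixSet X)) :
    ∃ (F₁ : Subfield F) (r : ℕ) (P : GL (Fin n) F) (ζ : F), r.Prime ∧ Fintype.card F = Nat.card F₁ ^ r ∧ ζ ≠ 0 ∧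
      IsFormRationalStructure f F₁ ζ P ∧ K ≤ subfieldSubgroup F₁ P :=
  Cfsg.Agent.Lib.Helper65.SpAsch.subfield_of_realisable hf K X hX hKX hXf F₀ hF₀ hreal

/-! ## D: the minimal normal subgroup is abelian modulo scalars -/

/-- **K-SpAsch-D2a** (~400 lines). `Helper80.Asch.exists_symplecticType` (D1, `Lib/Helper80/AschD1.lean`) gives `r`, `n = r^m`,
`r ∤ q`; `n` even forces `r = 2`, `q` odd.  `R := N ⊓ isoGL f`.  Every `x ∈ N ≤ H ⊔ Z` is `h z` with `h ∈ H ⊓ N ≤ R`: `N = R Z`,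
`R ⊓ Z = {±1}`, `spanAlg R = spanAlg N = ⊤`; `N/Z ≅ R/{±1}` elementary abelian of order `n² = 2^(2k)` (from D1's `R₁`:
`R₁ ⊔ Z = N` by `hmin`, `|R₁ Z / Z| = |R₁| / |Z(R₁)|`); centre of `R` = `R ⊓ Z` (abs. irreducible); `x² ∈ {±1}`, exponent 4 (nonabelian);
a characteristic abelian subgroup of `R` is normalized by `K`, so scalar by `hab`, so of order `≤ 2`, cyclic; traces: `x ∈ R \ Z` has
`y x y⁻¹ = -x` for some `y`. -/
theorem extraspecial_data {f : V → V → F} (hf : IsSymplecticForm f) (hn : 4 ≤ n) (hev : Even n)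
    (H K N : Subgroup (GL (Fin n) F)) (hH : H ≤ isoGL f) (hK : K = H ⊔ Z) (hZN : Z ≤ N) (hNK : N ≤ K)
    (hKN : NormBy K N) (hspan : spanAlg N = ⊤) (r : ℕ) (hr : r.Prime)
    (hcomm : ∀ x ∈ N, ∀ y ∈ N, x * y * x⁻¹ * y⁻¹ ∈ Z) (hexp : ∀ x ∈ N, x ^ r ∈ Z)
    (hmin : ∀ M : Subgroup (GL (Fin n) F), Z ≤ M → M ≤ N → NormBy K M → M = Z ∨ M = N)
    (hab : ∀ B : Subgroup (GL (Fin n) F), B ≤ N → NormBy K B → (∀ x ∈ B, ∀ y ∈ B, x * y = y * x) → B ≤ Z) :
    Odd (Fintype.card F) ∧ ∃ (R : Subgroup (GL (Fin n) F)) (k : ℕ), R ≤ isoGL f ∧ NormBy K R ∧ spanAlg R = ⊤ ∧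
      IsSymplecticTypeGroup 2 R ∧ n = 2 ^ k ∧ Nat.card R = 2 ^ (1 + 2 * k) ∧
      Nat.card (Subgroup.center R) = 2 ∧ (-1 : GL (Fin n) F) ∈ R ∧
      (∀ x ∈ R, x ∈ Z ∨ Matrix.trace ((x : GL (Fin n) F) : Mat) = 0) :=
  Cfsg.Agent.Lib.Helper18.SpAsch.extraspecial_data hf hn hev H K N hH hK hZN hNK hKN hspan r hr hcomm hexp hmin hab

/-- **K-SpAsch-D2m** (~400 lines). Suppose `A ≤ R` elementary abelian, `|A| ≥ 2^(k+1)`; `A' := ⟨A, -1⟩` of order `2^j`, `j ≥ k+1`.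
For a character `χ : A' → {±1}` with `χ(-1) = -1` let `e_χ = |A'|⁻¹ ∑_{a ∈ A'} χ(a) a` (idempotent, `2` invertible);
`tr e_χ = 2n / 2^j ≠ 0` by `htr`, so the eigenspace `V_χ ≠ 0`; the `2^(j-1) ≥ n` spaces `V_χ` are independent: `j = k+1` and all `dim V_χ = 1`.
Elements of `A'` are isometries, so `f(V_χ, V_ψ) = 0` for `χ ≠ ψ`; then `V_χ = F u` with `f(u, ·) = 0`: contradiction. -/
theorem isOfMinusType_of_sp {f : V → V → F} (hf : IsSymplecticForm f) (hq : Odd (Fintype.card F))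
    (R : Subgroup (GL (Fin n) F)) (k : ℕ) (hRf : R ≤ isoGL f) (hnk : n = 2 ^ k) (hk : 1 ≤ k)
    (hcard : Nat.card R = 2 ^ (1 + 2 * k)) (hneg : (-1 : GL (Fin n) F) ∈ R)
    (htr : ∀ x ∈ R, x ∈ Z ∨ Matrix.trace ((x : GL (Fin n) F) : Mat) = 0) : IsOfMinusType k R :=
  Cfsg.Agent.Lib.Helper87.SpAsch.isOfMinusType_of_sp hf hq R k hRf hnk hk hcard hneg htr

/-! ## E: the minimal normal subgroup is perfect, not simple, modulo scalars -/

/-- **K-SpAsch-Ee** (~300 lines; copy of the first half of `Helper60.Asch.geom_of_nonsimple_perfect_of_pos`,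
`Lib/Helper60/AschE5Core.lean`, with `Helper70.Asch.exists_central_factors` for `hE1`).  `A₀ := spanAlg (Q i₀)` for the first central
factor: normalized by `N`, `≅ M_a(F)` with `2 ≤ a`, `IsTensorLeft` by `Helper14.Asch.exists_tensorLeft_of_algHom`, `b ≠ 1` because the
second factor centralizes `A₀` and is not scalar; adjoint-closed by G1 (`Q i₀ ≤ N ≤ Δ`; inline its 40-line proof or take it as `have … := by`). -/
theorem exists_tensorLeft_factor {f : V → V → F} (hf : IsSymplecticForm f) (K N : Subgroup (GL (Fin n) F))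
    (hn : 3 ≤ n) (hNΔ : N ≤ similarityGroup f) (hZN : Z ≤ N) (hNK : N ≤ K) (hKN : NormBy K N)
    (hspan : spanAlg N = ⊤) (hperf : ⁅N, N⁆ ⊔ Z = N)
    (hmin : ∀ M : Subgroup (GL (Fin n) F), Z ≤ M → M ≤ N → NormBy K M → M = Z ∨ M = N)
    (hns : ∃ M : Subgroup (GL (Fin n) F), Z ≤ M ∧ M ≤ N ∧ NormBy N M ∧ M ≠ Z ∧ M ≠ N) :
    ∃ (A₀ : Subalgebra F Mat) (a b : ℕ) (e : Fin n ≃ Fin a × Fin b) (P : GL (Fin n) F), 2 ≤ a ∧ 2 ≤ b ∧
      NormAlg N A₀ ∧ IsAdjointClosedFor f A₀ ∧ IsTensorLeft A₀ a b e P :=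
  Cfsg.Agent.Lib.Helper26.SpAsch.exists_tensorLeft_factor hf K N hn hNΔ hZN hNK hKN hspan hperf hmin hns

/-- **K-SpAsch-Ea** (~450 lines; enriched copy of `Helper60.Asch.geom_of_nonsimple_perfect_of_pos` + `geom_of_nonsimple_perfect`).
Same proof, exporting: the factor sets `factorSet m t e P i` (= `spanAlg (Q i)`) are adjoint-closed (`Q i ≤ N ≤ Δ`), `K` is transitive on
them, and every element of `N ≤ (⨆ Q i) ⊔ Z` is a pure tensor in the coordinates `(e, P)`. -/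
theorem exists_tensorWreath_structure {f : V → V → F} (hf : IsSymplecticForm f) (K N : Subgroup (GL (Fin n) F))
    (hn : 3 ≤ n) (hNΔ : N ≤ similarityGroup f) (hZN : Z ≤ N) (hNK : N ≤ K) (hKN : NormBy K N)
    (hspan : spanAlg N = ⊤) (hperf : ⁅N, N⁆ ⊔ Z = N)
    (hmin : ∀ M : Subgroup (GL (Fin n) F), Z ≤ M → M ≤ N → NormBy K M → M = Z ∨ M = N)
    (hns : ∃ M : Subgroup (GL (Fin n) F), Z ≤ M ∧ M ≤ N ∧ NormBy N M ∧ M ≠ Z ∧ M ≠ N) :
    ∃ (m t : ℕ) (e : Fin n ≃ (Fin t → Fin m)) (P : GL (Fin n) F), 2 ≤ m ∧ 2 ≤ t ∧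
      K ≤ tensorWreathSubgroup m t e P ∧ (∀ i, AdjClosedSet f (factorSet m t e P i)) ∧
      (∀ i j, ∃ k ∈ K, ∀ x ∈ factorSet m t e P i,
        (k : Mat) * x * ((k⁻¹ : GL (Fin n) F) : Mat) ∈ factorSet m t e P j) ∧
      (∀ g ∈ N, ∃ w : GL (Fin t → Fin m) F, IsPureTensor m t w ∧ g = P * glReindex e.symm w * P⁻¹) :=
  Cfsg.Agent.Lib.Helper63.SpAsch.exists_tensorWreath_structure hf K N hn hNΔ hZN hNK hKN hspan hperf hmin hns

/-- **K-SpAsch-Ex** (~200 lines). `GL₂(F₃)` acts on the 4 lines of `F₃²` with scalar (abelian) kernel;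
`Helper77.PermSmall.solvable_perm_of_card_le_four`. -/
theorem isSolvable_gl_two_three (hq : Fintype.card F = 3) : Group.IsSolvable (GL (Fin 2) F) :=
  Cfsg.Agent.Lib.Helper57.SpAsch.isSolvable_gl_two_three hq

/-- **K-SpAsch-Eh** (~250 lines). The pure tensors form the image of the hom `(Fin t → GL₂(F)) → GL(Fin t → Fin 2)`, solvable by
`hsol`; so `N` is solvable; `⁅N,N⁆ ⊔ Z = N` gives `derivedSeries N k ⊔ Z = N` for all `k`, hence `N ≤ Z`. -/
theorem not_pure_perfect_two (hsol : Group.IsSolvable (GL (Fin 2) F)) (t : ℕ) (e : Fin n ≃ (Fin t → Fin 2))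
    (P : GL (Fin n) F) (N : Subgroup (GL (Fin n) F))
    (hpure : ∀ g ∈ N, ∃ w : GL (Fin t → Fin 2) F, IsPureTensor 2 t w ∧ g = P * glReindex e.symm w * P⁻¹)
    (hperf : ⁅N, N⁆ ⊔ Z = N) (hNZ : ¬ N ≤ Z) : False :=
  Cfsg.Agent.Lib.Helper82.SpAsch.not_pure_perfect_two hsol t e P N hpure hperf hNZ

/-- **K-SpAsch-Eb1** (~400 lines). `Φ` := Gram matrix of `(x,y) ↦ f(P(x∘e),P(y∘e))` on `Fin t → Fin m`.  For each `i`,
`x ↦ x'` with `pureAt i x' = Φ⁻¹ (pureAt i x)ᵀ Φ` is an anti-automorphism of `M_m(F)`, so `x' = (G i)⁻¹ xᵀ (G i)`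
(`Helper97.Asch.skolem_noether_matrix` applied to `x ↦ (xᵀ)'`).  With `Ψ a b := ∏ i, G i (a i) (b i)`, `Φ Ψ⁻¹` commutes with all
`pureAt i x`, which generate the matrix algebra: `Φ = c Ψ`.  `Φᵀ = -Φ` and `(G i)ᵀ = ε i • G i` (from `x'' = x`-type argument:
`(G i)⁻¹ (G i)ᵀ` is central) give the signs. -/
theorem exists_gram_power {f : V → V → F} (hf : IsSymplecticForm f) (m t : ℕ) (hm : 0 < m)
    (e : Fin n ≃ (Fin t → Fin m)) (P : GL (Fin n) F) (hadj : ∀ i, AdjClosedSet f (factorSet m t e P i)) :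
    ∃ (G : Fin t → Matrix (Fin m) (Fin m) F) (ε : Fin t → F) (c : F), c ≠ 0 ∧ (∀ i, IsUnit (G i)) ∧
      (∀ i, ε i = 1 ∨ ε i = -1) ∧ (∀ i, (G i)ᵀ = ε i • G i) ∧ ∏ i, ε i = -1 ∧ IsPowerForm f m t e P c G :=
  Cfsg.Agent.Lib.Helper53.SpAsch.exists_gram_power hf m t hm e P hadj

/-- **K-SpAsch-Eb2** (~300 lines, `q` odd). `k ∈ K ≤ Δ` carrying factor `i` to factor `j` intertwines the adjoint involutions
(`(k x k⁻¹)* = k x* k⁻¹`), which on factor `i` is `pureAt i x ↦ pureAt i ((G i)⁻¹ xᵀ (G i))`.  The type of the involution is invariant: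
e.g. "there is `x ≠ 0` with `x* = x` and `x y x ∈ F x` for all `y`" (rank one) holds iff `ε = 1`; or compare the dimensions of the
spaces of `*`-symmetric elements. -/
theorem eps_eq_of_transitive {f : V → V → F} (hf : IsSymplecticForm f) (hq : Odd (Fintype.card F))
    (K : Subgroup (GL (Fin n) F)) (hKΔ : K ≤ similarityGroup f) (m t : ℕ) (hm : 0 < m)
    (e : Fin n ≃ (Fin t → Fin m)) (P : GL (Fin n) F) (G : Fin t → Matrix (Fin m) (Fin m) F) (ε : Fin t → F) (c : F)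
    (hc : c ≠ 0) (hG : ∀ i, IsUnit (G i)) (hε : ∀ i, ε i = 1 ∨ ε i = -1) (hGε : ∀ i, (G i)ᵀ = ε i • G i)
    (hform : IsPowerForm f m t e P c G)
    (htrans : ∀ i j, ∃ k ∈ K, ∀ x ∈ factorSet m t e P i,
        (k : Mat) * x * ((k⁻¹ : GL (Fin n) F) : Mat) ∈ factorSet m t e P j) :
    ∀ i j, ε i = ε j :=
  Cfsg.Agent.Lib.Helper42.SpAsch.eps_eq_of_transitive hf hq K hKΔ m t hm e P G ε c hc hG hε hGε hform htrans

/-- **K-SpAsch-Ec** (~350 lines). All `G i` alternating invertible of the same size: `G i = (B i)ᵀ G₀ (B i)` with `B i` invertible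
(any two nondegenerate alternating forms of the same dimension are equivalent: `Helper43.AltForm` / Mathlib).  `P' := P * reindex (⊗ (B i)⁻¹)`:
`IsPowerForm f m t e P' c (fun _ => G₀)` and `tensorWreathSubgroup m t e P' = tensorWreathSubgroup m t e P` (conjugating by an element
of the standard group).  `f₁ := formOfGram id G₀`: `.wreath`. -/
theorem sgeom_wreath_of_alternating {f : V → V → F} (hf : IsSymplecticForm f) (hq : Odd (Fintype.card F))
    (K : Subgroup (GL (Fin n) F)) (m t : ℕ) (hm : 0 < m) (ht : Odd t) (ht3 : 3 ≤ t)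
    (hex : ¬ (Fintype.card F = 3 ∧ m = 2)) (e : Fin n ≃ (Fin t → Fin m)) (P : GL (Fin n) F)
    (G : Fin t → Matrix (Fin m) (Fin m) F) (c : F) (hc : c ≠ 0) (hG : ∀ i, IsUnit (G i))
    (hGalt : ∀ i, (G i)ᵀ = -G i) (hform : IsPowerForm f m t e P c G)
    (hK : K ≤ tensorWreathSubgroup m t e P) : SGeom f K :=
  Cfsg.Agent.Lib.Helper41.SpAsch.sgeom_wreath_of_alternating hf hq K m t hm ht ht3 hex e P G c hc hG hGalt hform hK

/-! ## R: forms fixed by an absolutely irreducible subgroup of the isometry group -/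

/-- **K-SpAsch-R1** (~350 lines). The polar form `b` of `Q` is `X`-invariant, nondegenerate; `X` abs. irreducible and fixes `f`: `b = λ f`
(Schur; cf. `Helper22.Asch.core_scalar`, `Lib/Helper22/AschC4.lean`), `λ ≠ 0`.  `q` odd: `b` symmetric and skew, `b = 0`, absurd.
`q` even: `Q' = λ⁻¹ Q` has polar `f`; for `k ∈ K` (multiplier `c`), `s := Q' ∘ k - c Q'` is additive, `s(a v) = a² s(v)`, `X`-invariant
(`k⁻¹ X k = X`); `{s = 0}` is an `X`-invariant subspace of codimension `≤ 1` (`F` is perfect: `s(v) = 1 → s(a v) = a²` ...), `n ≥ 2`: it is `V`. -/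
theorem quadFor_of_fixes_quad {f : V → V → F} (hf : IsSymplecticForm f) (hn : 2 ≤ n)
    (K X : Subgroup (GL (Fin n) F)) (hKΔ : K ≤ similarityGroup f) (hX : spanAlg X = ⊤) (hKX : NormBy K X)
    (hXf : X ≤ isoGL f) (Q : V → F) (hQ : IsNondegenerateQuadraticForm Q) (hfix : FixesQuadForm (matrixSet X) Q) :
    ¬ Odd (Fintype.card F) ∧ QuadFor f K :=
  Cfsg.Agent.Lib.Helper82.SpAsch.quadFor_of_fixes_quad hf hn K X hKΔ hX hKX hXf Q hQ hfix

/-- **K-SpAsch-R2** (~250 lines). Gram matrices: `xᵀ Φ x = Φ`, `xᵀ Ψ σ(x) = Ψ` for `x ∈ X`, so `σ(x) = (Ψ⁻¹Φ) x (Ψ⁻¹Φ)⁻¹`: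
`tr x = σ (tr x)`, all traces lie in the fixed field `F₀ ≠ ⊤` of `σ`; `Helper42.Asch.realisableOver_of_trace_mem` (`Lib/Helper42/AschC5.lean`). -/
theorem realisable_of_fixes_unitary {f : V → V → F} (hf : IsSymplecticForm f) (X : Subgroup (GL (Fin n) F))
    (hX : spanAlg X = ⊤) (hXf : X ≤ isoGL f) (σ : F ≃+* F) (h : V → V → F) (hh : IsUnitaryForm σ h)
    (hfix : FixesForm (matrixSet X) h) : ∃ F₀ : Subfield F, F₀ ≠ ⊤ ∧ RealisableOver F₀ (matrixSet X) :=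
  Cfsg.Agent.Lib.Helper79.SpAsch.realisable_of_fixes_unitary hf X hX hXf σ h hh hfix


section Transport

/-! ## T: transport along a bijection `e : ι ≃ κ` of index types (S5662 lives on `Fin m ⊕ Fin m`, the leaves on `Fin n`).

`formMap e f u v = f (u ∘ e) (v ∘ e)`, `glMap e = glReindex e : GL ι F ≃* GL κ F`, `glMap_val`, `glMap_mulVec` (SpAschDefs2).
Each leaf: the data of one constructor of `SGeom` for `(formMap e f, K.map (glMap e))` on `κ` gives `SGeom f K` on `ι`.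
Transport subspaces by `Submodule.map (LinearEquiv.funCongrLeft F F e)` (`w ↦ w ∘ e`), matrices by `Matrix.reindex e.symm e.symm`,
`P` by `(glMap e).symm P`, index bijections `e' : κ ≃ _` by `e.trans e'`.  All mechanical. -/

variable {ι κ : Type} [Fintype ι] [DecidableEq ι] [Fintype κ] [DecidableEq κ] {F : Type*} [Field F] [Fintype F]

/-- **K-SpAsch-T1** (ts + nd, ~200 lines). -/
theorem sgeom_transport_ts (e : ι ≃ κ) (f : (ι → F) → (ι → F) → F) (K : Subgroup (GL ι F))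
    (W : Submodule F (κ → F)) (h0 : W ≠ ⊥) (hts : IsTotallySingularFor (formMap e f) W)
    (hK : K.map (glMap e).toMonoidHom ≤ subspaceStabilizer W) : SGeom f K :=
  Cfsg.Agent.Lib.Helper96.SpAsch.sgeom_transport_ts e f K W h0 hts hK

theorem sgeom_transport_nd (e : ι ≃ κ) (f : (ι → F) → (ι → F) → F) (K : Subgroup (GL ι F))
    (W : Submodule F (κ → F)) (h0 : W ≠ ⊥) (hnd : IsNondegenerateOn (formMap e f) W)
    (hdim : 2 * Module.finrank F W < Fintype.card κ)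
    (hK : K.map (glMap e).toMonoidHom ≤ subspaceStabilizer W) : SGeom f K :=
  Cfsg.Agent.Lib.Helper96.SpAsch.sgeom_transport_nd e f K W h0 hnd hdim hK

/-- **K-SpAsch-T2** (dec + tsPair, ~250 lines). -/
theorem sgeom_transport_dec (e : ι ≃ κ) (f : (ι → F) → (ι → F) → F) (K : Subgroup (GL ι F))
    {t : ℕ} (k : ℕ) (D : Fin t → Submodule F (κ → F)) (hD : IsNondegenerateMDecomposition (formMap e f) k D)
    (hK : K.map (glMap e).toMonoidHom ≤ decompositionStabilizer D) : SGeom f K :=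
  Cfsg.Agent.Lib.Helper29.SpAsch.sgeom_transport_dec e f K k D hD hK

theorem sgeom_transport_tsPair (e : ι ≃ κ) (f : (ι → F) → (ι → F) → F) (K : Subgroup (GL ι F))
    (hq : Odd (Fintype.card F)) (k : ℕ) (hk : 2 * k = Fintype.card κ)
    (D : Fin 2 → Submodule F (κ → F)) (hD : IsMDecomposition k D)
    (hts : ∀ i, IsTotallySingularFor (formMap e f) (D i))
    (hK : K.map (glMap e).toMonoidHom ≤ decompositionStabilizer D) : SGeom f K :=
  Cfsg.Agent.Lib.Helper29.SpAsch.sgeom_transport_tsPair e f K hq k hk D hD hts hK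

/-- **K-SpAsch-T3** (fieldSelf + fieldUnit, ~250 lines). -/
theorem sgeom_transport_fieldSelf (e : ι ≃ κ) (f : (ι → F) → (ι → F) → F) (K : Subgroup (GL ι F))
    (r : ℕ) (hr : r.Prime) (E : Subalgebra F (Matrix κ κ F)) (hE : IsFieldSubalgebra r E)
    (hsa : IsSelfAdjointFor (formMap e f) E) (hv : ∀ k ∈ E, ∀ v : κ → F, formMap e f (k *ᵥ v) v = 0)
    (hK : K.map (glMap e).toMonoidHom ≤ subalgebraNormalizer E) : SGeom f K :=
  Cfsg.Agent.Lib.Helper37.SpAsch.sgeom_transport_fieldSelf e f K r hr E hE hsa hv hK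

theorem sgeom_transport_fieldUnit (e : ι ≃ κ) (f : (ι → F) → (ι → F) → F) (K : Subgroup (GL ι F))
    (hq : Odd (Fintype.card F)) (E : Subalgebra F (Matrix κ κ F)) (hE : IsFieldSubalgebra 2 E)
    (hac : IsAdjointClosedFor (formMap e f) E) (hns : ¬ IsSelfAdjointFor (formMap e f) E)
    (hK : K.map (glMap e).toMonoidHom ≤ subalgebraNormalizer E) : SGeom f K :=
  Cfsg.Agent.Lib.Helper37.SpAsch.sgeom_transport_fieldUnit e f K hq E hE hac hns hK

/-- **K-SpAsch-T4** (tensor, ~200 lines). -/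
theorem sgeom_transport_tensor (e : ι ≃ κ) (f : (ι → F) → (ι → F) → F) (K : Subgroup (GL ι F))
    (hq : Odd (Fintype.card F)) (n₁ n₂ : ℕ) (e' : κ ≃ Fin n₁ × Fin n₂) (P : GL κ F)
    (f₁ : (Fin n₁ → F) → (Fin n₁ → F) → F) (f₂ : (Fin n₂ → F) → (Fin n₂ → F) → F) (h3 : 3 ≤ n₂)
    (hf₁ : IsSymplecticForm f₁) (hf₂ : IsSymmetricForm f₂)
    (hT : IsTensorFormStructure id (formMap e f) f₁ f₂ e' P)
    (hK : K.map (glMap e).toMonoidHom ≤ tensorProductSubgroup n₁ n₂ e' P) : SGeom f K :=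
  Cfsg.Agent.Lib.Helper73.SpAsch.sgeom_transport_tensor e f K hq n₁ n₂ e' P f₁ f₂ h3 hf₁ hf₂ hT hK

/-- **K-SpAsch-T5** (subfield, ~200 lines). -/
theorem sgeom_transport_subfield (e : ι ≃ κ) (f : (ι → F) → (ι → F) → F) (K : Subgroup (GL ι F))
    (F₀ : Subfield F) (r : ℕ) (P : GL κ F) (ζ : F) (hr : r.Prime)
    (hc : Fintype.card F = Nat.card F₀ ^ r) (hζ : ζ ≠ 0) (hrat : IsFormRationalStructure (formMap e f) F₀ ζ P)
    (hK : K.map (glMap e).toMonoidHom ≤ subfieldSubgroup F₀ P) : SGeom f K :=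
  Cfsg.Agent.Lib.Helper62.SpAsch.sgeom_transport_subfield e f K F₀ r P ζ hr hc hζ hrat hK

/-- **K-SpAsch-T6** (extraspecial, ~300 lines; take `R' := R.map (glMap e).symm`, a group isomorphic to `R`). -/
theorem sgeom_transport_extraspecial (e : ι ≃ κ) (f : (ι → F) → (ι → F) → F) (K : Subgroup (GL ι F))
    (R : Subgroup (GL κ F)) (p k : ℕ) (hR : IsSymplecticTypeGroup 2 R)
    (hirr : ActsAbsolutelyIrreducibly (matrixSet R)) (hRΔ : R ≤ similarityGroup (formMap e f)) (hp : p.Prime)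
    (hpo : Odd p) (hc : Fintype.card F = p) (hcard : Nat.card R = 2 ^ (1 + 2 * k))
    (hcen : Nat.card (Subgroup.center R) = 2) (hminus : IsOfMinusType k R)
    (hK : K.map (glMap e).toMonoidHom ≤ subgroupNormalizer R) : SGeom f K :=
  Cfsg.Agent.Lib.Helper80.SpAsch.sgeom_transport_extraspecial e f K R p k hR hirr hRΔ hp hpo hc hcard hcen hminus hK

/-- **K-SpAsch-T7** (wreath, ~200 lines). -/
theorem sgeom_transport_wreath (e : ι ≃ κ) (f : (ι → F) → (ι → F) → F) (K : Subgroup (GL ι F))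
    (hq : Odd (Fintype.card F)) (k t : ℕ) (e' : κ ≃ (Fin t → Fin k)) (P : GL κ F)
    (f₁ : (Fin k → F) → (Fin k → F) → F) (ht : Odd t) (ht3 : 3 ≤ t) (hex : ¬ (Fintype.card F = 3 ∧ k = 2))
    (hf₁ : IsSymplecticForm f₁) (hT : IsTensorPowerFormStructure id (formMap e f) f₁ e' P)
    (hK : K.map (glMap e).toMonoidHom ≤ tensorWreathSubgroup k t e' P) : SGeom f K :=
  Cfsg.Agent.Lib.Helper73.SpAsch.sgeom_transport_wreath e f K hq k t e' P f₁ ht ht3 hex hf₁ hT hK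

/-- **K-SpAsch-T8** (quad, ~150 lines; `Q' v := Q (v ∘ e.symm)`). -/
theorem sgeom_transport_quad (e : ι ≃ κ) (f : (ι → F) → (ι → F) → F) (K : Subgroup (GL ι F))
    (hq : ¬ Odd (Fintype.card F)) (Q : (κ → F) → F) (hQ : IsNondegenerateQuadraticForm Q)
    (hpol : ∀ u v, QuadraticMap.polar Q u v = formMap e f u v)
    (hK : K.map (glMap e).toMonoidHom ≤ quadSimilarityGroup Q) : SGeom f K :=
  Cfsg.Agent.Lib.Helper62.SpAsch.sgeom_transport_quad e f K hq Q hQ hpol hK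

/-- **K-SpAsch-T9** (residual class, ~350 lines; `P' := P.map (glMap e).symm`; the quotient `P ⧸ scalars` is transported by
`QuotientGroup.congr`; forms/quadratic forms fixed by `P'` are transported to `κ` by `formMap e` / `Q ∘ (· ∘ e)`). -/
theorem residual_transport (e : ι ≃ κ) (H : Subgroup (GL ι F))
    (h : InSymplecticResidualClass (H.map (glMap e).toMonoidHom)) : InSymplecticResidualClass H :=
  Cfsg.Agent.Lib.Helper57.SpAsch.residual_transport e H h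

/-- **K-SpAsch-T0** (~150 lines): the hypotheses transport. -/
theorem isSymplecticForm_formMap (e : ι ≃ κ) {f : (ι → F) → (ι → F) → F} (hf : IsSymplecticForm f) :
    IsSymplecticForm (formMap e f) :=
  Cfsg.Agent.Lib.Helper66.SpAsch.isSymplecticForm_formMap e hf

theorem map_isoGL (e : ι ≃ κ) (f : (ι → F) → (ι → F) → F) :
    (isoGL f).map (glMap e).toMonoidHom = isoGL (formMap e f) :=
  Cfsg.Agent.Lib.Helper66.SpAsch.map_isoGL e f

theorem map_scalars (e : ι ≃ κ) : (scalars ι F).map (glMap e).toMonoidHom = scalars κ F :=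
  Cfsg.Agent.Lib.Helper66.SpAsch.map_scalars e


end Transport

end Cfsg.Agent.Lib.Helper43.SpAschHub
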