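import Mathlib
import Cfsg.Prelude.Def_GeometricClasses
import Cfsg.Agent.Lib.Helper61.AschDefs
import Cfsg.Agent.Lib.Helper61.AschBasic
import Cfsg.Agent.Lib.Helper61.AschGlueA
import Cfsg.Agent.Lib.Helper61.AschGlueB
import Cfsg.Agent.Lib.Helper61.AschGlueE
import Cfsg.Agent.Lib.Helper42.AschA1
import Cfsg.Agent.Lib.Helper29.AschB1
import Cfsg.Agent.Lib.Helper29.AschB3
import Cfsg.Agent.Lib.Helper14.AschB4
import Cfsg.Agent.Lib.Helper97.AschB5
import Cfsg.Agent.Lib.Helper63.AschB6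
import Cfsg.Agent.Lib.Helper43.SpAschDefs
import Cfsg.Agent.Lib.Helper43.SpAschDefs2
import Cfsg.Agent.Lib.Helper43.SpAschHub

/-!
# S5662 glue, part 1: the normal-subgroup trichotomy for subgroups of the similarity group of a symplectic form.
-/

set_option autoImplicit false

namespace Cfsg.Agent.Lib.Helper43.SpAsch

open Cfsg Cfsg.Geo Cfsg.Agent.Lib.Helper61.Asch
open scoped Matrix Kronecker MatrixGroups

variable {F : Type*} [Field F] [Fintype F] {n : ℕ}

local notation "V" => (Fin n → F)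
local notation "Mat" => Matrix (Fin n) (Fin n) F
local notation "Z" => scalars (Fin n) F

theorem neg_one_eq_one_of_not_odd (hq : ¬ Odd (Fintype.card F)) : (-1 : F) = 1 := by
  have h2 : (2 : F) = 0 := two_eq_zero_of_not_odd hq
  have : (1 : F) + 1 = 0 := by rw [one_add_one_eq_two, h2]
  exact (eq_neg_of_add_eq_zero_left this).symm

/-- the non-isotypic case -/
theorem sgeom_of_not_isIsotypic {f : V → V → F} (hf : IsSymplecticForm f) (K : Subgroup (GL (Fin n) F))
    (A : Subalgebra F Mat) (hK : ActsIrreducibly (matrixSet K)) (hKΔ : K ≤ similarityGroup f)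
    (hKA : NormAlg K A) (hA : IsAdjointClosedFor f A) (hiso : ¬ IsIsotypic A V) : SGeom f K := by
  obtain ⟨t, m, D, hD, hKD, hinj, hcomp, htrans⟩ := SpAschHub.exists_isotypic_decomposition K A hK hKA hiso
  have hpair : ∀ i, ∃ j, ∀ l, l ≠ j → AreOrthogonalFor f (D i) (D l) := by
    intro i
    by_cases hall : ∀ l, AreOrthogonalFor f (D i) (D l)
    · exact ⟨i, fun l _ => hall l⟩
    · push Not at hall
      obtain ⟨j, hj⟩ := hall
      refine ⟨j, fun l hlj => ?_⟩
      by_contra hl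
      apply hlj
      apply hinj
      obtain ⟨c, hc, hDi⟩ := hcomp i
      obtain ⟨c₁, hc₁, hDj⟩ := hcomp j
      obtain ⟨c₂, hc₂, hDl⟩ := hcomp l
      have hnot : ∀ (c' : Submodule A V) (k : Fin t), D k = c'.restrictScalars F → ¬ AreOrthogonalFor f (D i) (D k) →
          ∃ u ∈ c, ∃ v ∈ c', f u v ≠ 0 := by
        intro c' k hk hno
        unfold AreOrthogonalFor at hno
        push Not at hno
        obtain ⟨u, hu, v, hv, huv⟩ := hno
        rw [hDi] at hu
        rw [hk] at hv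
        exact ⟨u, hu, v, hv, huv⟩
      have h12 : c₂ = c₁ := SpAschHub.isotypicComponent_pairing hf A hA c c₂ c₁ hc hc₂ hc₁
        (hnot c₂ l hDl hl) (hnot c₁ j hDj hj)
      rw [hDl, hDj, h12]
  rcases SpAschHub.sgeom_or_tsPair_of_paired_decomposition hf K hKΔ D hD hKD htrans hpair with h | ⟨k, D', hk, hD', hts, hKD'⟩
  · exact h
  · exact SpAschHub.sgeom_of_tsPair hf K hKΔ k hk D' hD' hts hKD'

/-- the centre of the enveloping algebra is not `F` -/
theorem sgeom_of_center_ne_bot {f : V → V → F} (hf : IsSymplecticForm f) (K : Subgroup (GL (Fin n) F))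
    (A : Subalgebra F Mat) [IsSimpleRing A] (hKΔ : K ≤ similarityGroup f)
    (hKA : NormAlg K A) (hA : IsAdjointClosedFor f A) (hc : Subalgebra.center F A ≠ ⊥) : SGeom f K := by
  obtain ⟨r, E, hr, hE, hKE, hEac, hcase⟩ := SpAschHub.exists_adjointClosed_field hf K A hKA hA hc
  by_cases hsa : IsSelfAdjointFor f E
  · exact .fieldSelf r hr E hE hsa (SpAschHub.alternating_of_isSelfAdjointFor hf r E hE hsa) hKE
  · have hr2 : r = 2 := hcase.resolve_left hsa
    subst hr2
    by_cases hq : Odd (Fintype.card F)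
    · exact .fieldUnit hq E hE hEac hsa hKE
    · exact (SpAschHub.quadFor_of_field_even hf hq K hKΔ E hE hEac hsa hKE).sgeom hq

/-- the tensor case, with the alternating factor first -/
theorem sgeom_of_kron_alt_symm {f : V → V → F} (hf : IsSymplecticForm f) (hq : Odd (Fintype.card F)) (hn : 0 < n)
    (K : Subgroup (GL (Fin n) F)) (hKΔ : K ≤ similarityGroup f) (a b : ℕ) (hb : 2 ≤ b)
    (e : Fin n ≃ Fin a × Fin b) (P : GL (Fin n) F)
    (G₁ : Matrix (Fin a) (Fin a) F) (G₂ : Matrix (Fin b) (Fin b) F) (hG₁ : IsUnit G₁) (hG₂ : IsUnit G₂)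
    (h₁ : G₁ᵀ = -G₁) (h₂ : G₂ᵀ = G₂) (hform : IsKronForm f a b e P G₁ G₂)
    (hK : K ≤ tensorProductSubgroup a b e P) : SGeom f K := by
  by_cases hb3 : 3 ≤ b
  · exact SpAschHub.sgeom_tensor_of_alt_symm hf hq K a b hb3 e P G₁ G₂ hG₁ hG₂ h₁ h₂ hform hK
  · have hb2 : b = 2 := by omega
    subst hb2
    have hfac : ∀ k ∈ K, KronSim a 2 e P G₁ G₂ k := fun k hk =>
      SpAschHub.kronSim_of_mem hf a 2 e P G₁ G₂ hG₁ hG₂ hform k (hKΔ hk) (hK hk)
    obtain ⟨J, δ, hδ, hJ, hskew, hKJ⟩ := SpAschHub.exists_skew_square hf hq K a e P G₁ G₂ hG₁ hG₂ h₁ h₂ hform hfac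
    exact SpAschHub.sgeom_of_skew_square hf hq hn K hKΔ J δ hδ hJ hskew hKJ

/-- the tensor case -/
theorem sgeom_of_tensorLeft {f : V → V → F} (hf : IsSymplecticForm f) (hn : 0 < n)
    (K : Subgroup (GL (Fin n) F)) (hKirr : ActsIrreducibly (matrixSet K)) (hKΔ : K ≤ similarityGroup f)
    (A : Subalgebra F Mat) (hKA : NormAlg K A) (hA : IsAdjointClosedFor f A) (a b : ℕ) (ha : 2 ≤ a) (hb : 2 ≤ b)
    (e : Fin n ≃ Fin a × Fin b) (P : GL (Fin n) F) (hT : IsTensorLeft A a b e P) :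
    (Odd (Fintype.card F) → SGeom f K) ∧ (¬ Odd (Fintype.card F) → QuadFor f K) := by
  have hK : K ≤ tensorProductSubgroup a b e P := by
    intro k hk
    exact Cfsg.Agent.Lib.Helper97.Asch.mem_tensorProductSubgroup_of_normalizes A a b e P (by omega) (by omega) hT k
      (hKA k hk)
  obtain ⟨G₁, G₂, ε, hG₁, hG₂, hε, h₁, h₂, hform⟩ :=
    SpAschHub.exists_gram_kronecker hf A a b (by omega) (by omega) e P hT hA
  constructor
  · intro hq
    rcases hε with hε | hε
    · -- `G₁` symmetric, `G₂` alternating: swap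
      subst hε
      rw [one_smul] at h₁
      rw [neg_smul, one_smul] at h₂
      have hform' := SpAschHub.kronForm_swap a b e P G₁ G₂ hform
      exact sgeom_of_kron_alt_symm hf hq hn K hKΔ b a ha _ P G₂ G₁ hG₂ hG₁ h₂ h₁ hform'
        (hK.trans (Cfsg.Agent.Lib.Helper63.Asch.tensorProductSubgroup_le_swap e P))
    · subst hε
      rw [neg_smul, one_smul] at h₁
      rw [neg_neg, one_smul] at h₂
      exact sgeom_of_kron_alt_symm hf hq hn K hKΔ a b hb e P G₁ G₂ hG₁ hG₂ h₁ h₂ hform hK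
  · intro hq
    have hneg : (-1 : F) = 1 := neg_one_eq_one_of_not_odd hq
    have hε1 : ε = 1 := by rcases hε with h | h
                           · exact h
                           · rw [h, hneg]
    subst hε1
    rw [one_smul] at h₁
    rw [hneg, one_smul] at h₂
    have h2 : (2 : F) = 0 := two_eq_zero_of_not_odd hq
    have hfac : ∀ k ∈ K, KronSim a b e P G₁ G₂ k := fun k hk =>
      SpAschHub.kronSim_of_mem hf a b e P G₁ G₂ hG₁ hG₂ hform k (hKΔ hk) (hK hk)
    obtain ⟨d₁, d₂⟩ := SpAschHub.diag_zero_of_irreducible (f := f) h2 K hKirr a b ha hb e P G₁ G₂ h₁ h₂ hfac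
    obtain ⟨Q, hQ1, hQ2, hQ3⟩ := SpAschHub.exists_quad_kronecker h2 G₁ G₂ h₁ h₂ d₁ d₂
    exact SpAschHub.quadFor_of_coord_quad hf K a b e P G₁ G₂ hform hfac Q hQ1 hQ2 hQ3

/-- T23 for the symplectic case: a `K`-normalized subgroup of `Δ(f)` is scalar or absolutely irreducible, unless `K` is geometric. -/
theorem sp_normal_trichotomy {f : V → V → F} (hf : IsSymplecticForm f) (hn : 2 ≤ n) (K N : Subgroup (GL (Fin n) F))
    (hKΔ : K ≤ similarityGroup f) (hK : ActsIrreducibly (matrixSet K)) (hKN : NormBy K N)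
    (hNΔ : N ≤ similarityGroup f) : SGeom f K ∨ N ≤ Z ∨ spanAlg N = ⊤ := by
  have hKA : NormAlg K (spanAlg N) := normAlg_spanAlg hKN
  have hA : IsAdjointClosedFor f (spanAlg N) := SpAschHub.isAdjointClosedFor_spanAlg hf.bilinear N hNΔ
  have hss := Cfsg.Agent.Lib.Helper42.Asch.isSemisimpleModule_of_normAlg K (spanAlg N) hK hKA
  by_cases hiso : IsIsotypic (spanAlg N) V
  swap
  · exact Or.inl (sgeom_of_not_isIsotypic hf K (spanAlg N) hK hKΔ hKA hA hiso)
  haveI : IsSimpleRing (spanAlg N) :=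
    Cfsg.Agent.Lib.Helper29.Asch.isSimpleRing_of_isIsotypic (spanAlg N) (by omega) hss hiso
  by_cases hc : Subalgebra.center F (spanAlg N) = ⊥
  swap
  · exact Or.inl (sgeom_of_center_ne_bot hf K (spanAlg N) hKΔ hKA hA hc)
  obtain ⟨a, ha, ⟨φ⟩⟩ := Cfsg.Agent.Lib.Helper29.Asch.exists_algEquiv_matrix_of_center_eq_bot (spanAlg N) hc
  obtain ⟨b, e, P, hφ⟩ :=
    Cfsg.Agent.Lib.Helper14.Asch.exists_tensorLeft_of_algHom a ha ((spanAlg N).val.comp φ.toAlgHom)
  have hT : IsTensorLeft (spanAlg N) a b e P := by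
    intro M
    constructor
    · intro hM
      refine ⟨φ.symm ⟨M, hM⟩, ?_⟩
      rw [← hφ]
      simp
    · rintro ⟨x, rfl⟩
      rw [← hφ]
      exact (φ x).2
  have hcard : n = a * b := by
    have := Fintype.card_congr e
    simpa using this
  have hb : 0 < b := by
    rcases Nat.eq_zero_or_pos b with h | h
    · subst h; omega
    · exact h
  by_cases ha1 : a = 1
  · subst ha1
    exact Or.inr (Or.inl (le_scalars_of_isTensorLeft_one (by omega) b e P hT))
  by_cases hb1 : b = 1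
  · subst hb1
    exact Or.inr (Or.inr (eq_top_of_isTensorLeft_one a e P hT))
  left
  have h := sgeom_of_tensorLeft hf (by omega) K hK hKΔ (spanAlg N) hKA hA a b (by omega) (by omega) e P hT
  by_cases hq : Odd (Fintype.card F)
  · exact h.1 hq
  · exact (h.2 hq).sgeom hq

end Cfsg.Agent.Lib.Helper43.SpAsch
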