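import Mathlib
import Cfsg.Prelude.Def_GeometricClasses
import Cfsg.Agent.Lib.Helper61.AschDefs
import Cfsg.Agent.Lib.Helper61.AschBasic
import Cfsg.Agent.Lib.Helper61.AschGlueA
import Cfsg.Agent.Lib.Helper61.AschGlueB
import Cfsg.Agent.Lib.Helper61.AschGlueC
import Cfsg.Agent.Lib.Helper61.AschGlueD
import Cfsg.Agent.Lib.Helper61.AschGlueE
import Cfsg.Agent.Lib.Helper61.AschGlueF
import Cfsg.Agent.Lib.Helper19.AschD2Core
import Cfsg.Agent.Lib.Helper42.AschC5
import Cfsg.Agent.Lib.Helper45.SpMaxD1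
import Cfsg.Agent.Lib.Helper43.SpAschDefs
import Cfsg.Agent.Lib.Helper43.SpAschDefs2
import Cfsg.Agent.Lib.Helper43.SpAschHub
import Cfsg.Agent.Lib.Helper43.SpAschGlue1

/-!
# S5662 glue, part 2: the three cases for a minimal normal subgroup, and Aschbacher's theorem for subgroups of the isometry
group of a symplectic form on `Fin n → F`.
-/

set_option autoImplicit false

namespace Cfsg.Agent.Lib.Helper43.SpAsch

open Cfsg Cfsg.Geo Cfsg.Agent.Lib.Helper61.Asch
open scoped Matrix Kronecker MatrixGroups commutatorElement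

section General

variable {ι : Type} [Fintype ι] [DecidableEq ι] {F : Type*} [Field F]

theorem isoGL_le_similarityGroup (f : (ι → F) → (ι → F) → F) : isoGL f ≤ similarityGroup f := by
  intro g hg
  refine ⟨1, fun u v => ?_⟩
  rw [Units.val_one, one_mul]
  exact hg u v

theorem scalars_le_similarityGroup {f : (ι → F) → (ι → F) → F} (hf : IsBilinearForm f) :
    scalars ι F ≤ similarityGroup f := by
  intro g hg
  obtain ⟨c, hc⟩ := (mem_scalars_iff g).mp hg
  refine ⟨c * c, fun u v => ?_⟩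
  rw [hc, Matrix.smul_mulVec, Matrix.one_mulVec, Matrix.smul_mulVec, Matrix.one_mulVec, hf.smul_left,
    hf.smul_right, Units.val_mul, mul_assoc]

/-- the isometries of a one-argument form -/
def quadIso (Q : (ι → F) → F) : Subgroup (GL ι F) where
  carrier := {g | ∀ v, Q ((g : Matrix ι ι F) *ᵥ v) = Q v}
  mul_mem' {a b} ha hb := by
    intro v
    rw [Units.val_mul, ← Matrix.mulVec_mulVec, ha, hb]
  one_mem' := fun v => by simp
  inv_mem' {a} ha := by
    intro v
    have h := ha (((a⁻¹ : GL ι F) : Matrix ι ι F) *ᵥ v)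
    rw [Matrix.mulVec_mulVec, ← Units.val_mul, mul_inv_cancel, Units.val_one, Matrix.one_mulVec] at h
    exact h.symm

theorem commutator_le_quadIso (Q : (ι → F) → F) (N : Subgroup (GL ι F)) (hN : N ≤ quadSimilarityGroup Q) :
    ⁅N, N⁆ ≤ quadIso Q := by
  rw [Subgroup.commutator_le]
  intro a ha b hb
  obtain ⟨ca, hca⟩ := hN ha
  obtain ⟨cb, hcb⟩ := hN hb
  have hinv : ∀ (g : GL ι F) (c : Fˣ), (∀ v, Q ((g : Matrix ι ι F) *ᵥ v) = (c : F) * Q v) →
      ∀ v, Q (((g⁻¹ : GL ι F) : Matrix ι ι F) *ᵥ v) = ((c⁻¹ : Fˣ) : F) * Q v := by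
    intro g c hg v
    have h := hg (((g⁻¹ : GL ι F) : Matrix ι ι F) *ᵥ v)
    rw [Matrix.mulVec_mulVec, ← Units.val_mul, mul_inv_cancel, Units.val_one, Matrix.one_mulVec] at h
    rw [h, ← mul_assoc, ← Units.val_mul, inv_mul_cancel, Units.val_one, one_mul]
  intro v
  rw [commutatorElement_def, Units.val_mul, Units.val_mul, Units.val_mul, ← Matrix.mulVec_mulVec,
    ← Matrix.mulVec_mulVec, ← Matrix.mulVec_mulVec, hca, hcb, hinv a ca hca, hinv b cb hcb]
  rw [← mul_assoc, ← mul_assoc, ← mul_assoc]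
  have : (ca : F) * cb * ((ca⁻¹ : Fˣ) : F) * ((cb⁻¹ : Fˣ) : F) = 1 := by
    rw [← Units.val_mul, ← Units.val_mul, ← Units.val_mul]
    have : ca * cb * ca⁻¹ * cb⁻¹ = 1 := by
      rw [mul_comm ca cb, mul_assoc cb, mul_inv_cancel, mul_one, mul_inv_cancel]
    rw [this, Units.val_one]
  rw [this, one_mul]

theorem fixesQuadForm_of_le_quadIso (Q : (ι → F) → F) (X : Subgroup (GL ι F)) (hX : X ≤ quadIso Q) :
    FixesQuadForm (matrixSet X) Q := by
  rintro _ ⟨g, hg, rfl⟩ v
  exact hX hg v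

/-- a scalar isometry of a nonzero bilinear form is `± 1` -/
theorem scalar_isometry_sq {f : (ι → F) → (ι → F) → F} (hf : IsBilinearForm f) (hne : ∃ u v, f u v ≠ 0)
    (g : GL ι F) (c : Fˣ) (hc : (g : Matrix ι ι F) = (c : F) • (1 : Matrix ι ι F)) (hg : g ∈ isoGL f) :
    (c : F) = 1 ∨ (c : F) = -1 := by
  obtain ⟨u, v, huv⟩ := hne
  have h : f ((g : Matrix ι ι F) *ᵥ u) ((g : Matrix ι ι F) *ᵥ v) = f u v := hg u v
  rw [hc, Matrix.smul_mulVec, Matrix.one_mulVec, Matrix.smul_mulVec, Matrix.one_mulVec, hf.smul_left,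
    hf.smul_right, ← mul_assoc] at h
  have h1 : ((c : F) * c - 1) * f u v = 0 := by rw [sub_mul, h, one_mul, sub_self]
  have h2 : (c : F) * c - 1 = 0 := (mul_eq_zero.mp h1).resolve_right huv
  have h3 : ((c : F) - 1) * ((c : F) + 1) = 0 := by rw [← h2]; ring
  rcases mul_eq_zero.mp h3 with h4 | h4
  · left; exact sub_eq_zero.mp h4
  · right; exact eq_neg_of_add_eq_zero_left h4

end General

variable {F : Type*} [Field F] [Fintype F] {n : ℕ}

local notation "V" => (Fin n → F)
local notation "Mat" => Matrix (Fin n) (Fin n) F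
local notation "Z" => scalars (Fin n) F

theorem exists_ne_zero_of_isSymplecticForm {f : V → V → F} (hf : IsSymplecticForm f) (hn : 0 < n) :
    ∃ u v, f u v ≠ 0 := by
  have hv : (Pi.single (⟨0, hn⟩ : Fin n) (1 : F) : V) ≠ 0 := by
    intro h
    have := congrFun h ⟨0, hn⟩
    simp at this
  obtain ⟨x, hx⟩ := (hf.nondegenerate _ hv).1
  exact ⟨x, _, hx⟩

/-- the case of a minimal normal subgroup abelian modulo scalars -/
theorem sgeom_of_abelian_minimal {f : V → V → F} (hf : IsSymplecticForm f) (hn : 4 ≤ n)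
    (H K N : Subgroup (GL (Fin n) F)) (hH : H ≤ isoGL f) (hK : K = H ⊔ Z) (hZN : Z ≤ N) (hNK : N ≤ K)
    (hKN : NormBy K N) (hspan : spanAlg N = ⊤) (r : ℕ) (hr : r.Prime)
    (hcomm : ∀ x ∈ N, ∀ y ∈ N, x * y * x⁻¹ * y⁻¹ ∈ Z) (hexp : ∀ x ∈ N, x ^ r ∈ Z)
    (hmin : ∀ M : Subgroup (GL (Fin n) F), Z ≤ M → M ≤ N → NormBy K M → M = Z ∨ M = N)
    (hab : ∀ B : Subgroup (GL (Fin n) F), B ≤ N → NormBy K B → (∀ x ∈ B, ∀ y ∈ B, x * y = y * x) → B ≤ Z) :
    SGeom f K := by
  have hev : Even n := Cfsg.Agent.Lib.Helper45.SpMax.even_of_isSymplecticForm f hf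
  obtain ⟨hq, R, k, hRf, hKR, hspanR, hRst, hnk, hcard, hcen, hneg, htr⟩ :=
    SpAschHub.extraspecial_data hf hn hev H K N hH hK hZN hNK hKN hspan r hr hcomm hexp hmin hab
  have hk1 : 1 ≤ k := by
    rcases Nat.eq_zero_or_pos k with h | h
    · subst h; simp at hnk; omega
    · exact h
  have hminus := SpAschHub.isOfMinusType_of_sp hf hq R k hRf hnk hk1 hcard hneg htr
  obtain ⟨p, hp⟩ := CharP.exists F
  haveI := hp
  haveI : Fact p.Prime := ⟨CharP.char_is_prime F p⟩
  by_cases hbot : (⊥ : Subfield F) = ⊤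
  · have hcF : Fintype.card F = p := by
      rw [Fintype.card_eq_nat_card, ← Nat.card_congr (Subfield.topEquiv (K := F)).toEquiv, ← hbot]
      exact Subfield.card_bot F p
    have hpp : p.Prime := CharP.char_is_prime F p
    have hpo : Odd p := by rw [← hcF]; exact hq
    exact .extraspecial R p k hRst (actsAbsolutelyIrreducibly_of_spanAlg_eq_top hspanR)
      (hRf.trans (isoGL_le_similarityGroup f)) hpp hpo hcF hcard hcen hminus
      (Cfsg.Agent.Lib.Helper19.Asch.le_subgroupNormalizer_of_normBy K R hKR)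
  · have htr' : ∀ x ∈ R, Matrix.trace ((x : GL (Fin n) F) : Mat) ∈ (⊥ : Subfield F) := by
      intro x hx
      rcases htr x hx with hxZ | h0
      · obtain ⟨c, hc⟩ := (mem_scalars_iff x).mp hxZ
        have hc1 := scalar_isometry_sq hf.bilinear (exists_ne_zero_of_isSymplecticForm hf (by omega)) x c hc
          (hRf hx)
        rw [hc, Matrix.trace_smul, Matrix.trace_one, Fintype.card_fin, smul_eq_mul]
        rcases hc1 with h | h
        · rw [h, one_mul]; exact natCast_mem _ n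
        · rw [h, neg_one_mul]; exact neg_mem (natCast_mem _ n)
      · rw [h0]; exact zero_mem _
    have hreal := Cfsg.Agent.Lib.Helper42.Asch.realisableOver_of_trace_mem R hspanR ⊥ htr'
    obtain ⟨F₁, r', P, ζ, hr', hc, hζ, hrat, hKle⟩ :=
      SpAschHub.subfield_of_realisable hf K R hspanR hKR hRf ⊥ hbot hreal
    exact .subfield F₁ r' P ζ hr' hc hζ hrat hKle

/-- the perfect part of `N` lies in `H` and is absolutely irreducible -/
theorem commutator_facts (H K N : Subgroup (GL (Fin n) F)) (hK : K = H ⊔ Z) (hNK : N ≤ K)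
    (hspan : spanAlg N = ⊤) (hperf : ⁅N, N⁆ ⊔ Z = N) :
    ⁅N, N⁆ ≤ H ∧ spanAlg ⁅N, N⁆ = ⊤ ∧ ⁅⁅N, N⁆, ⁅N, N⁆⁆ = ⁅N, N⁆ := by
  refine ⟨?_, ?_, ?_⟩
  · calc ⁅N, N⁆ ≤ ⁅K, K⁆ := Subgroup.commutator_mono hNK hNK
      _ = ⁅H, H⁆ := by rw [hK, commutator_sup_scalars]
      _ ≤ H := commutator_le_self H
  · rw [← spanAlg_sup_scalars, hperf, hspan]
  · conv_rhs => rw [← hperf, commutator_sup_scalars]

/-- the case of a minimal normal subgroup perfect but not simple modulo scalars -/
theorem sgeom_of_nonsimple_perfect {f : V → V → F} (hf : IsSymplecticForm f) (hn : 4 ≤ n)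
    (H K N : Subgroup (GL (Fin n) F)) (hH : H ≤ isoGL f) (hK : K = H ⊔ Z) (hKΔ : K ≤ similarityGroup f)
    (hZN : Z ≤ N) (hNK : N ≤ K) (hKN : NormBy K N) (hNZ : ¬ N ≤ Z)
    (hspan : spanAlg N = ⊤) (hperf : ⁅N, N⁆ ⊔ Z = N)
    (hmin : ∀ M : Subgroup (GL (Fin n) F), Z ≤ M → M ≤ N → NormBy K M → M = Z ∨ M = N)
    (hns : ∃ M : Subgroup (GL (Fin n) F), Z ≤ M ∧ M ≤ N ∧ NormBy N M ∧ M ≠ Z ∧ M ≠ N) : SGeom f K := by
  have hNΔ : N ≤ similarityGroup f := hNK.trans hKΔ
  by_cases hq : Odd (Fintype.card F)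
  · obtain ⟨m, t, e, P, hm, ht, hKle, hadj, htrans, hpure⟩ :=
      SpAschHub.exists_tensorWreath_structure hf K N (by omega) hNΔ hZN hNK hKN hspan hperf hmin hns
    obtain ⟨G, ε, c, hc, hG, hε, hGε, hprod, hform⟩ := SpAschHub.exists_gram_power hf m t (by omega) e P hadj
    have heq := SpAschHub.eps_eq_of_transitive hf hq K hKΔ m t (by omega) e P G ε c hc hG hε hGε hform htrans
    have h2 : (2 : F) ≠ 0 := by
      apply Ring.two_ne_zero
      intro hchar
      have := FiniteField.even_card_iff_char_two.mp hchar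
      rcases hq with ⟨m', hm'⟩
      omega
    have hne : (1 : F) ≠ -1 := by
      intro h
      apply h2
      have : (1 : F) + 1 = 0 := by nth_rewrite 2 [h]; exact add_neg_cancel 1
      rw [← one_add_one_eq_two, this]
    let i0 : Fin t := ⟨0, by omega⟩
    have hεall : ∀ i, ε i = ε i0 := fun i => heq i i0
    have hprod' : (ε i0) ^ t = -1 := by
      rw [← hprod, Finset.prod_congr rfl (fun i _ => hεall i), Finset.prod_const, Finset.card_univ,
        Fintype.card_fin]
    have hε0 : ε i0 = -1 := by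
      rcases hε i0 with h | h
      · rw [h, one_pow] at hprod'; exact absurd hprod' hne
      · exact h
    have htodd : Odd t := by
      rw [hε0] at hprod'
      rcases Nat.even_or_odd t with he | ho
      · rw [he.neg_one_pow] at hprod'; exact absurd hprod' hne
      · exact ho
    have ht3 : 3 ≤ t := by
      obtain ⟨s, hs⟩ := htodd
      omega
    have hex : ¬ (Fintype.card F = 3 ∧ m = 2) := by
      rintro ⟨hq3, hm2⟩
      subst hm2
      exact SpAschHub.not_pure_perfect_two (SpAschHub.isSolvable_gl_two_three hq3) t e P N hpure hperf hNZ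
    have hGalt : ∀ i, (G i)ᵀ = -G i := by
      intro i
      rw [hGε i, hεall i, hε0, neg_smul, one_smul]
    exact SpAschHub.sgeom_wreath_of_alternating hf hq K m t (by omega) htodd ht3 hex e P G c hc hG hGalt hform hKle
  · obtain ⟨A₀, a, b, e, P, ha, hb, hNA, hA₀, hT⟩ :=
      SpAschHub.exists_tensorLeft_factor hf K N (by omega) hNΔ hZN hNK hKN hspan hperf hmin hns
    have hNirr : ActsIrreducibly (matrixSet N) := actsIrreducibly_of_spanAlg_eq_top hspan
    obtain ⟨Q, hQ, hpol, hNQ⟩ := (sgeom_of_tensorLeft hf (by omega) N hNirr hNΔ A₀ hNA hA₀ a b ha hb e P hT).2 hq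
    obtain ⟨hPH, hspanP, _⟩ := commutator_facts H K N hK hNK hspan hperf
    have hfix : FixesQuadForm (matrixSet ⁅N, N⁆) Q :=
      fixesQuadForm_of_le_quadIso Q _ (commutator_le_quadIso Q N hNQ)
    exact (SpAschHub.quadFor_of_fixes_quad hf (by omega) K ⁅N, N⁆ hKΔ hspanP (hKN.commutator hKN)
      (hPH.trans hH) Q hQ hfix).2.sgeom hq

/-- the residual case, core (copy of `Helper61.Asch.residual_core` with the symplectic endgame) -/
theorem sp_residual_core {f : V → V → F} (hf : IsSymplecticForm f) (hn : 4 ≤ n) (H K N P : Subgroup (GL (Fin n) F))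
    (hHK : H ≤ K) (hKΔ : K ≤ similarityGroup f) (hHf : H ≤ isoGL f)
    (hG : ¬ SGeom f K) (hPN : P ≤ N) (hspanP : spanAlg P = ⊤) (hKP : NormBy K P) (hPH : P ≤ H)
    (hPperf : ⁅P, P⁆ = P) (hPZ : ¬ P ≤ Z) (hperf : P ⊔ Z = N)
    (hsimple : ¬ ∃ M : Subgroup (GL (Fin n) F), Z ≤ M ∧ M ≤ N ∧ NormBy N M ∧ M ≠ Z ∧ M ≠ N) :
    InSymplecticResidualClass H := by
  have hcent : ∀ h : GL (Fin n) F, (∀ x ∈ P, h * x * h⁻¹ * x⁻¹ ∈ Z) → h ∈ Z := by
    intro h hh
    apply mem_scalars_of_commute hspanP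
    have hle : P ≤ Subgroup.centralizer {h} := by
      rw [← hPperf, Subgroup.commutator_le]
      intro x hx y hy
      rw [Subgroup.mem_centralizer_iff]
      intro h' hh'
      rw [Set.mem_singleton_iff] at hh'
      subst hh'
      have hx' : h' * x * h'⁻¹ = x * (x⁻¹ * (h' * x * h'⁻¹ * x⁻¹) * x) := by group
      have hy' : h' * y * h'⁻¹ = y * (y⁻¹ * (h' * y * h'⁻¹ * y⁻¹) * y) := by group
      have hzx : x⁻¹ * (h' * x * h'⁻¹ * x⁻¹) * x ∈ Z := by
        have := (scalars_normal (ι := Fin n) (F := F)).conj_mem _ (hh x hx) x⁻¹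
        simpa using this
      have hzy : y⁻¹ * (h' * y * h'⁻¹ * y⁻¹) * y ∈ Z := by
        have := (scalars_normal (ι := Fin n) (F := F)).conj_mem _ (hh y hy) y⁻¹
        simpa using this
      have h1 : h' * ⁅x, y⁆ * h'⁻¹ = ⁅h' * x * h'⁻¹, h' * y * h'⁻¹⁆ := by
        rw [commutatorElement_def, commutatorElement_def]; group
      have h2 : h' * ⁅x, y⁆ * h'⁻¹ = ⁅x, y⁆ := by
        rw [h1, hx', hy', commutatorElement_mul_scalars hzx hzy]
      calc h' * ⁅x, y⁆ = (h' * ⁅x, y⁆ * h'⁻¹) * h' := by group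
        _ = ⁅x, y⁆ * h' := by rw [h2]
    intro x hx
    have := hle hx
    rw [Subgroup.mem_centralizer_iff] at this
    exact (this h rfl)
  have hPf : P ≤ isoGL f := hPH.trans hHf
  have hnosub : ∀ F₀ : Subfield F, F₀ ≠ ⊤ → ¬ RealisableOver F₀ (matrixSet P) := by
    intro F₀ hF₀ hreal
    obtain ⟨F₁, r', P', ζ, hr', hc, hζ, hrat, hKle⟩ :=
      SpAschHub.subfield_of_realisable hf K P hspanP hKP hPf F₀ hF₀ hreal
    exact hG (.subfield F₁ r' P' ζ hr' hc hζ hrat hKle)
  refine ⟨P, ⟨hPH, fun h hh x hx => hKP h (hHK hh) x hx, hPperf, ?_, ?_, fun h _ hh => hcent h hh,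
    actsAbsolutelyIrreducibly_of_spanAlg_eq_top hspanP, hnosub⟩, ?_, ?_⟩
  · -- simple
    haveI hnt : Nontrivial (P ⧸ (scalars (Fin n) F).subgroupOf P) := by
      rw [QuotientGroup.nontrivial_iff]
      intro h
      apply hPZ
      intro x hx
      have : (⟨x, hx⟩ : P) ∈ (scalars (Fin n) F).subgroupOf P := by rw [h]; trivial
      exact Subgroup.mem_subgroupOf.mp this
    refine ⟨fun L hL => ?_⟩
    let L' : Subgroup P := L.comap (QuotientGroup.mk' ((scalars (Fin n) F).subgroupOf P))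
    have hL'n : L'.Normal := Subgroup.Normal.comap hL _
    have hZL' : (scalars (Fin n) F).subgroupOf P ≤ L' := by
      intro x hx
      show QuotientGroup.mk' _ x ∈ L
      have : QuotientGroup.mk' ((scalars (Fin n) F).subgroupOf P) x = 1 := by
        rw [QuotientGroup.mk'_apply, QuotientGroup.eq_one_iff]; exact hx
      rw [this]; exact L.one_mem
    have hLmap : L = L'.map (QuotientGroup.mk' ((scalars (Fin n) F).subgroupOf P)) := by
      rw [Subgroup.map_comap_eq_self_of_surjective (QuotientGroup.mk'_surjective _)]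
    let M : Subgroup (GL (Fin n) F) := L'.map P.subtype ⊔ Z
    have hZM : Z ≤ M := le_sup_right
    have hL'P : L'.map P.subtype ≤ P := by
      rintro _ ⟨x, _, rfl⟩; exact x.2
    have hMN : M ≤ N := by
      rw [← hperf]
      exact sup_le_sup hL'P (le_refl _)
    have hNM : NormBy N M := by
      apply NormBy.sup _ (normBy_scalars N)
      intro k hk x hx
      obtain ⟨y, hy, rfl⟩ := hx
      rw [← hperf] at hk
      obtain ⟨p, hp, z, hz, rfl⟩ := mem_sup_scalars hk
      have h1 : p * z * (P.subtype y) * (p * z)⁻¹ = p * (P.subtype y) * p⁻¹ := by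
        have := scalar_comm hz
        calc p * z * (P.subtype y) * (p * z)⁻¹ = p * (z * (P.subtype y) * z⁻¹) * p⁻¹ := by group
          _ = p * (P.subtype y) * p⁻¹ := by rw [this]; group
      rw [h1]
      have hmem : (⟨p, hp⟩ : P) * y * (⟨p, hp⟩ : P)⁻¹ ∈ L' := hL'n.conj_mem y hy ⟨p, hp⟩
      exact ⟨_, hmem, rfl⟩
    by_cases hMZ : M = Z
    · left
      rw [hLmap]
      rw [Subgroup.map_eq_bot_iff, QuotientGroup.ker_mk']
      intro x hx
      rw [Subgroup.mem_subgroupOf]
      have : (x : GL (Fin n) F) ∈ M := le_sup_left (a := L'.map P.subtype) ⟨x, hx, rfl⟩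
      rw [hMZ] at this
      exact this
    · right
      have hMN' : M = N := by
        by_contra hne
        exact hsimple ⟨M, hZM, hMN, hNM, hMZ, hne⟩
      have hL'top : L' = ⊤ := by
        rw [eq_top_iff]
        intro x _
        have hxN : (x : GL (Fin n) F) ∈ M := by rw [hMN']; exact hPN x.2
        obtain ⟨l, hl, z, hz, hxlz⟩ := mem_sup_scalars hxN
        obtain ⟨l', hl', rfl⟩ := hl
        have hzP : z ∈ P := by
          have : z = (P.subtype l')⁻¹ * (x : GL (Fin n) F) := by rw [hxlz]; group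
          rw [this]
          exact P.mul_mem (P.inv_mem l'.2) x.2
        have hz' : (⟨z, hzP⟩ : P) ∈ L' := hZL' (Subgroup.mem_subgroupOf.mpr hz)
        have : x = l' * ⟨z, hzP⟩ := by
          apply Subtype.ext
          simpa using hxlz
        rw [this]
        exact L'.mul_mem hl' hz'
      rw [hLmap, hL'top, ← MonoidHom.range_eq_map, MonoidHom.range_eq_top]
      exact QuotientGroup.mk'_surjective _
  · -- nonabelian
    intro hcomm
    apply hPZ
    rw [← hPperf, Subgroup.commutator_le]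
    intro x hx y hy
    have h1 := hcomm.is_comm.comm (QuotientGroup.mk' ((scalars (Fin n) F).subgroupOf P) ⟨x, hx⟩)
      (QuotientGroup.mk' ((scalars (Fin n) F).subgroupOf P) ⟨y, hy⟩)
    have h2 : QuotientGroup.mk' ((scalars (Fin n) F).subgroupOf P) (⁅(⟨x, hx⟩ : P), ⟨y, hy⟩⁆) = 1 := by
      rw [commutatorElement_def, map_mul, map_mul, map_mul, map_inv, map_inv, h1]
      group
    rw [QuotientGroup.mk'_apply, QuotientGroup.eq_one_iff, Subgroup.mem_subgroupOf] at h2
    simpa [commutatorElement_def] using h2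
  · rintro ⟨Q, hQ, hfix⟩
    obtain ⟨hq, hquad⟩ := SpAschHub.quadFor_of_fixes_quad hf (by omega) K P hKΔ hspanP hKP hPf Q hQ hfix
    exact hG (hquad.sgeom hq)
  · rintro ⟨σ, h, hh, hfix⟩
    obtain ⟨F₀, hF₀, hreal⟩ := SpAschHub.realisable_of_fixes_unitary hf P hspanP hPf σ h hh hfix
    exact hnosub F₀ hF₀ hreal

/-- **Aschbacher's theorem for subgroups of the isometry group of a symplectic form on `Fin n → F`.** -/
theorem sp_aschbacher_fin {f : V → V → F} (hf : IsSymplecticForm f) (hn : 4 ≤ n) (H : Subgroup (GL (Fin n) F))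
    (hH : H ≤ isoGL f) : SGeom f (H ⊔ Z) ∨ InSymplecticResidualClass H := by
  obtain ⟨K, hK⟩ : ∃ K : Subgroup (GL (Fin n) F), K = H ⊔ Z := ⟨_, rfl⟩
  rw [← hK]
  have hHK : H ≤ K := by rw [hK]; exact le_sup_left
  have hZK : Z ≤ K := by rw [hK]; exact le_sup_right
  have hKΔ : K ≤ similarityGroup f := by
    rw [hK]
    exact sup_le (hH.trans (isoGL_le_similarityGroup f)) (scalars_le_similarityGroup hf.bilinear)
  by_cases hG : SGeom f K
  · exact Or.inl hG
  right
  have hKirr : ActsIrreducibly (matrixSet K) := by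
    by_contra h
    exact hG (SpAschHub.sgeom_of_reducible hf K hKΔ h)
  have hKZ : ¬ K ≤ Z := not_le_scalars_of_irreducible (by omega) hKirr
  have hT : ∀ N : Subgroup (GL (Fin n) F), NormBy K N → N ≤ K → N ≤ Z ∨ spanAlg N = ⊤ := by
    intro N hN hNK
    rcases sp_normal_trichotomy hf (by omega) K N hKΔ hKirr hN (hNK.trans hKΔ) with h | h
    · exact absurd h hG
    · exact h
  obtain ⟨N, hZN, hNK, hKN, hNZ, hmin⟩ := exists_minimal_normal K hZK hKZ
  have hspan : spanAlg N = ⊤ := (hT N hKN hNK).resolve_left hNZ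
  have hD1 : Z ≤ ⁅N, N⁆ ⊔ Z := le_sup_right
  have hD2 : ⁅N, N⁆ ⊔ Z ≤ N := sup_le (commutator_le_self N) hZN
  have hD3 : NormBy K (⁅N, N⁆ ⊔ Z) := (hKN.commutator hKN).sup (normBy_scalars K)
  rcases hmin _ hD1 hD2 hD3 with hD | hD
  · -- abelian mod scalars
    exfalso
    have hcomm : ∀ x ∈ N, ∀ y ∈ N, x * y * x⁻¹ * y⁻¹ ∈ Z := by
      intro x hx y hy
      have : ⁅x, y⁆ ∈ ⁅N, N⁆ ⊔ Z := Subgroup.mem_sup_left (Subgroup.commutator_mem_commutator hx hy)
      rw [hD, commutatorElement_def] at this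
      exact this
    obtain ⟨r, hr, hexp⟩ := exists_prime_exponent K N hZN hNZ hKN hcomm hmin
    have hab : ∀ B : Subgroup (GL (Fin n) F), B ≤ N → NormBy K B → (∀ x ∈ B, ∀ y ∈ B, x * y = y * x) →
        B ≤ Z := by
      intro B hBN hKB hB
      rcases hT B hKB (hBN.trans hNK) with h | h
      · exact h
      · intro b hb
        exact mem_scalars_of_commute h b (fun x hx => hB b hb x hx)
    exact hG (sgeom_of_abelian_minimal hf hn H K N hH hK hZN hNK hKN hspan r hr hcomm hexp hmin hab)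
  · by_cases hns : ∃ M : Subgroup (GL (Fin n) F), Z ≤ M ∧ M ≤ N ∧ NormBy N M ∧ M ≠ Z ∧ M ≠ N
    · exfalso
      exact hG (sgeom_of_nonsimple_perfect hf hn H K N hH hK hKΔ hZN hNK hKN hNZ hspan hD hmin hns)
    · obtain ⟨hPH, hspanP, hPperf⟩ := commutator_facts H K N hK hNK hspan hD
      have hPZ : ¬ ⁅N, N⁆ ≤ Z := by
        intro h
        apply hNZ
        rw [← hD]
        exact sup_le h (le_refl _)
      exact sp_residual_core hf hn H K N ⁅N, N⁆ hHK hKΔ hH hG (commutator_le_self N) hspanP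
        (hKN.commutator hKN) hPH hPperf hPZ hD hns

end Cfsg.Agent.Lib.Helper43.SpAsch
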