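import Mathlib
import Cfsg.Prelude.Def_GeometricClasses
import Cfsg.Agent.Lib.Helper61.AschDefs
import Cfsg.Agent.Lib.Helper43.SpAschDefs
import Cfsg.Agent.Lib.Helper43.SpAschDefs2
import Cfsg.Agent.Lib.Helper43.SpAschHub
import Cfsg.Agent.Lib.Helper43.SpAschGlue2

/-!
# S5662 glue, part 3: transport to `Fin m ⊕ Fin m` and the standard symplectic form.
-/

set_option autoImplicit false

namespace Cfsg.Agent.Lib.Helper43.SpAsch

open Cfsg Cfsg.Geo Cfsg.Agent.Lib.Helper61.Asch
open scoped Matrix Kronecker MatrixGroups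

section Transport

variable {ι κ : Type} [Fintype ι] [DecidableEq ι] [Fintype κ] [DecidableEq κ] {F : Type*} [Field F] [Fintype F]

theorem sgeom_transport (e : ι ≃ κ) (f : (ι → F) → (ι → F) → F) (K : Subgroup (GL ι F))
    (h : SGeom (formMap e f) (K.map (glMap e).toMonoidHom)) : SGeom f K := by
  cases h with
  | ts W h0 hts h => exact SpAschHub.sgeom_transport_ts e f K W h0 hts h
  | nd W h0 hnd hdim h => exact SpAschHub.sgeom_transport_nd e f K W h0 hnd hdim h
  | dec k D hD h => exact SpAschHub.sgeom_transport_dec e f K k D hD h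
  | tsPair hq k hk D hD hts h => exact SpAschHub.sgeom_transport_tsPair e f K hq k hk D hD hts h
  | fieldSelf r hr E hE hsa hv h => exact SpAschHub.sgeom_transport_fieldSelf e f K r hr E hE hsa hv h
  | fieldUnit hq E hE hac hns h => exact SpAschHub.sgeom_transport_fieldUnit e f K hq E hE hac hns h
  | tensor hq n₁ n₂ e' P f₁ f₂ h3 hf₁ hf₂ hT h =>
    exact SpAschHub.sgeom_transport_tensor e f K hq n₁ n₂ e' P f₁ f₂ h3 hf₁ hf₂ hT h
  | subfield F₀ r P ζ hr hc hζ hrat h => exact SpAschHub.sgeom_transport_subfield e f K F₀ r P ζ hr hc hζ hrat h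
  | extraspecial R p k hR hirr hRΔ hp hpo hc hcard hcen hminus h =>
    exact SpAschHub.sgeom_transport_extraspecial e f K R p k hR hirr hRΔ hp hpo hc hcard hcen hminus h
  | wreath hq k t e' P f₁ ht ht3 hex hf₁ hT h =>
    exact SpAschHub.sgeom_transport_wreath e f K hq k t e' P f₁ ht ht3 hex hf₁ hT h
  | quad hq Q hQ hpol h => exact SpAschHub.sgeom_transport_quad e f K hq Q hQ hpol h

end Transport

variable {F : Type*} [Field F]

theorem sympForm_eq (m : ℕ) (u v : Fin m ⊕ Fin m → F) :
    sympForm m F u v = ∑ i, (u (Sum.inr i) * v (Sum.inl i) - u (Sum.inl i) * v (Sum.inr i)) := by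
  unfold sympForm
  simp only [dotProduct, Matrix.mulVec, Fintype.sum_sum_type, Matrix.J, Matrix.fromBlocks_apply₁₁,
    Matrix.fromBlocks_apply₁₂, Matrix.fromBlocks_apply₂₁, Matrix.fromBlocks_apply₂₂, Matrix.zero_apply,
    Matrix.neg_apply, Matrix.one_apply, zero_mul, Finset.sum_const_zero, zero_add, add_zero, neg_mul,
    ite_mul, one_mul, Finset.sum_neg_distrib, Finset.sum_ite_eq, Finset.mem_univ, if_true]
  rw [Finset.sum_sub_distrib]
  simp only [mul_neg, Finset.sum_neg_distrib]
  ring

theorem isSymplecticForm_sympForm (m : ℕ) : IsSymplecticForm (sympForm m F) := by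
  refine ⟨⟨?_, ?_, ?_, ?_⟩, ?_, ?_, ?_⟩
  · intro x y v
    simp only [sympForm_eq, Pi.add_apply, ← Finset.sum_add_distrib]
    exact Finset.sum_congr rfl fun i _ => by ring
  · intro c x v
    simp only [sympForm_eq, Pi.smul_apply, smul_eq_mul, Finset.mul_sum]
    exact Finset.sum_congr rfl fun i _ => by ring
  · intro v x y
    simp only [sympForm_eq, Pi.add_apply, ← Finset.sum_add_distrib]
    exact Finset.sum_congr rfl fun i _ => by ring
  · intro c v x
    simp only [sympForm_eq, Pi.smul_apply, smul_eq_mul, Finset.mul_sum]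
    exact Finset.sum_congr rfl fun i _ => by ring
  · intro v w
    simp only [sympForm_eq, ← Finset.sum_neg_distrib]
    exact Finset.sum_congr rfl fun i _ => by ring
  · intro v
    simp only [sympForm_eq]
    exact Finset.sum_eq_zero fun i _ => by ring
  · intro v hv
    obtain ⟨j, hj⟩ : ∃ j, v j ≠ 0 := by
      by_contra h
      push Not at h
      exact hv (funext h)
    have key : ∀ (x : Fin m ⊕ Fin m → F), sympForm m F x v = - sympForm m F v x := by
      intro x
      simp only [sympForm_eq, ← Finset.sum_neg_distrib]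
      exact Finset.sum_congr rfl fun i _ => by ring
    have h1 : ∃ x, sympForm m F x v ≠ 0 := by
      rcases j with j | j
      · refine ⟨Pi.single (Sum.inr j) 1, ?_⟩
        rw [sympForm_eq, Finset.sum_eq_single j]
        · simpa using hj
        · intro b _ hb
          simp [hb]
        · simp
      · refine ⟨Pi.single (Sum.inl j) 1, ?_⟩
        rw [sympForm_eq, Finset.sum_eq_single j]
        · simpa using hj
        · intro b _ hb
          simp [hb]
        · simp
    refine ⟨h1, ?_⟩
    obtain ⟨x, hx⟩ := h1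
    refine ⟨x, ?_⟩
    intro h
    apply hx
    rw [key, h, neg_zero]

variable [Fintype F]

/-- **Aschbacher's theorem for `Sp_{2m}(q)`** in the shape of S5662 (the hypotheses `hex`, `hproper` of S5662 are not needed). -/
theorem sp_aschbacher (m : ℕ) (hm : 2 ≤ m) (H : Subgroup (GL (Fin m ⊕ Fin m) F)) (hH : H ≤ spGL m F) :
    (∃ M : Subgroup (GL (Fin m ⊕ Fin m) F), InSymplecticClass m F M ∧ H ≤ M) ∨ InSymplecticResidualClass H := by
  let e : Fin m ⊕ Fin m ≃ Fin (m + m) := finSumFinEquiv
  have hf : IsSymplecticForm (sympForm m F) := isSymplecticForm_sympForm m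
  have hf' := SpAschHub.isSymplecticForm_formMap e hf
  have hH' : H.map (glMap e).toMonoidHom ≤ isoGL (formMap e (sympForm m F)) := by
    rw [← SpAschHub.map_isoGL]
    exact Subgroup.map_mono hH
  rcases sp_aschbacher_fin hf' (by omega) (H.map (glMap e).toMonoidHom) hH' with h | h
  · left
    have h' : SGeom (formMap e (sympForm m F))
        ((H ⊔ scalars (Fin m ⊕ Fin m) F).map (glMap e).toMonoidHom) := by
      rw [Subgroup.map_sup, SpAschHub.map_scalars]
      exact h
    exact (sgeom_transport e _ _ h').inSymplecticClass le_sup_left hH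
  · right
    exact SpAschHub.residual_transport e H h

end Cfsg.Agent.Lib.Helper43.SpAsch
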