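import Cfsg.Agent.Lib.Helper43.SympInvol

set_option autoImplicit false

/-! Conjugacy of symplectic involutions `1 + N` (characteristic two) of the same type by an
isometry. -/

namespace Cfsg.Agent.Lib.Helper43

open Module

variable {F : Type*} [Field F]
variable {V : Type*} [AddCommGroup V] [Module F V]

/-- the rank of `N` read off from an adapted basis -/
theorem finrank_range_of_adapted_symp {ι : Type*} [Fintype ι] {s : ℕ}
    (b : Basis (SpIdx ι s) F V) (N : V →ₗ[F] V)
    (h1 : ∀ i, N (b (Sum.inl i)) = b (Sum.inr (Sum.inl i)))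
    (h2 : ∀ i, N (b (Sum.inr (Sum.inl i))) = 0)
    (h3 : ∀ j, N (b (Sum.inr (Sum.inr j))) = 0) :
    finrank F (LinearMap.range N) = Fintype.card ι := by
  have hr : LinearMap.range N =
      Submodule.span F (Set.range (fun i : ι => b (Sum.inr (Sum.inl i)))) := by
    rw [LinearMap.range_eq_map, ← b.span_eq, Submodule.map_span]
    apply le_antisymm
    · rw [Submodule.span_le]
      rintro _ ⟨_, ⟨x, rfl⟩, rfl⟩
      rcases x with i | i | j
      · rw [h1]; exact Submodule.subset_span ⟨i, rfl⟩
      · rw [h2]; exact Submodule.zero_mem _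
      · rw [h3]; exact Submodule.zero_mem _
    · rw [Submodule.span_le]
      rintro _ ⟨i, rfl⟩
      apply Submodule.subset_span
      exact ⟨b (Sum.inl i), ⟨Sum.inl i, rfl⟩, h1 i⟩
  rw [hr]
  have hli : LinearIndependent F (fun i : ι => b (Sum.inr (Sum.inl i))) :=
    b.linearIndependent.comp (fun i : ι => (Sum.inr (Sum.inl i) : SpIdx ι s))
      (fun i j hij => by simpa using hij)
  rw [finrank_span_eq_card hli]

variable [CharP F 2]

/-- Two self-adjoint square-zero maps on a symplectic space (characteristic two) whose induced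
symmetric forms have Gram matrices of the same shape are intertwined by an isometry. -/
theorem exists_symp_isometry_intertwining [FiniteDimensional F V]
    {ι : Type*} [Fintype ι] [DecidableEq ι] (τ : ι → ι) (hτ : Function.Involutive τ)
    (f : LinearMap.BilinForm F V) (hfalt : ∀ v, f v v = 0)
    (hnd : ∀ v, (∀ u, f u v = 0) → v = 0)
    (Na Nb : V →ₗ[F] V) (hNa : ∀ v, Na (Na v) = 0) (hNb : ∀ v, Nb (Nb v) = 0)
    (hNaf : ∀ u v, f (Na u) v = f u (Na v)) (hNbf : ∀ u v, f (Nb u) v = f u (Nb v))
    (ea eb : ι → V)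
    (hGa : ∀ i j, f (ea i) (Na (ea j)) = if τ i = j then 1 else 0)
    (hGb : ∀ i j, f (eb i) (Nb (eb j)) = if τ i = j then 1 else 0)
    (hka : ∀ x, (∀ i, f x (Na (ea i)) = 0) → Na x = 0)
    (hkb : ∀ x, (∀ i, f x (Nb (eb i)) = 0) → Nb x = 0) :
    ∃ T : V →ₗ[F] V, (∀ u v, f (T u) (T v) = f u v) ∧ (∀ v, T (Na v) = Nb (T v)) := by
  classical
  obtain ⟨sa, ba, ha1, ha2, ha3, hGramA⟩ :=
    exists_adapted_symplectic_basis τ hτ f hfalt hnd Na hNa hNaf ea hGa hka
  obtain ⟨sb, bb, hb1, hb2, hb3, hGramB⟩ :=
    exists_adapted_symplectic_basis τ hτ f hfalt hnd Nb hNb hNbf eb hGb hkb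
  have hs : sa = sb := by
    have h1 := Module.finrank_eq_card_basis ba
    have h2 := Module.finrank_eq_card_basis bb
    rw [h1] at h2
    simp only [Fintype.card_sum, Fintype.card_fin] at h2
    omega
  subst hs
  refine ⟨ba.constr F bb, ?_, ?_⟩
  · have hT : f.comp (ba.constr F bb) (ba.constr F bb) = f := by
      apply LinearMap.ext_basis ba ba
      intro x y
      simp only [LinearMap.BilinForm.comp_apply, Basis.constr_basis, hGramA, hGramB]
    intro u v
    have := LinearMap.congr_fun₂ hT u v
    simpa only [LinearMap.BilinForm.comp_apply] using this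
  · have hT : (ba.constr F bb) ∘ₗ Na = Nb ∘ₗ (ba.constr F bb) := by
      apply ba.ext
      rintro (i | i | j)
      · simp only [LinearMap.comp_apply, Basis.constr_basis, ha1, hb1]
      · simp only [LinearMap.comp_apply, Basis.constr_basis, ha2, hb2, map_zero]
      · simp only [LinearMap.comp_apply, Basis.constr_basis, ha3, hb3, map_zero]
    intro v
    exact LinearMap.congr_fun hT v

end Cfsg.Agent.Lib.Helper43
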