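import Cfsg.Agent.Lib.Helper43.OrthFrames
import Cfsg.Agent.S2166

set_option autoImplicit false

/-! Conjugacy classes of involutions of `Sp_2m(F)`, `F` finite of characteristic two. -/

namespace Cfsg.Agent.Lib.Helper43

open Module Matrix Cfsg Cfsg.Agent.S2166 Cfsg.Agent.S2167

section reps

variable {F : Type*} [Field F] [CharP F 2] {ι : Type} [Fintype ι] [DecidableEq ι]
variable (Q : QuadraticForm F (ι → F))

theorem exists_invol_bc (hQ : (QuadraticMap.polarBilin Q).Nondegenerate)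
    {k : ℕ} (w : Fin (k + 1) → (ι → F)) (hw : LinearIndependent F w)
    (horth : ∀ a b, a ≠ b → QuadraticMap.polarBilin Q (w a) (w b) = 0)
    (hnorm : ∀ a, Q (w a) = 1) :
    ∃ g : ↥(Cfsg.isometryGroup F ⇑Q), g * g = 1 ∧
      (((g : GL ι F) : Matrix ι ι F) - 1).rank = k + 1 ∧ ¬ (∀ v, Q (v + linOf Q g v) = 0) := by
  obtain ⟨g, hg, hg2⟩ := exists_invol_of_Nfam Q hQ w id horth (Nfam_id_isometry Q w horth hnorm)
  refine ⟨g, hg2, ?_, ?_⟩
  · rw [rank_sub_one_eq_finrank_range, hg,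
      finrank_range_Nfam Q hQ w id Function.surjective_id hw, Fintype.card_fin]
  · intro hall
    obtain ⟨v, hv⟩ := exists_Q_Nfam_id_ne_zero Q hQ w horth hnorm hw 0
    apply hv
    rw [← hg, ← Q_add_linOf_eq]
    exact hall v

theorem exists_invol_a (hQ : (QuadraticMap.polarBilin Q).Nondegenerate)
    {i : ℕ} (w : Fin (i + 1) ⊕ Fin (i + 1) → (ι → F)) (hw : LinearIndependent F w)
    (horth : ∀ a b, a ≠ b → QuadraticMap.polarBilin Q (w a) (w b) = 0)
    (hsing : ∀ a, Q (w a) = 0) :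
    ∃ g : ↥(Cfsg.isometryGroup F ⇑Q), g * g = 1 ∧
      (((g : GL ι F) : Matrix ι ι F) - 1).rank = 2 * (i + 1) ∧ (∀ v, Q (v + linOf Q g v) = 0) := by
  obtain ⟨g, hg, hg2⟩ := exists_invol_of_Nfam Q hQ w Sum.swap horth
    (Nfam_swap_isometry Q w horth hsing)
  refine ⟨g, hg2, ?_, ?_⟩
  · rw [rank_sub_one_eq_finrank_range, hg,
      finrank_range_Nfam Q hQ w Sum.swap Sum.swap_leftInverse.surjective hw, Fintype.card_sum,
      Fintype.card_fin]
    ring
  · intro v
    rw [Q_add_linOf_eq, hg]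
    exact Q_Nfam_swap_zero Q w horth hsing v

end reps

section sp

variable {F : Type*} [Field F] [CharP F 2] {m : ℕ}

/-- in characteristic two the symplectic form is the polar form of the hyperbolic form -/
theorem sympForm_eq_polar (u v : Fin m ⊕ Fin m → F) :
    sympForm m F u v = QuadraticMap.polarBilin (qfPlus m F) u v := by
  rw [polar_plus_apply]
  unfold sympForm
  rw [J_mulVec_eq]
  simp only [dotProduct, Fintype.sum_sum_type, Sum.elim_inl, Sum.elim_inr, Pi.neg_apply,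
    ← Finset.sum_add_distrib]
  refine Finset.sum_congr rfl fun i _ => ?_
  have : u (Sum.inl i) * v (Sum.inr i) + u (Sum.inl i) * v (Sum.inr i) = 0 :=
    CharTwo.add_self_eq_zero _
  simp only [Function.comp_apply]
  linear_combination -this

end sp

section spcrit

variable {F : Type*} [Field F] [CharP F 2] {m : ℕ}

theorem sp_gen (M : Matrix (Fin m ⊕ Fin m) (Fin m ⊕ Fin m) F) (hM2 : M * M = 1)
    (hMJ : Mᵀ * J (Fin m) F * M = J (Fin m) F) :
    (∀ v, (M - 1).mulVecLin ((M - 1).mulVecLin v) = 0) ∧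
    (∀ u v, fB m F ((M - 1).mulVecLin u) v = fB m F u ((M - 1).mulVecLin v)) ∧
    (∀ v, fB m F v ((M - 1).mulVecLin v) = sympForm m F v (M *ᵥ v)) := by
  have hsub : (M - 1) * (M - 1) = 0 := by
    rw [sub_mul, mul_sub, mul_sub, hM2, mul_one, one_mul, one_mul]
    ext i j
    simp only [Matrix.sub_apply, Matrix.zero_apply]
    have h2 : (1 : Matrix (Fin m ⊕ Fin m) (Fin m ⊕ Fin m) F) i j +
        (1 : Matrix (Fin m ⊕ Fin m) (Fin m ⊕ Fin m) F) i j = 0 := CharTwo.add_self_eq_zero _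
    have h3 : M i j + M i j = 0 := CharTwo.add_self_eq_zero _
    linear_combination h2 - h3
  refine ⟨?_, ?_, ?_⟩
  · intro v
    simp only [Matrix.mulVecLin_apply, Matrix.mulVec_mulVec, hsub, Matrix.zero_mulVec]
  · intro u v
    have h1 : fB m F (M *ᵥ u) v = fB m F u (M *ᵥ v) := by
      have := sympForm_mulVec_mulVec hMJ u (M *ᵥ v)
      rw [Matrix.mulVec_mulVec, hM2, Matrix.one_mulVec] at this
      rw [fB_apply, fB_apply]
      exact this
    simp only [Matrix.mulVecLin_apply, Matrix.one_mulVec, map_sub,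
      LinearMap.sub_apply, h1]
  · intro v
    rw [fB_apply]
    show sympForm m F v ((M - 1) *ᵥ v) = _
    rw [Matrix.sub_mulVec, Matrix.one_mulVec, sympForm_sub_right, sympForm_self, sub_zero]

theorem sp_sq_of_order (c : ↥(Matrix.symplecticGroup (Fin m) F)) (hc : orderOf c = 2) :
    (c : Matrix (Fin m ⊕ Fin m) (Fin m ⊕ Fin m) F) *
      (c : Matrix (Fin m ⊕ Fin m) (Fin m ⊕ Fin m) F) = 1 := by
  have h := pow_orderOf_eq_one c
  rw [hc, pow_two] at h
  have := congrArg Subtype.val h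
  simpa using this

/-- conjugacy of involutions of `Sp_2m(F)` -/
theorem sp_isConj_iff [Fintype F] (a b : ↥(Matrix.symplecticGroup (Fin m) F))
    (hA2 : (a : Matrix (Fin m ⊕ Fin m) (Fin m ⊕ Fin m) F) * a = 1)
    (hB2 : (b : Matrix (Fin m ⊕ Fin m) (Fin m ⊕ Fin m) F) * b = 1) :
    IsConj a b ↔
      (((a : Matrix (Fin m ⊕ Fin m) (Fin m ⊕ Fin m) F) - 1).rank =
          ((b : Matrix (Fin m ⊕ Fin m) (Fin m ⊕ Fin m) F) - 1).rank ∧
        ((∀ v, sympForm m F v ((a : Matrix (Fin m ⊕ Fin m) (Fin m ⊕ Fin m) F) *ᵥ v) = 0) ↔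
          (∀ v, sympForm m F v ((b : Matrix (Fin m ⊕ Fin m) (Fin m ⊕ Fin m) F) *ᵥ v) = 0))) := by
  classical
  obtain ⟨A, hAdef⟩ : ∃ A : Matrix (Fin m ⊕ Fin m) (Fin m ⊕ Fin m) F, A = a := ⟨_, rfl⟩
  obtain ⟨B, hBdef⟩ : ∃ B : Matrix (Fin m ⊕ Fin m) (Fin m ⊕ Fin m) F, B = b := ⟨_, rfl⟩
  rw [← hAdef] at hA2 ⊢
  rw [← hBdef] at hB2 ⊢
  have hA : Aᵀ * J (Fin m) F * A = J (Fin m) F := by
    rw [hAdef]; exact (SymplecticGroup.mem_iff').1 a.2
  have hB : Bᵀ * J (Fin m) F * B = J (Fin m) F := by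
    rw [hBdef]; exact (SymplecticGroup.mem_iff').1 b.2
  constructor
  · intro hconj
    obtain ⟨c, hc⟩ := isConj_iff.1 hconj
    obtain ⟨Cm, hCm⟩ : ∃ Cm : Matrix (Fin m ⊕ Fin m) (Fin m ⊕ Fin m) F, Cm = c := ⟨_, rfl⟩
    obtain ⟨Ci, hCi⟩ : ∃ Ci : Matrix (Fin m ⊕ Fin m) (Fin m ⊕ Fin m) F,
      Ci = ((c⁻¹ : ↥(Matrix.symplecticGroup (Fin m) F)) :
        Matrix (Fin m ⊕ Fin m) (Fin m ⊕ Fin m) F) := ⟨_, rfl⟩
    have hCC : Cm * Ci = 1 := by
      rw [hCm, hCi]; exact congrArg Subtype.val (mul_inv_cancel c)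
    have hCC' : Ci * Cm = 1 := by
      rw [hCm, hCi]; exact congrArg Subtype.val (inv_mul_cancel c)
    have hCAB : Cm * A = B * Cm := by
      have h1 : c * a = b * c := by rw [← hc]; group
      have := congrArg Subtype.val h1
      rw [hCm, hAdef, hBdef]
      simpa using this
    have hCsymp : Cmᵀ * J (Fin m) F * Cm = J (Fin m) F := by
      rw [hCm]; exact (SymplecticGroup.mem_iff').1 c.2
    have hCisymp : Ciᵀ * J (Fin m) F * Ci = J (Fin m) F := by
      rw [hCi]; exact (SymplecticGroup.mem_iff').1 (c⁻¹).2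
    have hdetC : IsUnit Cm.det := by
      rw [hCm]; exact SymplecticGroup.symplectic_det c.2
    have hdetCi : IsUnit Ci.det := by
      rw [hCi]; exact SymplecticGroup.symplectic_det (c⁻¹).2
    constructor
    · have hB' : B - 1 = Cm * (A - 1) * Ci := by
        rw [mul_sub, sub_mul, mul_one, hCC, hCAB, mul_assoc, hCC, mul_one]
      rw [hB', Matrix.rank_mul_eq_left_of_isUnit_det _ _ hdetCi,
        Matrix.rank_mul_eq_right_of_isUnit_det _ _ hdetC]
    · have key : ∀ v, sympForm m F (Cm *ᵥ v) (B *ᵥ (Cm *ᵥ v)) = sympForm m F v (A *ᵥ v) := by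
        intro v
        rw [mulVec_mulVec, ← hCAB, ← mulVec_mulVec, sympForm_mulVec_mulVec hCsymp]
      constructor
      · intro h v
        have := key (Ci *ᵥ v)
        rw [mulVec_mulVec, hCC, one_mulVec] at this
        rw [this]
        exact h _
      · intro h v
        rw [← key]
        exact h _
  · rintro ⟨hrank, htype⟩
    obtain ⟨hNa, hNaf, hφa⟩ := sp_gen A hA2 hA
    obtain ⟨hNb, hNbf, hφb⟩ := sp_gen B hB2 hB
    have hsym : ∀ u v, fB m F u v = fB m F v u := by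
      intro u v
      rw [fB_apply, fB_apply, sympForm_swap, CharTwo.neg_eq]
    have hrank' : finrank F (LinearMap.range (A - 1).mulVecLin) =
        finrank F (LinearMap.range (B - 1).mulVecLin) := hrank
    by_cases halta : ∀ v, sympForm m F v (A *ᵥ v) = 0
    · have haltb := htype.1 halta
      obtain ⟨ra, hDa⟩ := data_of_alt (A - 1).mulVecLin hNaf hsym
        (fun v => by rw [hφa]; exact halta v)
      have hra := rank_of_data (A - 1).mulVecLin hNa hNaf _ Sum.swap Sum.swap_swap hDa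
      obtain ⟨rb, hDb⟩ := data_of_alt (B - 1).mulVecLin hNbf hsym
        (fun v => by rw [hφb]; exact haltb v)
      have hrb := rank_of_data (B - 1).mulVecLin hNb hNbf _ Sum.swap Sum.swap_swap hDb
      have hr : ra = rb := by
        rw [hrank', hrb] at hra
        simp only [Fintype.card_sum, Fintype.card_fin] at hra
        omega
      subst hr
      exact exists_conj_of_data a b _ Sum.swap Sum.swap_swap _ _ (by rw [hAdef]) (by rw [hBdef])
        hNa hNb hNaf hNbf hDa hDb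
    · have haltb : ¬ ∀ v, sympForm m F v (B *ᵥ v) = 0 := fun h => halta (htype.2 h)
      obtain ⟨ka, hDa⟩ := data_of_not_alt (A - 1).mulVecLin hNaf hsym
        (fun h => halta (fun v => by rw [← hφa]; exact h v))
      have hka := rank_of_data (A - 1).mulVecLin hNa hNaf _ id (fun _ => rfl) hDa
      obtain ⟨kb, hDb⟩ := data_of_not_alt (B - 1).mulVecLin hNbf hsym
        (fun h => haltb (fun v => by rw [← hφb]; exact h v))
      have hkb := rank_of_data (B - 1).mulVecLin hNb hNbf _ id (fun _ => rfl) hDb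
      have hk : ka = kb := by
        rw [hrank', hkb] at hka
        simpa using hka.symm
      subst hk
      exact exists_conj_of_data a b _ id (fun _ => rfl) _ _ (by rw [hAdef]) (by rw [hBdef])
        hNa hNb hNaf hNbf hDa hDb

/-- an isometry of the hyperbolic form is symplectic (characteristic two) -/
theorem sp_of_orth (g : ↥(Cfsg.isometryGroup F ⇑(qfPlus m F))) :
    ((g : GL (Fin m ⊕ Fin m) F) : Matrix (Fin m ⊕ Fin m) (Fin m ⊕ Fin m) F) ∈
      Matrix.symplecticGroup (Fin m) F := by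
  apply mem_symplectic_of_preserves
  intro u v
  rw [sympForm_eq_polar, sympForm_eq_polar]
  have h := polar_of_isometry (qfPlus m F) (linOf (qfPlus m F) g) (linOf_isometry (qfPlus m F) g) u v
  rw [linOf_apply, linOf_apply] at h
  exact h

theorem symp_alt_iff (g : ↥(Cfsg.isometryGroup F ⇑(qfPlus m F))) :
    (∀ v, sympForm m F v
      (((g : GL (Fin m ⊕ Fin m) F) : Matrix (Fin m ⊕ Fin m) (Fin m ⊕ Fin m) F) *ᵥ v) = 0) ↔
      (∀ v, qfPlus m F (v + linOf (qfPlus m F) g v) = 0) := by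
  have key : ∀ v, sympForm m F v
      (((g : GL (Fin m ⊕ Fin m) F) : Matrix (Fin m ⊕ Fin m) (Fin m ⊕ Fin m) F) *ᵥ v) =
      qfPlus m F (v + linOf (qfPlus m F) g v) := by
    intro v
    rw [sympForm_eq_polar, ← linOf_apply (qfPlus m F) g v,
      Q_add (qfPlus m F) v (linOf (qfPlus m F) g v), linOf_isometry]
    have : qfPlus m F v + qfPlus m F v = 0 := CharTwo.add_self_eq_zero _
    linear_combination -this
  constructor
  · intro h v; rw [← key]; exact h v
  · intro h v; rw [key]; exact h v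

theorem sp_rank_le (a : ↥(Matrix.symplecticGroup (Fin m) F))
    (hA2 : (a : Matrix (Fin m ⊕ Fin m) (Fin m ⊕ Fin m) F) * a = 1) :
    ((a : Matrix (Fin m ⊕ Fin m) (Fin m ⊕ Fin m) F) - 1).rank ≤ m := by
  obtain ⟨hN, -, -⟩ := sp_gen (a : Matrix (Fin m ⊕ Fin m) (Fin m ⊕ Fin m) F) hA2
    ((SymplecticGroup.mem_iff').1 a.2)
  have hle : LinearMap.range ((a : Matrix (Fin m ⊕ Fin m) (Fin m ⊕ Fin m) F) - 1).mulVecLin ≤
      LinearMap.ker ((a : Matrix (Fin m ⊕ Fin m) (Fin m ⊕ Fin m) F) - 1).mulVecLin := by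
    rintro _ ⟨v, rfl⟩
    exact hN v
  have h1 := LinearMap.finrank_range_add_finrank_ker
    ((a : Matrix (Fin m ⊕ Fin m) (Fin m ⊕ Fin m) F) - 1).mulVecLin
  rw [Module.finrank_fintype_fun_eq_card, Fintype.card_sum, Fintype.card_fin] at h1
  have h2 := Submodule.finrank_mono hle
  have h3 : ((a : Matrix (Fin m ⊕ Fin m) (Fin m ⊕ Fin m) F) - 1).rank =
      finrank F (LinearMap.range
        ((a : Matrix (Fin m ⊕ Fin m) (Fin m ⊕ Fin m) F) - 1).mulVecLin) := rfl
  omega

theorem sp_even_rank_of_alt (a : ↥(Matrix.symplecticGroup (Fin m) F))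
    (hA2 : (a : Matrix (Fin m ⊕ Fin m) (Fin m ⊕ Fin m) F) * a = 1)
    (halt : ∀ v, sympForm m F v ((a : Matrix (Fin m ⊕ Fin m) (Fin m ⊕ Fin m) F) *ᵥ v) = 0) :
    Even ((a : Matrix (Fin m ⊕ Fin m) (Fin m ⊕ Fin m) F) - 1).rank := by
  obtain ⟨hN, hNf, hφ⟩ := sp_gen (a : Matrix (Fin m ⊕ Fin m) (Fin m ⊕ Fin m) F) hA2
    ((SymplecticGroup.mem_iff').1 a.2)
  exact even_rank_of_alt (fB m F) fB_alt fB_nondeg _ hN hNf (fun v => by rw [hφ]; exact halt v)

theorem sp_rank_pos (a : ↥(Matrix.symplecticGroup (Fin m) F)) (ha : a ≠ 1) :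
    0 < ((a : Matrix (Fin m ⊕ Fin m) (Fin m ⊕ Fin m) F) - 1).rank := by
  rw [Nat.pos_iff_ne_zero]
  intro h0
  apply ha
  apply Subtype.ext
  have h1 : LinearMap.range
      ((a : Matrix (Fin m ⊕ Fin m) (Fin m ⊕ Fin m) F) - 1).mulVecLin = ⊥ :=
    Submodule.finrank_eq_zero.1 h0
  have h2 : ((a : Matrix (Fin m ⊕ Fin m) (Fin m ⊕ Fin m) F) - 1).mulVecLin = 0 :=
    LinearMap.range_eq_bot.1 h1
  have : (a : Matrix (Fin m ⊕ Fin m) (Fin m ⊕ Fin m) F) - 1 = 0 := by
    ext i j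
    have := congrFun (congrArg (fun l => l (Pi.single j 1)) h2) i
    rw [Matrix.mulVecLin_apply, Matrix.mulVec_single_one] at this
    exact this
  exact sub_eq_zero.1 this

end spcrit

end Cfsg.Agent.Lib.Helper43
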