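import Cfsg.Agent.Lib.Helper43.SpPair1
import Cfsg.Agent.Lib.Helper43.OmegaPair3

set_option autoImplicit false
set_option linter.unusedSimpArgs false
set_option linter.unusedVariables false
set_option linter.unusedSectionVars false

/-! Overgroups in `Sp` of the stabiliser of a pair of complementary Lagrangian subspaces: from an
element outside the stabiliser to a transvection group. -/

namespace Cfsg.Agent.Lib.Helper43.SpPair

open Module Matrix Cfsg.Agent.Lib.Helper18 Cfsg.Agent.Lib.Helper11.SpMax Cfsg.Agent.Lib.Helper43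

section
variable {F : Type*} [Field F] (m : ℕ)

local notation "V" => (Fin m ⊕ Fin m → F)
local notation "ff" => Cfsg.sympForm m F
local notation "GLm" => Matrix.GeneralLinearGroup (Fin m ⊕ Fin m) F

/-- `M` contains the elements `ρ_{a,b}` with `a ∈ V₁`, `b ∈ V₂` perpendicular -/
def TransIn (M : Subgroup GLm) (V₁ V₂ : Submodule F V) : Prop :=
  ∀ a ∈ V₁, ∀ b ∈ V₂, ff a b = 0 → rho m a b ∈ M

/-- `M` contains a full transvection group with centre in `V₁` -/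
def HasX (M : Subgroup GLm) (V₁ : Submodule F V) : Prop :=
  ∃ x ∈ V₁, x ≠ 0 ∧ x ∈ XS m M

theorem finrank_span_pair_le' (a b : V) : finrank F (Submodule.span F {a, b}) ≤ 2 := by
  classical
  have h3 : ({a, b} : Set V) = ((({a, b} : Finset V)) : Set V) := by simp
  rw [h3]
  refine le_trans (finrank_span_finset_le_card _) ?_
  exact Finset.card_le_two

theorem gl_injective (g : GLm) (x y : V) (h : g.1 *ᵥ x = g.1 *ᵥ y) : x = y := by
  have := congrArg (fun z => g⁻¹.1 *ᵥ z) h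
  simp only [gl_inv_act] at this
  exact this

theorem xs_from (h2 : (2 : F) ≠ 0) {V₁ V₂ : Submodule F V} (hp : LagPair V₁ V₂)
    (hk : 5 ≤ finrank F V₁) (M : Subgroup GLm) (hK : TransIn m M V₁ V₂)
    (p r : V) (hpr : ff p r = 0) (hτ : rho m p r ∈ M)
    (a b r₁ r₂ : V) (ha : a ∈ V₁) (hb : b ∈ V₂) (hr₁ : r₁ ∈ V₁) (hr₂ : r₂ ∈ V₂)
    (hpab : p = a + b) (hrr : r = r₁ + r₂) (ha0 : a ≠ 0)
    (hr₁a : r₁ ∉ Submodule.span F {a}) : HasX m M V₁ := by
  -- the vector `x`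
  obtain ⟨N, hN⟩ : ∃ N : Submodule F V,
      N = V₁ ⊓ LinearMap.ker (ffR m p) ⊓ LinearMap.ker (ffR m r) := ⟨_, rfl⟩
  have hfr1 := finrank_le_inf_ker_add_one m V₁ (ffR m p)
  have hfr2 := finrank_le_inf_ker_add_one m (V₁ ⊓ LinearMap.ker (ffR m p)) (ffR m r)
  have hfr3 := finrank_span_pair_le' m a r₁
  have hnle : ¬ N ≤ Submodule.span F {a, r₁} := by
    intro hle
    have := Submodule.finrank_mono hle
    rw [hN] at this
    omega
  obtain ⟨x, hxN, hxS⟩ := SetLike.not_le_iff_exists.1 hnle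
  rw [hN] at hxN
  obtain ⟨⟨hxV, hxp'⟩, hxr'⟩ := hxN
  have hxp : ff x p = 0 := LinearMap.mem_ker.1 hxp'
  have hxr : ff x r = 0 := LinearMap.mem_ker.1 hxr'
  have hx0 : x ≠ 0 := by
    rintro rfl
    exact hxS (Submodule.zero_mem _)
  have haS : a ∈ Submodule.span F {a, r₁} := Submodule.subset_span (by simp)
  have hr₁S : r₁ ∈ Submodule.span F {a, r₁} := Submodule.subset_span (by simp)
  have hax : a ∉ Submodule.span F {x} := by
    intro h
    obtain ⟨l, hl⟩ := Submodule.mem_span_singleton.1 h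
    have hl0 : l ≠ 0 := by
      rintro rfl
      rw [zero_smul] at hl
      exact ha0 hl.symm
    apply hxS
    have : x = l⁻¹ • a := by rw [← hl, smul_smul, inv_mul_cancel₀ hl0, one_smul]
    rw [this]
    exact Submodule.smul_mem _ _ haS
  obtain ⟨y, hyV, hyx, hya⟩ := hp.exists_dual x a hxV ha hax
  have hxy : ff x y = 0 := by rw [sf_swap, hyx, neg_zero]
  obtain ⟨β, hβ⟩ : ∃ β : F, β = ff y r₁ := ⟨_, rfl⟩
  obtain ⟨c₁, hc₁⟩ : ∃ c₁ : V, c₁ = r₁ + β • a := ⟨_, rfl⟩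
  have hc₁V : c₁ ∈ V₁ := by
    rw [hc₁]
    exact V₁.add_mem hr₁ (V₁.smul_mem _ ha)
  have hyr : ff y r = β := by
    rw [hrr, sf_add_right, hp.tsU' y hyV r₂ hr₂, add_zero, hβ]
  have hyp : ff y p = 1 := by
    rw [hpab, sf_add_right, hp.tsU' y hyV b hb, add_zero, hya]
  have hτx : (rho m p r).1 *ᵥ x = x := by
    rw [rho_act m p r hpr, hxp, hxr, zero_smul, zero_smul, add_zero, add_zero]
  have hτy : (rho m p r).1 *ᵥ y = y + r + β • p := by
    rw [rho_act m p r hpr, hyp, hyr, one_smul]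
  have hc₁x : c₁ ∉ Submodule.span F {x} := by
    intro h
    obtain ⟨l, hl⟩ := Submodule.mem_span_singleton.1 h
    by_cases hl0 : l = 0
    · rw [hl0, zero_smul] at hl
      apply hr₁a
      have : r₁ = (-β) • a := by
        rw [hc₁] at hl
        rw [neg_smul]
        exact eq_neg_of_add_eq_zero_left hl.symm
      rw [this]
      exact Submodule.smul_mem _ _ (Submodule.mem_span_singleton_self a)
    · apply hxS
      have : x = l⁻¹ • c₁ := by rw [← hl, smul_smul, inv_mul_cancel₀ hl0, one_smul]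
      rw [this, hc₁]
      exact Submodule.smul_mem _ _ (Submodule.add_mem _ hr₁S (Submodule.smul_mem _ _ haS))
  obtain ⟨y', hy'V, hy'x, hy'c⟩ := hp.exists_dual x c₁ hxV hc₁V hc₁x
  have hxy' : ff x y' = 0 := by rw [sf_swap, hy'x, neg_zero]
  refine ⟨x, hxV, hx0, ?_⟩
  intro c
  obtain ⟨t, ht⟩ : ∃ t : F, t = c / 2 := ⟨_, rfl⟩
  have hA : rho m x (t • y) ∈ M :=
    hK x hxV (t • y) (V₂.smul_mem t hyV) (by rw [sf_smul_right, hxy, mul_zero])
  have hconj := conj_rho m (rho m p r) (rho_mem m p r) x (t • y)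
  rw [hτx, Matrix.mulVec_smul, hτy] at hconj
  have hB : rho m x (t • (y + r + β • p)) ∈ M := by
    rw [← hconj]
    exact M.mul_mem (M.mul_mem hτ hA) (M.inv_mem hτ)
  have hC : rho m x y' ∈ M := hK x hxV y' hy'V hxy'
  have hxv : ff x (t • (y + r + β • p)) = 0 := by
    rw [sf_smul_right, sf_add_right, sf_add_right, sf_smul_right, hxy, hxr, hxp]
    ring
  have hcomm := rho_comm m x (t • (y + r + β • p)) y' hxv hxy'
  have hval : ff y' (t • (y + r + β • p)) = t := by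
    have e1 : ff y' r = ff y' r₁ := by
      rw [hrr, sf_add_right, hp.tsU' y' hy'V r₂ hr₂, add_zero]
    have e2 : ff y' p = ff y' a := by
      rw [hpab, sf_add_right, hp.tsU' y' hy'V b hb, add_zero]
    have e3 : ff y' r₁ + β * ff y' a = 1 := by
      rw [hc₁, sf_add_right, sf_smul_right] at hy'c
      exact hy'c
    rw [sf_smul_right, sf_add_right, sf_add_right, sf_smul_right, hp.tsU' y' hy'V y hyV, e1, e2,
      zero_add, e3, mul_one]
  rw [hval] at hcomm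
  have h2t : 2 * t = c := by
    rw [ht]
    field_simp
  rw [h2t] at hcomm
  have : tg m x c = rho m x (t • (y + r + β • p)) * rho m x y' *
      (rho m x y' * rho m x (t • (y + r + β • p)))⁻¹ := by
    rw [hcomm, mul_inv_cancel_right]
  rw [this]
  exact M.mul_mem (M.mul_mem hB hC) (M.inv_mem (M.mul_mem hC hB))

theorem xs_of_moved (h2 : (2 : F) ≠ 0) {V₁ V₂ : Submodule F V} (hp : LagPair V₁ V₂)
    (hk₁ : 5 ≤ finrank F V₁) (hk₂ : 5 ≤ finrank F V₂) (M : Subgroup GLm)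
    (hM : M ≤ Cfsg.spGL m F) (hK₁ : TransIn m M V₁ V₂) (hK₂ : TransIn m M V₂ V₁)
    (g : GLm) (hgM : g ∈ M) (v₀ : V) (hv₀ : v₀ ∈ V₁)
    (h1 : g.1 *ᵥ v₀ ∉ V₁) (h2' : g.1 *ᵥ v₀ ∉ V₂) : HasX m M V₁ ∨ HasX m M V₂ := by
  obtain ⟨a, ha, b, hb, hpab⟩ := hp.decomp (g.1 *ᵥ v₀)
  have ha0 : a ≠ 0 := by
    rintro rfl
    rw [zero_add] at hpab
    rw [hpab] at h2'
    exact h2' hb
  have hb0 : b ≠ 0 := by
    rintro rfl
    rw [add_zero] at hpab
    rw [hpab] at h1
    exact h1 ha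
  -- the vector `w`
  obtain ⟨W, hW⟩ : ∃ W : Submodule F V, W = V₂ ⊓ LinearMap.ker (ffL m v₀) := ⟨_, rfl⟩
  have hfr := finrank_le_inf_ker_add_one m V₂ (ffL m v₀)
  rw [← hW] at hfr
  have hfr3 := finrank_span_pair_le' m a b
  have hinj : Function.Injective (Matrix.mulVecLin g.1) := fun x y h => gl_injective m g x y h
  have hnle : ¬ W.map (Matrix.mulVecLin g.1) ≤ Submodule.span F {a, b} := by
    intro hle
    have := Submodule.finrank_mono hle
    have h3 : finrank F ↥(W.map (Matrix.mulVecLin g.1)) = finrank F W :=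
      (Submodule.equivMapOfInjective (Matrix.mulVecLin g.1) hinj _).finrank_eq.symm
    omega
  obtain ⟨r, hrN, hrS⟩ := SetLike.not_le_iff_exists.1 hnle
  obtain ⟨w, hwN, hwr⟩ := hrN
  have hwr' : g.1 *ᵥ w = r := hwr
  rw [hW] at hwN
  obtain ⟨hwV, hwperp⟩ := hwN
  have hv₀w : ff v₀ w = 0 := LinearMap.mem_ker.1 hwperp
  have hgsp : g ∈ Cfsg.spGL m F := hM hgM
  have hpr : ff (g.1 *ᵥ v₀) (g.1 *ᵥ w) = 0 := by
    rw [(mem_spGL_iff m g).1 hgsp]
    exact hv₀w
  have hτ : rho m (g.1 *ᵥ v₀) (g.1 *ᵥ w) ∈ M := by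
    rw [← conj_rho m g hgsp]
    exact M.mul_mem (M.mul_mem hgM (hK₁ v₀ hv₀ w hwV hv₀w)) (M.inv_mem hgM)
  obtain ⟨r₁, hr₁, r₂, hr₂, hrr⟩ := hp.decomp (g.1 *ᵥ w)
  by_cases hc : r₁ ∉ Submodule.span F {a}
  · left
    exact xs_from m h2 hp hk₁ M hK₁ _ _ hpr hτ a b r₁ r₂ ha hb hr₁ hr₂ hpab hrr ha0 hc
  · right
    push Not at hc
    have hc2 : r₂ ∉ Submodule.span F {b} := by
      intro hc2
      apply hrS
      rw [← hwr', hrr]
      obtain ⟨l, hl⟩ := Submodule.mem_span_singleton.1 hc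
      obtain ⟨k, hk⟩ := Submodule.mem_span_singleton.1 hc2
      rw [← hl, ← hk]
      exact Submodule.add_mem _ (Submodule.smul_mem _ _ (Submodule.subset_span (by simp)))
        (Submodule.smul_mem _ _ (Submodule.subset_span (by simp)))
    exact xs_from m h2 hp.symm hk₂ M hK₂ _ _ hpr hτ b a r₂ r₁ hb ha hr₂ hr₁
      (by rw [hpab, add_comm]) (by rw [hrr, add_comm]) hb0 hc2

theorem exists_moved {U U' : Submodule F V} (hp : LagPair U U') (hU0 : U ≠ ⊥)
    (hU'0 : U' ≠ ⊥) (g : GLm)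
    (hg₁ : ¬ ((∀ u ∈ U, g.1 *ᵥ u ∈ U) ∧ (∀ u' ∈ U', g.1 *ᵥ u' ∈ U')))
    (hg₂ : ¬ ((∀ u ∈ U, g.1 *ᵥ u ∈ U') ∧ (∀ u' ∈ U', g.1 *ᵥ u' ∈ U))) :
    (∃ v₀ ∈ U, g.1 *ᵥ v₀ ∉ U ∧ g.1 *ᵥ v₀ ∉ U') ∨
      (∃ v₀ ∈ U', g.1 *ᵥ v₀ ∉ U' ∧ g.1 *ᵥ v₀ ∉ U) := by
  by_contra hcon
  push Not at hcon
  obtain ⟨h₁, h₂⟩ := hcon
  have hall : ∀ (A : Submodule F V), (∀ u ∈ U, g.1 *ᵥ u ∈ A) → (∀ u' ∈ U', g.1 *ᵥ u' ∈ A) →
      ∀ v, v ∈ A := by
    intro A hA hA' v
    obtain ⟨a, ha, b, hb, hab⟩ := hp.decomp (g⁻¹.1 *ᵥ v)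
    have := A.add_mem (hA a ha) (hA' b hb)
    rw [← Matrix.mulVec_add, ← hab, gl_act_inv] at this
    exact this
  rcases into_one_of_two U U U' (Matrix.mulVecLin g.1) h₁ with hA | hA
  · rcases into_one_of_two U' U' U (Matrix.mulVecLin g.1) h₂ with hB | hB
    · exact hg₁ ⟨hA, hB⟩
    · obtain ⟨u', hu', hu'0⟩ := (Submodule.ne_bot_iff U').1 hU'0
      exact hu'0 (hp.eq_zero_of_mem u' (hall U hA hB u') hu')
  · rcases into_one_of_two U' U' U (Matrix.mulVecLin g.1) h₂ with hB | hB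
    · obtain ⟨u, hu, hu0⟩ := (Submodule.ne_bot_iff U).1 hU0
      exact hu0 (hp.eq_zero_of_mem u hu (hall U' hA hB u))
    · exact hg₂ ⟨hA, hB⟩

/-- transitivity: one transvection group with centre in `V₁` gives all of them -/
theorem xs_all_of_one {V₁ V₂ : Submodule F V} (hp : LagPair V₁ V₂) (M : Subgroup GLm)
    (hM : M ≤ Cfsg.spGL m F) (hK : TransIn m M V₁ V₂) (hX : HasX m M V₁) :
    ∀ z ∈ V₁, z ∈ XS m M := by
  obtain ⟨x, hxV, hx0, hx⟩ := hX
  intro z hz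
  by_cases hzx : z ∈ Submodule.span F {x}
  · obtain ⟨l, rfl⟩ := Submodule.mem_span_singleton.1 hzx
    exact XS_smul m M l x hx
  · have hxu : x ∉ Submodule.span F {z - x} := by
      intro h
      obtain ⟨l, hl⟩ := Submodule.mem_span_singleton.1 h
      apply hzx
      have hl0 : l ≠ 0 := by
        rintro rfl
        rw [zero_smul] at hl
        exact hx0 hl.symm
      have h3 : l⁻¹ • (l • (z - x)) = z - x := by rw [smul_smul, inv_mul_cancel₀ hl0, one_smul]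
      rw [hl] at h3
      have h4 : z = (1 + l⁻¹) • x := by
        rw [add_smul, one_smul, h3]
        abel
      rw [h4]
      exact Submodule.smul_mem _ _ (Submodule.mem_span_singleton_self x)
    have hzxV : z - x ∈ V₁ := V₁.sub_mem hz hxV
    obtain ⟨u', hu'V, hu'u, hu'x⟩ := hp.exists_dual (z - x) x hzxV hxV hxu
    have h0 : ff (z - x) (-u') = 0 := by
      rw [sf_neg_right, sf_swap, hu'u]
      simp
    have h1 : ff x (-u') = 1 := by
      rw [sf_neg_right, sf_swap, hu'x]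
      simp
    have hmem := hK (z - x) hzxV (-u') (V₂.neg_mem hu'V) h0
    have := XS_act m M hM _ hmem x hx
    rw [rho_act m _ _ h0, hp.tsU x hxV (z - x) hzxV, h1, zero_smul, add_zero, one_smul,
      add_sub_cancel] at this
    exact this

end

end Cfsg.Agent.Lib.Helper43.SpPair
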