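import Cfsg.Agent.Lib.Helper43.SpPair2
import Cfsg.Agent.Lib.Helper43.DecompTwo

set_option autoImplicit false
set_option linter.unusedSimpArgs false
set_option linter.unusedVariables false
set_option linter.unusedSectionVars false

/-! An element of `Sp` interchanging two totally isotropic subspaces in perfect duality. -/

namespace Cfsg.Agent.Lib.Helper43.SpPair

open Module Matrix Cfsg.Agent.Lib.Helper18 Cfsg.Agent.Lib.Helper11.SpMax Cfsg.Agent.Lib.Helper43

section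
variable {F : Type*} [Field F] (m : ℕ)

local notation "V" => (Fin m ⊕ Fin m → F)
local notation "ff" => Cfsg.sympForm m F
local notation "GLm" => Matrix.GeneralLinearGroup (Fin m ⊕ Fin m) F

/-- the element `e ↦ f ↦ -e` of `Sp` for a hyperbolic pair -/
def wEl (e f : V) : GLm := tg m e 1 * tg m f 1 * tg m e 1

theorem wEl_mem (e f : V) : wEl m e f ∈ Cfsg.spGL m F :=
  Subgroup.mul_mem _ (Subgroup.mul_mem _ (tg_mem m _ _) (tg_mem m _ _)) (tg_mem m _ _)

theorem wEl_e (e f : V) (hef : ff e f = 1) : (wEl m e f).1 *ᵥ e = f := by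
  have hfe : ff f e = -1 := by rw [sf_swap, hef]
  unfold wEl
  rw [gl_mul_act, gl_mul_act, tg_act, tg_act, tg_act]
  simp only [sf_add_left, sf_add_right, sf_smul_left, sf_smul_right, sf_self, hef, hfe, mul_zero,
    add_zero, zero_add, one_mul, mul_one, zero_smul]
  module

theorem wEl_f (e f : V) (hef : ff e f = 1) : (wEl m e f).1 *ᵥ f = -e := by
  have hfe : ff f e = -1 := by rw [sf_swap, hef]
  unfold wEl
  rw [gl_mul_act, gl_mul_act, tg_act, tg_act, tg_act]
  simp only [sf_add_left, sf_add_right, sf_smul_left, sf_smul_right, sf_neg_left, sf_neg_right,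
    sf_self, hef, hfe, mul_zero,
    add_zero, zero_add, one_mul, mul_one, zero_smul, mul_neg, neg_smul, one_smul]
  module

theorem wEl_fix (e f y : V) (hye : ff y e = 0) (hyf : ff y f = 0) : (wEl m e f).1 *ᵥ y = y := by
  unfold wEl
  rw [gl_mul_act, gl_mul_act, tg_act m e 1 y, hye, mul_zero, zero_smul, add_zero, tg_act m f 1 y,
    hyf, mul_zero, zero_smul, add_zero, tg_act m e 1 y, hye, mul_zero, zero_smul, add_zero]

theorem exists_swap :
    ∀ (j : ℕ) (U U' : Submodule F V), (∀ a ∈ U, ∀ b ∈ U, ff a b = 0) →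
      (∀ a ∈ U', ∀ b ∈ U', ff a b = 0) →
      (∀ u ∈ U, (∀ u' ∈ U', ff u u' = 0) → u = 0) →
      (∀ u' ∈ U', (∀ u ∈ U, ff u u' = 0) → u' = 0) →
      finrank F U = j →
      ∃ s : GLm, s ∈ Cfsg.spGL m F ∧ (∀ u ∈ U, s.1 *ᵥ u ∈ U') ∧ (∀ u' ∈ U', s.1 *ᵥ u' ∈ U) ∧
        (∀ v, (∀ u ∈ U, ff u v = 0) → (∀ u' ∈ U', ff u' v = 0) → s.1 *ᵥ v = v) := by
  intro j
  induction j with
  | zero =>
    intro U U' hU hU' hp₁ hp₂ hfr
    have hU0 : U = ⊥ := Submodule.finrank_eq_zero.1 hfr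
    have hU'0 : ∀ u' ∈ U', u' = 0 := by
      intro u' hu'
      apply hp₂ u' hu'
      intro u hu
      rw [hU0, Submodule.mem_bot] at hu
      rw [hu, sf_zero_left]
    refine ⟨1, Subgroup.one_mem _, ?_, ?_, ?_⟩
    · intro u hu
      rw [hU0, Submodule.mem_bot] at hu
      rw [hu, Matrix.mulVec_zero]
      exact U'.zero_mem
    · intro u' hu'
      rw [hU'0 u' hu', Matrix.mulVec_zero]
      exact U.zero_mem
    · intro v _ _
      rw [Units.val_one, Matrix.one_mulVec]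
  | succ j ih =>
    intro U U' hU hU' hp₁ hp₂ hfr
    have hUne : U ≠ ⊥ := by
      intro h
      rw [h, finrank_bot] at hfr
      omega
    obtain ⟨e, heU, he0⟩ := (Submodule.ne_bot_iff U).1 hUne
    obtain ⟨f₀, hf₀U, hef₀⟩ : ∃ f₀ ∈ U', ff e f₀ ≠ 0 := by
      by_contra hcon
      push Not at hcon
      exact he0 (hp₁ e heU hcon)
    obtain ⟨f, hfU, hef⟩ : ∃ f ∈ U', ff e f = 1 := by
      refine ⟨(ff e f₀)⁻¹ • f₀, U'.smul_mem _ hf₀U, ?_⟩
      rw [sf_smul_right, inv_mul_cancel₀ hef₀]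
    have hfe : ff f e = -1 := by rw [sf_swap, hef]
    obtain ⟨U₁, hU₁⟩ : ∃ U₁ : Submodule F V, U₁ = U ⊓ LinearMap.ker (ffL m f) := ⟨_, rfl⟩
    obtain ⟨U₁', hU₁'⟩ : ∃ U₁' : Submodule F V, U₁' = U' ⊓ LinearMap.ker (ffL m e) := ⟨_, rfl⟩
    have hmem₁ : ∀ v, v ∈ U₁ ↔ v ∈ U ∧ ff f v = 0 := by
      intro v
      rw [hU₁, Submodule.mem_inf, LinearMap.mem_ker]
      rfl
    have hmem₁' : ∀ v, v ∈ U₁' ↔ v ∈ U' ∧ ff e v = 0 := by
      intro v
      rw [hU₁', Submodule.mem_inf, LinearMap.mem_ker]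
      rfl
    have hfr₁ : finrank F U₁ = j := by
      have := Cfsg.Agent.Lib.Helper43.finrank_inf_ker_add_one U (ffL m f)
        ⟨e, heU, by rw [ffL_apply, hfe]; exact neg_ne_zero.2 one_ne_zero⟩
      rw [← hU₁] at this
      omega
    have hp₁' : ∀ u ∈ U₁, (∀ u' ∈ U₁', ff u u' = 0) → u = 0 := by
      intro u hu h
      obtain ⟨huU, hfu⟩ := (hmem₁ u).1 hu
      apply hp₁ u huU
      intro u' hu'
      have h1 : u' - ff e u' • f ∈ U₁' := by
        rw [hmem₁']
        refine ⟨U'.sub_mem hu' (U'.smul_mem _ hfU), ?_⟩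
        rw [sf_sub_right, sf_smul_right, hef, mul_one, sub_self]
      have h2 := h _ h1
      rw [sf_sub_right, sf_smul_right, sf_swap m u f, hfu, neg_zero, mul_zero, sub_zero] at h2
      exact h2
    have hp₂' : ∀ u' ∈ U₁', (∀ u ∈ U₁, ff u u' = 0) → u' = 0 := by
      intro u' hu' h
      obtain ⟨hu'U, heu'⟩ := (hmem₁' u').1 hu'
      apply hp₂ u' hu'U
      intro u hu
      have h1 : u - ff u f • e ∈ U₁ := by
        rw [hmem₁]
        refine ⟨U.sub_mem hu (U.smul_mem _ heU), ?_⟩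
        rw [sf_sub_right, sf_smul_right, hfe, sf_swap m f u]
        ring
      have h2 := h _ h1
      rw [sf_sub_left, sf_smul_left, heu', mul_zero, sub_zero] at h2
      exact h2
    obtain ⟨s₁, hs₁sp, hm₁, hm₂, hfix⟩ := ih U₁ U₁'
      (fun a ha b hb => hU a ((hmem₁ a).1 ha).1 b ((hmem₁ b).1 hb).1)
      (fun a ha b hb => hU' a ((hmem₁' a).1 ha).1 b ((hmem₁' b).1 hb).1) hp₁' hp₂' hfr₁
    -- `s₁` fixes `e` and `f`
    have hs₁e : s₁.1 *ᵥ e = e := by
      apply hfix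
      · intro u hu
        exact hU u ((hmem₁ u).1 hu).1 e heU
      · intro u' hu'
        rw [sf_swap, ((hmem₁' u').1 hu').2, neg_zero]
    have hs₁f : s₁.1 *ᵥ f = f := by
      apply hfix
      · intro u hu
        rw [sf_swap, ((hmem₁ u).1 hu).2, neg_zero]
      · intro u' hu'
        exact hU' u' ((hmem₁' u').1 hu').1 f hfU
    refine ⟨wEl m e f * s₁, Subgroup.mul_mem _ (wEl_mem m e f) hs₁sp, ?_, ?_, ?_⟩
    · intro u hu
      rw [gl_mul_act]
      obtain ⟨α, hα⟩ : ∃ α : F, α = ff u f := ⟨_, rfl⟩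
      have hu₁ : u - α • e ∈ U₁ := by
        rw [hmem₁]
        refine ⟨U.sub_mem hu (U.smul_mem _ heU), ?_⟩
        rw [sf_sub_right, sf_smul_right, hfe, hα, sf_swap m f u]
        ring
      have hdec : u = α • e + (u - α • e) := by abel
      have hy := hm₁ _ hu₁
      obtain ⟨hyU', hye⟩ := (hmem₁' _).1 hy
      rw [hdec, Matrix.mulVec_add, Matrix.mulVec_smul, hs₁e, Matrix.mulVec_add, Matrix.mulVec_smul,
        wEl_e m e f hef, wEl_fix m e f _ (by rw [sf_swap, hye, neg_zero]) (hU' _ hyU' f hfU)]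
      exact U'.add_mem (U'.smul_mem _ hfU) hyU'
    · intro u' hu'
      rw [gl_mul_act]
      obtain ⟨α, hα⟩ : ∃ α : F, α = ff e u' := ⟨_, rfl⟩
      have hu₁ : u' - α • f ∈ U₁' := by
        rw [hmem₁']
        refine ⟨U'.sub_mem hu' (U'.smul_mem _ hfU), ?_⟩
        rw [sf_sub_right, sf_smul_right, hef, hα, mul_one, sub_self]
      have hdec : u' = α • f + (u' - α • f) := by abel
      have hy := hm₂ _ hu₁
      obtain ⟨hyU, hyf⟩ := (hmem₁ _).1 hy
      rw [hdec, Matrix.mulVec_add, Matrix.mulVec_smul, hs₁f, Matrix.mulVec_add, Matrix.mulVec_smul,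
        wEl_f m e f hef, wEl_fix m e f _ (hU _ hyU e heU) (by rw [sf_swap, hyf, neg_zero])]
      exact U.add_mem (U.smul_mem _ (U.neg_mem heU)) hyU
    · intro v hvU hvU'
      rw [gl_mul_act]
      have h1 : s₁.1 *ᵥ v = v := by
        apply hfix
        · intro u hu
          exact hvU u ((hmem₁ u).1 hu).1
        · intro u' hu'
          exact hvU' u' ((hmem₁' u').1 hu').1
      rw [h1]
      apply wEl_fix
      · rw [sf_swap, hvU e heU, neg_zero]
      · rw [sf_swap, hvU' f hfU, neg_zero]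

/-- an element of `Sp` interchanging two complementary Lagrangian subspaces -/
theorem exists_swap_sp {U U' : Submodule F V} (hp : LagPair U U') :
    ∃ s : GLm, s ∈ Cfsg.spGL m F ∧ (∀ u ∈ U, s.1 *ᵥ u ∈ U') ∧ (∀ u' ∈ U', s.1 *ᵥ u' ∈ U) := by
  have hp₁ : ∀ u ∈ U, (∀ u' ∈ U', ff u u' = 0) → u = 0 := by
    intro u hu h
    by_contra hu0
    obtain ⟨u', hu', hne⟩ := hp.pairing u hu hu0
    exact hne (h u' hu')
  have hp₂ : ∀ u' ∈ U', (∀ u ∈ U, ff u u' = 0) → u' = 0 := by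
    intro u' hu' h
    by_contra hu0
    obtain ⟨u, hu, hne⟩ := hp.symm.pairing u' hu' hu0
    apply hne
    rw [sf_swap, h u hu, neg_zero]
  obtain ⟨s, hs, hm₁, hm₂, -⟩ := exists_swap m _ U U' hp.tsU hp.tsU' hp₁ hp₂ rfl
  exact ⟨s, hs, hm₁, hm₂⟩

end

end Cfsg.Agent.Lib.Helper43.SpPair
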