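import Cfsg.Agent.Lib.Helper43.SpPair3

set_option autoImplicit false
set_option linter.unusedSimpArgs false
set_option linter.unusedVariables false
set_option linter.unusedSectionVars false

/-! The stabiliser in `Sp` of a pair of complementary Lagrangian subspaces is maximal
(odd characteristic). -/

namespace Cfsg.Agent.Lib.Helper43.SpPair

open Module Matrix Cfsg.Agent.Lib.Helper18 Cfsg.Agent.Lib.Helper11.SpMax Cfsg.Agent.Lib.Helper43

section
variable {F : Type*} [Field F] (m : ℕ)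

local notation "V" => (Fin m ⊕ Fin m → F)
local notation "ff" => Cfsg.sympForm m F
local notation "GLm" => Matrix.GeneralLinearGroup (Fin m ⊕ Fin m) F

theorem ne_bot_of_finrank_pos' (A : Submodule F V) (h : 0 < finrank F A) : A ≠ ⊥ := by
  intro h0
  rw [h0, finrank_bot] at h
  exact lt_irrefl _ h

theorem LagPair.of_disjoint_sup {U U' : Submodule F V} (h1 : ∀ a ∈ U, ∀ b ∈ U, ff a b = 0)
    (h2 : ∀ a ∈ U', ∀ b ∈ U', ff a b = 0) (hd : Disjoint U U') (hs : U ⊔ U' = ⊤) :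
    LagPair U U' := by
  refine ⟨h1, h2, ?_, ?_⟩
  · intro v
    have hv : v ∈ U ⊔ U' := by rw [hs]; exact Submodule.mem_top
    obtain ⟨a, ha, b, hb, hab⟩ := Submodule.mem_sup.1 hv
    exact ⟨a, ha, b, hb, hab.symm⟩
  · intro v hv hv'
    exact Submodule.disjoint_def.1 hd v hv hv'

/-- the elements `ρ_{u,u'}` stabilise both subspaces -/
theorem rho_trans_maps {U U' : Submodule F V} (hp : LagPair U U') (u u' : V) (hu : u ∈ U)
    (hu' : u' ∈ U') (huu' : ff u u' = 0) :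
    (∀ x ∈ U, (rho m u u').1 *ᵥ x ∈ U) ∧ (∀ x ∈ U', (rho m u u').1 *ᵥ x ∈ U') := by
  constructor
  · intro x hx
    rw [rho_act m u u' huu', hp.tsU x hx u hu, zero_smul, add_zero]
    exact U.add_mem hx (U.smul_mem _ hu)
  · intro x hx
    rw [rho_act m u u' huu', hp.tsU' x hx u' hu', zero_smul, add_zero]
    exact U'.add_mem hx (U'.smul_mem _ hu')

theorem rho_symm (a b : V) (hab : ff a b = 0) : rho m a b = rho m b a := by
  have hba : ff b a = 0 := by rw [sf_swap, hab, neg_zero]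
  apply gl_ext
  intro x
  rw [rho_act m a b hab, rho_act m b a hba]
  abel

/-- **overgroups of the stabiliser of a pair of complementary Lagrangian subspaces** -/
theorem pair_maximal (h2 : (2 : F) ≠ 0) {U U' : Submodule F V} (hp : LagPair U U')
    (hk : 5 ≤ finrank F U) (hfr : finrank F U = finrank F U') (M : Subgroup GLm)
    (hM : M ≤ Cfsg.spGL m F) (hK₁ : TransIn m M U U') (hK₂ : TransIn m M U' U)
    (s : GLm) (hsM : s ∈ M) (hs₁ : ∀ u ∈ U, s.1 *ᵥ u ∈ U') (hs₂ : ∀ u' ∈ U', s.1 *ᵥ u' ∈ U)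
    (g : GLm) (hgM : g ∈ M)
    (hg₁ : ¬ ((∀ u ∈ U, g.1 *ᵥ u ∈ U) ∧ (∀ u' ∈ U', g.1 *ᵥ u' ∈ U')))
    (hg₂ : ¬ ((∀ u ∈ U, g.1 *ᵥ u ∈ U') ∧ (∀ u' ∈ U', g.1 *ᵥ u' ∈ U))) :
    Cfsg.spGL m F ≤ M := by
  have hk' : 5 ≤ finrank F U' := by omega
  have hU0 : U ≠ ⊥ := ne_bot_of_finrank_pos' m U (by omega)
  have hU'0 : U' ≠ ⊥ := ne_bot_of_finrank_pos' m U' (by omega)
  have hX : HasX m M U ∨ HasX m M U' := by
    rcases exists_moved m hp hU0 hU'0 g hg₁ hg₂ with ⟨v₀, hv₀, h1, h2'⟩ | ⟨v₀, hv₀, h1, h2'⟩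
    · exact xs_of_moved m h2 hp hk hk' M hM hK₁ hK₂ g hgM v₀ hv₀ h1 h2'
    · exact (xs_of_moved m h2 hp.symm hk' hk M hM hK₂ hK₁ g hgM v₀ hv₀ h1 h2').symm
  have hboth : (∀ a ∈ U, a ∈ XS m M) ∧ (∀ a' ∈ U', a' ∈ XS m M) := by
    rcases hX with hr | hr
    · have hS := xs_all_of_one m hp M hM hK₁ hr
      refine ⟨hS, fun a' ha' => ?_⟩
      obtain ⟨a, ha, rfl⟩ := DecompTwo.surj_of_into s U U' hs₁ hfr a' ha'
      exact XS_act m M hM s hsM a (hS a ha)
    · have hS := xs_all_of_one m hp.symm M hM hK₂ hr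
      refine ⟨fun a ha => ?_, hS⟩
      obtain ⟨a', ha', rfl⟩ := DecompTwo.surj_of_into s U' U hs₂ hfr.symm a ha
      exact XS_act m M hM s hsM a' (hS a' ha')
  apply le_of_XS_univ
  intro z
  obtain ⟨a, ha, b, hb, rfl⟩ := hp.decomp z
  have haX := hboth.1 a ha
  have hbX := hboth.2 b hb
  by_cases hab : ff a b = 0
  · by_cases hb0 : b = 0
    · rw [hb0, add_zero]
      exact haX
    · obtain ⟨a', ha', hne⟩ := hp.symm.pairing b hb hb0
      have ha'b : ff a' b ≠ 0 := by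
        rw [sf_swap]
        exact neg_ne_zero.2 hne
      have h1 : a' + b ∈ XS m M := by
        have := XS_hyp m M hM b a' hbX (hboth.1 a' ha') ha'b 1
        rw [one_smul] at this
        exact this
      have h3 : ff (a' + b) (a - a') ≠ 0 := by
        rw [sf_add_left, sf_sub_right, sf_sub_right, hp.tsU a' ha' a ha, hp.tsU a' ha' a' ha',
          sf_swap m b a, hab]
        simpa using hne
      have := XS_hyp m M hM (a - a') (a' + b) (hboth.1 _ (U.sub_mem ha ha')) h1 h3 1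
      rw [one_smul] at this
      have e : a' + b + (a - a') = a + b := by abel
      rw [e] at this
      exact this
  · have := XS_hyp m M hM b a hbX haX hab 1
    rw [one_smul] at this
    exact this

/-- **the stabiliser of a pair of complementary Lagrangian subspaces is maximal in `Sp`** -/
theorem pair_maximal_geo (h2 : (2 : F) ≠ 0) (D : Fin 2 → Submodule F V)
    (hp : LagPair (D 0) (D 1)) (k : ℕ) (hfr0 : finrank F (D 0) = k) (hfr1 : finrank F (D 1) = k)
    (hk : 5 ≤ k) :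
    Cfsg.Geo.IsMaximalIn (Cfsg.spGL m F) (Cfsg.Geo.decompositionStabilizer D ⊓ Cfsg.spGL m F) := by
  have hfr : finrank F (D 0) = finrank F (D 1) := by rw [hfr0, hfr1]
  have hmem := DecompTwo.mem_decompStab_two_iff D hfr
  apply DecompTwo.isMaximalIn_inf
  · -- properness
    have hU0 : D 0 ≠ ⊥ := ne_bot_of_finrank_pos' m (D 0) (by omega)
    obtain ⟨a, ha, ha0⟩ := (Submodule.ne_bot_iff (D 0)).1 hU0
    obtain ⟨y, hy, hay⟩ := hp.pairing a ha ha0
    have hya : ff y a ≠ 0 := by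
      rw [sf_swap]
      exact neg_ne_zero.2 hay
    have hy0 : y ≠ 0 := by
      rintro rfl
      exact hay (sf_zero_right m a)
    refine ⟨tg m a 1, tg_mem m a 1, fun hcon => ?_⟩
    have himg : (tg m a 1).1 *ᵥ y = y + ff y a • a := by
      rw [tg_act, one_mul]
    rcases (hmem _).1 hcon with ⟨-, h1⟩ | ⟨-, h1⟩
    · have := h1 y hy
      rw [himg] at this
      have h3 := (D 1).sub_mem this hy
      rw [add_sub_cancel_left] at h3
      have h4 : a ∈ D 1 := by
        have := (D 1).smul_mem (ff y a)⁻¹ h3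
        rwa [smul_smul, inv_mul_cancel₀ hya, one_smul] at this
      exact ha0 (hp.eq_zero_of_mem a ha h4)
    · have := h1 y hy
      rw [himg] at this
      have h3 := (D 0).sub_mem this ((D 0).smul_mem (ff y a) ha)
      rw [add_sub_cancel_right] at h3
      exact hy0 (hp.eq_zero_of_mem y h3 hy)
  · intro M hHM hMI g hgM hg
    have hg' : ¬ (((∀ u ∈ D 0, g.1 *ᵥ u ∈ D 0) ∧ (∀ u' ∈ D 1, g.1 *ᵥ u' ∈ D 1)) ∨
        ((∀ u ∈ D 0, g.1 *ᵥ u ∈ D 1) ∧ (∀ u' ∈ D 1, g.1 *ᵥ u' ∈ D 0))) :=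
      fun h => hg ((hmem g).2 h)
    obtain ⟨hg₁, hg₂⟩ := not_or.1 hg'
    have hK₁ : TransIn m M (D 0) (D 1) := by
      intro u hu u' hu' huu'
      apply hHM
      exact ⟨(hmem _).2 (Or.inl (rho_trans_maps m hp u u' hu hu' huu')), rho_mem m u u'⟩
    have hK₂ : TransIn m M (D 1) (D 0) := by
      intro u' hu' u hu hu'u
      rw [rho_symm m u' u hu'u]
      exact hK₁ u hu u' hu' (by rw [sf_swap, hu'u, neg_zero])
    obtain ⟨s, hssp, hs₁, hs₂⟩ := exists_swap_sp m hp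
    have hsM : s ∈ M := hHM ⟨(hmem s).2 (Or.inr ⟨hs₁, hs₂⟩), hssp⟩
    exact pair_maximal m h2 hp (by omega) hfr M hMI hK₁ hK₂ s hsM hs₁ hs₂ g hgM hg₁ hg₂

end

end Cfsg.Agent.Lib.Helper43.SpPair
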