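import Cfsg.Agent.Lib.Helper44.SpUTools

set_option autoImplicit false
set_option linter.unusedSimpArgs false
set_option linter.unusedVariables false
set_option linter.unusedSectionVars false

/-! S5665 keystone 566507 (K-SpU2-B `exists_x`), architect helper44. -/

namespace Cfsg.Agent.Lib.Helper43.SpU

open Module Matrix Cfsg.Agent.Lib.Helper18 Cfsg.Agent.Lib.Helper11.SpMax Cfsg.Agent.Lib.Helper44.SpU
open Cfsg.Agent.Lib.Helper43.UF

variable {F : Type*} [Field F] [Fintype F] {m : ℕ}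

local notation "V" => (Fin m ⊕ Fin m → F)
local notation "ff" => Cfsg.sympForm m F

/-- a vector outside the `δ`-stable space `F[δ] v + F[δ] v'` on which `f v' ·` does not vanish -/
theorem exists_w0 (U : SData m F) (hm : 7 ≤ m) (v v' : V) (hv'0 : v' ≠ 0) :
    ∃ w₀ : V, ff v' w₀ ≠ 0 ∧ w₀ ∉ KL (NU U) v ⊔ KL (NU U) v' := by
  classical
  set W : Submodule F V := KL (NU U) v ⊔ KL (NU U) v' with hW
  obtain ⟨w₁, hw₁⟩ := sf_nondeg_top m v' hv'0
  have hfin : finrank F W ≤ 4 := by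
    have h1 : finrank F W ≤ finrank F (KL (NU U) v) + finrank F (KL (NU U) v') :=
      Submodule.finrank_add_le_finrank_add_finrank (KL (NU U) v) (KL (NU U) v')
    have h2 := finrank_KL_le (NU U) v
    have h3 := finrank_KL_le (NU U) v'
    omega
  have hVd : finrank F V = 2 * m := by
    rw [Module.finrank_fintype_fun_eq_card, card_idx]
  have hWtop : W ≠ ⊤ := by
    intro h
    rw [h, finrank_top, hVd] at hfin
    omega
  obtain ⟨w₂, hw₂⟩ : ∃ w₂ : V, w₂ ∉ W := by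
    by_contra hcon
    push Not at hcon
    exact hWtop (eq_top_iff.2 fun x _ => hcon x)
  by_cases h1 : w₁ ∈ W
  · by_cases h2 : ff v' w₂ = 0
    · refine ⟨w₁ + w₂, ?_, ?_⟩
      · rw [sf_add_right, h2, add_zero]
        exact hw₁
      · intro h
        apply hw₂
        have := W.sub_mem h h1
        rwa [add_sub_cancel_left] at this
    · exact ⟨w₂, h2, hw₂⟩
  · exact ⟨w₁, hw₁, h1⟩

theorem exists_x (U : SData m F) (hm : 7 ≤ m) (v v' : V) (hv : v ≠ 0)
    (hvv' : v' ∉ Submodule.span F {v, U.δ *ᵥ v}) :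
    ∃ x : V, KI U x ∧ ff v x = 1 ∧ ff v (U.δ *ᵥ x) = 0 ∧ ff v' x = 0 ∧ ff v' (U.δ *ᵥ x) = 0 ∧
      x ∉ Submodule.span F {v', U.δ *ᵥ v'} := by
  classical
  have hvK : v' ∉ KL (NU U) v := hvv'
  have hd := U.d_ne_zero
  have hv'0 : v' ≠ 0 := by
    rintro rfl
    exact hvv' (Submodule.zero_mem _)
  obtain ⟨w₀, hw₀, hw₀W⟩ := exists_w0 U hm v v' hv'0
  set W : Submodule F V := KL (NU U) v ⊔ KL (NU U) v' with hW
  -- `W` is `δ`-stable
  have hWδ : ∀ y ∈ W, U.δ *ᵥ y ∈ W := by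
    intro y hy
    obtain ⟨y₁, hy₁, y₂, hy₂, rfl⟩ := Submodule.mem_sup.1 hy
    rw [Matrix.mulVec_add]
    exact Submodule.add_mem_sup (J_mem_KL (NU U) v y₁ hy₁) (J_mem_KL (NU U) v' y₂ hy₂)
  have hvW : v ∈ W := Submodule.mem_sup_left (Submodule.subset_span (by simp))
  have hv'W : v' ∈ W := Submodule.mem_sup_right (Submodule.subset_span (by simp))
  set S : Finset V := {v, v', U.δ *ᵥ v', w₀, U.δ *ᵥ w₀} with hS
  have hcard : 2 * S.card + 3 ≤ 2 * m := by
    have : S.card ≤ 5 := Finset.card_le_five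
    omega
  have ha : (-(1 / U.d)) • (U.δ *ᵥ v) ∉ Submodule.span F (S : Set V) := by
    intro hmem0
    have hmem : U.δ *ᵥ v ∈ Submodule.span F (S : Set V) := by
      have := Submodule.smul_mem _ (-U.d) hmem0
      rw [smul_smul] at this
      have e : -U.d * -(1 / U.d) = 1 := by field_simp
      rwa [e, one_smul] at this
    rw [hS] at hmem
    simp only [Finset.coe_insert, Finset.coe_singleton] at hmem
    rw [Submodule.mem_span_insert] at hmem
    obtain ⟨c₁, z₁, hz₁, e1⟩ := hmem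
    rw [Submodule.mem_span_insert] at hz₁
    obtain ⟨c₂, z₂, hz₂, e2⟩ := hz₁
    rw [Submodule.mem_span_insert] at hz₂
    obtain ⟨c₃, z₃, hz₃, e3⟩ := hz₂
    rw [Submodule.mem_span_insert] at hz₃
    obtain ⟨c₄, z₄, hz₄, e4⟩ := hz₃
    rw [Submodule.mem_span_singleton] at hz₄
    obtain ⟨c₅, rfl⟩ := hz₄
    subst e4
    subst e3
    subst e2
    -- `y = c₄ w₀ + c₅ δ w₀ ∈ W`
    have hy : c₄ • w₀ + c₅ • (U.δ *ᵥ w₀) ∈ W := by
      have e : c₄ • w₀ + c₅ • (U.δ *ᵥ w₀) =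
          U.δ *ᵥ v - c₁ • v - c₂ • v' - c₃ • (U.δ *ᵥ v') := by
        rw [e1]
        module
      rw [e]
      exact W.sub_mem (W.sub_mem (W.sub_mem (hWδ v hvW) (W.smul_mem _ hvW)) (W.smul_mem _ hv'W))
        (W.smul_mem _ (hWδ v' hv'W))
    have hy' := hWδ _ hy
    rw [Matrix.mulVec_add, Matrix.mulVec_smul, Matrix.mulVec_smul, U.sq_apply] at hy'
    have h3 : (c₄ ^ 2 - U.d * c₅ ^ 2) • w₀ ∈ W := by
      have e : (c₄ ^ 2 - U.d * c₅ ^ 2) • w₀ =
          c₄ • (c₄ • w₀ + c₅ • (U.δ *ᵥ w₀)) - c₅ • (c₄ • (U.δ *ᵥ w₀) + c₅ • (U.d • w₀)) := by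
        module
      rw [e]
      exact W.sub_mem (W.smul_mem _ hy) (W.smul_mem _ hy')
    have h4 : c₄ ^ 2 - U.d * c₅ ^ 2 = 0 := by
      by_contra hne
      apply hw₀W
      have := W.smul_mem (c₄ ^ 2 - U.d * c₅ ^ 2)⁻¹ h3
      rwa [smul_smul, inv_mul_cancel₀ hne, one_smul] at this
    obtain ⟨h5, h6⟩ := (NU U).irr c₄ c₅ (by
      show c₄ ^ 2 - (0 : F) * c₄ * c₅ + (-U.d) * c₅ ^ 2 = 0
      linear_combination h4)
    subst h5
    subst h6
    have h0 : c₁ • v + (-1 : F) • (NU U).J v + c₂ • v' + c₃ • (NU U).J v' = 0 := by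
      rw [NU_J, NU_J]
      have : U.δ *ᵥ v - (c₁ • v + (c₂ • v' + (c₃ • (U.δ *ᵥ v') +
          ((0 : F) • w₀ + (0 : F) • (U.δ *ᵥ w₀))))) = 0 := sub_eq_zero.2 e1
      rw [← neg_eq_zero, ← this]
      module
    obtain ⟨-, h7, -, -⟩ := indep_of_notMem_KL (NU U) v v' hv hvK _ _ _ _ h0
    norm_num at h7
  obtain ⟨x, hx, hxS, hxa⟩ := exists_KI U hm S hcard _ ha
  have k1 : ff v (U.δ *ᵥ x) = 0 := hxS v (by rw [hS]; simp)
  have k2 : ff v' (U.δ *ᵥ x) = 0 := hxS v' (by rw [hS]; simp)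
  have k3 : ff (U.δ *ᵥ v') (U.δ *ᵥ x) = 0 := hxS _ (by rw [hS]; simp)
  have k4 : ff w₀ (U.δ *ᵥ x) = 0 := hxS w₀ (by rw [hS]; simp)
  have k5 : ff (U.δ *ᵥ w₀) (U.δ *ᵥ x) = 0 := hxS _ (by rw [hS]; simp)
  rw [U.ff_δδ] at k3 k5
  have k3' : ff v' x = 0 := by
    rcases mul_eq_zero.1 (neg_eq_zero.1 k3) with h | h
    · exact absurd h hd
    · exact h
  have k5' : ff w₀ x = 0 := by
    rcases mul_eq_zero.1 (neg_eq_zero.1 k5) with h | h
    · exact absurd h hd
    · exact h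
  have k6 : ff v x = 1 := by
    rw [sf_smul_left, U.ff_δδ] at hxa
    rw [← hxa]
    field_simp
  refine ⟨x, hx, k6, k1, k3', k2, ?_⟩
  intro hmem
  rw [Submodule.mem_span_pair] at hmem
  obtain ⟨α, β, rfl⟩ := hmem
  set p := ff w₀ v' with hp
  set r := ff w₀ (U.δ *ᵥ v') with hr
  have hp0 : p ≠ 0 := by
    rw [hp, sf_swap]
    exact neg_ne_zero.2 hw₀
  have e1 : α * p + β * r = 0 := by
    rw [sf_add_right, sf_smul_right, sf_smul_right] at k5'
    exact k5'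
  have e2 : α * r + β * (U.d * p) = 0 := by
    rw [Matrix.mulVec_add, Matrix.mulVec_smul, Matrix.mulVec_smul, U.sq_apply, sf_add_right,
      sf_smul_right, sf_smul_right, sf_smul_right] at k4
    exact k4
  have hdet : U.d * p ^ 2 - r ^ 2 ≠ 0 := by
    intro h
    apply U.nsq
    refine ⟨r / p, ?_⟩
    field_simp
    linear_combination h
  have hβ : β = 0 := by
    have : β * (U.d * p ^ 2 - r ^ 2) = 0 := by linear_combination p * e2 - r * e1
    rcases mul_eq_zero.1 this with h | h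
    · exact h
    · exact absurd h hdet
  have hα : α = 0 := by
    rw [hβ, zero_mul, add_zero] at e1
    rcases mul_eq_zero.1 e1 with h | h
    · exact h
    · exact absurd h hp0
  rw [hα, hβ, zero_smul, zero_smul, add_zero, sf_zero_right] at k6
  exact zero_ne_one k6

end Cfsg.Agent.Lib.Helper43.SpU
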