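import Cfsg.Agent.Lib.Helper44.SpUTools

set_option autoImplicit false
set_option linter.unusedSimpArgs false
set_option linter.unusedVariables false
set_option linter.unusedSectionVars false

/-! S5665 keystone 566510 (K-SpU2-D' `exists_x'`), architect helper44. -/

namespace Cfsg.Agent.Lib.Helper43.SpU

open Matrix Cfsg.Agent.Lib.Helper18 Cfsg.Agent.Lib.Helper11.SpMax Cfsg.Agent.Lib.Helper44.SpU
open Cfsg.Agent.Lib.Helper43.UF

variable {F : Type*} [Field F] [Fintype F] {m : ℕ}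

local notation "V" => (Fin m ⊕ Fin m → F)
local notation "ff" => Cfsg.sympForm m F

theorem exists_x' (U : SData m F) (hm : 7 ≤ m) (p r : V) (hp : p ≠ 0)
    (hr : r ∉ Submodule.span F {p, U.δ *ᵥ p}) :
    ∃ x' : V, KI U x' ∧ ff x' p = ff x' r ∧ ff x' p ≠ 0 ∧ ff (U.δ *ᵥ x') p = 0 ∧
      ff (U.δ *ᵥ x') r = 0 := by
  classical
  have hrK : r ∉ KL (NU U) p := hr
  have hd := U.d_ne_zero
  set S : Finset V := {p, r, U.δ *ᵥ p - U.δ *ᵥ r} with hS
  have hcard : 2 * S.card + 3 ≤ 2 * m := by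
    have : S.card ≤ 3 := Finset.card_le_three
    omega
  have ha : U.δ *ᵥ p ∉ Submodule.span F (S : Set V) := by
    intro hmem
    rw [hS] at hmem
    simp only [Finset.coe_insert, Finset.coe_singleton] at hmem
    rw [Submodule.mem_span_insert] at hmem
    obtain ⟨α, z, hz, e1⟩ := hmem
    rw [Submodule.mem_span_insert] at hz
    obtain ⟨β, z', hz', e2⟩ := hz
    rw [Submodule.mem_span_singleton] at hz'
    obtain ⟨γ, rfl⟩ := hz'
    subst e2
    have h0 : α • p + (γ - 1) • (NU U).J p + β • r + (-γ) • (NU U).J r = 0 := by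
      rw [NU_J, NU_J]
      have : U.δ *ᵥ p - (α • p + (β • r + γ • (U.δ *ᵥ p - U.δ *ᵥ r))) = 0 := sub_eq_zero.2 e1
      rw [← neg_eq_zero, ← this]
      module
    obtain ⟨-, h1, -, h2⟩ := indep_of_notMem_KL (NU U) p r hp hrK _ _ _ _ h0
    have : γ = 0 := neg_eq_zero.1 h2
    rw [this] at h1
    norm_num at h1
  obtain ⟨c, hc, hcS, hca⟩ := exists_KI U hm S hcard (U.δ *ᵥ p) ha
  have h1 : ff p (U.δ *ᵥ c) = 0 := hcS p (by rw [hS]; simp)
  have h2 : ff r (U.δ *ᵥ c) = 0 := hcS r (by rw [hS]; simp)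
  have h3 : ff (U.δ *ᵥ p - U.δ *ᵥ r) (U.δ *ᵥ c) = 0 := hcS _ (by rw [hS]; simp)
  rw [sf_sub_left, U.ff_δδ, U.ff_δδ] at h3
  rw [U.ff_δδ] at hca
  have h4 : ff p c = ff r c := by
    have : U.d * (ff p c - ff r c) = 0 := by linear_combination -h3
    rcases mul_eq_zero.1 this with h | h
    · exact absurd h hd
    · exact sub_eq_zero.1 h
  have h5 : ff p c ≠ 0 := by
    intro h
    rw [h, mul_zero, neg_zero] at hca
    exact zero_ne_one hca
  refine ⟨c, hc, ?_, ?_, ?_, ?_⟩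
  · rw [sf_swap m c p, sf_swap m c r, h4]
  · rw [sf_swap m c p]
    exact neg_ne_zero.2 h5
  · rw [sf_swap, h1, neg_zero]
  · rw [sf_swap, h2, neg_zero]

end Cfsg.Agent.Lib.Helper43.SpU
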