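import Mathlib

set_option autoImplicit false

namespace Cfsg.Agent.Lib.Helper43

open Module

variable {F : Type*} [Field F] {V : Type*} [AddCommGroup V] [Module F V] [FiniteDimensional F V]

/-- A square-zero endomorphism `N` of an `n`-dimensional space with `ℓ`-dimensional range has an
adapted basis `(v_k, u_j, w_k)` with `N v_k = w_k`, `N u_j = 0`, `N w_k = 0`. -/
theorem exists_adapted_basis_of_sq_zero (N : V →ₗ[F] V) (hN : N ∘ₗ N = 0) {n ℓ : ℕ}
    (hn : finrank F V = n) (hℓ : finrank F (LinearMap.range N) = ℓ) :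
    ∃ b : Basis (Fin ℓ ⊕ (Fin (n - 2 * ℓ) ⊕ Fin ℓ)) F V,
      (∀ k, N (b (Sum.inl k)) = b (Sum.inr (Sum.inr k))) ∧ (∀ j, N (b (Sum.inr j)) = 0) := by
  classical
  have hRK : LinearMap.range N ≤ LinearMap.ker N := by
    rintro x ⟨y, rfl⟩
    rw [LinearMap.mem_ker, ← LinearMap.comp_apply, hN]; rfl
  have hrn : finrank F (LinearMap.range N) + finrank F (LinearMap.ker N) = n :=
    hn ▸ LinearMap.finrank_range_add_finrank_ker N
  have hle : finrank F (LinearMap.range N) ≤ finrank F (LinearMap.ker N) :=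
    Submodule.finrank_mono hRK
  obtain ⟨Q', hQ'⟩ := Submodule.exists_isCompl (LinearMap.range N)
  set Q : Submodule F V := Q' ⊓ LinearMap.ker N with hQ
  have hRQ_inf : LinearMap.range N ⊓ Q = ⊥ := by
    rw [hQ, ← inf_assoc, hQ'.inf_eq_bot, bot_inf_eq]
  have hRQ_sup : LinearMap.range N ⊔ Q = LinearMap.ker N := by
    rw [hQ, ← sup_inf_assoc_of_le _ hRK, hQ'.sup_eq_top, top_inf_eq]
  have hQdim : finrank F Q = n - 2 * ℓ := by
    have := Submodule.finrank_sup_add_finrank_inf_eq (LinearMap.range N) Q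
    rw [hRQ_sup, hRQ_inf, finrank_bot] at this
    omega
  let bR := finBasisOfFinrankEq F (LinearMap.range N) hℓ
  let bQ := finBasisOfFinrankEq F Q hQdim
  have hpre : ∀ k, ∃ v, N v = bR k := fun k => LinearMap.mem_range.1 (bR k).2
  choose v hv using hpre
  let w : Fin ℓ → V := fun k => (bR k : V)
  let u : Fin (n - 2 * ℓ) → V := fun j => (bQ j : V)
  have hw : LinearIndependent F w :=
    bR.linearIndependent.map' (LinearMap.range N).subtype (Submodule.ker_subtype _)
  have hu : LinearIndependent F u :=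
    bQ.linearIndependent.map' Q.subtype (Submodule.ker_subtype _)
  have hNv : N ∘ v = w := by funext k; exact hv k
  have hvli : LinearIndependent F v := LinearIndependent.of_comp N (by rw [hNv]; exact hw)
  have hspan_w : Submodule.span F (Set.range w) = LinearMap.range N := by
    have : Set.range w = (LinearMap.range N).subtype '' Set.range bR := by
      rw [← Set.range_comp]; rfl
    rw [this, Submodule.span_image, bR.span_eq, Submodule.map_subtype_top]
  have hspan_u : Submodule.span F (Set.range u) = Q := by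
    have : Set.range u = Q.subtype '' Set.range bQ := by
      rw [← Set.range_comp]; rfl
    rw [this, Submodule.span_image, bQ.span_eq, Submodule.map_subtype_top]
  have huw : LinearIndependent F (Sum.elim u w) := by
    apply LinearIndependent.sum_type hu hw
    rw [hspan_u, hspan_w, disjoint_iff, inf_comm]
    exact hRQ_inf
  have hspan_uw : Submodule.span F (Set.range (Sum.elim u w)) = LinearMap.ker N := by
    rw [Set.Sum.elim_range, Submodule.span_union, hspan_u, hspan_w, sup_comm]
    exact hRQ_sup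
  have hall : LinearIndependent F (Sum.elim v (Sum.elim u w)) := by
    apply LinearIndependent.sum_type hvli huw
    rw [hspan_uw, Submodule.disjoint_def]
    intro x hx hxK
    obtain ⟨c, rfl⟩ := (Submodule.mem_span_range_iff_exists_fun F).1 hx
    rw [LinearMap.mem_ker, map_sum] at hxK
    have hc : ∑ i, c i • w i = 0 := by
      rw [← hxK]
      apply Finset.sum_congr rfl
      intro i _
      rw [map_smul, ← hNv]; rfl
    have := Fintype.linearIndependent_iff.1 hw c hc
    simp [this]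
  have hcard : Fintype.card (Fin ℓ ⊕ (Fin (n - 2 * ℓ) ⊕ Fin ℓ)) = finrank F V := by
    simp only [Fintype.card_sum, Fintype.card_fin]
    omega
  refine ⟨basisOfLinearIndependentOfCardEqFinrank' _ hall hcard, ?_, ?_⟩
  · intro k
    rw [coe_basisOfLinearIndependentOfCardEqFinrank']
    exact hv k
  · intro j
    rw [coe_basisOfLinearIndependentOfCardEqFinrank']
    have : Sum.elim v (Sum.elim u w) (Sum.inr j) ∈ LinearMap.ker N := by
      rw [← hspan_uw]
      apply Submodule.subset_span
      exact ⟨j, rfl⟩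
    exact LinearMap.mem_ker.1 this

/-- Two square-zero endomorphisms of the same rank `ℓ ≥ 1` are intertwined by a linear
automorphism of determinant one, provided every element of the field is a square. -/
theorem exists_det_one_intertwining_of_sq_zero (hsq : ∀ x : F, IsSquare x)
    (N N' : V →ₗ[F] V) (hN : N ∘ₗ N = 0) (hN' : N' ∘ₗ N' = 0)
    (hrank : finrank F (LinearMap.range N) = finrank F (LinearMap.range N'))
    (hpos : 0 < finrank F (LinearMap.range N)) :
    ∃ T : V ≃ₗ[F] V, LinearMap.det (T : V →ₗ[F] V) = 1 ∧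
      (T : V →ₗ[F] V) ∘ₗ N = N' ∘ₗ (T : V →ₗ[F] V) := by
  classical
  obtain ⟨ℓ, hℓ⟩ : ∃ ℓ, finrank F (LinearMap.range N) = ℓ := ⟨_, rfl⟩
  rw [hℓ] at hpos hrank
  obtain ⟨b, hb1, hb2⟩ := exists_adapted_basis_of_sq_zero N hN (n := finrank F V)
    (ℓ := ℓ) rfl hℓ
  obtain ⟨b', hb1', hb2'⟩ := exists_adapted_basis_of_sq_zero N' hN' (n := finrank F V)
    (ℓ := ℓ) rfl hrank.symm
  set T₀ : V ≃ₗ[F] V := b.equiv b' (Equiv.refl _) with hT₀
  have hT₀b : ∀ i, T₀ (b i) = b' i := fun i => by rw [hT₀, Basis.equiv_apply]; rfl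
  have hint₀ : (T₀ : V →ₗ[F] V) ∘ₗ N = N' ∘ₗ (T₀ : V →ₗ[F] V) := by
    apply b.ext
    intro i
    simp only [LinearMap.comp_apply, LinearEquiv.coe_coe]
    rcases i with k | j
    · rw [hb1, hT₀b, hT₀b, hb1']
    · rw [hb2, hT₀b, hb2', map_zero]
  -- the scaling
  have hδ : IsUnit (LinearMap.det (T₀ : V →ₗ[F] V)) := LinearEquiv.isUnit_det' T₀
  obtain ⟨ε, hε⟩ := hsq (LinearMap.det (T₀ : V →ₗ[F] V))⁻¹
  have hδ0 : LinearMap.det (T₀ : V →ₗ[F] V) ≠ 0 := hδ.ne_zero
  have hε0 : ε ≠ 0 := by
    intro h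
    rw [h, mul_zero] at hε
    exact (inv_ne_zero hδ0) hε
  let k0 : Fin ℓ := ⟨0, hpos⟩
  let d : Fin ℓ ⊕ (Fin (finrank F V - 2 * ℓ) ⊕ Fin ℓ) → F :=
    Sum.elim (fun k => if k = k0 then ε else 1)
      (Sum.elim (fun _ => 1) (fun k => if k = k0 then ε else 1))
  have hd0 : ∀ i, d i ≠ 0 := by
    intro i
    rcases i with k | j | k
    · simp only [d, Sum.elim_inl]; split_ifs
      · exact hε0
      · exact one_ne_zero
    · simp only [d, Sum.elim_inr, Sum.elim_inl]; exact one_ne_zero
    · simp only [d, Sum.elim_inr]; split_ifs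
      · exact hε0
      · exact one_ne_zero
  have hdprod : ∏ i, d i = ε * ε := by
    simp only [d, Fintype.prod_sum_type, Sum.elim_inl, Sum.elim_inr, Finset.prod_const_one,
      one_mul, Finset.prod_ite_eq', Finset.mem_univ, if_true]
  let S : V →ₗ[F] V := Matrix.toLin b b (Matrix.diagonal d)
  have hSb : ∀ i, S (b i) = d i • b i := by
    intro i
    simp only [S, Matrix.toLin_self, Matrix.diagonal_apply]
    rw [Finset.sum_eq_single i]
    · simp
    · intro j _ hj; simp [hj]
    · intro h; exact absurd (Finset.mem_univ _) h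
  have hSdet : LinearMap.det S = ε * ε := by
    simp only [S, LinearMap.det_toLin, Matrix.det_diagonal, hdprod]
  have hSN : S ∘ₗ N = N ∘ₗ S := by
    apply b.ext
    intro i
    simp only [LinearMap.comp_apply]
    rcases i with k | j
    · rw [hb1, hSb, hSb, map_smul, hb1]
      simp only [d, Sum.elim_inl, Sum.elim_inr]
    · rw [hb2, map_zero, hSb, map_smul, hb2, smul_zero]
  have hSdet1 : LinearMap.det ((T₀ : V →ₗ[F] V) ∘ₗ S) = 1 := by
    rw [LinearMap.det_comp, hSdet, ← hε, mul_inv_cancel₀ hδ0]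
  let T₁ : V →ₗ[F] V := (T₀ : V →ₗ[F] V) ∘ₗ S
  have hT₁unit : IsUnit (LinearMap.det T₁) := by rw [hSdet1]; exact isUnit_one
  refine ⟨LinearMap.equivOfIsUnitDet hT₁unit, ?_, ?_⟩
  · rw [LinearMap.coe_equivOfIsUnitDet]; exact hSdet1
  · rw [LinearMap.coe_equivOfIsUnitDet]
    show ((T₀ : V →ₗ[F] V) ∘ₗ S) ∘ₗ N = N' ∘ₗ ((T₀ : V →ₗ[F] V) ∘ₗ S)
    rw [LinearMap.comp_assoc, hSN, ← LinearMap.comp_assoc, hint₀, LinearMap.comp_assoc]

end Cfsg.Agent.Lib.Helper43
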