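import Mathlib
import Cfsg.Prelude.Def_LieExceptional

/-! K-StO leaf A5 (254725) for S2547, architect helper48: a `(B, N)`-pair of a finite group `G`
restricts to a normal subgroup `H` with `H (B ∩ N) = G`. -/

set_option autoImplicit false
set_option linter.unusedSectionVars false
set_option linter.unusedVariables false

namespace Cfsg.Agent.Lib.Helper43.StO

open scoped Pointwise

section

variable {G : Type*} [Group G] (P : Cfsg.BNPair G) (H : Subgroup G) [H.Normal]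

/-- `T = B ∩ N` is normalised by `N` -/
theorem T_conj {n t : G} (hn : n ∈ P.N) (ht : t ∈ P.B ⊓ P.N) : n * t * n⁻¹ ∈ P.B ⊓ P.N :=
  ⟨P.conj_mem n hn t ht, P.N.mul_mem (P.N.mul_mem hn ht.2) (P.N.inv_mem hn)⟩

theorem T_conj' {n t : G} (hn : n ∈ P.N) (ht : t ∈ P.B ⊓ P.N) : n⁻¹ * t * n ∈ P.B ⊓ P.N := by
  have := T_conj P (P.N.inv_mem hn) ht
  rwa [inv_inv] at this

theorem exists_decomp (hHT : H ⊔ (P.B ⊓ P.N) = ⊤) (g : G) :
    ∃ h ∈ H, ∃ t ∈ P.B ⊓ P.N, g = h * t := by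
  have h1 : g ∈ (↑(H ⊔ (P.B ⊓ P.N)) : Set G) := by rw [hHT]; exact Subgroup.mem_top g
  rw [Subgroup.normal_mul, Set.mem_mul] at h1
  obtain ⟨h, hh, t, ht, e⟩ := h1
  exact ⟨h, hh, t, ht, e.symm⟩

theorem decompB (hHT : H ⊔ (P.B ⊓ P.N) = ⊤) {b : G} (hb : b ∈ P.B) :
    ∃ h ∈ P.B ⊓ H, ∃ t ∈ P.B ⊓ P.N, b = h * t := by
  obtain ⟨h, hh, t, ht, e⟩ := exists_decomp P H hHT b
  refine ⟨h, ⟨?_, hh⟩, t, ht, e⟩
  have : h = b * t⁻¹ := by rw [e]; group
  rw [this]
  exact P.B.mul_mem hb (P.B.inv_mem ht.1)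

theorem decompN (hHT : H ⊔ (P.B ⊓ P.N) = ⊤) {n : G} (hn : n ∈ P.N) :
    ∃ h ∈ P.N ⊓ H, ∃ t ∈ P.B ⊓ P.N, n = h * t := by
  obtain ⟨h, hh, t, ht, e⟩ := exists_decomp P H hHT n
  refine ⟨h, ⟨?_, hh⟩, t, ht, e⟩
  have : h = n * t⁻¹ := by rw [e]; group
  rw [this]
  exact P.N.mul_mem hn (P.N.inv_mem ht.2)

/-- `H ≤ (B ∩ H) ⊔ (N ∩ H)` -/
theorem H_le_sup (hHT : H ⊔ (P.B ⊓ P.N) = ⊤) : H ≤ (P.B ⊓ H) ⊔ (P.N ⊓ H) := by
  set K : Subgroup G := (P.B ⊓ H) ⊔ (P.N ⊓ H) with hK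
  set T : Subgroup G := P.B ⊓ P.N with hT
  have hKH : K ≤ H := sup_le inf_le_right inf_le_right
  -- `T` normalises `K`
  have hconj : ∀ t ∈ T, ∀ k ∈ K, t * k * t⁻¹ ∈ K := by
    intro t ht k hk
    have h1 : K.map (MulAut.conj t).toMonoidHom ≤ K := by
      rw [hK, Subgroup.map_sup]
      apply sup_le
      · refine le_trans ?_ le_sup_left
        rintro _ ⟨x, hx, rfl⟩
        refine ⟨?_, ?_⟩
        · exact P.B.mul_mem (P.B.mul_mem ht.1 hx.1) (P.B.inv_mem ht.1)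
        · exact Subgroup.Normal.conj_mem inferInstance x hx.2 t
      · refine le_trans ?_ le_sup_right
        rintro _ ⟨x, hx, rfl⟩
        refine ⟨?_, ?_⟩
        · exact P.N.mul_mem (P.N.mul_mem ht.2 hx.1) (P.N.inv_mem ht.2)
        · exact Subgroup.Normal.conj_mem inferInstance x hx.2 t
    exact h1 ⟨k, hk, rfl⟩
  have hnorm : T ≤ Subgroup.normalizer (K : Set G) := by
    intro t ht
    rw [Subgroup.mem_normalizer_iff]
    intro k
    constructor
    · exact hconj t ht k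
    · intro h
      have := hconj t⁻¹ (T.inv_mem ht) _ h
      have e : t⁻¹ * (t * k * t⁻¹) * t⁻¹⁻¹ = k := by group
      rwa [e] at this
  have hset : (↑(K ⊔ T) : Set G) = (K : Set G) * (T : Set G) :=
    Subgroup.coe_mul_of_right_le_normalizer_left K T hnorm
  have htop : K ⊔ T = ⊤ := by
    rw [eq_top_iff, ← P.sup_eq_top]
    apply sup_le
    · intro b hb
      obtain ⟨h, hh, t, ht, e⟩ := decompB P H hHT hb
      rw [e]
      exact Subgroup.mul_mem _ (Subgroup.mem_sup_left (Subgroup.mem_sup_left hh))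
        (Subgroup.mem_sup_right ht)
    · intro n hn
      obtain ⟨h, hh, t, ht, e⟩ := decompN P H hHT hn
      rw [e]
      exact Subgroup.mul_mem _ (Subgroup.mem_sup_left (Subgroup.mem_sup_right hh))
        (Subgroup.mem_sup_right ht)
  intro h hh
  have h1 : h ∈ (↑(K ⊔ T) : Set G) := by rw [htop]; exact Subgroup.mem_top h
  rw [hset, Set.mem_mul] at h1
  obtain ⟨k, hk, t, ht, e⟩ := h1
  have htH : t ∈ H := by
    have : t = k⁻¹ * h := by rw [← e]; group
    rw [this]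
    exact H.mul_mem (H.inv_mem (hKH hk)) hh
  rw [← e]
  exact K.mul_mem hk (Subgroup.mem_sup_left ⟨ht.1, htH⟩)

/-- `N ∩ H ≤ ⟨s τ_s⟩ (T ∩ H)` -/
theorem N_inf_le (τ : G → G) (hτT : ∀ s ∈ P.S, τ s ∈ P.B ⊓ P.N) (hτH : ∀ s ∈ P.S, s * τ s ∈ H)
    {n : G} (hn : n ∈ P.N) (hnH : n ∈ H) :
    ∃ c ∈ Subgroup.closure {x : G | ∃ s ∈ P.S, x = s * τ s}, ∃ t ∈ P.B ⊓ P.N, t ∈ H ∧ n = c * t := by
  set C : Subgroup G := Subgroup.closure {x : G | ∃ s ∈ P.S, x = s * τ s} with hC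
  set T : Subgroup G := P.B ⊓ P.N with hT
  have hCN : C ≤ P.N := by
    rw [hC, Subgroup.closure_le]
    rintro _ ⟨s, hs, rfl⟩
    exact P.N.mul_mem (P.subset hs) (hτT s hs).2
  have hCH : C ≤ H := by
    rw [hC, Subgroup.closure_le]
    rintro _ ⟨s, hs, rfl⟩
    exact hτH s hs
  have hnorm : C ≤ Subgroup.normalizer (T : Set G) := by
    intro c hc
    rw [Subgroup.mem_normalizer_iff]
    intro t
    constructor
    · intro ht
      exact T_conj P (hCN hc) ht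
    · intro h
      have := T_conj' P (hCN hc) h
      have e : c⁻¹ * (c * t * c⁻¹) * c = t := by group
      rwa [e] at this
  have hset : (↑(C ⊔ T) : Set G) = (C : Set G) * (T : Set G) :=
    Subgroup.coe_mul_of_left_le_normalizer_right C T hnorm
  have hN : P.N ≤ C ⊔ T := by
    rw [← P.closure_sup]
    apply sup_le
    · rw [Subgroup.closure_le]
      intro s hs
      have e : s = (s * τ s) * (τ s)⁻¹ := by group
      show s ∈ C ⊔ T
      rw [e]
      exact Subgroup.mul_mem _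
        (Subgroup.mem_sup_left (Subgroup.subset_closure ⟨s, hs, rfl⟩))
        (Subgroup.mem_sup_right (T.inv_mem (hτT s hs)))
    · exact le_sup_right
  have h1 : n ∈ (↑(C ⊔ T) : Set G) := hN hn
  rw [hset, Set.mem_mul] at h1
  obtain ⟨c, hc, t, ht, e⟩ := h1
  refine ⟨c, hc, t, ht, ?_, e.symm⟩
  have : t = c⁻¹ * n := by rw [← e]; group
  rw [this]
  exact H.mul_mem (H.inv_mem (hCH hc)) hnH

end

theorem exists_bnPair_subgroupOf {G : Type*} [Group G] [Finite G] (P : Cfsg.BNPair G)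
    (H : Subgroup G) [H.Normal] (hHT : H ⊔ (P.B ⊓ P.N) = ⊤) :
    ∃ P' : Cfsg.BNPair ↥H, P'.B = P.B.subgroupOf H ∧ P'.N = P.N.subgroupOf H := by
  classical
  -- the correcting elements
  have hex : ∀ s : G, ∃ t : G, s ∈ P.S → (t ∈ P.B ⊓ P.N ∧ s * t ∈ H) := by
    intro s
    by_cases hs : s ∈ P.S
    · obtain ⟨h, hh, u, hu, e⟩ := exists_decomp P H hHT s
      refine ⟨u⁻¹, fun _ => ⟨(P.B ⊓ P.N).inv_mem hu, ?_⟩⟩
      have : s * u⁻¹ = h := by rw [e]; group
      rw [this]; exact hh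
    · exact ⟨1, fun h => absurd h hs⟩
  choose τ hτ using hex
  have hτT : ∀ s ∈ P.S, τ s ∈ P.B ⊓ P.N := fun s hs => (hτ s hs).1
  have hτH : ∀ s ∈ P.S, s * τ s ∈ H := fun s hs => (hτ s hs).2
  have hxN : ∀ s ∈ P.S, s * τ s ∈ P.N := fun s hs => P.N.mul_mem (P.subset hs) (hτT s hs).2
  set S' : Set ↥H := {x | ∃ s ∈ P.S, (x : G) = s * τ s} with hS'
  refine ⟨{
    B := P.B.subgroupOf H
    N := P.N.subgroupOf H
    S := S'
    sup_eq_top := ?_
    conj_mem := ?_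
    subset := ?_
    sq_mem := ?_
    inj := ?_
    closure_sup := ?_
    mul_mem_union := ?_
    conj_ne := ?_ }, rfl, rfl⟩
  · -- sup_eq_top
    rw [eq_top_iff]
    intro x _
    have h1 : (x : G) ∈ (P.B ⊓ H) ⊔ (P.N ⊓ H) := H_le_sup P H hHT x.2
    have h2 : (P.B.subgroupOf H ⊔ P.N.subgroupOf H).map H.subtype = (P.B ⊓ H) ⊔ (P.N ⊓ H) := by
      rw [Subgroup.map_sup, Subgroup.subgroupOf_map_subtype, Subgroup.subgroupOf_map_subtype]
    rw [← h2] at h1
    obtain ⟨y, hy, hyx⟩ := h1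
    have : y = x := Subtype.ext hyx
    rwa [this] at hy
  · -- conj_mem
    intro n hn t ht
    rw [Subgroup.mem_subgroupOf] at hn
    rw [Subgroup.mem_inf, Subgroup.mem_subgroupOf, Subgroup.mem_subgroupOf] at ht
    rw [Subgroup.mem_subgroupOf]
    exact P.conj_mem _ hn _ ⟨ht.1, ht.2⟩
  · -- subset
    rintro x ⟨s, hs, hx⟩
    show x ∈ P.N.subgroupOf H
    rw [Subgroup.mem_subgroupOf, hx]
    exact hxN s hs
  · -- sq_mem
    rintro x ⟨s, hs, hx⟩
    rw [Subgroup.mem_subgroupOf]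
    have e : ((x * x : ↥H) : G) = (s * s) * (s⁻¹ * τ s * s) * τ s := by
      rw [Subgroup.coe_mul, hx]; group
    rw [e]
    exact P.B.mul_mem (P.B.mul_mem (P.sq_mem s hs) (T_conj' P (P.subset hs) (hτT s hs)).1)
      (hτT s hs).1
  · -- inj
    rintro x ⟨s, hs, hx⟩ x' ⟨s', hs', hx'⟩ h
    rw [Subgroup.mem_subgroupOf] at h
    have e : s⁻¹ * s' = τ s * ((x⁻¹ * x' : ↥H) : G) * (τ s')⁻¹ := by
      rw [Subgroup.coe_mul, Subgroup.coe_inv, hx, hx']; group
    have h1 : s⁻¹ * s' ∈ P.B := by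
      rw [e]
      exact P.B.mul_mem (P.B.mul_mem (hτT s hs).1 h) (P.B.inv_mem (hτT s' hs').1)
    have h2 : s = s' := P.inj s hs s' hs' h1
    apply Subtype.ext
    rw [hx, hx', h2]
  · -- closure_sup
    apply le_antisymm
    · apply sup_le
      · rw [Subgroup.closure_le]
        rintro x ⟨s, hs, hx⟩
        show x ∈ P.N.subgroupOf H
        rw [Subgroup.mem_subgroupOf, hx]
        exact hxN s hs
      · exact inf_le_right
    · intro x hx
      rw [Subgroup.mem_subgroupOf] at hx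
      obtain ⟨c, hc, t, ht, htH, e⟩ := N_inf_le P H τ hτT hτH hx x.2
      -- lift `c`
      have himg : (Subgroup.closure S').map H.subtype =
          Subgroup.closure {y : G | ∃ s ∈ P.S, y = s * τ s} := by
        rw [MonoidHom.map_closure]
        congr 1
        ext y
        constructor
        · rintro ⟨z, ⟨s, hs, hz⟩, rfl⟩
          exact ⟨s, hs, hz⟩
        · rintro ⟨s, hs, rfl⟩
          exact ⟨⟨s * τ s, hτH s hs⟩, ⟨s, hs, rfl⟩, rfl⟩
      rw [← himg] at hc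
      obtain ⟨c', hc', hcc⟩ := hc
      have hxe : x = c' * ⟨t, htH⟩ := by
        apply Subtype.ext
        rw [Subgroup.coe_mul, e]
        show c * t = (H.subtype c') * t
        rw [hcc]
      rw [hxe]
      refine Subgroup.mul_mem _ (Subgroup.mem_sup_left hc') (Subgroup.mem_sup_right ?_)
      rw [Subgroup.mem_inf, Subgroup.mem_subgroupOf, Subgroup.mem_subgroupOf]
      exact ⟨ht.1, ht.2⟩
  · -- mul_mem_union
    rintro x ⟨s, hs, hx⟩ n hn b hb
    rw [Subgroup.mem_subgroupOf] at hn hb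
    have hs_N : s ∈ P.N := P.subset hs
    have hτb : τ s * (b : G) ∈ P.B := P.B.mul_mem (hτT s hs).1 hb
    have key := P.mul_mem_union s hs (n : G) hn (τ s * (b : G)) hτb
    have hxbn : ((x * b * n : ↥H) : G) = s * (τ s * (b : G)) * (n : G) := by
      rw [Subgroup.coe_mul, Subgroup.coe_mul, hx]; group
    rcases key with h1 | h1
    · left
      obtain ⟨b₁, hb₁, b₂, hb₂, e⟩ := DoubleCoset.mem_doubleCoset.1 h1
      obtain ⟨h₁, hh₁, u₁, hu₁, e₁⟩ := decompB P H hHT hb₁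
      -- `x n ∈ N`
      have hxn_N : (x : G) * (n : G) ∈ P.N := by
        rw [hx]; exact P.N.mul_mem (hxN s hs) hn
      set c₂ : G := ((x : G) * (n : G))⁻¹ * u₁ * ((x : G) * (n : G)) *
        ((n : G)⁻¹ * (τ s)⁻¹ * (n : G)) * b₂ with hc₂
      have hc₂B : c₂ ∈ P.B := by
        rw [hc₂]
        refine P.B.mul_mem (P.B.mul_mem (T_conj' P hxn_N hu₁).1 ?_) hb₂
        exact (T_conj' P hn ((P.B ⊓ P.N).inv_mem (hτT s hs))).1
      have heq : ((x * b * n : ↥H) : G) = h₁ * ((x : G) * (n : G)) * c₂ := by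
        rw [hxbn, e, e₁, hc₂, hx]; group
      have hc₂H : c₂ ∈ H := by
        have : c₂ = ((x : G) * (n : G))⁻¹ * h₁⁻¹ * ((x * b * n : ↥H) : G) := by
          rw [heq]; group
        rw [this]
        exact H.mul_mem (H.mul_mem (H.inv_mem (H.mul_mem x.2 n.2)) (H.inv_mem hh₁.2)) (x * b * n).2
      refine DoubleCoset.mem_doubleCoset.2 ⟨⟨h₁, hh₁.2⟩, ?_, ⟨c₂, hc₂H⟩, ?_, ?_⟩
      · show (⟨h₁, hh₁.2⟩ : ↥H) ∈ P.B.subgroupOf H
        rw [Subgroup.mem_subgroupOf]; exact hh₁.1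
      · show (⟨c₂, hc₂H⟩ : ↥H) ∈ P.B.subgroupOf H
        rw [Subgroup.mem_subgroupOf]; exact hc₂B
      · apply Subtype.ext
        rw [heq]
        rfl
    · right
      obtain ⟨b₁, hb₁, b₂, hb₂, e⟩ := DoubleCoset.mem_doubleCoset.1 h1
      obtain ⟨h₁, hh₁, u₁, hu₁, e₁⟩ := decompB P H hHT hb₁
      set c₂ : G := (n : G)⁻¹ * u₁ * (n : G) * b₂ with hc₂
      have hc₂B : c₂ ∈ P.B := by
        rw [hc₂]
        exact P.B.mul_mem (T_conj' P hn hu₁).1 hb₂
      have heq : ((x * b * n : ↥H) : G) = h₁ * (n : G) * c₂ := by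
        rw [hxbn, e, e₁, hc₂]; group
      have hc₂H : c₂ ∈ H := by
        have : c₂ = (n : G)⁻¹ * h₁⁻¹ * ((x * b * n : ↥H) : G) := by
          rw [heq]; group
        rw [this]
        exact H.mul_mem (H.mul_mem (H.inv_mem n.2) (H.inv_mem hh₁.2)) (x * b * n).2
      refine DoubleCoset.mem_doubleCoset.2 ⟨⟨h₁, hh₁.2⟩, ?_, ⟨c₂, hc₂H⟩, ?_, ?_⟩
      · show (⟨h₁, hh₁.2⟩ : ↥H) ∈ P.B.subgroupOf H
        rw [Subgroup.mem_subgroupOf]; exact hh₁.1
      · show (⟨c₂, hc₂H⟩ : ↥H) ∈ P.B.subgroupOf H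
        rw [Subgroup.mem_subgroupOf]; exact hc₂B
      · apply Subtype.ext
        rw [heq]
        rfl
  · -- conj_ne
    rintro x ⟨s, hs, hx⟩ heq
    apply P.conj_ne s hs
    have hs_N : s ∈ P.N := P.subset hs
    have hx_N : (x : G) ∈ P.N := by rw [hx]; exact hxN s hs
    -- `s B s ⊆ B`
    have hsub : (fun b : G => s * b * s) '' (P.B : Set G) ⊆ (P.B : Set G) := by
      rintro _ ⟨b, hb, rfl⟩
      obtain ⟨h, hh, u, hu, e⟩ := decompB P H hHT hb
      -- `h' = τ⁻¹ h τ ∈ B ∩ H`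
      set h' : G := (τ s)⁻¹ * h * τ s with hh'
      have hh'B : h' ∈ P.B :=
        P.B.mul_mem (P.B.mul_mem (P.B.inv_mem (hτT s hs).1) hh.1) (hτT s hs).1
      have hh'H : h' ∈ H := by
        have := Subgroup.Normal.conj_mem (inferInstance : H.Normal) h hh.2 (τ s)⁻¹
        rwa [inv_inv] at this
      -- `x h' x ∈ B`
      have h1 : (x : G) * h' * (x : G) ∈ P.B := by
        have hmem : (x * ⟨h', hh'H⟩ * x : ↥H) ∈ (fun b : ↥H => x * b * x) '' (P.B.subgroupOf H : Set ↥H) :=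
          ⟨⟨h', hh'H⟩, by
            show (⟨h', hh'H⟩ : ↥H) ∈ P.B.subgroupOf H
            rw [Subgroup.mem_subgroupOf]; exact hh'B, rfl⟩
        rw [heq] at hmem
        have := (Subgroup.mem_subgroupOf.1 hmem)
        simpa using this
      have e2 : s * b * s = ((x : G) * h' * (x : G)) * ((x : G)⁻¹ * ((τ s)⁻¹ * u) * (x : G)) * (τ s)⁻¹ := by
        rw [e, hh', hx]; group
      show s * b * s ∈ P.B
      rw [e2]
      refine P.B.mul_mem (P.B.mul_mem h1 ?_) (P.B.inv_mem (hτT s hs).1)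
      exact (T_conj' P hx_N ((P.B ⊓ P.N).mul_mem ((P.B ⊓ P.N).inv_mem (hτT s hs)) hu)).1
    -- finiteness gives equality
    have hfin : (P.B : Set G).Finite := Set.toFinite _
    have hinj : Function.Injective (fun b : G => s * b * s) := by
      intro a b hab
      have h0 : s * a * s = s * b * s := hab
      exact mul_left_cancel (mul_right_cancel h0)
    have hcard : (P.B : Set G).ncard ≤ ((fun b : G => s * b * s) '' (P.B : Set G)).ncard := by
      rw [Set.ncard_image_of_injective _ hinj]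
    exact Set.eq_of_subset_of_ncard_le hsub hcard hfin

end Cfsg.Agent.Lib.Helper43.StO
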