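import Mathlib

set_option autoImplicit false

/-! Orthonormal / symplectic families for (possibly degenerate) symmetric bilinear forms over a
perfect field of characteristic two. -/

namespace Cfsg.Agent.Lib.Helper43

open Module

variable {F : Type*} [Field F]
variable {V : Type*} [AddCommGroup V] [Module F V]

/-- Symplectic family exhausting `W` modulo its radical, for a form alternating on `W`. -/
theorem exists_symplectic_family [FiniteDimensional F V]
    (B : LinearMap.BilinForm F V) (hB : ∀ u v, B u v = B v u) :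
    ∀ (d : ℕ) (W : Submodule F V), finrank F W = d → (∀ v ∈ W, B v v = 0) →
      ∃ (r : ℕ) (x y : Fin r → V), (∀ i, x i ∈ W) ∧ (∀ i, y i ∈ W) ∧
        (∀ i j, B (x i) (y j) = if i = j then 1 else 0) ∧
        (∀ i j, B (x i) (x j) = 0) ∧ (∀ i j, B (y i) (y j) = 0) ∧
        (∀ w ∈ W, (∀ i, B w (x i) = 0) → (∀ i, B w (y i) = 0) → ∀ w' ∈ W, B w' w = 0) := by
  intro d
  induction d using Nat.strong_induction_on with
  | _ d ih =>
    intro W hWd hWalt
    by_cases hW : ∃ u ∈ W, ∃ v ∈ W, B u v ≠ 0
    · obtain ⟨x0, hx0, y0, hy0, hxy0⟩ := hW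
      set y1 := (B x0 y0)⁻¹ • y0 with hy1
      have hy1W : y1 ∈ W := W.smul_mem _ hy0
      have hxy : B x0 y1 = 1 := by
        rw [hy1, map_smul, smul_eq_mul, inv_mul_cancel₀ hxy0]
      have hyx : B y1 x0 = 1 := by rw [hB, hxy]
      set W' : Submodule F V := W ⊓ (LinearMap.ker (LinearMap.flip B x0) ⊓ LinearMap.ker (LinearMap.flip B y1)) with hW'
      have hmemW' : ∀ z, z ∈ W' ↔ z ∈ W ∧ B z x0 = 0 ∧ B z y1 = 0 := by
        intro z
        rw [hW', Submodule.mem_inf, Submodule.mem_inf, LinearMap.mem_ker, LinearMap.mem_ker,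
          LinearMap.flip_apply, LinearMap.flip_apply]
      have hlt : W' < W := by
        refine lt_of_le_of_ne inf_le_left ?_
        intro heq
        have : x0 ∈ W' := heq ▸ hx0
        rw [hmemW'] at this
        rw [hxy] at this
        exact one_ne_zero this.2.2
      have hfr : finrank F W' < d := by
        rw [← hWd]; exact Submodule.finrank_lt_finrank_of_lt hlt
      obtain ⟨r, x, y, hx, hy, hG, hxx, hyy, hrad⟩ :=
        ih _ hfr W' rfl (fun v hv => hWalt v ((hmemW' v).1 hv).1)
      have hx0x : ∀ j, B x0 (x j) = 0 := fun j => by rw [hB]; exact ((hmemW' _).1 (hx j)).2.1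
      have hx0y : ∀ j, B x0 (y j) = 0 := fun j => by rw [hB]; exact ((hmemW' _).1 (hy j)).2.1
      have hy1x : ∀ j, B y1 (x j) = 0 := fun j => by rw [hB]; exact ((hmemW' _).1 (hx j)).2.2
      have hy1y : ∀ j, B y1 (y j) = 0 := fun j => by rw [hB]; exact ((hmemW' _).1 (hy j)).2.2
      refine ⟨r + 1, Fin.cons x0 x, Fin.cons y1 y, ?_, ?_, ?_, ?_, ?_, ?_⟩
      · intro i
        refine Fin.cases ?_ (fun i => ?_) i
        · simpa using hx0
        · simpa using ((hmemW' _).1 (hx i)).1
      · intro i
        refine Fin.cases ?_ (fun i => ?_) i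
        · simpa using hy1W
        · simpa using ((hmemW' _).1 (hy i)).1
      · intro i j
        refine Fin.cases ?_ (fun i => ?_) i <;> refine Fin.cases ?_ (fun j => ?_) j
        · simp [hxy]
        · simp only [Fin.cons_zero, Fin.cons_succ, hx0y]
          rw [if_neg (Fin.succ_ne_zero j).symm]
        · simp only [Fin.cons_zero, Fin.cons_succ, ((hmemW' _).1 (hx i)).2.2]
          rw [if_neg (Fin.succ_ne_zero i)]
        · simp only [Fin.cons_succ, hG, Fin.succ_inj]
      · intro i j
        refine Fin.cases ?_ (fun i => ?_) i <;> refine Fin.cases ?_ (fun j => ?_) j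
        · simp [hWalt x0 hx0]
        · simp only [Fin.cons_zero, Fin.cons_succ, hx0x]
        · simp only [Fin.cons_zero, Fin.cons_succ, ((hmemW' _).1 (hx i)).2.1]
        · simp only [Fin.cons_succ, hxx]
      · intro i j
        refine Fin.cases ?_ (fun i => ?_) i <;> refine Fin.cases ?_ (fun j => ?_) j
        · simp [hWalt y1 hy1W]
        · simp only [Fin.cons_zero, Fin.cons_succ, hy1y]
        · simp only [Fin.cons_zero, Fin.cons_succ, ((hmemW' _).1 (hy i)).2.2]
        · simp only [Fin.cons_succ, hyy]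
      · intro w hw hwx hwy w' hw'
        have hwx0 : B w x0 = 0 := by simpa using hwx 0
        have hwy1 : B w y1 = 0 := by simpa using hwy 0
        have hwW' : w ∈ W' := (hmemW' w).2 ⟨hw, hwx0, hwy1⟩
        have hwx' : ∀ i, B w (x i) = 0 := by
          intro i; simpa using hwx i.succ
        have hwy' : ∀ i, B w (y i) = 0 := by
          intro i; simpa using hwy i.succ
        have h3 := hrad w hwW' hwx' hwy'
        set w'' := w' - (B w' y1) • x0 - (B w' x0) • y1 with hw''
        have hw''W : w'' ∈ W' := by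
          rw [hmemW']
          refine ⟨W.sub_mem (W.sub_mem hw' (W.smul_mem _ hx0)) (W.smul_mem _ hy1W), ?_, ?_⟩
          · rw [hw'']
            simp only [map_sub, LinearMap.sub_apply, map_smul, LinearMap.smul_apply, smul_eq_mul,
              hWalt x0 hx0, hyx]
            ring
          · rw [hw'']
            simp only [map_sub, LinearMap.sub_apply, map_smul, LinearMap.smul_apply, smul_eq_mul,
              hWalt y1 hy1W, hxy]
            ring
        have h4 := h3 w'' hw''W
        have hx0w : B x0 w = 0 := by rw [hB, hwx0]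
        have hy1w : B y1 w = 0 := by rw [hB, hwy1]
        have h5 : w' = w'' + (B w' y1) • x0 + (B w' x0) • y1 := by rw [hw'']; abel
        rw [h5]
        simp only [map_add, LinearMap.add_apply, map_smul, LinearMap.smul_apply, h4, hx0w, hy1w,
          smul_zero, add_zero]
    · push Not at hW
      refine ⟨0, Fin.elim0, Fin.elim0, fun i => i.elim0, fun i => i.elim0, fun i => i.elim0,
        fun i => i.elim0, fun i => i.elim0, ?_⟩
      intro w hw _ _ w' hw'
      exact hW w' hw' w hw

variable [CharP F 2]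

/-- choice of a good first vector for the orthonormalisation -/
theorem exists_good_unit_vector (hsq : ∀ a : F, IsSquare a)
    (B : LinearMap.BilinForm F V) (hB : ∀ u v, B u v = B v u)
    (W : Submodule F V) (hW : ∃ v ∈ W, B v v ≠ 0) :
    ∃ v ∈ W, B v v = 1 ∧ ((∃ y ∈ W, B y v = 0 ∧ B y y ≠ 0) ∨
      (∀ x ∈ W, ∀ x' ∈ W, B x v = 0 → B x' v = 0 → B x x' = 0)) := by
  obtain ⟨v0, hv0, hvv0⟩ := hW
  obtain ⟨c, hc⟩ := hsq (B v0 v0)⁻¹
  set v := c • v0 with hv
  have hvW : v ∈ W := W.smul_mem _ hv0
  have hvv : B v v = 1 := by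
    simp only [hv, map_smul, LinearMap.smul_apply, smul_eq_mul]
    rw [← mul_assoc, ← hc, inv_mul_cancel₀ hvv0]
  clear_value v
  by_cases h1 : ∃ y ∈ W, B y v = 0 ∧ B y y ≠ 0
  · exact ⟨v, hvW, hvv, Or.inl h1⟩
  push Not at h1
  by_cases h2 : ∀ x ∈ W, ∀ x' ∈ W, B x v = 0 → B x' v = 0 → B x x' = 0
  · exact ⟨v, hvW, hvv, Or.inr h2⟩
  push Not at h2
  obtain ⟨x, hx, x0, hx0, hxv, hx0v, hxx0⟩ := h2
  set x' := (B x x0)⁻¹ • x0 with hx'
  have hx'W : x' ∈ W := W.smul_mem _ hx0
  have hx'v : B x' v = 0 := by
    rw [hx', map_smul, LinearMap.smul_apply, hx0v, smul_zero]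
  have hxx' : B x x' = 1 := by rw [hx', map_smul, smul_eq_mul, inv_mul_cancel₀ hxx0]
  have hxx : B x x = 0 := h1 x hx hxv
  have hx'x' : B x' x' = 0 := h1 x' hx'W hx'v
  have hvx : B v x = 0 := by rw [hB, hxv]
  have hvx' : B v x' = 0 := by rw [hB, hx'v]
  have hx'x : B x' x = 1 := by rw [hB, hxx']
  have h11 : (1 : F) + 1 = 0 := CharTwo.add_self_eq_zero _
  refine ⟨v + x, W.add_mem hvW hx, ?_, Or.inl ⟨v + x', W.add_mem hvW hx'W, ?_, ?_⟩⟩
  · simp only [map_add, LinearMap.add_apply, hvv, hvx, hxv, hxx, add_zero]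
  · simp only [map_add, LinearMap.add_apply, hvv, hvx, hx'v, hx'x, add_zero]
    linear_combination h11
  · simp only [map_add, LinearMap.add_apply, hvv, hvx', hx'v, hx'x', add_zero]
    exact one_ne_zero

/-- Orthonormal family exhausting `W` modulo its radical, for a symmetric form over a perfect field
of characteristic two which is either non-alternating or zero on `W`. -/
theorem exists_orthonormal_family_sym [FiniteDimensional F V] (hsq : ∀ a : F, IsSquare a)
    (B : LinearMap.BilinForm F V) (hB : ∀ u v, B u v = B v u) :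
    ∀ (d : ℕ) (W : Submodule F V), finrank F W = d →
      ((∃ v ∈ W, B v v ≠ 0) ∨ (∀ u ∈ W, ∀ v ∈ W, B u v = 0)) →
      ∃ (k : ℕ) (u : Fin k → V), (∀ i, u i ∈ W) ∧
        (∀ i j, B (u i) (u j) = if i = j then 1 else 0) ∧
        (∀ w ∈ W, (∀ i, B w (u i) = 0) → ∀ w' ∈ W, B w' w = 0) := by
  intro d
  induction d using Nat.strong_induction_on with
  | _ d ih =>
    intro W hWd hW
    rcases hW with hW | hW
    · obtain ⟨v, hv, hvv, hgood⟩ := exists_good_unit_vector hsq B hB W hW
      set W' : Submodule F V := W ⊓ LinearMap.ker (LinearMap.flip B v) with hW'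
      have hmemW' : ∀ x, x ∈ W' ↔ x ∈ W ∧ B x v = 0 := by
        intro x
        rw [hW', Submodule.mem_inf, LinearMap.mem_ker, LinearMap.flip_apply]
      have hlt : W' < W := by
        refine lt_of_le_of_ne inf_le_left ?_
        intro heq
        have : v ∈ W' := heq ▸ hv
        rw [hmemW'] at this
        rw [hvv] at this
        exact one_ne_zero this.2
      have hfr : finrank F W' < d := by
        rw [← hWd]; exact Submodule.finrank_lt_finrank_of_lt hlt
      have hW'hyp : (∃ y ∈ W', B y y ≠ 0) ∨ (∀ u ∈ W', ∀ v ∈ W', B u v = 0) := by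
        rcases hgood with ⟨y, hy, hyv, hyy⟩ | h2
        · exact Or.inl ⟨y, (hmemW' y).2 ⟨hy, hyv⟩, hyy⟩
        · right
          intro a ha b hb
          exact h2 a ((hmemW' a).1 ha).1 b ((hmemW' b).1 hb).1 ((hmemW' a).1 ha).2
            ((hmemW' b).1 hb).2
      obtain ⟨k, u, hu, hG, hrad⟩ := ih _ hfr W' rfl hW'hyp
      have hvu : ∀ j, B v (u j) = 0 := by
        intro j
        rw [hB, ((hmemW' _).1 (hu j)).2]
      refine ⟨k + 1, Fin.cons v u, ?_, ?_, ?_⟩
      · intro i
        refine Fin.cases ?_ (fun i => ?_) i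
        · simpa using hv
        · simpa using ((hmemW' _).1 (hu i)).1
      · intro i j
        refine Fin.cases ?_ (fun i => ?_) i <;> refine Fin.cases ?_ (fun j => ?_) j
        · simp [hvv]
        · simp only [Fin.cons_zero, Fin.cons_succ, hvu]
          rw [if_neg (Fin.succ_ne_zero j).symm]
        · simp only [Fin.cons_zero, Fin.cons_succ, ((hmemW' _).1 (hu i)).2]
          rw [if_neg (Fin.succ_ne_zero i)]
        · simp only [Fin.cons_succ, hG, Fin.succ_inj]
      · intro w hw hwu w' hw'
        have hwv : B w v = 0 := by simpa using hwu 0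
        have hwW' : w ∈ W' := (hmemW' w).2 ⟨hw, hwv⟩
        have hwu' : ∀ i, B w (u i) = 0 := by
          intro i; simpa using hwu i.succ
        have h3 := hrad w hwW' hwu'
        set w'' := w' - (B w' v) • v with hw''
        have hw''W : w'' ∈ W' := by
          rw [hmemW']
          refine ⟨W.sub_mem hw' (W.smul_mem _ hv), ?_⟩
          rw [hw'', map_sub, LinearMap.sub_apply, map_smul, LinearMap.smul_apply, hvv]
          simp
        have h4 := h3 w'' hw''W
        have hvw : B v w = 0 := by rw [hB, hwv]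
        have h5 : w' = w'' + (B w' v) • v := by rw [hw'']; abel
        rw [h5, map_add, LinearMap.add_apply, h4, map_smul, LinearMap.smul_apply, hvw]
        simp
    · refine ⟨0, Fin.elim0, fun i => i.elim0, fun i => i.elim0, ?_⟩
      intro w hw _ w' hw'
      exact hW w' hw' w hw

end Cfsg.Agent.Lib.Helper43
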