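import Cfsg.Agent.Lib.Helper43.SympConj

set_option autoImplicit false

/-! Classification of "symplectic involutions" `1 + N` for a general non-degenerate alternating
form in characteristic two: `N` square-zero and self-adjoint; the invariants are the rank of `N`
and whether `v ↦ f v (N v)` vanishes identically. -/

namespace Cfsg.Agent.Lib.Helper43

open Module

variable {F : Type*} [Field F] [CharP F 2]
variable {V : Type*} [AddCommGroup V] [Module F V]

/-- data describing the induced symmetric form `(u, v) ↦ f u (N v)` -/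
def DataG (f : LinearMap.BilinForm F V) (N : V →ₗ[F] V) (ι : Type) [DecidableEq ι] (τ : ι → ι) :
    Prop :=
  ∃ e : ι → V,
    (∀ i j, f (e i) (N (e j)) = if τ i = j then 1 else 0) ∧
    (∀ x, (∀ i, f x (N (e i)) = 0) → N x = 0)

theorem alt_symm (f : LinearMap.BilinForm F V) (hfalt : ∀ v, f v v = 0) (u v : V) :
    f u v = f v u := by
  have h1 := hfalt (u + v)
  simp only [map_add, LinearMap.add_apply, hfalt, zero_add, add_zero] at h1
  have h2 : f v u + f v u = 0 := CharTwo.add_self_eq_zero _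
  linear_combination h1 - h2

theorem rank_of_dataG [FiniteDimensional F V] (f : LinearMap.BilinForm F V)
    (hfalt : ∀ v, f v v = 0) (hnd : ∀ v, (∀ u, f u v = 0) → v = 0)
    (N : V →ₗ[F] V) (hN : ∀ v, N (N v) = 0) (hNf : ∀ u v, f (N u) v = f u (N v))
    (ι : Type) [Fintype ι] [DecidableEq ι] (τ : ι → ι) (hτ : Function.Involutive τ)
    (hD : DataG f N ι τ) : finrank F (LinearMap.range N) = Fintype.card ι := by
  obtain ⟨e, hG, hk⟩ := hD
  obtain ⟨s, b, h1, h2, h3, -⟩ :=
    exists_adapted_symplectic_basis τ hτ f hfalt hnd N hN hNf e hG hk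
  exact finrank_range_of_adapted_symp b N h1 h2 h3

theorem dataG_of_alt [FiniteDimensional F V] (f : LinearMap.BilinForm F V)
    (hfalt : ∀ v, f v v = 0) (hnd : ∀ v, (∀ u, f u v = 0) → v = 0)
    (N : V →ₗ[F] V) (hNf : ∀ u v, f (N u) v = f u (N v))
    (halt : ∀ v, f v (N v) = 0) :
    ∃ r : ℕ, DataG f N (Fin r ⊕ Fin r) Sum.swap := by
  have hsym := alt_symm f hfalt
  obtain ⟨β, hβ⟩ : ∃ β : LinearMap.BilinForm F V, β = f.compl₂ N := ⟨_, rfl⟩
  have hβapp : ∀ u v, β u v = f u (N v) := fun u v => by rw [hβ]; rfl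
  have hβsym : ∀ u v, β u v = β v u := by
    intro u v; rw [hβapp, hβapp, ← hNf, hsym]
  obtain ⟨r, x, y, -, -, hxy, hxx, hyy, hrad⟩ :=
    exists_symplectic_family β hβsym _ ⊤ rfl (fun v _ => by rw [hβapp]; exact halt v)
  refine ⟨r, Sum.elim x y, ?_, ?_⟩
  · rintro (i | i) (j | j)
    · simp only [Sum.elim_inl, Sum.swap_inl, reduceCtorEq, if_false]
      rw [← hβapp]
      exact hxx i j
    · simp only [Sum.elim_inl, Sum.elim_inr, Sum.swap_inl, Sum.inr.injEq]
      rw [← hβapp]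
      exact hxy i j
    · have := hxy j i
      rw [hβsym] at this
      simp only [Sum.elim_inl, Sum.elim_inr, Sum.swap_inr, Sum.inl.injEq]
      rw [← hβapp, this]
      exact if_congr eq_comm rfl rfl
    · simp only [Sum.elim_inr, Sum.swap_inr, reduceCtorEq, if_false]
      rw [← hβapp]
      exact hyy i j
  · intro v hv
    apply hnd
    intro u
    rw [← hβapp]
    apply hrad v Submodule.mem_top _ _ u Submodule.mem_top
    · intro i
      rw [hβapp]
      exact hv (Sum.inl i)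
    · intro i
      rw [hβapp]
      exact hv (Sum.inr i)

theorem dataG_of_not_alt [Fintype F] [FiniteDimensional F V] (f : LinearMap.BilinForm F V)
    (hfalt : ∀ v, f v v = 0) (hnd : ∀ v, (∀ u, f u v = 0) → v = 0)
    (N : V →ₗ[F] V) (hNf : ∀ u v, f (N u) v = f u (N v))
    (halt : ¬ ∀ v, f v (N v) = 0) :
    ∃ k : ℕ, DataG f N (Fin k) id := by
  have hsym := alt_symm f hfalt
  obtain ⟨β, hβ⟩ : ∃ β : LinearMap.BilinForm F V, β = f.compl₂ N := ⟨_, rfl⟩
  have hβapp : ∀ u v, β u v = f u (N v) := fun u v => by rw [hβ]; rfl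
  have hβsym : ∀ u v, β u v = β v u := by
    intro u v; rw [hβapp, hβapp, ← hNf, hsym]
  push Not at halt
  obtain ⟨v0, hv0⟩ := halt
  have hsq : ∀ x : F, IsSquare x := FiniteField.isSquare_of_char_two (ringChar.eq F 2)
  obtain ⟨k, u, -, hG, hrad⟩ :=
    exists_orthonormal_family_sym hsq β hβsym _ ⊤ rfl
      (Or.inl ⟨v0, Submodule.mem_top, by rw [hβapp]; exact hv0⟩)
  refine ⟨k, u, ?_, ?_⟩
  · intro i j
    simp only [id_eq]
    rw [← hβapp]
    exact hG i j
  · intro v hv
    apply hnd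
    intro w
    rw [← hβapp]
    exact hrad v Submodule.mem_top (fun i => by rw [hβapp]; exact hv i) w Submodule.mem_top

/-- the alternating type forces even rank -/
theorem even_rank_of_alt [FiniteDimensional F V] (f : LinearMap.BilinForm F V)
    (hfalt : ∀ v, f v v = 0) (hnd : ∀ v, (∀ u, f u v = 0) → v = 0)
    (N : V →ₗ[F] V) (hN : ∀ v, N (N v) = 0) (hNf : ∀ u v, f (N u) v = f u (N v))
    (halt : ∀ v, f v (N v) = 0) : Even (finrank F (LinearMap.range N)) := by
  obtain ⟨r, hD⟩ := dataG_of_alt f hfalt hnd N hNf halt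
  rw [rank_of_dataG f hfalt hnd N hN hNf _ Sum.swap Sum.swap_swap hD]
  rw [Fintype.card_sum, Fintype.card_fin]
  exact ⟨r, rfl⟩

/-- same rank and same type ⇒ intertwined by an isometry of `f` -/
theorem exists_intertwining_of_invariants [Fintype F] [FiniteDimensional F V]
    (f : LinearMap.BilinForm F V)
    (hfalt : ∀ v, f v v = 0) (hnd : ∀ v, (∀ u, f u v = 0) → v = 0)
    (Na Nb : V →ₗ[F] V) (hNa : ∀ v, Na (Na v) = 0) (hNb : ∀ v, Nb (Nb v) = 0)
    (hNaf : ∀ u v, f (Na u) v = f u (Na v)) (hNbf : ∀ u v, f (Nb u) v = f u (Nb v))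
    (hrank : finrank F (LinearMap.range Na) = finrank F (LinearMap.range Nb))
    (htype : (∀ v, f v (Na v) = 0) ↔ (∀ v, f v (Nb v) = 0)) :
    ∃ T : V →ₗ[F] V, (∀ u v, f (T u) (T v) = f u v) ∧ (∀ v, T (Na v) = Nb (T v)) := by
  by_cases halt : ∀ v, f v (Na v) = 0
  · obtain ⟨r, hDa⟩ := dataG_of_alt f hfalt hnd Na hNaf halt
    obtain ⟨r', hDb⟩ := dataG_of_alt f hfalt hnd Nb hNbf (htype.1 halt)
    have h1 := rank_of_dataG f hfalt hnd Na hNa hNaf _ Sum.swap Sum.swap_swap hDa
    have h2 := rank_of_dataG f hfalt hnd Nb hNb hNbf _ Sum.swap Sum.swap_swap hDb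
    rw [Fintype.card_sum, Fintype.card_fin] at h1 h2
    have : r = r' := by omega
    subst this
    obtain ⟨ea, hGa, hka⟩ := hDa
    obtain ⟨eb, hGb, hkb⟩ := hDb
    exact exists_symp_isometry_intertwining Sum.swap Sum.swap_swap f hfalt hnd
      Na Nb hNa hNb hNaf hNbf ea eb hGa hGb hka hkb
  · have haltb : ¬ ∀ v, f v (Nb v) = 0 := fun h => halt (htype.2 h)
    obtain ⟨k, hDa⟩ := dataG_of_not_alt f hfalt hnd Na hNaf halt
    obtain ⟨k', hDb⟩ := dataG_of_not_alt f hfalt hnd Nb hNbf haltb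
    have h1 := rank_of_dataG f hfalt hnd Na hNa hNaf _ id (fun _ => rfl) hDa
    have h2 := rank_of_dataG f hfalt hnd Nb hNb hNbf _ id (fun _ => rfl) hDb
    rw [Fintype.card_fin] at h1 h2
    have : k = k' := by omega
    subst this
    obtain ⟨ea, hGa, hka⟩ := hDa
    obtain ⟨eb, hGb, hkb⟩ := hDb
    exact exists_symp_isometry_intertwining id (fun _ => rfl) f hfalt hnd
      Na Nb hNa hNb hNaf hNbf ea eb hGa hGb hka hkb

end Cfsg.Agent.Lib.Helper43
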