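import Cfsg.Agent.Lib.Helper43.SymOrtho

set_option autoImplicit false

/-! Adapted bases for a self-adjoint square-zero map on a non-degenerate alternating space in
characteristic two (symplectic involutions `1 + N`). -/

namespace Cfsg.Agent.Lib.Helper43

open Module

/-- index type of an adapted basis: `e_i`, `w_i = N e_i`, and a symplectic basis `x_j, y_j` of the
rest -/
abbrev SpIdx (ι : Type*) (s : ℕ) := ι ⊕ (ι ⊕ (Fin s ⊕ Fin s))

/-- the standard Gram matrix of an adapted basis -/
def gramS (F : Type*) [Field F] {ι : Type*} [DecidableEq ι] (τ : ι → ι) (s : ℕ) :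
    SpIdx ι s → SpIdx ι s → F
  | Sum.inl i, Sum.inr (Sum.inl j) => if τ i = j then 1 else 0
  | Sum.inr (Sum.inl i), Sum.inl j => if τ i = j then 1 else 0
  | Sum.inr (Sum.inr (Sum.inl i)), Sum.inr (Sum.inr (Sum.inr j)) => if i = j then 1 else 0
  | Sum.inr (Sum.inr (Sum.inr i)), Sum.inr (Sum.inr (Sum.inl j)) => if i = j then 1 else 0
  | _, _ => 0

variable {F : Type*} [Field F] [CharP F 2]
variable {V : Type*} [AddCommGroup V] [Module F V]

set_option maxHeartbeats 1600000 in
theorem exists_adapted_symplectic_basis [FiniteDimensional F V]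
    {ι : Type*} [Fintype ι] [DecidableEq ι] (τ : ι → ι) (hτ : Function.Involutive τ)
    (f : LinearMap.BilinForm F V) (hfalt : ∀ v, f v v = 0)
    (hnd : ∀ v, (∀ u, f u v = 0) → v = 0)
    (N : V →ₗ[F] V) (hN : ∀ v, N (N v) = 0) (hNf : ∀ u v, f (N u) v = f u (N v))
    (e0 : ι → V) (hG0 : ∀ i j, f (e0 i) (N (e0 j)) = if τ i = j then 1 else 0)
    (hker0 : ∀ x, (∀ i, f x (N (e0 i)) = 0) → N x = 0) :
    ∃ (s : ℕ) (b : Basis (SpIdx ι s) F V),
      (∀ i, N (b (Sum.inl i)) = b (Sum.inr (Sum.inl i))) ∧
      (∀ i, N (b (Sum.inr (Sum.inl i))) = 0) ∧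
      (∀ j, N (b (Sum.inr (Sum.inr j))) = 0) ∧
      (∀ x y, f (b x) (b y) = gramS F τ s x y) := by
  classical
  let _inst : LinearOrder ι := LinearOrder.lift' (Fintype.equivFin ι) (Fintype.equivFin ι).injective
  have hsym : ∀ u v, f u v = f v u := by
    intro u v
    have h1 := hfalt (u + v)
    simp only [map_add, LinearMap.add_apply, hfalt, zero_add, add_zero] at h1
    have h2 : f v u + f v u = 0 := CharTwo.add_self_eq_zero _
    linear_combination h1 - h2
  have hτeq : ∀ i j, τ i = j ↔ i = τ j := by
    intro i j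
    constructor
    · intro h; rw [← h, hτ i]
    · intro h; rw [h, hτ j]
  have hτinj : ∀ i j, τ i = τ j ↔ i = j := fun i j => hτ.injective.eq_iff
  set w : ι → V := fun i => N (e0 i) with hw
  have hNw : ∀ i, N (w i) = 0 := fun i => hN _
  have huw0 : ∀ i j, f (e0 i) (w j) = if i = τ j then 1 else 0 := by
    intro i j
    have := hG0 i j
    simp only [hτeq] at this
    exact this
  have hwu0 : ∀ i j, f (w i) (e0 j) = if j = τ i then 1 else 0 := by
    intro i j; rw [hsym, huw0]
  have hww : ∀ i j, f (w i) (w j) = 0 := by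
    intro i j
    show f (N (e0 i)) (N (e0 j)) = 0
    rw [hNf, hN, map_zero]
  -- adjust the e's
  set A : ι → ι → F := fun i j => f (e0 i) (e0 j) with hA
  have hAsym : ∀ i j, A i j = A j i := fun i j => hsym _ _
  have hAdiag : ∀ i, A i i = 0 := fun i => hfalt _
  set C : ι → ι → F := fun i j => if i < j then A i j else 0 with hC
  have hCA : ∀ i j, A i j + C j i + C i j = 0 := by
    intro i j
    rcases lt_trichotomy i j with hij | hij | hij
    · simp only [hC, hij, not_lt.2 hij.le, if_true, if_false, add_zero]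
      exact CharTwo.add_self_eq_zero _
    · subst hij
      simp only [hC, lt_irrefl, if_false, add_zero, hAdiag]
    · simp only [hC, hij, not_lt.2 hij.le, if_true, if_false, add_zero]
      rw [hAsym j i]
      exact CharTwo.add_self_eq_zero _
  set e : ι → V := fun i => e0 i + ∑ j, C i j • w (τ j) with he
  have hNe : ∀ i, N (e i) = w i := by
    intro i
    simp only [he, map_add, map_sum, map_smul, hNw, smul_zero, Finset.sum_const_zero, add_zero]
    rfl
  have hew : ∀ i j, f (e i) (w j) = if i = τ j then 1 else 0 := by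
    intro i j
    simp only [he, map_add, LinearMap.add_apply, map_sum, LinearMap.sum_apply, map_smul,
      LinearMap.smul_apply, hww, huw0, smul_zero, Finset.sum_const_zero, add_zero]
  have hwe : ∀ i j, f (w i) (e j) = if j = τ i then 1 else 0 := by
    intro i j; rw [hsym, hew]
  have hee : ∀ i j, f (e i) (e j) = 0 := by
    intro i j
    simp only [he, map_add, LinearMap.add_apply, map_sum, LinearMap.sum_apply, map_smul,
      LinearMap.smul_apply, smul_eq_mul, hww, huw0, hwu0, mul_zero,
      Finset.sum_const_zero, add_zero, mul_ite, mul_one, hτ _, Finset.sum_ite_eq,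
      Finset.sum_ite_eq', Finset.mem_univ, if_true]
    have h9 := hCA i j
    simp only [hA] at h9
    linear_combination h9
  -- the orthogonal complement of the span of e, w
  set W : Submodule F V :=
    (⨅ j, LinearMap.ker (LinearMap.flip f (e j))) ⊓ (⨅ j, LinearMap.ker (LinearMap.flip f (w j)))
    with hWdef
  have hmemW : ∀ x, x ∈ W ↔ (∀ j, f x (e j) = 0) ∧ (∀ j, f x (w j) = 0) := by
    intro x
    simp only [hWdef, Submodule.mem_inf, Submodule.mem_iInf, LinearMap.mem_ker,
      LinearMap.flip_apply]
  set π : V → V := fun v => ∑ i, f v (w (τ i)) • e i + ∑ i, f v (e (τ i)) • w i with hπ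
  have hπW : ∀ v, v - π v ∈ W := by
    intro v
    rw [hmemW]
    constructor
    · intro j
      simp only [hπ, map_sub, LinearMap.sub_apply, map_add, LinearMap.add_apply, map_sum,
        LinearMap.sum_apply, map_smul, LinearMap.smul_apply, smul_eq_mul, hee, hwe, mul_zero,
        Finset.sum_const_zero, zero_add, mul_ite, mul_one]
      rw [Finset.sum_eq_single (τ j)]
      · simp [hτ j]
      · intro i _ hi
        rw [if_neg]
        intro h
        apply hi
        rw [h, hτ i]
      · intro h; exact absurd (Finset.mem_univ _) h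
    · intro j
      simp only [hπ, map_sub, LinearMap.sub_apply, map_add, LinearMap.add_apply, map_sum,
        LinearMap.sum_apply, map_smul, LinearMap.smul_apply, smul_eq_mul, hew, hww, mul_zero,
        Finset.sum_const_zero, add_zero, mul_ite, mul_one, Finset.sum_ite_eq', Finset.mem_univ,
        if_true, hτ j, sub_self]
  obtain ⟨s, x, y, hxW, hyW, hGxy, hGxx, hGyy, hradz⟩ :=
    exists_symplectic_family f hsym _ W rfl (fun v _ => hfalt v)
  have hzero : ∀ z ∈ W, (∀ j, f z (x j) = 0) → (∀ j, f z (y j) = 0) → z = 0 := by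
    intro z hzW hzx hzy
    apply hnd
    intro v
    have h1 := hradz z hzW hzx hzy (v - π v) (hπW v)
    have hze : ∀ i, f (e i) z = 0 := fun i => by rw [hsym, ((hmemW z).1 hzW).1 i]
    have hzw : ∀ i, f (w i) z = 0 := fun i => by rw [hsym, ((hmemW z).1 hzW).2 i]
    have h2 : f (π v) z = 0 := by
      simp only [hπ, map_add, LinearMap.add_apply, map_sum, LinearMap.sum_apply, map_smul,
        LinearMap.smul_apply, hze, hzw, smul_zero, Finset.sum_const_zero, add_zero]
    have h3 : f v z = f (v - π v) z + f (π v) z := by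
      rw [← LinearMap.add_apply, ← map_add, sub_add_cancel]
    rw [h3, h1, h2, add_zero]
  have hNv : ∀ v, N v = ∑ i, f v (w (τ i)) • w i := by
    intro v
    have h1 : N (v - ∑ i, f v (w (τ i)) • e0 i) = 0 := by
      apply hker0
      intro j
      show f _ (w j) = 0
      simp only [map_sub, LinearMap.sub_apply, map_sum, LinearMap.sum_apply, map_smul,
        LinearMap.smul_apply, huw0, smul_eq_mul, mul_ite, mul_one, mul_zero, Finset.sum_ite_eq',
        Finset.mem_univ, if_true, hτ j, sub_self]
    rw [map_sub, sub_eq_zero, map_sum] at h1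
    rw [h1]
    simp only [map_smul, hw]
  have hxe : ∀ j i, f (x j) (e i) = 0 := fun j i => ((hmemW _).1 (hxW j)).1 i
  have hxw : ∀ j i, f (x j) (w i) = 0 := fun j i => ((hmemW _).1 (hxW j)).2 i
  have hye : ∀ j i, f (y j) (e i) = 0 := fun j i => ((hmemW _).1 (hyW j)).1 i
  have hyw : ∀ j i, f (y j) (w i) = 0 := fun j i => ((hmemW _).1 (hyW j)).2 i
  have hex : ∀ i j, f (e i) (x j) = 0 := fun i j => by rw [hsym, hxe]
  have hwx : ∀ i j, f (w i) (x j) = 0 := fun i j => by rw [hsym, hxw]
  have hey : ∀ i j, f (e i) (y j) = 0 := fun i j => by rw [hsym, hye]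
  have hwy : ∀ i j, f (w i) (y j) = 0 := fun i j => by rw [hsym, hyw]
  have hGyx : ∀ i j, f (y i) (x j) = if i = j then 1 else 0 := by
    intro i j
    rw [hsym, hGxy]
    by_cases hij : i = j
    · subst hij; simp
    · simp [hij, Ne.symm hij]
  have hNW : ∀ z ∈ W, N z = 0 := by
    intro z hz
    apply hnd
    intro v
    rw [← hNf, hNv v]
    have hwz : ∀ i, f (w i) z = 0 := fun i => by rw [hsym, ((hmemW z).1 hz).2 i]
    simp only [map_sum, LinearMap.sum_apply, map_smul, LinearMap.smul_apply, hwz, smul_zero,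
      Finset.sum_const_zero]
  set E : SpIdx ι s → V := Sum.elim e (Sum.elim w (Sum.elim x y)) with hE
  have hew' : ∀ i j, f (e i) (w j) = if τ i = j then 1 else 0 := by
    intro i j; rw [hew]; exact if_congr (hτeq i j).symm rfl rfl
  have hwe' : ∀ i j, f (w i) (e j) = if τ i = j then 1 else 0 := by
    intro i j; rw [hwe]; exact if_congr eq_comm rfl rfl
  have hGram : ∀ a b, f (E a) (E b) = gramS F τ s a b := by
    rintro (i | i | i | i) (j | j | j | j) <;>
      simp [hE, gramS, hee, hew', hwe', hww, hex, hey, hwx, hwy, hxe, hxw, hye, hyw, hGxy, hGyx,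
        hGxx, hGyy]
  have hli : LinearIndependent F E := by
    rw [Fintype.linearIndependent_iff]
    intro g hg
    have key : ∀ b, ∑ a, g a * gramS F τ s a b = 0 := by
      intro b
      have h1 := congrArg (fun v => f v (E b)) hg
      simp only [map_sum, LinearMap.sum_apply, map_smul, LinearMap.smul_apply, smul_eq_mul, hGram,
        map_zero, LinearMap.zero_apply] at h1
      exact h1
    rintro (i | i | i | i)
    · have h1 := key (Sum.inr (Sum.inl (τ i)))
      simpa [Fintype.sum_sum_type, gramS, hτinj] using h1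
    · have h1 := key (Sum.inl (τ i))
      simpa [Fintype.sum_sum_type, gramS, hτinj] using h1
    · have h1 := key (Sum.inr (Sum.inr (Sum.inr i)))
      simpa [Fintype.sum_sum_type, gramS] using h1
    · have h1 := key (Sum.inr (Sum.inr (Sum.inl i)))
      simpa [Fintype.sum_sum_type, gramS] using h1
  have hsp : ⊤ ≤ Submodule.span F (Set.range E) := by
    intro v _
    have he_mem : ∀ i, e i ∈ Submodule.span F (Set.range E) :=
      fun i => Submodule.subset_span ⟨Sum.inl i, rfl⟩
    have hw_mem : ∀ i, w i ∈ Submodule.span F (Set.range E) :=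
      fun i => Submodule.subset_span ⟨Sum.inr (Sum.inl i), rfl⟩
    have hx_mem : ∀ j, x j ∈ Submodule.span F (Set.range E) :=
      fun j => Submodule.subset_span ⟨Sum.inr (Sum.inr (Sum.inl j)), rfl⟩
    have hy_mem : ∀ j, y j ∈ Submodule.span F (Set.range E) :=
      fun j => Submodule.subset_span ⟨Sum.inr (Sum.inr (Sum.inr j)), rfl⟩
    have hπmem : π v ∈ Submodule.span F (Set.range E) :=
      add_mem (Submodule.sum_mem _ fun i _ => Submodule.smul_mem _ _ (he_mem i))
        (Submodule.sum_mem _ fun i _ => Submodule.smul_mem _ _ (hw_mem i))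
    have hv'' : (v - π v) - ∑ j, f (v - π v) (y j) • x j - ∑ j, f (v - π v) (x j) • y j = 0 := by
      apply hzero
      · exact W.sub_mem (W.sub_mem (hπW v) (W.sum_mem fun j _ => W.smul_mem _ (hxW j)))
          (W.sum_mem fun j _ => W.smul_mem _ (hyW j))
      · intro j
        simp only [map_sub, LinearMap.sub_apply, map_sum, LinearMap.sum_apply, map_smul,
          LinearMap.smul_apply, hGxx, hGyx, smul_eq_mul, mul_ite, mul_one, mul_zero,
          Finset.sum_ite_eq', Finset.sum_const_zero, Finset.mem_univ, if_true, sub_zero, sub_self]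
      · intro j
        simp only [map_sub, LinearMap.sub_apply, map_sum, LinearMap.sum_apply, map_smul,
          LinearMap.smul_apply, hGyy, hGxy, smul_eq_mul, mul_ite, mul_one, mul_zero,
          Finset.sum_ite_eq', Finset.sum_const_zero, Finset.mem_univ, if_true, sub_zero, sub_self]
    have h7 := sub_eq_iff_eq_add.1 (sub_eq_zero.1 hv'')
    have hmem2 : v - π v ∈ Submodule.span F (Set.range E) := by
      rw [h7]
      exact add_mem (Submodule.sum_mem _ fun j _ => Submodule.smul_mem _ _ (hy_mem j))
        (Submodule.sum_mem _ fun j _ => Submodule.smul_mem _ _ (hx_mem j))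
    have h9 := add_mem hπmem hmem2
    rwa [add_sub_cancel] at h9
  refine ⟨s, Basis.mk hli hsp, ?_, ?_, ?_, ?_⟩
  · intro i; simp only [Basis.coe_mk, hE, Sum.elim_inl, Sum.elim_inr, hNe]
  · intro i; simp only [Basis.coe_mk, hE, Sum.elim_inl, Sum.elim_inr, hNw]
  · rintro (j | j)
    · simp only [Basis.coe_mk, hE, Sum.elim_inl, Sum.elim_inr]; exact hNW _ (hxW j)
    · simp only [Basis.coe_mk, hE, Sum.elim_inr]; exact hNW _ (hyW j)
  · intro a b; simp only [Basis.coe_mk]; exact hGram a b

end Cfsg.Agent.Lib.Helper43
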