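import Cfsg.Agent.Lib.Helper43.UFDefs

set_option autoImplicit false
set_option linter.unusedSimpArgs false
set_option linter.unusedVariables false
set_option linter.unusedSectionVars false

/-! `F[J]`-lines (K-UF-KL for S5700). -/

namespace Cfsg.Agent.Lib.Helper43.UFKL

open Module Matrix Cfsg.Agent.Lib.Helper19 Cfsg.Agent.Lib.Helper43 Cfsg.Agent.Lib.Helper43.UF

variable {F : Type*} [Field F] {ι : Type} [Fintype ι] [DecidableEq ι]
variable {Q : QuadraticForm F (ι → F)}

local notation "ℬ" => QuadraticMap.polarBilin Q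

theorem mem_KL_iff (U : UData Q) (x z : ι → F) :
    z ∈ KL U x ↔ ∃ α β : F, z = α • x + β • U.J x := by
  unfold KL
  rw [Submodule.mem_span_pair]
  constructor
  · rintro ⟨α, β, h⟩
    exact ⟨α, β, h.symm⟩
  · rintro ⟨α, β, h⟩
    exact ⟨α, β, h.symm⟩

theorem J_mem_KL (U : UData Q) (x z : ι → F) (hz : z ∈ KL U x) : U.J z ∈ KL U x := by
  obtain ⟨α, β, rfl⟩ := (mem_KL_iff U x z).1 hz
  rw [mem_KL_iff]
  refine ⟨-(β * U.nm), α + β * U.tr, ?_⟩
  rw [map_add, map_smul, map_smul, U.sq]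
  module

theorem KL_le_of_mem (U : UData Q) (x z : ι → F) (hz : z ∈ KL U x) : KL U z ≤ KL U x := by
  unfold KL
  rw [Submodule.span_le]
  intro w hw
  rcases hw with rfl | hw
  · exact hz
  · rw [Set.mem_singleton_iff] at hw
    subst hw
    exact J_mem_KL U x z hz

theorem mem_KL_symm (U : UData Q) (x z : ι → F) (hz : z ∈ KL U x) (hz0 : z ≠ 0) : x ∈ KL U z := by
  obtain ⟨α, β, rfl⟩ := (mem_KL_iff U x z).1 hz
  have hne : ¬ (α + β * U.tr = 0 ∧ β = 0) := by
    rintro ⟨h1, h2⟩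
    apply hz0
    subst h2
    have : α = 0 := by simpa using h1
    subst this
    simp
  have hN := U.normForm_ne_zero (α + β * U.tr) β hne
  set N := (α + β * U.tr) ^ 2 - U.tr * (α + β * U.tr) * β + U.nm * β ^ 2 with hNdef
  rw [mem_KL_iff]
  refine ⟨(α + β * U.tr) / N, -β / N, ?_⟩
  rw [map_add, map_smul, map_smul, U.sq]
  have e1 : x = (N / N) • x := by rw [div_self hN, one_smul]
  have e2 : ((α + β * U.tr) / N) • (α • x + β • U.J x) +
      (-β / N) • (α • U.J x + β • (U.tr • U.J x - U.nm • x)) = (N / N) • x := by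
    rw [hNdef]
    simp only [div_eq_mul_inv]
    module
  rw [e2, ← e1]

theorem finrank_KL_le (U : UData Q) (x : ι → F) : finrank F (KL U x) ≤ 2 := by
  classical
  unfold KL
  have h := finrank_span_le_card (R := F) (({x, U.J x} : Set (ι → F)))
  have h2 : ({x, U.J x} : Set (ι → F)).toFinset.card ≤ 2 := by
    have : ({x, U.J x} : Set (ι → F)).toFinset = ({x, U.J x} : Finset (ι → F)) := by
      ext w
      simp
    rw [this]
    exact Finset.card_le_two
  exact h.trans h2

theorem indep_of_notMem_KL (U : UData Q) (x z : ι → F) (hx : x ≠ 0) (hz : z ∉ KL U x)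
    (α β γ δ : F) (h : α • x + β • U.J x + γ • z + δ • U.J z = 0) :
    α = 0 ∧ β = 0 ∧ γ = 0 ∧ δ = 0 := by
  have hγδ : γ = 0 ∧ δ = 0 := by
    by_contra hne
    -- `w = γ z + δ J z` is a nonzero element of `KL z ∩ KL x`
    have hz0 : z ≠ 0 := by
      rintro rfl
      exact hz (Submodule.zero_mem _)
    have hw0 : γ • z + δ • U.J z ≠ 0 := by
      intro h0
      exact hne (U.J_indep z hz0 γ δ h0)
    have hwx : γ • z + δ • U.J z ∈ KL U x := by
      rw [mem_KL_iff]
      refine ⟨-α, -β, ?_⟩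
      have : γ • z + δ • U.J z = -(α • x + β • U.J x) := by
        apply eq_neg_of_add_eq_zero_right
        rw [← h]
        abel
      rw [this]
      module
    have hwz : γ • z + δ • U.J z ∈ KL U z := (mem_KL_iff U z _).2 ⟨γ, δ, rfl⟩
    have hzw : z ∈ KL U (γ • z + δ • U.J z) := mem_KL_symm U z _ hwz hw0
    exact hz (KL_le_of_mem U x _ hwx hzw)
  obtain ⟨rfl, rfl⟩ := hγδ
  rw [zero_smul, zero_smul, add_zero, add_zero] at h
  have := U.J_indep x hx α β h
  exact ⟨this.1, this.2, rfl, rfl⟩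

theorem KL_singular (U : UData Q) (x z : ι → F) (hx : Q x = 0) (hz : z ∈ KL U x) : Q z = 0 := by
  obtain ⟨α, β, rfl⟩ := (mem_KL_iff U x z).1 hz
  rw [Q_add, QuadraticMap.map_smul, QuadraticMap.map_smul, hx, U.Q_J x hx, map_smul, map_smul,
    LinearMap.smul_apply, U.B_self_J x hx]
  simp

theorem HOrth_of_mem_KL (U : UData Q) (x y z w : ι → F) (h : U.HOrth x y) (hz : z ∈ KL U x)
    (hw : w ∈ KL U y) : U.HOrth z w := by
  obtain ⟨α, β, rfl⟩ := (mem_KL_iff U x z).1 hz
  obtain ⟨γ, δ, rfl⟩ := (mem_KL_iff U y w).1 hw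
  have h1 : U.HOrth x (γ • y + δ • U.J y) := (h.smul_right U γ).add_right U (h.J_right.smul_right U δ)
  have h2 : U.HOrth (U.J x) (γ • y + δ • U.J y) := h1.J_left
  have h3 := (h1.symm.smul_right U α).add_right U (h2.symm.smul_right U β)
  exact h3.symm

end Cfsg.Agent.Lib.Helper43.UFKL
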