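import Cfsg.Agent.Lib.Helper43.UFDefs
import Cfsg.Agent.Lib.Helper43.UFKL
import Cfsg.Agent.Lib.Helper68.UFRS
import Cfsg.Agent.Lib.Helper66.UFTV
import Cfsg.Agent.Lib.Helper27.UFEich
import Cfsg.Agent.Lib.Helper28.UFSpan

set_option autoImplicit false
set_option linter.unusedSimpArgs false
set_option linter.unusedVariables false
set_option linter.unusedSectionVars false

/-! Basic toolbox for S5700 (statements of `notes/S5700_keystones.lean.txt`, PART A), proved by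
helper43 (KL), helper68 (RS), helper66 (TV), helper27 (EICH), helper28 (SPAN). -/

namespace Cfsg.Agent.Lib.Helper43.UF

open Module Matrix Cfsg.Agent.Lib.Helper19 Cfsg.Agent.Lib.Helper43

variable {F : Type*} [Field F] [Fintype F] {ι : Type} [Fintype ι] [DecidableEq ι]
variable {Q : QuadraticForm F (ι → F)}
variable (hQ : (QuadraticMap.polarBilin Q).Nondegenerate) (hn : 7 ≤ Fintype.card ι)

local notation "ℬ" => QuadraticMap.polarBilin Q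

theorem mem_KL_iff (U : UData Q) (x z : ι → F) :
    z ∈ KL U x ↔ ∃ α β : F, z = α • x + β • U.J x :=
  Cfsg.Agent.Lib.Helper43.UFKL.mem_KL_iff U x z

theorem J_mem_KL (U : UData Q) (x z : ι → F) (hz : z ∈ KL U x) : U.J z ∈ KL U x :=
  Cfsg.Agent.Lib.Helper43.UFKL.J_mem_KL U x z hz

theorem mem_KL_symm (U : UData Q) (x z : ι → F) (hz : z ∈ KL U x) (hz0 : z ≠ 0) : x ∈ KL U z :=
  Cfsg.Agent.Lib.Helper43.UFKL.mem_KL_symm U x z hz hz0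

theorem KL_le_of_mem (U : UData Q) (x z : ι → F) (hz : z ∈ KL U x) : KL U z ≤ KL U x :=
  Cfsg.Agent.Lib.Helper43.UFKL.KL_le_of_mem U x z hz

theorem finrank_KL_le (U : UData Q) (x : ι → F) : finrank F (KL U x) ≤ 2 :=
  Cfsg.Agent.Lib.Helper43.UFKL.finrank_KL_le U x

theorem indep_of_notMem_KL (U : UData Q) (x z : ι → F) (hx : x ≠ 0) (hz : z ∉ KL U x)
    (α β γ δ : F) (h : α • x + β • U.J x + γ • z + δ • U.J z = 0) :
    α = 0 ∧ β = 0 ∧ γ = 0 ∧ δ = 0 :=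
  Cfsg.Agent.Lib.Helper43.UFKL.indep_of_notMem_KL U x z hx hz α β γ δ h

theorem KL_singular (U : UData Q) (x z : ι → F) (hx : Q x = 0) (hz : z ∈ KL U x) : Q z = 0 :=
  Cfsg.Agent.Lib.Helper43.UFKL.KL_singular U x z hx hz

theorem HOrth_of_mem_KL (U : UData Q) (x y z w : ι → F) (h : U.HOrth x y) (hz : z ∈ KL U x)
    (hw : w ∈ KL U y) : U.HOrth z w :=
  Cfsg.Agent.Lib.Helper43.UFKL.HOrth_of_mem_KL U x y z w h hz hw

theorem RS_add (M : Subgroup ↥(Cfsg.Omega F ⇑Q)) (a : ι → F) (ha : Q a = 0) {v w : ι → F}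
    (hv : v ∈ RS Q hQ hn M a) (hw : w ∈ RS Q hQ hn M a) : v + w ∈ RS Q hQ hn M a :=
  Cfsg.Agent.Lib.Helper68.UF.RS_add hQ hn M a ha hv hw

theorem RS_smul (M : Subgroup ↥(Cfsg.Omega F ⇑Q)) (a : ι → F) {v : ι → F}
    (hv : v ∈ RS Q hQ hn M a) (c : F) : c • v ∈ RS Q hQ hn M a :=
  Cfsg.Agent.Lib.Helper68.UF.RS_smul hQ hn M a hv c

theorem RS_sub (M : Subgroup ↥(Cfsg.Omega F ⇑Q)) (a : ι → F) (ha : Q a = 0) {v w : ι → F}
    (hv : v ∈ RS Q hQ hn M a) (hw : w ∈ RS Q hQ hn M a) : v - w ∈ RS Q hQ hn M a :=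
  Cfsg.Agent.Lib.Helper68.UF.RS_sub hQ hn M a ha hv hw

theorem RS_self (M : Subgroup ↥(Cfsg.Omega F ⇑Q)) (a : ι → F) (ha : Q a = 0) :
    a ∈ RS Q hQ hn M a :=
  Cfsg.Agent.Lib.Helper68.UF.RS_self hQ hn M a ha

theorem RS_conj (M : Subgroup ↥(Cfsg.Omega F ⇑Q)) (k : ↥(Cfsg.Omega F ⇑Q)) (hk : k ∈ M) (a : ι → F)
    (ha : Q a = 0) {v : ι → F} (hv : v ∈ RS Q hQ hn M a) :
    lo Q k v ∈ RS Q hQ hn M (lo Q k a) :=
  Cfsg.Agent.Lib.Helper68.UF.RS_conj hQ hn M k hk a ha hv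

theorem RS_fix (M : Subgroup ↥(Cfsg.Omega F ⇑Q)) (k : ↥(Cfsg.Omega F ⇑Q)) (hk : k ∈ M) (a : ι → F)
    (ha : Q a = 0) (hka : lo Q k a = a) {v : ι → F} (hv : v ∈ RS Q hQ hn M a) :
    lo Q k v ∈ RS Q hQ hn M a :=
  Cfsg.Agent.Lib.Helper68.UF.RS_fix hQ hn M k hk a ha hka hv

theorem RS_swap (M : Subgroup ↥(Cfsg.Omega F ⇑Q)) (a b : ι → F) (ha : Q a = 0) (hb : Q b = 0)
    (h : b ∈ RS Q hQ hn M a) : a ∈ RS Q hQ hn M b :=
  Cfsg.Agent.Lib.Helper68.UF.RS_swap hQ hn M a b ha hb h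

theorem siegIn_of_RS (M : Subgroup ↥(Cfsg.Omega F ⇑Q)) (a : ι → F) (ha : Q a = 0)
    (h : ∀ v, ℬ a v = 0 → v ∈ RS Q hQ hn M a) : SiegIn Q hQ hn M a :=
  Cfsg.Agent.Lib.Helper68.UF.siegIn_of_RS hQ hn M a ha h

theorem lo_tv (U : UData Q) (u : ι → F) (hu : Q u = 0) (β : F) (v : ι → F) :
    lo Q (tv U hQ hn u β) v = v + (β * ℬ v (U.J u)) • u - (β * ℬ v u) • U.J u :=
  Cfsg.Agent.Lib.Helper66.UF.lo_tv hQ hn U u hu β v

theorem tv_comm (U : UData Q) (u : ι → F) (hu : Q u = 0) (β : F) (x : ι → F) :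
    lo Q (tv U hQ hn u β) (U.J x) = U.J (lo Q (tv U hQ hn u β) x) :=
  Cfsg.Agent.Lib.Helper66.UF.tv_comm hQ hn U u hu β x

theorem lo_eich (U : UData Q) (c y : ι → F) (hc : Q c = 0) (hcy : U.HOrth c y) (v : ι → F) :
    lo Q (eich U hQ hn c y) v = v + ℬ v c • U.J y - ℬ v (U.J c) • y +
      (ℬ v y - Q y * ℬ v (U.J c)) • U.J c +
      (- ℬ v (U.J y) + U.tr * Q y * ℬ v (U.J c) - U.nm * Q y * ℬ v c) • c :=
  Cfsg.Agent.Lib.Helper27.UF.lo_eich hQ hn U c y hc hcy v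

theorem eich_comm (U : UData Q) (c y : ι → F) (hc : Q c = 0) (hcy : U.HOrth c y) (x : ι → F) :
    lo Q (eich U hQ hn c y) (U.J x) = U.J (lo Q (eich U hQ hn c y) x) :=
  Cfsg.Agent.Lib.Helper27.UF.eich_comm hQ hn U c y hc hcy x

include hQ hn in
theorem exists_singular_orth_finset_one (S : Finset (ι → F)) (h : 2 * S.card + 3 ≤ Fintype.card ι)
    (a : ι → F) (ha : a ∉ Submodule.span F (S : Set (ι → F))) :
    ∃ c : ι → F, Q c = 0 ∧ (∀ y ∈ S, ℬ y c = 0) ∧ ℬ a c = 1 :=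
  Cfsg.Agent.Lib.Helper28.UF.exists_singular_orth_finset_one hQ hn S h a ha

end Cfsg.Agent.Lib.Helper43.UF
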