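import Cfsg.Agent.Lib.Helper43.UFBasic
import Cfsg.Agent.Lib.Helper97.UFT2
import Cfsg.Agent.Lib.Helper42.UFSiegTop
import Cfsg.Agent.Lib.Helper51.UFT1cAux
import Cfsg.Agent.Lib.Helper21.UFT1a
import Cfsg.Agent.Lib.Helper67.UFT1b
import Cfsg.Agent.Lib.Helper70.UFA

set_option autoImplicit false
set_option linter.unusedSimpArgs false
set_option linter.unusedVariables false
set_option linter.unusedSectionVars false

namespace Cfsg.Agent.Lib.Helper43.UF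

open Module Matrix Cfsg.Agent.Lib.Helper19 Cfsg.Agent.Lib.Helper43

variable {F : Type*} [Field F] [Fintype F] {ι : Type} [Fintype ι] [DecidableEq ι]
variable {Q : QuadraticForm F (ι → F)}
variable (hQ : (QuadraticMap.polarBilin Q).Nondegenerate) (hn : 7 ≤ Fintype.card ι)

local notation "ℬ" => QuadraticMap.polarBilin Q

/-- from type I to type II, given the type I lemma as a hypothesis -/
theorem exists_typeII_of (U : UData Q) (M : Subgroup ↥(Cfsg.Omega F ⇑Q))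
    (hT1 : ∀ a b : ι → F, a ≠ 0 → Q a = 0 → Q b = 0 → U.HOrth a b → b ∉ KL U a →
      b ∈ RS Q hQ hn M a → ∀ u : ι → F, Q u = 0 → U.HOrth b u → u ∈ RS Q hQ hn M b)
    (h14 : 14 ≤ Fintype.card ι) (a b : ι → F) (ha0 : a ≠ 0) (ha : Q a = 0) (hb : Q b = 0)
    (hab : U.HOrth a b) (hbKa : b ∉ KL U a) (hbRS : b ∈ RS Q hQ hn M a) :
    ∃ a' v : ι → F, a' ≠ 0 ∧ Q a' = 0 ∧ v ∈ RS Q hQ hn M a' ∧ ℬ v (U.J a') ≠ 0 := by
  classical
  have hb0 : b ≠ 0 := by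
    rintro rfl
    exact hbKa (Submodule.zero_mem _)
  have hind := indep_of_notMem_KL U a b ha0 hbKa
  have hT := hT1 a b ha0 ha hb hab hbKa hbRS
  have haRSb : a ∈ RS Q hQ hn M b := RS_swap hQ hn M a b ha hb hbRS
  -- the vector `x₁`
  have hJa : U.J a ∉ Submodule.span F (({b, U.J b, a} : Finset (ι → F)) : Set (ι → F)) := by
    intro hmem
    rw [Finset.coe_insert, Finset.coe_insert, Finset.coe_singleton] at hmem
    obtain ⟨β₁, z, hz, hmem⟩ := Submodule.mem_span_insert.1 hmem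
    obtain ⟨β₂, z', hz', rfl⟩ := Submodule.mem_span_insert.1 hz
    obtain ⟨α₁, rfl⟩ := Submodule.mem_span_singleton.1 hz'
    have := hind α₁ (-1) β₁ β₂ (by rw [hmem]; module)
    have h1 : (-1 : F) = 0 := this.2.1
    exact one_ne_zero (neg_eq_zero.1 h1)
  have hc1 : 2 * ({b, U.J b, a} : Finset (ι → F)).card + 3 ≤ Fintype.card ι := by
    have : ({b, U.J b, a} : Finset (ι → F)).card ≤ 3 := Finset.card_le_three
    omega
  obtain ⟨x₁, hx₁Q, hx₁S, hx₁J⟩ := exists_singular_orth_finset_one hQ hn _ hc1 (U.J a) hJa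
  have hbx₁ : ℬ b x₁ = 0 := hx₁S b (by simp)
  have hJbx₁ : ℬ (U.J b) x₁ = 0 := hx₁S (U.J b) (by simp)
  have hax₁ : ℬ a x₁ = 0 := hx₁S a (by simp)
  have hHbx₁ : U.HOrth b x₁ := ⟨hbx₁, hJbx₁⟩
  have hx₁RS : x₁ ∈ RS Q hQ hn M b := hT x₁ hx₁Q hHbx₁
  have hx₁0 : x₁ ≠ 0 := by
    rintro rfl
    rw [map_zero] at hx₁J
    exact zero_ne_one hx₁J
  have hx₁Kb : x₁ ∉ KL U b := by
    intro hmem
    obtain ⟨α, β, rfl⟩ := (mem_KL_iff U b x₁).1 hmem
    have h1 : ℬ (U.J a) b = 0 := hab.2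
    have h2 : ℬ (U.J a) (U.J b) = 0 := by rw [U.B_JJ, hab.1, mul_zero]
    rw [map_add, map_smul, map_smul, h1, h2, smul_zero, smul_zero, add_zero] at hx₁J
    exact zero_ne_one hx₁J
  have hT' := hT1 b x₁ hb0 hb hx₁Q hHbx₁ hx₁Kb hx₁RS
  -- the vector `x₂`
  have hbS : b ∉ Submodule.span F
      (({x₁, U.J x₁, a, U.J a, U.J b} : Finset (ι → F)) : Set (ι → F)) := by
    intro hmem
    rw [Finset.coe_insert, Finset.coe_insert, Finset.coe_insert, Finset.coe_insert,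
      Finset.coe_singleton] at hmem
    obtain ⟨ξ₁, z₁, hz₁, hmem⟩ := Submodule.mem_span_insert.1 hmem
    obtain ⟨ξ₂, z₂, hz₂, rfl⟩ := Submodule.mem_span_insert.1 hz₁
    obtain ⟨α₁, z₃, hz₃, rfl⟩ := Submodule.mem_span_insert.1 hz₂
    obtain ⟨α₂, z₄, hz₄, rfl⟩ := Submodule.mem_span_insert.1 hz₃
    obtain ⟨δ, rfl⟩ := Submodule.mem_span_singleton.1 hz₄
    -- pair with `a` and with `J a`
    have hx₁a : ℬ x₁ a = 0 := by rw [polar_symm]; exact hax₁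
    have hJx₁a : ℬ (U.J x₁) a = -1 := by
      rw [U.B_J_left, hx₁a, mul_zero, zero_sub, polar_symm Q x₁ (U.J a), hx₁J]
    have haa : ℬ a a = 0 := by rw [polar_self', ha, mul_zero]
    have hJaa : ℬ (U.J a) a = 0 := U.B_J_self a ha
    have hJba : ℬ (U.J b) a = 0 := by
      have := hab.symm.2
      exact this
    have hba : ℬ b a = 0 := hab.symm.1
    have e1 := congrArg (fun w => ℬ w a) hmem
    simp only [map_add, map_smul, LinearMap.add_apply, LinearMap.smul_apply, smul_eq_mul,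
      hba, hx₁a, hJx₁a, haa, hJaa, hJba] at e1
    have hξ₂ : ξ₂ = 0 := by linear_combination e1
    have hx₁Ja : ℬ x₁ (U.J a) = 1 := by rw [polar_symm]; exact hx₁J
    have hJx₁Ja : ℬ (U.J x₁) (U.J a) = 0 := by rw [U.B_JJ, hx₁a, mul_zero]
    have haJa : ℬ a (U.J a) = 0 := U.B_self_J a ha
    have hJaJa : ℬ (U.J a) (U.J a) = 0 := by rw [U.B_JJ, haa, mul_zero]
    have hJbJa : ℬ (U.J b) (U.J a) = 0 := by rw [U.B_JJ, hba, mul_zero]
    have hbJa : ℬ b (U.J a) = 0 := by rw [polar_symm]; exact hab.2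
    have e2 := congrArg (fun w => ℬ w (U.J a)) hmem
    simp only [map_add, map_smul, LinearMap.add_apply, LinearMap.smul_apply, smul_eq_mul,
      hbJa, hx₁Ja, hJx₁Ja, haJa, hJaJa, hJbJa] at e2
    have hξ₁ : ξ₁ = 0 := by linear_combination -e2
    subst hξ₁ hξ₂
    have h' : b = α₁ • a + (α₂ • U.J a + δ • U.J b) := by simpa using hmem
    have := hind α₁ α₂ (-1) δ (by
      have e : α₁ • a + α₂ • U.J a + (-1 : F) • b + δ • U.J b =
          (α₁ • a + (α₂ • U.J a + δ • U.J b)) - b := by module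
      rw [e, ← h', sub_self])
    have h1 : (-1 : F) = 0 := this.2.2.1
    exact one_ne_zero (neg_eq_zero.1 h1)
  have hc2 : 2 * ({x₁, U.J x₁, a, U.J a, U.J b} : Finset (ι → F)).card + 3 ≤ Fintype.card ι := by
    have : ({x₁, U.J x₁, a, U.J a, U.J b} : Finset (ι → F)).card ≤ 5 := Finset.card_le_five
    omega
  obtain ⟨x₂, hx₂Q, hx₂S, hx₂b⟩ := exists_singular_orth_finset_one hQ hn _ hc2 b hbS
  have h1 : ℬ x₁ x₂ = 0 := hx₂S x₁ (by simp)
  have h2 : ℬ (U.J x₁) x₂ = 0 := hx₂S (U.J x₁) (by simp)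
  have h3 : ℬ a x₂ = 0 := hx₂S a (by simp)
  have hx₂RS : x₂ ∈ RS Q hQ hn M x₁ := hT' x₂ hx₂Q ⟨h1, h2⟩
  -- conjugate by `ρ_{b,a}`
  have hρ : sOf Q hQ hn b a ∈ M := by
    have := haRSb.2 1
    rwa [one_smul] at this
  have hba : ℬ b a = 0 := hab.symm.1
  have hconj := RS_conj hQ hn M (sOf Q hQ hn b a) hρ x₁ hx₁Q hx₂RS
  have e1 : lo Q (sOf Q hQ hn b a) x₁ = x₁ := by
    rw [lo_sOf Q hQ hn b a hb hba, siegelLin_apply, polar_symm Q x₁ a, hax₁, polar_symm Q x₁ b,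
      hbx₁]
    simp
  have e2 : lo Q (sOf Q hQ hn b a) x₂ = x₂ - a := by
    rw [lo_sOf Q hQ hn b a hb hba, siegelLin_apply, polar_symm Q x₂ a, h3, polar_symm Q x₂ b,
      hx₂b, ha]
    simp
    module
  rw [e1, e2] at hconj
  refine ⟨x₁, x₂ - a, hx₁0, hx₁Q, hconj, ?_⟩
  have e3 : ℬ x₂ (U.J x₁) = 0 := by rw [polar_symm]; exact h2
  have e4 : ℬ a (U.J x₁) = -1 := by
    rw [U.B_J_right, hax₁, mul_zero, zero_sub, hx₁J]
  rw [map_sub, LinearMap.sub_apply, e3, e4]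
  simp


/-- from type I to type II -/
theorem exists_typeII (U : UData Q) (M : Subgroup ↥(Cfsg.Omega F ⇑Q))
    (hH : ∀ k : ↥(Cfsg.Omega F ⇑Q), (∀ x, lo Q k (U.J x) = U.J (lo Q k x)) → k ∈ M)
    (h14 : 14 ≤ Fintype.card ι) (a b : ι → F) (ha0 : a ≠ 0) (ha : Q a = 0) (hb : Q b = 0)
    (hab : U.HOrth a b) (hbKa : b ∉ KL U a) (hbRS : b ∈ RS Q hQ hn M a) :
    ∃ a' v : ι → F, a' ≠ 0 ∧ Q a' = 0 ∧ v ∈ RS Q hQ hn M a' ∧ ℬ v (U.J a') ≠ 0 :=
  exists_typeII_of hQ hn U M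
    (fun a b ha0 ha hb hab hbKa hbRS u hu hbu =>
      Cfsg.Agent.Lib.Helper51.UF.typeI_full_of hQ hn U M hH h14
        (Cfsg.Agent.Lib.Helper21.UF.eich_step hQ hn U M hH h14)
        (Cfsg.Agent.Lib.Helper67.UF.tv_step hQ hn U M hH) a b ha0 ha hb hab hbKa hbRS u hu hbu)
    h14 a b ha0 ha hb hab hbKa hbRS

include hQ hn in
/-- the core of S5700: an overgroup of the centraliser of `J` in `Ω` that contains an element not
normalising `F[J]` is `Ω`. -/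
theorem core (U : UData Q) (M : Subgroup ↥(Cfsg.Omega F ⇑Q))
    (hH : ∀ k : ↥(Cfsg.Omega F ⇑Q), (∀ x, lo Q k (U.J x) = U.J (lo Q k x)) → k ∈ M)
    (h14 : 14 ≤ Fintype.card ι) (g : ↥(Cfsg.Omega F ⇑Q)) (hg : g ∈ M)
    (hgN : ¬ ∃ α β : F, ∀ x, lo Q g (U.J x) = α • lo Q g x + β • U.J (lo Q g x)) : M = ⊤ := by
  obtain ⟨a, b, ha0, ha, hb, hab, hbKa, hbRS⟩ :=
    Cfsg.Agent.Lib.Helper70.UF.exists_bad_pair hQ hn U M hH h14 g hg hgN
  by_cases h : ℬ b (U.J a) = 0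
  · have hab' : U.HOrth a b := ⟨hab, by rw [polar_symm]; exact h⟩
    obtain ⟨a', v, ha'0, ha', hv, hne⟩ := exists_typeII hQ hn U M hH h14 a b ha0 ha hb hab' hbKa hbRS
    exact Cfsg.Agent.Lib.Helper42.UF.eq_top_of_siegIn hQ hn U M hH a' ha'0
      (Cfsg.Agent.Lib.Helper97.UF.siegIn_of_typeII hQ hn U M hH a' v ha' hv hne)
  · exact Cfsg.Agent.Lib.Helper42.UF.eq_top_of_siegIn hQ hn U M hH a ha0
      (Cfsg.Agent.Lib.Helper97.UF.siegIn_of_typeII hQ hn U M hH a b ha hbRS h)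

end Cfsg.Agent.Lib.Helper43.UF
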