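import Cfsg.Agent.Lib.Helper43.OmegaPair5
import Cfsg.Agent.Lib.Helper43.AutOm5

set_option autoImplicit false
set_option linter.unusedSimpArgs false
set_option linter.unusedVariables false
set_option linter.unusedSectionVars false

/-! A quadratic field `F[J]` of unitary type acting on a quadratic space: definitions and basic
identities (for the maximality of the normaliser of such a field in `Ω`). -/

namespace Cfsg.Agent.Lib.Helper43.UF

open Module Matrix Cfsg.Agent.Lib.Helper19 Cfsg.Agent.Lib.Helper43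

variable {F : Type*} [Field F] {ι : Type} [Fintype ι] [DecidableEq ι]
variable (Q : QuadraticForm F (ι → F))

local notation "ℬ" => QuadraticMap.polarBilin Q

/-- a generator `J` of a quadratic field `F[J]` of unitary type: `J² = tr J - nm`, the polynomial
`X² - tr X + nm` has no root, the adjoint of `J` is `tr - J`, and `J` multiplies `Q` by `nm` -/
structure UData where
  J : Module.End F (ι → F)
  tr : F
  nm : F
  sq : ∀ x, J (J x) = tr • J x - nm • x
  irr : ∀ s t : F, s ^ 2 - tr * s * t + nm * t ^ 2 = 0 → s = 0 ∧ t = 0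
  adj : ∀ x y, ℬ (J x) y + ℬ x (J y) = tr * ℬ x y
  norm : ∀ x, Q (J x) = nm * Q x
  self : ∀ x, ℬ x (J x) = tr * Q x

variable {Q}

namespace UData

variable (U : UData Q)

/-- `x` and `y` are orthogonal for the hermitian form: `y ⊥ F[J] x` -/
def HOrth (x y : ι → F) : Prop := ℬ x y = 0 ∧ ℬ (U.J x) y = 0

theorem B_J_left (x y : ι → F) : ℬ (U.J x) y = U.tr * ℬ x y - ℬ x (U.J y) := by
  have := U.adj x y
  linear_combination this

theorem B_J_right (x y : ι → F) : ℬ x (U.J y) = U.tr * ℬ x y - ℬ (U.J x) y := by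
  have := U.adj x y
  linear_combination this

theorem B_JJ (x y : ι → F) : ℬ (U.J x) (U.J y) = U.nm * ℬ x y := by
  have h1 : Q (U.J (x + y)) = U.nm * Q (x + y) := U.norm (x + y)
  rw [map_add, Q_add, Q_add, U.norm, U.norm] at h1
  linear_combination h1

theorem Q_J (x : ι → F) (hx : Q x = 0) : Q (U.J x) = 0 := by rw [U.norm, hx, mul_zero]

theorem B_self_J (x : ι → F) (hx : Q x = 0) : ℬ x (U.J x) = 0 := by rw [U.self, hx, mul_zero]

theorem B_J_self (x : ι → F) (hx : Q x = 0) : ℬ (U.J x) x = 0 := by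
  rw [polar_symm, U.B_self_J x hx]

theorem normForm_ne_zero (s t : F) (h : ¬ (s = 0 ∧ t = 0)) :
    s ^ 2 - U.tr * s * t + U.nm * t ^ 2 ≠ 0 := fun h0 => h (U.irr s t h0)

/-- `J` has no eigenvector -/
theorem J_indep (x : ι → F) (hx : x ≠ 0) (α β : F) (h : α • x + β • U.J x = 0) :
    α = 0 ∧ β = 0 := by
  by_cases hβ : β = 0
  · subst hβ
    rw [zero_smul, add_zero] at h
    rcases smul_eq_zero.1 h with h1 | h1
    · exact ⟨h1, rfl⟩
    · exact absurd h1 hx
  · exfalso
    have hJ : U.J x = (-α / β) • x := by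
      have : β • U.J x = (-α) • x := by
        rw [neg_smul]
        exact eq_neg_of_add_eq_zero_right h
      calc U.J x = β⁻¹ • (β • U.J x) := by rw [smul_smul, inv_mul_cancel₀ hβ, one_smul]
        _ = (-α / β) • x := by rw [this, smul_smul]; congr 1; field_simp
    set l := -α / β with hl
    have h2 := U.sq x
    rw [hJ, map_smul, hJ, smul_smul, smul_smul, ← sub_smul] at h2
    have h3 : (l * l - (U.tr * l - U.nm)) • x = 0 := by
      rw [sub_smul, h2, sub_self]
    rcases smul_eq_zero.1 h3 with h4 | h4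
    · have := U.irr l 1 (by linear_combination h4)
      exact one_ne_zero this.2
    · exact hx h4

theorem HOrth.symm {x y : ι → F} (h : U.HOrth x y) : U.HOrth y x := by
  refine ⟨by rw [polar_symm]; exact h.1, ?_⟩
  rw [U.B_J_left, polar_symm Q y x, h.1, mul_zero, zero_sub, neg_eq_zero, polar_symm]
  exact h.2

theorem HOrth.J_left {x y : ι → F} (h : U.HOrth x y) : U.HOrth (U.J x) y := by
  refine ⟨h.2, ?_⟩
  rw [U.sq, map_sub, map_smul, map_smul, LinearMap.sub_apply, LinearMap.smul_apply,
    LinearMap.smul_apply, h.1, h.2, smul_zero, smul_zero, sub_zero]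

theorem HOrth.J_right {x y : ι → F} (h : U.HOrth x y) : U.HOrth x (U.J y) :=
  (h.symm.J_left).symm

theorem HOrth.B_right_J {x y : ι → F} (h : U.HOrth x y) : ℬ x (U.J y) = 0 := h.J_right.1

theorem HOrth.smul_right {x y : ι → F} (h : U.HOrth x y) (c : F) : U.HOrth x (c • y) := by
  refine ⟨by rw [map_smul, h.1, smul_zero], by rw [map_smul, h.2, smul_zero]⟩

theorem HOrth.add_right {x y z : ι → F} (h : U.HOrth x y) (h' : U.HOrth x z) :
    U.HOrth x (y + z) := by
  refine ⟨by rw [map_add, h.1, h'.1, add_zero], by rw [map_add, h.2, h'.2, add_zero]⟩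

theorem hOrth_self (x : ι → F) (hx : Q x = 0) : U.HOrth x x :=
  ⟨by rw [polar_self', hx, mul_zero], U.B_J_self x hx⟩

end UData

/-- the `F[J]`-line of `x` -/
def KL (U : UData Q) (x : ι → F) : Submodule F (ι → F) := Submodule.span F {x, U.J x}

section finite

variable [Fintype F]

variable (Q)

/-- the root set of the singular vector `a` in the subgroup `M`: the `v ⊥ a` with
`ρ_{a, t v} ∈ M` for all `t` -/
def RS (hQ : (QuadraticMap.polarBilin Q).Nondegenerate) (hn : 7 ≤ Fintype.card ι)
    (M : Subgroup ↥(Cfsg.Omega F ⇑Q)) (a : ι → F) : Set (ι → F) :=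
  {v | ℬ a v = 0 ∧ ∀ t : F, sOf Q hQ hn a (t • v) ∈ M}

variable {Q}

/-- the unitary transvection centred at the singular vector `u` -/
noncomputable def tv (U : UData Q) (hQ : (QuadraticMap.polarBilin Q).Nondegenerate)
    (hn : 7 ≤ Fintype.card ι) (u : ι → F) (β : F) : ↥(Cfsg.Omega F ⇑Q) :=
  sOf Q hQ hn u (β • U.J u)

/-- the unitary Eichler transformation centred at the singular vector `c` with `y ⊥ F[J] c` -/
noncomputable def eich (U : UData Q) (hQ : (QuadraticMap.polarBilin Q).Nondegenerate)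
    (hn : 7 ≤ Fintype.card ι) (c y : ι → F) : ↥(Cfsg.Omega F ⇑Q) :=
  sOf Q hQ hn c (-(U.J y)) * sOf Q hQ hn (U.J c) y

end finite

end Cfsg.Agent.Lib.Helper43.UF
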