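import Cfsg.Agent.Lib.Helper43.UFCore
import Cfsg.Agent.Lib.Helper81.UFG1
import Cfsg.Agent.Lib.Helper88.UFG2
import Cfsg.Agent.Lib.Helper85.UFG3
import Cfsg.Agent.Lib.Helper50.GeoBridge

set_option autoImplicit false
set_option linter.unusedSimpArgs false
set_option linter.unusedVariables false
set_option linter.unusedSectionVars false

/-! Glue for S5700 (helper43): from the `lo`/`UData` core to the Prelude statement. -/

namespace Cfsg.Agent.Lib.Helper43.UF

open Module Matrix Cfsg Cfsg.Geo Cfsg.Agent.Lib.Helper19 Cfsg.Agent.Lib.Helper43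

variable {F : Type*} [Field F] [Fintype F] {n : ℕ}

/-- relation between the matrix identity and the `lo` identity -/
theorem comm_iff (Q : (Fin n → F) → F) (hQ : IsNondegenerateQuadraticForm Q)
    (U : UData (Cfsg.Agent.Lib.Helper50.geoForm Q hQ)) (j : Matrix (Fin n) (Fin n) F)
    (hUj : ∀ x, U.J x = j *ᵥ x) (g : ↥(Cfsg.Omega F ⇑(Cfsg.Agent.Lib.Helper50.geoForm Q hQ))) (α β : F) :
    (((g : ↥(Cfsg.isometryGroup F ⇑(Cfsg.Agent.Lib.Helper50.geoForm Q hQ))) : GL (Fin n) F) :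
        Matrix (Fin n) (Fin n) F) * j =
      (α • 1 + β • j) * (((g : ↥(Cfsg.isometryGroup F ⇑(Cfsg.Agent.Lib.Helper50.geoForm Q hQ))) :
        GL (Fin n) F) : Matrix (Fin n) (Fin n) F) ↔
    ∀ x, lo (Cfsg.Agent.Lib.Helper50.geoForm Q hQ) g (U.J x) =
      α • lo (Cfsg.Agent.Lib.Helper50.geoForm Q hQ) g x +
        β • U.J (lo (Cfsg.Agent.Lib.Helper50.geoForm Q hQ) g x) := by
  have hlo : ∀ v, lo (Cfsg.Agent.Lib.Helper50.geoForm Q hQ) g v =
      (((g : ↥(Cfsg.isometryGroup F ⇑(Cfsg.Agent.Lib.Helper50.geoForm Q hQ))) : GL (Fin n) F) :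
        Matrix (Fin n) (Fin n) F) *ᵥ v := fun v => linOf_apply _ _ v
  constructor
  · intro h x
    rw [hlo, hlo, hUj, hUj, Matrix.mulVec_mulVec, h, ← Matrix.mulVec_mulVec, Matrix.add_mulVec,
      Matrix.smul_mulVec, Matrix.smul_mulVec, Matrix.one_mulVec]
  · intro h
    apply Matrix.toLin'.injective
    apply LinearMap.ext
    intro x
    have := h x
    rw [hlo, hlo, hUj, hUj] at this
    rw [Matrix.toLin'_apply, Matrix.toLin'_apply, ← Matrix.mulVec_mulVec, this,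
      ← Matrix.mulVec_mulVec, Matrix.add_mulVec, Matrix.smul_mulVec, Matrix.smul_mulVec,
      Matrix.one_mulVec]

theorem main_S5700 (hn : 13 ≤ n) (heven : Even n) (Q : (Fin n → F) → F)
    (hQ : Cfsg.Geo.IsNondegenerateQuadraticForm Q) (K : Subalgebra F (Matrix (Fin n) (Fin n) F))
    (hK : Cfsg.Geo.IsFieldSubalgebra 2 K) (hac : Cfsg.Geo.IsAdjointClosedFor (QuadraticMap.polar Q) K)
    (hnsa : ¬ Cfsg.Geo.IsSelfAdjointFor (QuadraticMap.polar Q) K)
    (hsc : ∀ k ∈ K, ∃ c : F, ∀ v : (Fin n → F), Q (Matrix.mulVec k v) = c * Q v) :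
    Cfsg.Geo.IsMaximalIn (Cfsg.Geo.omegaGL Q) (Cfsg.Geo.subalgebraNormalizer K ⊓ Cfsg.Geo.omegaGL Q) := by
  classical
  obtain ⟨U, j, hjK, hUj, hKj⟩ := Cfsg.Agent.Lib.Helper81.UF.exists_udata Q hQ K hK hac hnsa hsc
  have hnd := Cfsg.Agent.Lib.Helper50.geoForm_nondegenerate Q hQ
  have h14 : 14 ≤ n := by
    obtain ⟨r, hr⟩ := heven
    omega
  have hcard : Fintype.card (Fin n) = n := Fintype.card_fin n
  have hn7 : 7 ≤ Fintype.card (Fin n) := by rw [hcard]; omega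
  have h14' : 14 ≤ Fintype.card (Fin n) := by rw [hcard]; omega
  -- `j` is not scalar
  have hjns : ∀ α : F, j ≠ α • 1 := by
    intro α hα
    have hx : ∃ x : Fin n → F, x ≠ 0 := by
      refine ⟨Pi.single ⟨0, by omega⟩ 1, ?_⟩
      intro h
      have := congrFun h ⟨0, by omega⟩
      simp at this
    obtain ⟨x, hx⟩ := hx
    have h1 : U.J x = α • x := by
      rw [hUj, hα, Matrix.smul_mulVec, Matrix.one_mulVec]
    have h2 := U.J_indep x hx (-α) 1 (by rw [one_smul, h1, neg_smul, neg_add_cancel])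
    exact one_ne_zero h2.2
  have key : ∀ g : ↥(Cfsg.Omega F ⇑(Cfsg.Agent.Lib.Helper50.geoForm Q hQ)),
      ((g : ↥(Cfsg.isometryGroup F ⇑(Cfsg.Agent.Lib.Helper50.geoForm Q hQ))) : GL (Fin n) F) ∈ subalgebraNormalizer K ↔
      ∃ α β : F, ∀ x, lo (Cfsg.Agent.Lib.Helper50.geoForm Q hQ) g (U.J x) = α • lo (Cfsg.Agent.Lib.Helper50.geoForm Q hQ) g x + β • U.J (lo (Cfsg.Agent.Lib.Helper50.geoForm Q hQ) g x) := by
    intro g
    rw [Cfsg.Agent.Lib.Helper88.UF.mem_subalgebraNormalizer_iff K j hjK hKj hjns]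
    constructor
    · rintro ⟨α, β, h⟩
      exact ⟨α, β, (comm_iff Q hQ U j hUj g α β).1 h⟩
    · rintro ⟨α, β, h⟩
      exact ⟨α, β, (comm_iff Q hQ U j hUj g α β).2 h⟩
  have hgoal : Cfsg.Geo.IsMaximalIn (Cfsg.Geo.omegaGL ⇑(Cfsg.Agent.Lib.Helper50.geoForm Q hQ))
      (subalgebraNormalizer K ⊓ Cfsg.Geo.omegaGL ⇑(Cfsg.Agent.Lib.Helper50.geoForm Q hQ)) := by
    apply isMaximalIn_of_comap (Cfsg.Agent.Lib.Helper50.geoForm Q hQ) (subalgebraNormalizer K)
    · obtain ⟨k, hk⟩ := Cfsg.Agent.Lib.Helper85.UF.exists_not_normalizing hnd hn7 U h14'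
      exact ⟨k, fun h => hk ((key k).1 h)⟩
    · intro M hHM
      by_cases hMH : M ≤ (subalgebraNormalizer K).comap
          ((Cfsg.isometryGroup F ⇑(Cfsg.Agent.Lib.Helper50.geoForm Q hQ)).subtype.comp (Cfsg.Omega F ⇑(Cfsg.Agent.Lib.Helper50.geoForm Q hQ)).subtype)
      · left
        exact le_antisymm hMH hHM
      · right
        obtain ⟨g, hgM, hgH⟩ := SetLike.not_le_iff_exists.1 hMH
        apply core hnd hn7 U M _ h14' g hgM
        · intro hex
          apply hgH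
          exact (key g).2 hex
        · intro k hk
          apply hHM
          show ((k : ↥(Cfsg.isometryGroup F ⇑(Cfsg.Agent.Lib.Helper50.geoForm Q hQ))) : GL (Fin n) F) ∈ subalgebraNormalizer K
          rw [key k]
          exact ⟨0, 1, fun x => by rw [zero_smul, zero_add, one_smul]; exact hk x⟩
  exact hgoal

end Cfsg.Agent.Lib.Helper43.UF
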