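import Mathlib

/-!
# K-UNd-IAR (595409) for S5954 (architect helper73): arithmetic for `r = 2`
-/

set_option autoImplicit false

namespace Cfsg.Agent.Lib.Helper43.UNd

universe u
variable {F : Type u} [Field F]
variable {q : ℕ}

/-- an element of prescribed order dividing `q ^ 2 - 1` -/
theorem exists_orderOf_eq [Fintype F] (hF : Fintype.card F = q ^ 2) (d : ℕ) (hd : d ∣ q ^ 2 - 1) :
    ∃ μ : Fˣ, orderOf μ = d := by
  classical
  have hc : Nat.card Fˣ = q ^ 2 - 1 := by
    rw [Nat.card_eq_fintype_card, Fintype.card_units, hF]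
  obtain ⟨g, hg⟩ := IsCyclic.exists_generator (α := Fˣ)
  have hog : orderOf g = q ^ 2 - 1 := by
    rw [orderOf_eq_card_of_forall_mem_zpowers hg, hc]
  obtain ⟨e, he⟩ := hd
  by_cases hd0 : d = 0
  · subst hd0
    rw [zero_mul] at he
    have hpos : 0 < orderOf g := orderOf_pos g
    omega
  refine ⟨g ^ e, ?_⟩
  have hpos : 0 < orderOf g := orderOf_pos g
  have he0 : e ≠ 0 := by
    rintro rfl
    rw [mul_zero] at he
    omega
  rw [orderOf_pow' g he0, hog, he, Nat.gcd_mul_left_left, Nat.mul_div_cancel _ (Nat.pos_of_ne_zero he0)]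

theorem q_odd_of [Fintype F] (hF : Fintype.card F = q ^ 2) (h2 : (2 : F) ≠ 0) : q % 2 = 1 := by
  by_contra hq
  have hq0 : q % 2 = 0 := by omega
  have h2d : 2 ∣ Fintype.card F := by
    rw [hF, pow_two]
    exact Dvd.dvd.mul_right (Nat.dvd_of_mod_eq_zero hq0) _
  obtain ⟨p, hp⟩ := CharP.exists F
  obtain ⟨n, hpp, hn⟩ := FiniteField.card F p
  have hp2 : p = 2 := by
    have h3 : 2 ∣ p ^ (n : ℕ) := by rw [← hn]; exact h2d
    have h4 := Nat.Prime.dvd_of_dvd_pow Nat.prime_two h3
    exact ((Nat.prime_dvd_prime_iff_eq Nat.prime_two hpp).1 h4).symm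
  subst hp2
  apply h2
  have := CharP.cast_eq_zero F 2
  exact_mod_cast this

theorem exists_mu [Fintype F] (hF : Fintype.card F = q ^ 2) (h2 : (2 : F) ≠ 0) (n : ℕ)
    (hn : Even n) (hcond : q % 4 = 1 ∨ padicValNat 2 (q + 1) < padicValNat 2 n) :
    ∃ μ : F, μ ^ (q + 1) = -1 ∧ μ ^ n = (-1) ^ (n / 2) := by
  classical
  have hqodd := q_odd_of hF h2
  have hne : (-1 : F) ≠ 1 := by
    intro h
    apply h2
    have : (1 : F) + 1 = 0 := by
      nth_rewrite 1 [← h]
      ring
    rw [← this]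
    norm_num
  have hq1 : 1 ≤ q := by omega
  have hfac : q ^ 2 - 1 = (q - 1) * (q + 1) := by
    zify [hq1, Nat.one_le_pow 2 q hq1]
    ring
  -- a square which is `≠ 1` is `-1`
  have hsq : ∀ x : F, x ^ 2 = 1 → x ≠ 1 → x = -1 := by
    intro x hx hx1
    have : (x - 1) * (x + 1) = 0 := by ring_nf; rw [hx]; ring
    rcases mul_eq_zero.1 this with h | h
    · exact absurd (sub_eq_zero.1 h) hx1
    · exact eq_neg_of_add_eq_zero_left h
  by_cases hq4 : q % 4 = 1
  · -- `μ` of order `4`
    have h4 : 4 ∣ q ^ 2 - 1 := by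
      rw [hfac]
      exact Dvd.dvd.mul_right (by omega) _
    obtain ⟨μ, hμ⟩ := exists_orderOf_eq hF 4 h4
    have hμ4 : (μ : F) ^ 4 = 1 := by
      have := pow_orderOf_eq_one μ
      rw [hμ] at this
      have h5 := congrArg Units.val this
      simpa using h5
    have hμ2 : (μ : F) ^ 2 = -1 := by
      apply hsq
      · rw [← pow_mul]; exact hμ4
      · intro h
        have : μ ^ 2 = 1 := Units.ext (by simpa using h)
        have := orderOf_dvd_of_pow_eq_one this
        rw [hμ] at this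
        omega
    refine ⟨(μ : F), ?_, ?_⟩
    · obtain ⟨k, hk⟩ : ∃ k, q + 1 = 2 * (2 * k + 1) := ⟨q / 4, by omega⟩
      rw [hk, pow_mul, hμ2, pow_succ, pow_mul]
      simp
    · obtain ⟨k, hk⟩ := hn
      have : n = 2 * k := by omega
      rw [this, pow_mul, hμ2, Nat.mul_div_cancel_left _ (by norm_num : 0 < 2)]
  · have hv : padicValNat 2 (q + 1) < padicValNat 2 n := hcond.resolve_left hq4
    set a := padicValNat 2 (q + 1) with ha
    have hn0 : n ≠ 0 := by
      rintro rfl
      simp at hv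
    have ha1 : 1 ≤ a := by
      have : 2 ∣ q + 1 := by omega
      exact one_le_padicValNat_of_dvd (by omega) this
    have hdq : 2 ^ a ∣ q + 1 := pow_padicValNat_dvd
    have hdn : 2 ^ (a + 1) ∣ n := by
      have : 2 ^ padicValNat 2 n ∣ n := pow_padicValNat_dvd
      exact (pow_dvd_pow 2 (by omega)).trans this
    have hnd : ¬ 2 ^ (a + 1) ∣ q + 1 := by
      have := pow_succ_padicValNat_not_dvd (p := 2) (n := q + 1) (by omega)
      exact this
    have hdd : 2 ^ (a + 1) ∣ q ^ 2 - 1 := by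
      rw [hfac, pow_succ, mul_comm]
      exact Nat.mul_dvd_mul (by omega) hdq
    obtain ⟨μ, hμ⟩ := exists_orderOf_eq hF (2 ^ (a + 1)) hdd
    have hpow : ∀ k : ℕ, (μ : F) ^ k = 1 ↔ 2 ^ (a + 1) ∣ k := by
      intro k
      rw [← hμ, orderOf_dvd_iff_pow_eq_one]
      constructor
      · intro h
        exact Units.ext (by simpa using h)
      · intro h
        have := congrArg Units.val h
        simpa using this
    refine ⟨(μ : F), ?_, ?_⟩
    · apply hsq
      · rw [← pow_mul, hpow, pow_succ]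
        exact Nat.mul_dvd_mul hdq (dvd_refl 2)
      · rw [Ne, hpow]
        exact hnd
    · rw [(hpow n).2 hdn]
      have h4n : 4 ∣ n := by
        refine Dvd.dvd.trans ?_ hdn
        have : (4 : ℕ) = 2 ^ 2 := by norm_num
        rw [this]
        exact pow_dvd_pow 2 (by omega)
      obtain ⟨k, hk⟩ := h4n
      have : n / 2 = 2 * k := by omega
      rw [this, pow_mul]
      simp

theorem no_mu [Fintype F] (hF : Fintype.card F = q ^ 2) (h2 : (2 : F) ≠ 0) (n : ℕ) (hn : Even n)
    (hn0 : 0 < n) (hq3 : q % 4 = 3) (hv : padicValNat 2 n ≤ padicValNat 2 (q + 1)) (μ : F)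
    (h1 : μ ^ (q + 1) = -1) (h3 : μ ^ n = (-1) ^ (n / 2)) : False := by
  classical
  have hne : (-1 : F) ≠ 1 := by
    intro h
    apply h2
    have : (1 : F) + 1 = 0 := by
      nth_rewrite 1 [← h]
      ring
    rw [← this]
    norm_num
  obtain ⟨k, m, hm, hnkm⟩ := Nat.exists_eq_two_pow_mul_odd (n := n) (by omega)
  have hk1 : 1 ≤ k := by
    by_contra hk
    have hk0 : k = 0 := by omega
    subst hk0
    rw [pow_zero, one_mul] at hnkm
    subst hnkm
    exact (Nat.not_even_iff_odd.2 hm) hn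
  have hkle : k ≤ padicValNat 2 n :=
    (padicValNat_dvd_iff_le (by omega)).1 ⟨m, hnkm⟩
  have hdq : 2 ^ k ∣ q + 1 :=
    (pow_dvd_pow 2 (hkle.trans hv)).trans pow_padicValNat_dvd
  obtain ⟨s, hs⟩ := hdq
  -- first computation
  have e1 : (μ ^ n) ^ s = -1 := by
    rw [← pow_mul, hnkm]
    have : 2 ^ k * m * s = (q + 1) * m := by rw [hs]; ring
    rw [this, pow_mul, h1]
    exact Odd.neg_one_pow hm
  -- second computation
  have e2 : (μ ^ n) ^ s = 1 := by
    rw [h3, ← pow_mul]
    have hev : Even (n / 2 * s) := by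
      rcases Nat.lt_or_ge k 2 with hk2 | hk2
      · have hk' : k = 1 := by omega
        subst hk'
        have : Even s := by
          rw [pow_one] at hs
          exact ⟨s / 2, by omega⟩
        exact this.mul_left _
      · have : Even (n / 2) := by
          obtain ⟨j, hj⟩ : ∃ j, k = j + 2 := ⟨k - 2, by omega⟩
          have h4 : n = 4 * (2 ^ j * m) := by rw [hnkm, hj, pow_add]; ring
          exact ⟨2 ^ j * m, by omega⟩
        exact this.mul_right _
    exact Even.neg_one_pow hev
  rw [e1] at e2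
  exact hne e2

end Cfsg.Agent.Lib.Helper43.UNd
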