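import Cfsg.Agent.Lib.Helper43.UnitaryInvol

set_option autoImplicit false

/-! Conjugacy of unitary involutions `1 + N` of equal rank by isometries of prescribed
determinant. -/

namespace Cfsg.Agent.Lib.Helper43

open Module

variable {F : Type*} [Field F]
variable {V : Type*} [AddCommGroup V] [Module F V]

/-- the rank of `N` read off from an adapted basis -/
theorem finrank_range_of_adapted {k m : ℕ} (b : Basis (AdIdx k m) F V) (N : V →ₗ[F] V)
    (h1 : ∀ i, N (b (Sum.inl i)) = b (Sum.inr (Sum.inl i)))
    (h2 : ∀ i, N (b (Sum.inr (Sum.inl i))) = 0)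
    (h3 : ∀ j, N (b (Sum.inr (Sum.inr j))) = 0) :
    finrank F (LinearMap.range N) = k := by
  have hr : LinearMap.range N =
      Submodule.span F (Set.range (fun i : Fin k => b (Sum.inr (Sum.inl i)))) := by
    rw [LinearMap.range_eq_map, ← b.span_eq, Submodule.map_span]
    apply le_antisymm
    · rw [Submodule.span_le]
      rintro _ ⟨_, ⟨x, rfl⟩, rfl⟩
      rcases x with i | i | j
      · rw [h1]; exact Submodule.subset_span ⟨i, rfl⟩
      · rw [h2]; exact Submodule.zero_mem _
      · rw [h3]; exact Submodule.zero_mem _
    · rw [Submodule.span_le]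
      rintro _ ⟨i, rfl⟩
      apply Submodule.subset_span
      exact ⟨b (Sum.inl i), ⟨Sum.inl i, rfl⟩, h1 i⟩
  rw [hr]
  have hli : LinearIndependent F (fun i : Fin k => b (Sum.inr (Sum.inl i))) :=
    b.linearIndependent.comp (fun i : Fin k => (Sum.inr (Sum.inl i) : AdIdx k m))
      (fun i j hij => by simpa using hij)
  rw [finrank_span_eq_card hli, Fintype.card_fin]

/-- scaling factors: `μ` on `u_{i0}` and `w_{i0}`, one elsewhere -/
def scaleD (F : Type*) [Field F] (k m : ℕ) (i0 : Fin k) (μ : F) : AdIdx k m → F
  | Sum.inl i => if i = i0 then μ else 1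
  | Sum.inr (Sum.inl i) => if i = i0 then μ else 1
  | Sum.inr (Sum.inr _) => 1

theorem prod_scaleD (k m : ℕ) (i0 : Fin k) (μ : F) : ∏ x, scaleD F k m i0 μ x = μ * μ := by
  rw [Fintype.prod_sum_type, Fintype.prod_sum_type]
  simp [scaleD]

theorem det_constr_smul {ι : Type*} [Fintype ι] [DecidableEq ι] (b : Basis ι F V) (d : ι → F) :
    LinearMap.det (b.constr F (fun x => d x • b x)) = ∏ x, d x := by
  rw [← LinearMap.det_toMatrix b]
  have : LinearMap.toMatrix b b (b.constr F (fun x => d x • b x)) = Matrix.diagonal d := by
    ext x y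
    rw [LinearMap.toMatrix_apply, Basis.constr_basis, map_smul, Basis.repr_self,
      Finsupp.smul_apply, Finsupp.single_apply, Matrix.diagonal_apply]
    by_cases hxy : x = y
    · subst hxy; simp
    · simp [hxy, Ne.symm hxy]
  rw [this, Matrix.det_diagonal]

variable [Fintype F] [CharP F 2] {q : ℕ} {σ : F →+* F}

set_option maxHeartbeats 800000 in
/-- Two self-adjoint square-zero maps of the same positive rank are intertwined by an isometry,
and the target has commuting isometries of determinant `μ^2` for each norm-one `μ`. -/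
theorem exists_isometry_intertwining [FiniteDimensional F V] (hF : Fintype.card F = q ^ 2)
    (hσ : ∀ x, σ x = x ^ q)
    (h : V →ₗ[F] V →ₛₗ[σ] F) (hh : ∀ u v, σ (h u v) = h v u)
    (hnd : ∀ v, (∀ u, h u v = 0) → v = 0)
    (Na Nb : V →ₗ[F] V) (hNa : ∀ v, Na (Na v) = 0) (hNb : ∀ v, Nb (Nb v) = 0)
    (hNah : ∀ u v, h (Na u) v = h u (Na v)) (hNbh : ∀ u v, h (Nb u) v = h u (Nb v))
    (hrank : finrank F (LinearMap.range Na) = finrank F (LinearMap.range Nb))
    (hpos : 0 < finrank F (LinearMap.range Na)) :
    ∃ T : V →ₗ[F] V, (∀ u v, h (T u) (T v) = h u v) ∧ (∀ v, T (Na v) = Nb (T v)) ∧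
      ∀ μ : F, μ ^ (q + 1) = 1 → ∃ D : V →ₗ[F] V, (∀ u v, h (D u) (D v) = h u v) ∧
        (∀ v, D (Nb v) = Nb (D v)) ∧ LinearMap.det D = μ * μ := by
  classical
  obtain ⟨ka, ma, ba, ha1, ha2, ha3, hGa⟩ :=
    exists_adapted_unitary_basis hF hσ h hh hnd Na hNa hNah
  obtain ⟨kb, mb, bb, hb1, hb2, hb3, hGb⟩ :=
    exists_adapted_unitary_basis hF hσ h hh hnd Nb hNb hNbh
  have hka := finrank_range_of_adapted ba Na ha1 ha2 ha3
  have hkb := finrank_range_of_adapted bb Nb hb1 hb2 hb3
  have hk : ka = kb := by rw [← hka, ← hkb, hrank]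
  subst hk
  have hm : ma = mb := by
    have h1 := Module.finrank_eq_card_basis ba
    have h2 := Module.finrank_eq_card_basis bb
    rw [h1] at h2
    simp only [Fintype.card_sum, Fintype.card_fin] at h2
    omega
  subst hm
  have hk0 : 0 < ka := by rw [← hka]; exact hpos
  refine ⟨ba.constr F bb, ?_, ?_, ?_⟩
  · have hT : (h.comp (ba.constr F bb)).compl₂ (ba.constr F bb) = h := by
      apply LinearMap.ext_basis ba ba
      intro x y
      simp only [LinearMap.compl₂_apply, LinearMap.comp_apply, Basis.constr_basis, hGa, hGb]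
    intro u v
    have := LinearMap.congr_fun₂ hT u v
    simpa only [LinearMap.compl₂_apply, LinearMap.comp_apply] using this
  · have hT : (ba.constr F bb) ∘ₗ Na = Nb ∘ₗ (ba.constr F bb) := by
      apply ba.ext
      rintro (i | i | j)
      · simp only [LinearMap.comp_apply, Basis.constr_basis, ha1, hb1]
      · simp only [LinearMap.comp_apply, Basis.constr_basis, ha2, hb2, map_zero]
      · simp only [LinearMap.comp_apply, Basis.constr_basis, ha3, hb3, map_zero]
    intro v
    exact LinearMap.congr_fun hT v
  · intro μ hμ
    have hμ' : μ * σ μ = 1 := by rw [hσ, ← pow_succ']; exact hμ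
    set d := scaleD F ka ma ⟨0, hk0⟩ μ with hd
    refine ⟨bb.constr F (fun x => d x • bb x), ?_, ?_, ?_⟩
    · have hT : (h.comp (bb.constr F (fun x => d x • bb x))).compl₂
          (bb.constr F (fun x => d x • bb x)) = h := by
        apply LinearMap.ext_basis bb bb
        intro x y
        simp only [LinearMap.compl₂_apply, LinearMap.comp_apply, Basis.constr_basis, map_smul,
          LinearMap.smul_apply, map_smulₛₗ, smul_eq_mul, hGb]
        rcases x with i | i | i <;> rcases y with j | j | j <;>
          simp only [gramJ, mul_zero]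
        · by_cases hij : i = j
          · subst hij
            by_cases hi : i = ⟨0, hk0⟩
            · simp only [hd, scaleD, hi, if_true, mul_one]
              rw [mul_comm]; exact hμ'
            · simp [hd, scaleD, hi]
          · simp [hij]
        · by_cases hij : i = j
          · subst hij
            by_cases hi : i = ⟨0, hk0⟩
            · simp only [hd, scaleD, hi, if_true, mul_one]
              rw [mul_comm]; exact hμ'
            · simp [hd, scaleD, hi]
          · simp [hij]
        · by_cases hij : i = j
          · subst hij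
            simp [hd, scaleD]
          · simp [hij]
      intro u v
      have := LinearMap.congr_fun₂ hT u v
      simpa only [LinearMap.compl₂_apply, LinearMap.comp_apply] using this
    · have hT : (bb.constr F (fun x => d x • bb x)) ∘ₗ Nb =
          Nb ∘ₗ (bb.constr F (fun x => d x • bb x)) := by
        apply bb.ext
        rintro (i | i | j)
        · simp only [LinearMap.comp_apply, Basis.constr_basis, hb1, map_smul]
          rfl
        · simp only [LinearMap.comp_apply, Basis.constr_basis, hb2, map_smul, map_zero,
            smul_zero]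
        · simp only [LinearMap.comp_apply, Basis.constr_basis, hb3, map_smul, map_zero,
            smul_zero]
      intro v
      exact LinearMap.congr_fun hT v
    · rw [det_constr_smul, hd, prod_scaleD]

end Cfsg.Agent.Lib.Helper43
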