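import Cfsg.Agent.Lib.Helper43.HermOrtho

set_option autoImplicit false

/-! Adapted bases for a self-adjoint square-zero map on a non-degenerate hermitian space over the
field with `q^2` elements, characteristic two (unitary involutions `1 + N`). -/

namespace Cfsg.Agent.Lib.Helper43

open Module

/-- index type of an adapted basis: `u_i`, `w_i = N u_i`, and `z_j` -/
abbrev AdIdx (k m : ℕ) := Fin k ⊕ (Fin k ⊕ Fin m)

/-- the standard Gram matrix of an adapted basis -/
def gramJ (F : Type*) [Field F] (k m : ℕ) : AdIdx k m → AdIdx k m → F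
  | Sum.inl i, Sum.inr (Sum.inl j) => if i = j then 1 else 0
  | Sum.inr (Sum.inl i), Sum.inl j => if i = j then 1 else 0
  | Sum.inr (Sum.inr i), Sum.inr (Sum.inr j) => if i = j then 1 else 0
  | _, _ => 0

variable {F : Type*} [Field F] [Fintype F] [CharP F 2] {q : ℕ}
variable {V : Type*} [AddCommGroup V] [Module F V]
variable {σ : F →+* F}

set_option maxHeartbeats 800000 in
theorem exists_adapted_unitary_basis [FiniteDimensional F V] (hF : Fintype.card F = q ^ 2)
    (hσ : ∀ x, σ x = x ^ q)
    (h : V →ₗ[F] V →ₛₗ[σ] F) (hh : ∀ u v, σ (h u v) = h v u)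
    (hnd : ∀ v, (∀ u, h u v = 0) → v = 0)
    (N : V →ₗ[F] V) (hN : ∀ v, N (N v) = 0) (hNh : ∀ u v, h (N u) v = h u (N v)) :
    ∃ (k m : ℕ) (b : Basis (AdIdx k m) F V),
      (∀ i, N (b (Sum.inl i)) = b (Sum.inr (Sum.inl i))) ∧
      (∀ i, N (b (Sum.inr (Sum.inl i))) = 0) ∧
      (∀ j, N (b (Sum.inr (Sum.inr j))) = 0) ∧
      (∀ x y, h (b x) (b y) = gramJ F k m x y) := by
  classical
  set β : V →ₗ[F] V →ₛₗ[σ] F := h.compl₂ N with hβ
  have hβapp : ∀ u v, β u v = h u (N v) := fun u v => rfl
  have hβh : ∀ u v, σ (β u v) = β v u := by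
    intro u v; rw [hβapp, hβapp, hh, hNh]
  obtain ⟨k, u0, -, hG0, hrad0⟩ := exists_orthonormal_family hF hσ β hβh _ ⊤ rfl
  have hker0 : ∀ x, (∀ i, β x (u0 i) = 0) → N x = 0 := by
    intro x hx
    apply hnd
    intro y
    have := hrad0 x Submodule.mem_top hx y Submodule.mem_top
    rwa [hβapp] at this
  have hδ : ∀ i j : Fin k, σ (if i = j then (1 : F) else 0) = if j = i then 1 else 0 := by
    intro i j
    by_cases hij : i = j
    · subst hij; simp
    · simp [hij, Ne.symm hij]
  set w : Fin k → V := fun i => N (u0 i) with hw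
  have hNw : ∀ i, N (w i) = 0 := fun i => hN _
  have huw0 : ∀ i j, h (u0 i) (w j) = if i = j then 1 else 0 := fun i j => hG0 i j
  have hwu0 : ∀ i j, h (w i) (u0 j) = if i = j then 1 else 0 := by
    intro i j; rw [← hh, huw0, hδ]
  have hww : ∀ i j, h (w i) (w j) = 0 := by
    intro i j
    show h (N (u0 i)) (N (u0 j)) = 0
    rw [hNh, hN, map_zero]
  -- adjust the u's
  set A : Fin k → Fin k → F := fun i j => h (u0 i) (u0 j) with hA
  have hAconj : ∀ i j, σ (A i j) = A j i := fun i j => hh _ _
  have hc : ∀ i, ∃ c : F, c + c ^ q = A i i :=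
    fun i => exists_trace_eq hF (A i i) (by rw [← hσ, hAconj])
  choose c hc using hc
  set C : Fin k → Fin k → F := fun i j => if i < j then A i j else if i = j then c i else 0 with hC
  have hCA : ∀ i j, C i j + σ (C j i) = A i j := by
    intro i j
    rcases lt_trichotomy i j with hij | hij | hij
    · simp [hC, hij, not_lt.2 hij.le, hij.ne']
    · subst hij; simp [hC, hσ, hc]
    · simp [hC, hij, not_lt.2 hij.le, hij.ne', hAconj]
  set u : Fin k → V := fun i => u0 i + ∑ j, C i j • w j with hu
  have hNu : ∀ i, N (u i) = w i := by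
    intro i
    simp only [hu, map_add, map_sum, map_smul, hNw, smul_zero, Finset.sum_const_zero, add_zero]
    rfl
  have huw : ∀ i j, h (u i) (w j) = if i = j then 1 else 0 := by
    intro i j
    simp only [hu, map_add, LinearMap.add_apply, map_sum, LinearMap.sum_apply, map_smul,
      LinearMap.smul_apply, hww, huw0, smul_zero, Finset.sum_const_zero, add_zero]
  have hwu : ∀ i j, h (w i) (u j) = if i = j then 1 else 0 := by
    intro i j; rw [← hh, huw, hδ]
  have huu : ∀ i j, h (u i) (u j) = 0 := by
    intro i j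
    simp only [hu, map_add, LinearMap.add_apply, map_sum, LinearMap.sum_apply, map_smul,
      map_smulₛₗ, LinearMap.smul_apply, smul_eq_mul, hww, huw0, hwu0, mul_zero,
      Finset.sum_const_zero, add_zero, mul_ite, mul_one, Finset.sum_ite_eq, Finset.sum_ite_eq',
      Finset.mem_univ, if_true]
    have h2 : A i j + A i j = 0 := CharTwo.add_self_eq_zero _
    have h3 := hCA i j
    simp only [hA] at h2 h3
    linear_combination h3 + h2
  -- the orthogonal complement of the span of u, w
  set W : Submodule F V :=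
    (⨅ j, LinearMap.ker (h.flip (u j))) ⊓ (⨅ j, LinearMap.ker (h.flip (w j))) with hWdef
  have hmemW : ∀ x, x ∈ W ↔ (∀ j, h x (u j) = 0) ∧ (∀ j, h x (w j) = 0) := by
    intro x
    simp only [hWdef, Submodule.mem_inf, Submodule.mem_iInf, LinearMap.mem_ker,
      LinearMap.flip_apply]
  set π : V → V := fun v => ∑ i, h v (w i) • u i + ∑ i, h v (u i) • w i with hπ
  have hπW : ∀ v, v - π v ∈ W := by
    intro v
    rw [hmemW]
    constructor
    · intro j
      simp only [hπ, map_sub, LinearMap.sub_apply, map_add, LinearMap.add_apply, map_sum,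
        LinearMap.sum_apply, map_smul, LinearMap.smul_apply, smul_eq_mul, huu, hwu, mul_zero,
        Finset.sum_const_zero, zero_add, mul_ite, mul_one, Finset.sum_ite_eq', Finset.mem_univ,
        if_true, sub_self]
    · intro j
      simp only [hπ, map_sub, LinearMap.sub_apply, map_add, LinearMap.add_apply, map_sum,
        LinearMap.sum_apply, map_smul, LinearMap.smul_apply, smul_eq_mul, huw, hww, mul_zero,
        Finset.sum_const_zero, add_zero, mul_ite, mul_one, Finset.sum_ite_eq', Finset.mem_univ,
        if_true, sub_self]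
  obtain ⟨m, z, hzW, hGz, hradz⟩ := exists_orthonormal_family hF hσ h hh _ W rfl
  have hzero : ∀ x ∈ W, (∀ j, h x (z j) = 0) → x = 0 := by
    intro x hxW hxz
    apply hnd
    intro v
    have h1 := hradz x hxW hxz (v - π v) (hπW v)
    have hxu : ∀ i, h (u i) x = 0 := fun i => by rw [← hh, ((hmemW x).1 hxW).1 i, map_zero]
    have hxw : ∀ i, h (w i) x = 0 := fun i => by rw [← hh, ((hmemW x).1 hxW).2 i, map_zero]
    have h2 : h (π v) x = 0 := by
      simp only [hπ, map_add, LinearMap.add_apply, map_sum, LinearMap.sum_apply, map_smul,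
        LinearMap.smul_apply, hxu, hxw, smul_zero, Finset.sum_const_zero, add_zero]
    have h3 : h v x = h (v - π v) x + h (π v) x := by
      rw [← LinearMap.add_apply, ← map_add, sub_add_cancel]
    rw [h3, h1, h2, add_zero]
  have hNv : ∀ v, N v = ∑ i, β v (u0 i) • w i := by
    intro v
    have h1 : N (v - ∑ i, β v (u0 i) • u0 i) = 0 := by
      apply hker0
      intro j
      simp only [map_sub, LinearMap.sub_apply, map_sum, LinearMap.sum_apply, map_smul,
        LinearMap.smul_apply, hG0, smul_eq_mul, mul_ite, mul_one, mul_zero, Finset.sum_ite_eq',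
        Finset.mem_univ, if_true, sub_self]
    rw [map_sub, sub_eq_zero, map_sum] at h1
    rw [h1]
    simp only [map_smul, hw]
  have hzu : ∀ j i, h (z j) (u i) = 0 := fun j i => ((hmemW _).1 (hzW j)).1 i
  have hzw : ∀ j i, h (z j) (w i) = 0 := fun j i => ((hmemW _).1 (hzW j)).2 i
  have huz : ∀ i j, h (u i) (z j) = 0 := fun i j => by rw [← hh, hzu, map_zero]
  have hwz : ∀ i j, h (w i) (z j) = 0 := fun i j => by rw [← hh, hzw, map_zero]
  have hNz : ∀ j, N (z j) = 0 := by
    intro j
    apply hnd
    intro v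
    rw [← hNh, hNv v]
    simp only [map_sum, LinearMap.sum_apply, map_smul, LinearMap.smul_apply, hwz, smul_zero,
      Finset.sum_const_zero]
  set e : AdIdx k m → V := Sum.elim u (Sum.elim w z) with he
  have hGram : ∀ x y, h (e x) (e y) = gramJ F k m x y := by
    rintro (i | i | i) (j | j | j) <;>
      simp [he, gramJ, huu, huw, hwu, hww, huz, hwz, hzu, hzw, hGz]
  have hli : LinearIndependent F e := by
    rw [Fintype.linearIndependent_iff]
    intro g hg
    have key : ∀ y, ∑ x, g x * gramJ F k m x y = 0 := by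
      intro y
      have h1 := congrArg (fun v => h v (e y)) hg
      simp only [map_sum, LinearMap.sum_apply, map_smul, LinearMap.smul_apply, smul_eq_mul, hGram,
        map_zero, LinearMap.zero_apply] at h1
      exact h1
    rintro (i | i | i)
    · have h1 := key (Sum.inr (Sum.inl i))
      simpa [Fintype.sum_sum_type, gramJ] using h1
    · have h1 := key (Sum.inl i)
      simpa [Fintype.sum_sum_type, gramJ] using h1
    · have h1 := key (Sum.inr (Sum.inr i))
      simpa [Fintype.sum_sum_type, gramJ] using h1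
  have hsp : ⊤ ≤ Submodule.span F (Set.range e) := by
    intro v _
    have hu_mem : ∀ i, u i ∈ Submodule.span F (Set.range e) :=
      fun i => Submodule.subset_span ⟨Sum.inl i, rfl⟩
    have hw_mem : ∀ i, w i ∈ Submodule.span F (Set.range e) :=
      fun i => Submodule.subset_span ⟨Sum.inr (Sum.inl i), rfl⟩
    have hz_mem : ∀ j, z j ∈ Submodule.span F (Set.range e) :=
      fun j => Submodule.subset_span ⟨Sum.inr (Sum.inr j), rfl⟩
    have hπmem : π v ∈ Submodule.span F (Set.range e) :=
      add_mem (Submodule.sum_mem _ fun i _ => Submodule.smul_mem _ _ (hu_mem i))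
        (Submodule.sum_mem _ fun i _ => Submodule.smul_mem _ _ (hw_mem i))
    have hv'' : (v - π v) - ∑ j, h (v - π v) (z j) • z j = 0 := by
      apply hzero
      · exact W.sub_mem (hπW v) (W.sum_mem fun j _ => W.smul_mem _ (hzW j))
      · intro j
        simp only [map_sub, LinearMap.sub_apply, map_sum, LinearMap.sum_apply, map_smul,
          LinearMap.smul_apply, hGz, smul_eq_mul, mul_ite, mul_one, mul_zero, Finset.sum_ite_eq',
          Finset.mem_univ, if_true, sub_self]
    have h5 : v = π v + ∑ j, h (v - π v) (z j) • z j := by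
      rw [← sub_eq_zero.1 hv'']; abel
    rw [h5]
    exact add_mem hπmem (Submodule.sum_mem _ fun j _ => Submodule.smul_mem _ _ (hz_mem j))
  refine ⟨k, m, Basis.mk hli hsp, ?_, ?_, ?_, ?_⟩
  · intro i; simp only [Basis.coe_mk, he, Sum.elim_inl, Sum.elim_inr, hNu]
  · intro i; simp only [Basis.coe_mk, he, Sum.elim_inl, Sum.elim_inr, hNw]
  · intro j; simp only [Basis.coe_mk, he, Sum.elim_inr, hNz]
  · intro x y; simp only [Basis.coe_mk]; exact hGram x y

end Cfsg.Agent.Lib.Helper43
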